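import Cfsg.Agent.Lib.Helper4.TC.Std

/-! Letter coding for five generators (codes `2 i`, `2 i + 1` = generator `i` and its inverse). -/

set_option autoImplicit false
set_option linter.unusedVariables false

namespace Cfsg.Agent.Lib.Helper12.McLTC.Cod5

open Cfsg.Agent.Helper4.TC

def gens : List (Fin 5) := [0, 1, 2, 3, 4]

abbrev dec : ℕ → Letter (Fin 5) := stdDec gens 0
abbrev enc : Fin 5 → ℕ := stdEnc gens

theorem coding : Coding dec enc 10 :=
  std_coding gens 0 (by decide) (by decide) 10 (by decide)

end Cfsg.Agent.Lib.Helper12.McLTC.Cod5
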