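import Cfsg.Agent.Lib.Helper4.TC.Perm
import Cfsg.Agent.Lib.Helper5.Sp62TC.Cod2
import Cfsg.Agent.Lib.Helper12.McLTC.UFin
import Cfsg.Agent.Lib.Helper12.McLTC.UCM0
import Cfsg.Agent.Lib.Helper12.McLTC.UCE0x0
import Cfsg.Agent.Lib.Helper12.McLTC.UCE1x0
import Cfsg.Agent.Lib.Helper12.McLTC.UCE2x0
import Cfsg.Agent.Lib.Helper12.McLTC.UCE3x0
import Cfsg.Agent.Lib.Helper12.McLTC.UCF0

set_option autoImplicit false
set_option maxRecDepth 100000
set_option linter.unusedVariables false

namespace Cfsg.Agent.Lib.Helper12.McLTC.U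

open Cfsg.Agent.Helper4.TC

theorem allE0 : ∀ k, k < 16384 → justE data 0 k = true := by
  intro k hk
  by_cases hh1 : k < 10566
  · skip
    exact edgeRange_sound data 0 10566 0 e0_c0 k (by omega) (by omega)
  · skip
    exact edgeRange_sound data 0 5818 10566 e0_c1 k (by omega) (by omega)

theorem allE1 : ∀ k, k < 16384 → justE data 1 k = true := by
  intro k hk
  by_cases hh1 : k < 10566
  · skip
    exact edgeRange_sound data 1 10566 0 e1_c0 k (by omega) (by omega)
  · skip
    exact edgeRange_sound data 1 5818 10566 e1_c1 k (by omega) (by omega)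

theorem allE2 : ∀ k, k < 16384 → justE data 2 k = true := by
  intro k hk
  by_cases hh1 : k < 10566
  · skip
    exact edgeRange_sound data 2 10566 0 e2_c0 k (by omega) (by omega)
  · skip
    exact edgeRange_sound data 2 5818 10566 e2_c1 k (by omega) (by omega)

theorem allE3 : ∀ k, k < 16384 → justE data 3 k = true := by
  intro k hk
  by_cases hh1 : k < 10566
  · skip
    exact edgeRange_sound data 3 10566 0 e3_c0 k (by omega) (by omega)
  · skip
    exact edgeRange_sound data 3 5818 10566 e3_c1 k (by omega) (by omega)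

theorem allE : ∀ c k, c < data.nc → k ≤ data.mask → justE data c k = true := by
  intro c k hc hk
  have hk' : k < 16384 := Nat.lt_succ_of_le hk
  have hc' : c < 4 := hc
  interval_cases c
  · exact allE0 k hk'
  · exact allE1 k hk'
  · exact allE2 k hk'
  · exact allE3 k hk'

theorem allM : ∀ k, k ≤ data.mask → justM data k = true := by
  intro k hk
  have hk' : k < 16384 := Nat.lt_succ_of_le hk
  by_cases hh1 : k < 10566
  · skip
    exact mergeRange_sound data 10566 0 m_c0 k (by omega) (by omega)
  · skip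
    exact mergeRange_sound data 5818 10566 m_c1 k (by omega) (by omega)

theorem rows_all : ∀ k, k < M → isFinal data k = true → rowOK data M k data.nc = true := by
  intro k hk
  have hk' : k < 10566 := hk
  exact rowsRange_sound data M 10566 0 rows0 k (by omega) (by omega)

theorem cnt_ok : countFinal data M 0 0 = n := by
  exact cnt0

theorem bound : Finite (PresentedGroup (relSet Cfsg.Agent.Lib.Helper5.Sp62TC.Cod2.dec bases) ⧸ (Subgroup.closure (relSet Cfsg.Agent.Lib.Helper5.Sp62TC.Cod2.dec subsL)).map (PresentedGroup.mk (relSet Cfsg.Agent.Lib.Helper5.Sp62TC.Cod2.dec bases))) ∧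
    Nat.card (PresentedGroup (relSet Cfsg.Agent.Lib.Helper5.Sp62TC.Cod2.dec bases) ⧸ (Subgroup.closure (relSet Cfsg.Agent.Lib.Helper5.Sp62TC.Cod2.dec subsL)).map (PresentedGroup.mk (relSet Cfsg.Agent.Lib.Helper5.Sp62TC.Cod2.dec bases))) ≤ n :=
  tc_bound data bases subsL rots Cfsg.Agent.Lib.Helper5.Sp62TC.Cod2.coding (mem_relSet bases) (mem_relSet subsL) words_ok allE allM M n fin0_ok (by decide) (by decide) cnt_ok rows_all

end Cfsg.Agent.Lib.Helper12.McLTC.U
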