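import Cfsg.Agent.Lib.Helper4.TC.Timed

set_option autoImplicit false
set_option maxRecDepth 100000
set_option linter.unusedVariables false

namespace Cfsg.Agent.Lib.Helper12.McLTC.AB

open Cfsg.Agent.Helper4.TC

def e0_0 : ℕ := 0x7434010a50035a001e8b005d88013a40084280219600825c00d290092200102700981c01963006b8565c5f00a21401ddc007f6402a84008b54025d200b208027cf00a73002e8100ad2402dc600bf0c03140
def j0_0 : ℕ := 0x413a28081603012d57a01010040401008040401008080201010040202008040204
def e0_1 : ℕ := 0x2c4002e0000ebc005dd001ab4008db0026ac00bd8002da800ed30021b0012510015b8015500061500027000479801b0e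
def j0_1 : ℕ := 0x6020180806020180aaa02b280aea020de166a02
def e1_0 : ℕ := 0x7038000000018b801d8c0024b00160e007e2c00c2a008354021d6008a2401823003ca002588004a98015a4009e1801b6000757402985007b680215700ac0c024d300994402d8200a33402aca00be0402cc700bb1003100
def j1_0 : ℕ := 0x1000020200bf804011588c051d008080201010040202008040401008080201010040205
def e1_1 : ℕ := 0x1c4002a2000dbc005a50019b4008a70025ac00ba900335000d9b003f48012210041700135800644001719006a3c00330
def j1_1 : ℕ := 0x31a2bbe8aeda2bae8ac0433010adcac5013340401
def e2_0 : ℕ := 0x6f54000000012bc016a1001eb4015d5007d3000aab0037a001411004398023880051900254a00904c02686009d34023145f73780294900796c0205800895802b8200b11c02d4400a13802a4b00bd0c0300000b914030c1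
def j2_0 : ℕ := 0x1d800030d00bf87601a294e6a029290d3a0221a94023b0080402022590c02011d8080201
def e2_1 : ℕ := 0x4a4001f000109c004ee001c94007ec00288800aea00325c00e9c003e68011a3004b40015190063740198f006980001b1
def j2_1 : ℕ := 0xb7852ddd4b7652dd54764b1d92c044b218088601
def e3_0 : ℕ := 0x1c8d00628c00e6800782c00f670053900200a0031a402209596e7c0234e0091440178d004f580132500678802805009c3c01f1900a8100251200a430023d400b01c026d000b80402d0600bc0c02bc800c20003042
def j3_0 : ℕ := 0xa3b45014f64a02a6809fa6b31bd96a0100808facd01254ca011e80404350e8040401
def e3_1 : ℕ := 0x580002300011740052e001d6c0082c00296000b2a0003c400e17000fbc01115001bb401493004598009eb005b7001a21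
def j3_1 : ℕ := 0x47b011ec047b011ef1a7bbe9eeda639ad74e70d
def m_0 : ℕ := 0x1cb2d08d5f4826803a03001c11600d84b006805803222801809400b889005804802a320014090009808004823802231801000c007885003822801a01400c1080058440028018012308008084003802001840800a1040040020018c00008400002000000
def jm_0 : ℕ := 0x809040000000000000000000000000000000000000000000000000000000000000000000
def m_1 : ℕ := 0x50006218003013a01785d00b84d805a16c02c13001585800a80a005214c028024013851009868004a1400240200118cf0088078042138020
def jm_1 : ℕ := 0x0

end Cfsg.Agent.Lib.Helper12.McLTC.AB
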