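import Cfsg.Agent.Lib.Helper4.TC.Timed

set_option autoImplicit false
set_option maxRecDepth 100000
set_option linter.unusedVariables false

namespace Cfsg.Agent.Lib.Helper12.McLTC.L2

open Cfsg.Agent.Helper4.TC

def e0_0 : ℕ := 0x76400ccc0314807c800dda021940297808e400d9c02030049380a61015840281805a180c00
def j0_0 : ℕ := 0x959d4d0b6d027d0201013d0203010104
def e0_1 : ℕ := 0xae005c400ea802f00026c00ad00225004cb
def j0_1 : ℕ := 0x13021302b5a51313
def e1_0 : ℕ := 0xa9201a9c0385807e600960010c40326807ac0128a027880445009080164202a8c054200be0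
def j1_0 : ℕ := 0x1b021b02858d23651b020101021d0105
def e1_1 : ℕ := 0x6e0054c00da802d20069c00f3c00cb00314
def j1_1 : ℕ := 0xbd33ad332b2b0101
def e2_0 : ℕ := 0xb4e01a2003930078a00ade017b8024880510012c4027100425808c90160602d80052280bc1
def j2_0 : ℕ := 0x24302437d750101024301013b020101
def e2_1 : ℕ := 0x126003d8010900274006da00fb0006b80255
def j2_1 : ℕ := 0x4bb54ba502020101
def e3_0 : ℕ := 0xb160182801c9804120104a01db004520066e00b9e01d340510809a6015c60261c05d000b82
def j3_0 : ℕ := 0x5b53010102650275010102351d010201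
def e3_1 : ℕ := 0x16200458011800294000ee007d40234804e8
def j3_1 : ℕ := 0x2630263bdad0202
def m_0 : ℕ := 0x19c03c0700e1980340600c11402c2500a1100242400818801c020061040142100400400c6000210000400000
def jm_0 : ℕ := 0x0
def m_1 : ℕ := 0x14405c31016140054300141b404c6c01212404448010
def jm_1 : ℕ := 0x0

end Cfsg.Agent.Lib.Helper12.McLTC.L2
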