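import Cfsg.Agent.Lib.Helper12.McLTC.L3T0

set_option autoImplicit false
set_option maxRecDepth 100000
set_option linter.unusedVariables false

namespace Cfsg.Agent.Lib.Helper12.McLTC.L3

open Cfsg.Agent.Helper4.TC

noncomputable def ecol0 (b : ℕ) : ℕ := (Bool.rec (motive := fun _ => ℕ) (e0_0) (e0_1) (Nat.ble 1 b))
noncomputable def jcol0 (b : ℕ) : ℕ := (Bool.rec (motive := fun _ => ℕ) (j0_0) (j0_1) (Nat.ble 1 b))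
noncomputable def ecol1 (b : ℕ) : ℕ := (Bool.rec (motive := fun _ => ℕ) (e1_0) (e1_1) (Nat.ble 1 b))
noncomputable def jcol1 (b : ℕ) : ℕ := (Bool.rec (motive := fun _ => ℕ) (j1_0) (j1_1) (Nat.ble 1 b))
noncomputable def ecol2 (b : ℕ) : ℕ := (Bool.rec (motive := fun _ => ℕ) (e2_0) (e2_1) (Nat.ble 1 b))
noncomputable def jcol2 (b : ℕ) : ℕ := (Bool.rec (motive := fun _ => ℕ) (j2_0) (j2_1) (Nat.ble 1 b))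
noncomputable def ecol3 (b : ℕ) : ℕ := (Bool.rec (motive := fun _ => ℕ) (e3_0) (e3_1) (Nat.ble 1 b))
noncomputable def jcol3 (b : ℕ) : ℕ := (Bool.rec (motive := fun _ => ℕ) (j3_0) (j3_1) (Nat.ble 1 b))
noncomputable def ecol4 (b : ℕ) : ℕ := (Bool.rec (motive := fun _ => ℕ) (e4_0) (e4_1) (Nat.ble 1 b))
noncomputable def jcol4 (b : ℕ) : ℕ := (Bool.rec (motive := fun _ => ℕ) (j4_0) (j4_1) (Nat.ble 1 b))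
noncomputable def ecol5 (b : ℕ) : ℕ := (Bool.rec (motive := fun _ => ℕ) (e5_0) (e5_1) (Nat.ble 1 b))
noncomputable def jcol5 (b : ℕ) : ℕ := (Bool.rec (motive := fun _ => ℕ) (j5_0) (j5_1) (Nat.ble 1 b))
noncomputable def eT (c b : ℕ) : ℕ := (Bool.rec (motive := fun _ => ℕ) (Bool.rec (motive := fun _ => ℕ) (Bool.rec (motive := fun _ => ℕ) (ecol0 b) (ecol1 b) (Nat.ble 1 c)) (Bool.rec (motive := fun _ => ℕ) (ecol2 b) (ecol3 b) (Nat.ble 3 c)) (Nat.ble 2 c)) (Bool.rec (motive := fun _ => ℕ) (Bool.rec (motive := fun _ => ℕ) (ecol4 b) (ecol5 b) (Nat.ble 5 c)) (0) (Nat.ble 6 c)) (Nat.ble 4 c))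
noncomputable def jT (c b : ℕ) : ℕ := (Bool.rec (motive := fun _ => ℕ) (Bool.rec (motive := fun _ => ℕ) (Bool.rec (motive := fun _ => ℕ) (jcol0 b) (jcol1 b) (Nat.ble 1 c)) (Bool.rec (motive := fun _ => ℕ) (jcol2 b) (jcol3 b) (Nat.ble 3 c)) (Nat.ble 2 c)) (Bool.rec (motive := fun _ => ℕ) (Bool.rec (motive := fun _ => ℕ) (jcol4 b) (jcol5 b) (Nat.ble 5 c)) (0) (Nat.ble 6 c)) (Nat.ble 4 c))
noncomputable def mgT (b : ℕ) : ℕ := (Bool.rec (motive := fun _ => ℕ) (m_0) (m_1) (Nat.ble 1 b))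
noncomputable def jmT (b : ℕ) : ℕ := (Bool.rec (motive := fun _ => ℕ) (jm_0) (jm_1) (Nat.ble 1 b))
def rw0 : List ℕ := [0, 3, 1, 3, 0, 2]
def rw1 : List ℕ := [0, 2, 1, 3, 1, 2]
def rw2 : List ℕ := [0, 3, 4, 1, 1, 1, 0, 0, 5, 2, 1, 3, 5, 0, 4, 2]
def rw3 : List ℕ := [0, 3, 4, 1, 1, 0, 0, 0, 5, 2, 1, 3, 5, 1, 4, 2]
def rw4 : List ℕ := [0, 2, 4, 0, 5, 5, 5, 5, 4, 4, 4, 1, 5, 3, 1, 4]
def rw5 : List ℕ := [0, 2, 4, 0, 5, 5, 5, 4, 4, 4, 4, 1, 5, 3, 1, 5]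
def rw6 : List ℕ := [0, 4, 4, 4, 1, 5, 3, 1, 1, 0, 2, 4, 0, 5, 5, 5]
def rw7 : List ℕ := [0, 0, 0, 0, 0, 0, 0]
def rw8 : List ℕ := [0, 2, 0, 3, 1, 3]
def rw9 : List ℕ := [0, 5, 2, 2, 2, 5, 3, 3, 3, 3, 1, 2, 2, 2, 2, 4, 3, 3, 3, 4]
def rw10 : List ℕ := [0, 2, 0, 3, 3, 1, 3, 0]
def rw11 : List ℕ := [0, 5, 2, 1, 5, 5, 1, 2, 1, 1, 0, 3, 0, 4, 4, 0, 3, 4]
def rw12 : List ℕ := [1, 3, 1, 3, 1, 3]
def rw13 : List ℕ := [1, 1, 1, 1, 1, 1, 1]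
def rw14 : List ℕ := [1, 2, 0, 2, 1, 3]
def rw15 : List ℕ := [1, 3, 0, 2, 0, 3]
def rw16 : List ℕ := [1, 3, 1, 2, 0, 2]
def rw17 : List ℕ := [1, 1, 4, 0, 0, 5, 2, 1, 3, 5, 5, 4, 2, 0, 3, 4]
def rw18 : List ℕ := [1, 1, 3, 3, 0, 0, 3, 0, 2, 1, 1, 2, 2]
def rw19 : List ℕ := [1, 1, 1, 1, 1, 1, 1]
def rw20 : List ℕ := [1, 1, 5, 0, 0, 5, 2, 1, 3, 5, 4, 4, 2, 0, 3, 4]
def rw21 : List ℕ := [2, 2, 5, 3, 3, 5, 2, 2, 4]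
def rw22 : List ℕ := [2, 2, 4, 3, 3, 5, 3, 3, 4]
def rw23 : List ℕ := [2, 0, 2, 0, 2, 0]
def rw24 : List ℕ := [2, 1, 3, 1, 2, 0]
def rw25 : List ℕ := [2, 0, 3, 1, 3, 0]
def rw26 : List ℕ := [2, 2, 5, 3, 3, 3, 3, 3, 2, 2, 2, 2, 4, 3, 3, 3, 4, 2, 5, 2]
def rw27 : List ℕ := [2, 4, 2, 0, 3, 4, 1, 1, 3, 0, 0, 5, 2, 1, 3, 5]
def rw28 : List ℕ := [2, 0, 2, 1, 3, 1]
def rw29 : List ℕ := [2, 4, 0, 5, 5, 5, 4, 4, 4, 4, 1, 5, 3, 1, 5, 0]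
def rw30 : List ℕ := [2, 0, 2, 2, 0, 2]
def rw31 : List ℕ := [2, 4, 4, 4, 1, 5, 3, 1, 3, 0, 2, 4, 0, 5, 5, 5]
def rw32 : List ℕ := [2, 1, 1, 3, 3, 0, 0, 3, 0, 2, 1, 1, 2]
def rw33 : List ℕ := [2, 2, 2, 2, 2, 2, 2]
def rw34 : List ℕ := [2, 5, 5, 5, 0, 4, 4, 4, 3, 4, 4, 4, 3, 1, 2, 5, 5, 5]
def rw35 : List ℕ := [2, 5, 2, 2, 2, 5, 3, 3, 3, 3, 3, 2, 2, 2, 2, 4, 3, 3, 3, 4]
def rw36 : List ℕ := [2, 2, 2, 5, 3, 3, 3, 3, 1, 2, 2, 2, 2, 4, 3, 3, 3, 4, 0, 5]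
def rw37 : List ℕ := [2, 5, 2, 5, 2, 4, 3, 4, 3, 4, 3, 3, 2, 5]
def rw38 : List ℕ := [2, 5, 2, 1, 5, 5, 1, 2, 1, 3, 0, 3, 0, 4, 4, 0, 3, 4]
def rw39 : List ℕ := [2, 2, 2, 2, 2, 2, 2]
def rw40 : List ℕ := [3, 3, 5, 2, 2, 2, 2, 4, 3, 3, 3, 4, 4, 5, 2, 2, 2, 5, 3, 3]
def rw41 : List ℕ := [3, 1, 3, 0, 2, 0]
def rw42 : List ℕ := [3, 1, 2, 0, 2, 1]
def rw43 : List ℕ := [3, 0, 2, 0, 3, 1]
def rw44 : List ℕ := [3, 3, 0, 0, 3, 1, 2, 1, 1, 2, 2, 0, 0]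
def rw45 : List ℕ := [3, 3, 3, 3, 3, 3, 3]
def rw46 : List ℕ := [3, 5, 2, 2, 4, 2, 2, 5, 3]
def rw47 : List ℕ := [3, 3, 4, 2, 2, 4, 3, 3, 5]
def rw48 : List ℕ := [3, 0, 2, 1, 1, 2, 2, 1, 1, 3, 3, 0, 0]
def rw49 : List ℕ := [3, 5, 3, 3, 4, 2, 2, 4, 3]
def rw50 : List ℕ := [4, 3, 3, 5, 3, 3, 4, 2, 2]
def rw51 : List ℕ := [4, 2, 2, 5, 3, 3, 5, 2, 2]
def rw52 : List ℕ := [4, 2, 2, 4, 3, 3, 5, 3, 3]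
def rw53 : List ℕ := [4, 2, 2, 2, 2, 4, 3, 3, 3, 4, 5, 5, 2, 2, 2, 5, 3, 3, 3, 3]
def rw54 : List ℕ := [4, 2, 0, 3, 4, 1, 1, 1, 0, 0, 5, 2, 1, 3, 5, 0]
def rw55 : List ℕ := [4, 4, 4, 4, 4, 4, 4]
def rw56 : List ℕ := [5, 5, 5, 5, 5, 5, 5]
def rw57 : List ℕ := [5, 3, 3, 4, 2, 2, 4, 3, 3]
def rw58 : List ℕ := [5, 3, 1, 4, 0, 2, 4, 0, 5, 5, 5, 5, 4, 4, 4, 1]
def rw59 : List ℕ := [5, 2, 5, 2, 5, 2, 5, 4, 4, 3, 4, 3, 4, 3]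
def rw60 : List ℕ := [5, 3, 3, 5, 2, 2, 4, 2, 2]
def rw61 : List ℕ := [5, 5, 0, 4, 4, 4, 1, 5, 3, 1, 1, 0, 2, 4, 0, 5]
def rw62 : List ℕ := [3, 3, 5, 2, 2, 4, 2, 2, 5]
def rw63 : List ℕ := [0, 5, 5, 5, 4, 4, 4, 4, 1, 5, 3, 1, 5, 0, 2, 4]
def rw64 : List ℕ := [0, 4, 2, 0, 3, 4, 1, 1, 1, 0, 0, 5, 2, 1, 3, 5]
def rw65 : List ℕ := [4, 4, 3, 5, 2, 5, 5, 5, 2, 5, 5, 5, 4, 4, 4, 4, 3, 4]
def rw66 : List ℕ := [0, 0, 5, 2, 1, 3, 5, 4, 4, 2, 0, 3, 4, 1, 1, 5]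
def rw67 : List ℕ := [4, 2, 0, 3, 4, 1, 1, 2, 0, 0, 5, 2, 1, 3, 5, 3]
def rw68 : List ℕ := [2, 1, 3, 1, 1, 2, 0, 2]
def rw69 : List ℕ := [2, 2, 2, 5, 3, 3, 3, 3, 3, 2, 2, 2, 2, 4, 3, 3, 3, 4, 2, 5]
def rw70 : List ℕ := [4, 2, 0, 3, 4, 1, 1, 3, 0, 0, 5, 2, 1, 3, 5, 2]
def rw71 : List ℕ := [3, 1, 5, 0, 2, 4, 0, 5, 5, 5, 4, 4, 4, 4, 1, 5]
def rw72 : List ℕ := [5, 2, 1, 3, 5, 0, 4, 2, 0, 3, 4, 1, 1, 1, 0, 0]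
def rw73 : List ℕ := [3, 4, 1, 1, 2, 0, 0, 5, 2, 1, 3, 5, 3, 4, 2, 0]
def rw74 : List ℕ := [2, 2, 1, 1, 3, 3, 0, 0, 3, 0, 2, 1, 1]
def rw75 : List ℕ := [3, 2, 5, 5, 5, 2, 5, 5, 5, 2, 4, 4, 4, 3, 4, 4, 4, 3]
def rw76 : List ℕ := [0, 5, 2, 1, 3, 5, 4, 4, 2, 0, 3, 4, 1, 1, 5, 0]
def rw77 : List ℕ := [2, 5, 3, 3, 3, 3, 2, 2, 2, 2, 2, 4, 3, 3, 3, 4, 3, 5, 2, 2]
def rw78 : List ℕ := [5, 5, 5, 2, 5, 5, 5, 4, 4, 4, 4, 3, 4, 4, 4, 3, 5, 2]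
def rw79 : List ℕ := [2, 0, 3, 4, 1, 1, 3, 0, 0, 5, 2, 1, 3, 5, 2, 4]
def rw80 : List ℕ := [0, 5, 5, 5, 5, 4, 4, 4, 1, 5, 3, 1, 4, 0, 2, 4]
def rw81 : List ℕ := [5, 2, 1, 3, 5, 5, 4, 2, 0, 3, 4, 1, 1, 4, 0, 0]
def rw82 : List ℕ := [5, 0, 4, 0, 4, 2, 1, 1, 0, 3, 5, 1, 5, 1, 4, 0]
def rw83 : List ℕ := [4, 0, 4, 2, 1, 0, 0, 3, 5, 1, 5, 1, 4, 1, 5, 0]
def rw84 : List ℕ := [0, 5, 2, 1, 3, 5, 5, 4, 2, 0, 3, 4, 1, 1, 4, 0]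
def rw85 : List ℕ := [4, 3, 4, 3, 4, 3, 1, 2, 5, 2, 5, 2, 5, 0]
noncomputable def relW (i : ℕ) : List ℕ := (Bool.rec (motive := fun _ => List ℕ) (Bool.rec (motive := fun _ => List ℕ) (Bool.rec (motive := fun _ => List ℕ) (Bool.rec (motive := fun _ => List ℕ) (Bool.rec (motive := fun _ => List ℕ) (Bool.rec (motive := fun _ => List ℕ) (Bool.rec (motive := fun _ => List ℕ) (rw0) (rw1) (Nat.ble 1 i)) (Bool.rec (motive := fun _ => List ℕ) (rw2) (rw3) (Nat.ble 3 i)) (Nat.ble 2 i)) (Bool.rec (motive := fun _ => List ℕ) (Bool.rec (motive := fun _ => List ℕ) (rw4) (rw5) (Nat.ble 5 i)) (Bool.rec (motive := fun _ => List ℕ) (rw6) (rw7) (Nat.ble 7 i)) (Nat.ble 6 i)) (Nat.ble 4 i)) (Bool.rec (motive := fun _ => List ℕ) (Bool.rec (motive := fun _ => List ℕ) (Bool.rec (motive := fun _ => List ℕ) (rw8)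 (rw9) (Nat.ble 9 i)) (Bool.rec (motive := fun _ => List ℕ) (rw10) (rw11) (Nat.ble 11 i)) (Nat.ble 10 i)) (Bool.rec (motive := fun _ => List ℕ) (Bool.rec (motive := fun _ => List ℕ) (rw12) (rw13) (Nat.ble 13 i)) (Bool.rec (motive := fun _ => List ℕ) (rw14) (rw15) (Nat.ble 15 i)) (Nat.ble 14 i)) (Nat.ble 12 i)) (Nat.ble 8 i)) (Bool.rec (motive := fun _ => List ℕ) (Bool.rec (motive := fun _ => List ℕ) (Bool.rec (motive := fun _ => List ℕ) (Bool.rec (motive := fun _ => List ℕ) (rw16) (rw17) (Nat.ble 17 i)) (Bool.rec (motive := fun _ => List ℕ) (rw18) (rw19) (Nat.ble 19 i)) (Nat.ble 18 i)) (Bool.rec (motive := fun _ => List ℕ) (Bool.rec (motive := fun _ => List ℕ) (rw20) (rw21) (Nat.ble 21 i)) (Bool.rec (motive := fun _ => List ℕ) (rw22) (rw23) (Nat.ble 23 i)) (Nat.ble 22 i)) (Nat.ble 20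 i)) (Bool.rec (motive := fun _ => List ℕ) (Bool.rec (motive := fun _ => List ℕ) (Bool.rec (motive := fun _ => List ℕ) (rw24) (rw25) (Nat.ble 25 i)) (Bool.rec (motive := fun _ => List ℕ) (rw26) (rw27) (Nat.ble 27 i)) (Nat.ble 26 i)) (Bool.rec (motive := fun _ => List ℕ) (Bool.rec (motive := fun _ => List ℕ) (rw28) (rw29) (Nat.ble 29 i)) (Bool.rec (motive := fun _ => List ℕ) (rw30) (rw31) (Nat.ble 31 i)) (Nat.ble 30 i)) (Nat.ble 28 i)) (Nat.ble 24 i)) (Nat.ble 16 i)) (Bool.rec (motive := fun _ => List ℕ) (Bool.rec (motive := fun _ => List ℕ) (Bool.rec (motive := fun _ => List ℕ) (Bool.rec (motive := fun _ => List ℕ) (Bool.rec (motive := fun _ => List ℕ) (rw32) (rw33) (Nat.ble 33 i)) (Bool.rec (motive := fun _ => List ℕ) (rw34) (rw35) (Nat.ble 35 i)) (Nat.ble 34 i)) (Bool.rec (motive :=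 fun _ => List ℕ) (Bool.rec (motive := fun _ => List ℕ) (rw36) (rw37) (Nat.ble 37 i)) (Bool.rec (motive := fun _ => List ℕ) (rw38) (rw39) (Nat.ble 39 i)) (Nat.ble 38 i)) (Nat.ble 36 i)) (Bool.rec (motive := fun _ => List ℕ) (Bool.rec (motive := fun _ => List ℕ) (Bool.rec (motive := fun _ => List ℕ) (rw40) (rw41) (Nat.ble 41 i)) (Bool.rec (motive := fun _ => List ℕ) (rw42) (rw43) (Nat.ble 43 i)) (Nat.ble 42 i)) (Bool.rec (motive := fun _ => List ℕ) (Bool.rec (motive := fun _ => List ℕ) (rw44) (rw45) (Nat.ble 45 i)) (Bool.rec (motive := fun _ => List ℕ) (rw46) (rw47) (Nat.ble 47 i)) (Nat.ble 46 i)) (Nat.ble 44 i)) (Nat.ble 40 i)) (Bool.rec (motive := fun _ => List ℕ) (Bool.rec (motive := fun _ => List ℕ) (Bool.rec (motive := fun _ => List ℕ) (Bool.rec (motive := fun _ => List ℕ) (rw48)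 (rw49) (Nat.ble 49 i)) (Bool.rec (motive := fun _ => List ℕ) (rw50) (rw51) (Nat.ble 51 i)) (Nat.ble 50 i)) (Bool.rec (motive := fun _ => List ℕ) (Bool.rec (motive := fun _ => List ℕ) (rw52) (rw53) (Nat.ble 53 i)) (Bool.rec (motive := fun _ => List ℕ) (rw54) (rw55) (Nat.ble 55 i)) (Nat.ble 54 i)) (Nat.ble 52 i)) (Bool.rec (motive := fun _ => List ℕ) (Bool.rec (motive := fun _ => List ℕ) (Bool.rec (motive := fun _ => List ℕ) (rw56) (rw57) (Nat.ble 57 i)) (Bool.rec (motive := fun _ => List ℕ) (rw58) (rw59) (Nat.ble 59 i)) (Nat.ble 58 i)) (Bool.rec (motive := fun _ => List ℕ) (Bool.rec (motive := fun _ => List ℕ) (rw60) (rw61) (Nat.ble 61 i)) (Bool.rec (motive := fun _ => List ℕ) (rw62) (rw63) (Nat.ble 63 i)) (Nat.ble 62 i)) (Nat.ble 60 i)) (Nat.ble 56 i)) (Nat.ble 48 i)) (Nat.ble 32 i))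 (Bool.rec (motive := fun _ => List ℕ) (Bool.rec (motive := fun _ => List ℕ) (Bool.rec (motive := fun _ => List ℕ) (Bool.rec (motive := fun _ => List ℕ) (Bool.rec (motive := fun _ => List ℕ) (Bool.rec (motive := fun _ => List ℕ) (rw64) (rw65) (Nat.ble 65 i)) (Bool.rec (motive := fun _ => List ℕ) (rw66) (rw67) (Nat.ble 67 i)) (Nat.ble 66 i)) (Bool.rec (motive := fun _ => List ℕ) (Bool.rec (motive := fun _ => List ℕ) (rw68) (rw69) (Nat.ble 69 i)) (Bool.rec (motive := fun _ => List ℕ) (rw70) (rw71) (Nat.ble 71 i)) (Nat.ble 70 i)) (Nat.ble 68 i)) (Bool.rec (motive := fun _ => List ℕ) (Bool.rec (motive := fun _ => List ℕ) (Bool.rec (motive := fun _ => List ℕ) (rw72) (rw73) (Nat.ble 73 i)) (Bool.rec (motive := fun _ => List ℕ) (rw74) (rw75) (Nat.ble 75 i)) (Nat.ble 74 i)) (Bool.rec (motive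 := fun _ => List ℕ) (Bool.rec (motive := fun _ => List ℕ) (rw76) (rw77) (Nat.ble 77 i)) (Bool.rec (motive := fun _ => List ℕ) (rw78) (rw79) (Nat.ble 79 i)) (Nat.ble 78 i)) (Nat.ble 76 i)) (Nat.ble 72 i)) (Bool.rec (motive := fun _ => List ℕ) (Bool.rec (motive := fun _ => List ℕ) (Bool.rec (motive := fun _ => List ℕ) (Bool.rec (motive := fun _ => List ℕ) (rw80) (rw81) (Nat.ble 81 i)) (Bool.rec (motive := fun _ => List ℕ) (rw82) (rw83) (Nat.ble 83 i)) (Nat.ble 82 i)) (Bool.rec (motive := fun _ => List ℕ) (Bool.rec (motive := fun _ => List ℕ) (rw84) (rw85) (Nat.ble 85 i)) ([]) (Nat.ble 86 i)) (Nat.ble 84 i)) ([]) (Nat.ble 88 i)) (Nat.ble 80 i)) ([]) (Nat.ble 96 i)) (Nat.ble 64 i))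
def sw0 : List ℕ := [0]
def sw1 : List ℕ := [2]
noncomputable def subW (i : ℕ) : List ℕ := (Bool.rec (motive := fun _ => List ℕ) (sw0) (sw1) (Nat.ble 1 i))

noncomputable def data : Data where
  w := 9
  mask := 511
  tw := 11
  tmask := 2047
  hsh := 20
  lsh := 29
  ew := 31
  emask := 2147483647
  mw := 34
  mmask := 17179869183
  jw := 17
  jmask := 131071
  bsh := 8
  bmask := 255
  nc := 6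
  fuel := 6
  E := eT
  J := jT
  Mg := mgT
  JM := jmT
  relW := relW
  nrot := 86
  subW := subW
  nsub := 2

def M : ℕ := 367
def n : ℕ := 45

def bases : List (List ℕ) := [
  [0, 0, 0, 0, 0, 0, 0],
  [1, 1, 1, 1, 1, 1, 1],
  [2, 2, 2, 2, 2, 2, 2],
  [3, 3, 3, 3, 3, 3, 3],
  [4, 4, 4, 4, 4, 4, 4],
  [5, 5, 5, 5, 5, 5, 5],
  [3, 1, 2, 0, 2, 1],
  [0, 3, 1, 3, 0, 2],
  [5, 3, 3, 4, 2, 2, 4, 3, 3],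
  [2, 2, 5, 3, 3, 5, 2, 2, 4],
  [3, 3, 0, 0, 3, 0, 2, 1, 1, 2, 2, 1, 1],
  [0, 0, 3, 3, 0, 0, 3, 1, 2, 1, 1, 2, 2],
  [0, 2, 0, 2, 0, 2],
  [3, 1, 3, 1, 3, 1],
  [0, 2, 2, 0, 2, 2],
  [0, 0, 2, 0, 3, 3, 1, 3],
  [2, 0, 2, 2, 1, 3, 1, 1],
  [2, 5, 2, 5, 2, 5, 0, 4, 3, 4, 3, 4, 3, 1],
  [2, 5, 2, 5, 2, 5, 2, 4, 3, 4, 3, 4, 3, 3],
  [2, 5, 2, 5, 2, 5, 4, 4, 3, 4, 3, 4, 3, 5],
  [0, 0, 5, 2, 1, 3, 5, 0, 4, 2, 0, 3, 4, 1, 1, 1],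
  [0, 0, 0, 5, 2, 1, 3, 5, 1, 4, 2, 0, 3, 4, 1, 1],
  [0, 0, 5, 2, 1, 3, 5, 2, 4, 2, 0, 3, 4, 1, 1, 3],
  [2, 0, 0, 5, 2, 1, 3, 5, 3, 4, 2, 0, 3, 4, 1, 1],
  [0, 0, 5, 2, 1, 3, 5, 4, 4, 2, 0, 3, 4, 1, 1, 5],
  [4, 0, 0, 5, 2, 1, 3, 5, 5, 4, 2, 0, 3, 4, 1, 1],
  [0, 3, 5, 1, 5, 1, 4, 0, 5, 0, 4, 0, 4, 2, 1, 1],
  [0, 0, 3, 5, 1, 5, 1, 4, 1, 5, 0, 4, 0, 4, 2, 1],
  [2, 5, 5, 5, 2, 5, 5, 5, 0, 4, 4, 4, 3, 4, 4, 4, 3, 1],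
  [2, 5, 5, 5, 2, 5, 5, 5, 2, 4, 4, 4, 3, 4, 4, 4, 3, 3],
  [2, 5, 5, 5, 2, 5, 5, 5, 4, 4, 4, 4, 3, 4, 4, 4, 3, 5],
  [2, 2, 2, 2, 4, 3, 3, 3, 4, 0, 5, 2, 2, 2, 5, 3, 3, 3, 3, 1],
  [2, 2, 2, 2, 4, 3, 3, 3, 4, 2, 5, 2, 2, 2, 5, 3, 3, 3, 3, 3],
  [2, 2, 2, 2, 2, 4, 3, 3, 3, 4, 3, 5, 2, 2, 2, 5, 3, 3, 3, 3],
  [2, 2, 2, 2, 4, 3, 3, 3, 4, 4, 5, 2, 2, 2, 5, 3, 3, 3, 3, 5],
  [4, 2, 2, 2, 2, 4, 3, 3, 3, 4, 5, 5, 2, 2, 2, 5, 3, 3, 3, 3],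
  [0, 2, 4, 0, 5, 5, 5, 0, 4, 4, 4, 1, 5, 3, 1, 1],
  [0, 2, 4, 0, 5, 5, 5, 2, 4, 4, 4, 1, 5, 3, 1, 3],
  [0, 2, 4, 0, 5, 5, 5, 4, 4, 4, 4, 1, 5, 3, 1, 5],
  [4, 0, 2, 4, 0, 5, 5, 5, 5, 4, 4, 4, 1, 5, 3, 1],
  [0, 3, 0, 4, 4, 0, 3, 4, 0, 5, 2, 1, 5, 5, 1, 2, 1, 1],
  [0, 3, 0, 4, 4, 0, 3, 4, 2, 5, 2, 1, 5, 5, 1, 2, 1, 3]]

def rots : List (ℕ × ℕ) := [(7, 0), (6, 3), (20, 10), (21, 11), (39, 1), (38, 0), (36, 7), (0, 1), (7, 4), (31, 9), (15, 1), (40, 8), (13, 5), (1, 1), (6, 1), (7, 2), (6, 5), (25, 14), (10, 11), (1, 2), (24, 13), (9, 0), (8, 4), (12, 1), (6, 4), (7, 5), (32, 12), (22, 7), (6, 2), (38, 1), (14, 2), (37, 7), (10, 10), (2, 6), (28, 4), (32, 9), (31, 11), (18, 2), (41, 8), (2, 1), (34, 17), (7, 1), (6, 0), (7, 3), (11, 2), (3, 1), (9, 4), (8, 1), (10, 4), (8, 8), (8, 6),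 (9, 8), (8, 3), (35, 0), (20, 8), (4, 2), (5, 1), (8, 0), (39, 13), (19, 13), (9, 2), (36, 5), (9, 3), (38, 3), (20, 7), (30, 14), (24, 0), (23, 9), (16, 3), (32, 11), (22, 8), (38, 13), (20, 2), (23, 12), (10, 9), (29, 17), (24, 1), (33, 14), (30, 1), (22, 9), (39, 4), (25, 3), (26, 8), (27, 11), (25, 2), (17, 7)]

def subsL : List (List ℕ) := [
  [0],
  [2]]

end Cfsg.Agent.Lib.Helper12.McLTC.L3
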