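import Cfsg.Agent.Lib.Helper12.McLTC.L5T0
import Cfsg.Agent.Lib.Helper12.McLTC.L5T1
import Cfsg.Agent.Lib.Helper12.McLTC.L5T2
import Cfsg.Agent.Lib.Helper12.McLTC.L5T3
import Cfsg.Agent.Lib.Helper12.McLTC.L5T4
import Cfsg.Agent.Lib.Helper12.McLTC.L5T5
import Cfsg.Agent.Lib.Helper12.McLTC.L5T6
import Cfsg.Agent.Lib.Helper12.McLTC.L5T7
import Cfsg.Agent.Lib.Helper12.McLTC.L5T8
import Cfsg.Agent.Lib.Helper12.McLTC.L5T9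
import Cfsg.Agent.Lib.Helper12.McLTC.L5T10
import Cfsg.Agent.Lib.Helper12.McLTC.L5T11
import Cfsg.Agent.Lib.Helper12.McLTC.L5T12
import Cfsg.Agent.Lib.Helper12.McLTC.L5T13
import Cfsg.Agent.Lib.Helper12.McLTC.L5T14
import Cfsg.Agent.Lib.Helper12.McLTC.L5T15
import Cfsg.Agent.Lib.Helper12.McLTC.L5T16
import Cfsg.Agent.Lib.Helper12.McLTC.L5T17

set_option autoImplicit false
set_option maxRecDepth 100000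
set_option linter.unusedVariables false

namespace Cfsg.Agent.Lib.Helper12.McLTC.L5

open Cfsg.Agent.Helper4.TC

noncomputable def ecol0 (b : ℕ) : ℕ := (Bool.rec (motive := fun _ => ℕ) (Bool.rec (motive := fun _ => ℕ) (Bool.rec (motive := fun _ => ℕ) (Bool.rec (motive := fun _ => ℕ) (Bool.rec (motive := fun _ => ℕ) (Bool.rec (motive := fun _ => ℕ) (e0_0) (e0_1) (Nat.ble 1 b)) (Bool.rec (motive := fun _ => ℕ) (e0_2) (e0_3) (Nat.ble 3 b)) (Nat.ble 2 b)) (Bool.rec (motive := fun _ => ℕ) (Bool.rec (motive := fun _ => ℕ) (e0_4) (e0_5) (Nat.ble 5 b)) (Bool.rec (motive := fun _ => ℕ) (e0_6) (e0_7) (Nat.ble 7 b)) (Nat.ble 6 b)) (Nat.ble 4 b)) (Bool.rec (motive := fun _ => ℕ) (Bool.rec (motive := fun _ => ℕ) (Bool.rec (motive := fun _ => ℕ) (e0_8) (e0_9) (Nat.ble 9 b)) (Bool.rec (motive := fun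 _ => ℕ) (e0_10) (e0_11) (Nat.ble 11 b)) (Nat.ble 10 b)) (Bool.rec (motive := fun _ => ℕ) (Bool.rec (motive := fun _ => ℕ) (e0_12) (e0_13) (Nat.ble 13 b)) (Bool.rec (motive := fun _ => ℕ) (e0_14) (e0_15) (Nat.ble 15 b)) (Nat.ble 14 b)) (Nat.ble 12 b)) (Nat.ble 8 b)) (Bool.rec (motive := fun _ => ℕ) (Bool.rec (motive := fun _ => ℕ) (Bool.rec (motive := fun _ => ℕ) (Bool.rec (motive := fun _ => ℕ) (e0_16) (e0_17) (Nat.ble 17 b)) (Bool.rec (motive := fun _ => ℕ) (e0_18) (e0_19) (Nat.ble 19 b)) (Nat.ble 18 b)) (Bool.rec (motive := fun _ => ℕ) (Bool.rec (motive := fun _ => ℕ) (e0_20) (e0_21) (Nat.ble 21 b)) (Bool.rec (motive := fun _ => ℕ) (e0_22) (e0_23) (Nat.ble 23 b)) (Nat.ble 22 b)) (Nat.ble 20 b)) (Bool.rec (motive := fun _ => ℕ) (Bool.rec (motive := fun _ => ℕ) (Bool.rec (motive := fun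 _ => ℕ) (e0_24) (e0_25) (Nat.ble 25 b)) (Bool.rec (motive := fun _ => ℕ) (e0_26) (e0_27) (Nat.ble 27 b)) (Nat.ble 26 b)) (Bool.rec (motive := fun _ => ℕ) (Bool.rec (motive := fun _ => ℕ) (e0_28) (e0_29) (Nat.ble 29 b)) (Bool.rec (motive := fun _ => ℕ) (e0_30) (e0_31) (Nat.ble 31 b)) (Nat.ble 30 b)) (Nat.ble 28 b)) (Nat.ble 24 b)) (Nat.ble 16 b)) (Bool.rec (motive := fun _ => ℕ) (Bool.rec (motive := fun _ => ℕ) (Bool.rec (motive := fun _ => ℕ) (Bool.rec (motive := fun _ => ℕ) (Bool.rec (motive := fun _ => ℕ) (e0_32) (e0_33) (Nat.ble 33 b)) (Bool.rec (motive := fun _ => ℕ) (e0_34) (e0_35) (Nat.ble 35 b)) (Nat.ble 34 b)) (Bool.rec (motive := fun _ => ℕ) (Bool.rec (motive := fun _ => ℕ) (e0_36) (0) (Nat.ble 37 b)) (0) (Nat.ble 38 b)) (Nat.ble 36 b)) (0) (Nat.ble 40 b)) (0) (Nat.ble 48 b))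 (Nat.ble 32 b))
noncomputable def jcol0 (b : ℕ) : ℕ := (Bool.rec (motive := fun _ => ℕ) (Bool.rec (motive := fun _ => ℕ) (Bool.rec (motive := fun _ => ℕ) (Bool.rec (motive := fun _ => ℕ) (Bool.rec (motive := fun _ => ℕ) (Bool.rec (motive := fun _ => ℕ) (j0_0) (j0_1) (Nat.ble 1 b)) (Bool.rec (motive := fun _ => ℕ) (j0_2) (j0_3) (Nat.ble 3 b)) (Nat.ble 2 b)) (Bool.rec (motive := fun _ => ℕ) (Bool.rec (motive := fun _ => ℕ) (j0_4) (j0_5) (Nat.ble 5 b)) (Bool.rec (motive := fun _ => ℕ) (j0_6) (j0_7) (Nat.ble 7 b)) (Nat.ble 6 b)) (Nat.ble 4 b)) (Bool.rec (motive := fun _ => ℕ) (Bool.rec (motive := fun _ => ℕ) (Bool.rec (motive := fun _ => ℕ) (j0_8) (j0_9) (Nat.ble 9 b)) (Bool.rec (motive := fun _ => ℕ) (j0_10) (j0_11) (Nat.ble 11 b)) (Nat.ble 10 b)) (Bool.rec (motive := fun _ => ℕ) (Bool.rec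 (motive := fun _ => ℕ) (j0_12) (j0_13) (Nat.ble 13 b)) (Bool.rec (motive := fun _ => ℕ) (j0_14) (j0_15) (Nat.ble 15 b)) (Nat.ble 14 b)) (Nat.ble 12 b)) (Nat.ble 8 b)) (Bool.rec (motive := fun _ => ℕ) (Bool.rec (motive := fun _ => ℕ) (Bool.rec (motive := fun _ => ℕ) (Bool.rec (motive := fun _ => ℕ) (j0_16) (j0_17) (Nat.ble 17 b)) (Bool.rec (motive := fun _ => ℕ) (j0_18) (j0_19) (Nat.ble 19 b)) (Nat.ble 18 b)) (Bool.rec (motive := fun _ => ℕ) (Bool.rec (motive := fun _ => ℕ) (j0_20) (j0_21) (Nat.ble 21 b)) (Bool.rec (motive := fun _ => ℕ) (j0_22) (j0_23) (Nat.ble 23 b)) (Nat.ble 22 b)) (Nat.ble 20 b)) (Bool.rec (motive := fun _ => ℕ) (Bool.rec (motive := fun _ => ℕ) (Bool.rec (motive := fun _ => ℕ) (j0_24) (j0_25) (Nat.ble 25 b)) (Bool.rec (motive := fun _ => ℕ) (j0_26) (j0_27) (Nat.ble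 27 b)) (Nat.ble 26 b)) (Bool.rec (motive := fun _ => ℕ) (Bool.rec (motive := fun _ => ℕ) (j0_28) (j0_29) (Nat.ble 29 b)) (Bool.rec (motive := fun _ => ℕ) (j0_30) (j0_31) (Nat.ble 31 b)) (Nat.ble 30 b)) (Nat.ble 28 b)) (Nat.ble 24 b)) (Nat.ble 16 b)) (Bool.rec (motive := fun _ => ℕ) (Bool.rec (motive := fun _ => ℕ) (Bool.rec (motive := fun _ => ℕ) (Bool.rec (motive := fun _ => ℕ) (Bool.rec (motive := fun _ => ℕ) (j0_32) (j0_33) (Nat.ble 33 b)) (Bool.rec (motive := fun _ => ℕ) (j0_34) (j0_35) (Nat.ble 35 b)) (Nat.ble 34 b)) (Bool.rec (motive := fun _ => ℕ) (Bool.rec (motive := fun _ => ℕ) (j0_36) (0) (Nat.ble 37 b)) (0) (Nat.ble 38 b)) (Nat.ble 36 b)) (0) (Nat.ble 40 b)) (0) (Nat.ble 48 b)) (Nat.ble 32 b))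
noncomputable def ecol1 (b : ℕ) : ℕ := (Bool.rec (motive := fun _ => ℕ) (Bool.rec (motive := fun _ => ℕ) (Bool.rec (motive := fun _ => ℕ) (Bool.rec (motive := fun _ => ℕ) (Bool.rec (motive := fun _ => ℕ) (Bool.rec (motive := fun _ => ℕ) (e1_0) (e1_1) (Nat.ble 1 b)) (Bool.rec (motive := fun _ => ℕ) (e1_2) (e1_3) (Nat.ble 3 b)) (Nat.ble 2 b)) (Bool.rec (motive := fun _ => ℕ) (Bool.rec (motive := fun _ => ℕ) (e1_4) (e1_5) (Nat.ble 5 b)) (Bool.rec (motive := fun _ => ℕ) (e1_6) (e1_7) (Nat.ble 7 b)) (Nat.ble 6 b)) (Nat.ble 4 b)) (Bool.rec (motive := fun _ => ℕ) (Bool.rec (motive := fun _ => ℕ) (Bool.rec (motive := fun _ => ℕ) (e1_8) (e1_9) (Nat.ble 9 b)) (Bool.rec (motive := fun _ => ℕ) (e1_10) (e1_11) (Nat.ble 11 b)) (Nat.ble 10 b)) (Bool.rec (motive := fun _ => ℕ) (Bool.rec (motive := fun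 _ => ℕ) (e1_12) (e1_13) (Nat.ble 13 b)) (Bool.rec (motive := fun _ => ℕ) (e1_14) (e1_15) (Nat.ble 15 b)) (Nat.ble 14 b)) (Nat.ble 12 b)) (Nat.ble 8 b)) (Bool.rec (motive := fun _ => ℕ) (Bool.rec (motive := fun _ => ℕ) (Bool.rec (motive := fun _ => ℕ) (Bool.rec (motive := fun _ => ℕ) (e1_16) (e1_17) (Nat.ble 17 b)) (Bool.rec (motive := fun _ => ℕ) (e1_18) (e1_19) (Nat.ble 19 b)) (Nat.ble 18 b)) (Bool.rec (motive := fun _ => ℕ) (Bool.rec (motive := fun _ => ℕ) (e1_20) (e1_21) (Nat.ble 21 b)) (Bool.rec (motive := fun _ => ℕ) (e1_22) (e1_23) (Nat.ble 23 b)) (Nat.ble 22 b)) (Nat.ble 20 b)) (Bool.rec (motive := fun _ => ℕ) (Bool.rec (motive := fun _ => ℕ) (Bool.rec (motive := fun _ => ℕ) (e1_24) (e1_25) (Nat.ble 25 b)) (Bool.rec (motive := fun _ => ℕ) (e1_26) (e1_27) (Nat.ble 27 b)) (Nat.ble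 26 b)) (Bool.rec (motive := fun _ => ℕ) (Bool.rec (motive := fun _ => ℕ) (e1_28) (e1_29) (Nat.ble 29 b)) (Bool.rec (motive := fun _ => ℕ) (e1_30) (e1_31) (Nat.ble 31 b)) (Nat.ble 30 b)) (Nat.ble 28 b)) (Nat.ble 24 b)) (Nat.ble 16 b)) (Bool.rec (motive := fun _ => ℕ) (Bool.rec (motive := fun _ => ℕ) (Bool.rec (motive := fun _ => ℕ) (Bool.rec (motive := fun _ => ℕ) (Bool.rec (motive := fun _ => ℕ) (e1_32) (e1_33) (Nat.ble 33 b)) (Bool.rec (motive := fun _ => ℕ) (e1_34) (e1_35) (Nat.ble 35 b)) (Nat.ble 34 b)) (Bool.rec (motive := fun _ => ℕ) (Bool.rec (motive := fun _ => ℕ) (e1_36) (0) (Nat.ble 37 b)) (0) (Nat.ble 38 b)) (Nat.ble 36 b)) (0) (Nat.ble 40 b)) (0) (Nat.ble 48 b)) (Nat.ble 32 b))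
noncomputable def jcol1 (b : ℕ) : ℕ := (Bool.rec (motive := fun _ => ℕ) (Bool.rec (motive := fun _ => ℕ) (Bool.rec (motive := fun _ => ℕ) (Bool.rec (motive := fun _ => ℕ) (Bool.rec (motive := fun _ => ℕ) (Bool.rec (motive := fun _ => ℕ) (j1_0) (j1_1) (Nat.ble 1 b)) (Bool.rec (motive := fun _ => ℕ) (j1_2) (j1_3) (Nat.ble 3 b)) (Nat.ble 2 b)) (Bool.rec (motive := fun _ => ℕ) (Bool.rec (motive := fun _ => ℕ) (j1_4) (j1_5) (Nat.ble 5 b)) (Bool.rec (motive := fun _ => ℕ) (j1_6) (j1_7) (Nat.ble 7 b)) (Nat.ble 6 b)) (Nat.ble 4 b)) (Bool.rec (motive := fun _ => ℕ) (Bool.rec (motive := fun _ => ℕ) (Bool.rec (motive := fun _ => ℕ) (j1_8) (j1_9) (Nat.ble 9 b)) (Bool.rec (motive := fun _ => ℕ) (j1_10) (j1_11) (Nat.ble 11 b)) (Nat.ble 10 b)) (Bool.rec (motive := fun _ => ℕ) (Bool.rec (motive := fun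 _ => ℕ) (j1_12) (j1_13) (Nat.ble 13 b)) (Bool.rec (motive := fun _ => ℕ) (j1_14) (j1_15) (Nat.ble 15 b)) (Nat.ble 14 b)) (Nat.ble 12 b)) (Nat.ble 8 b)) (Bool.rec (motive := fun _ => ℕ) (Bool.rec (motive := fun _ => ℕ) (Bool.rec (motive := fun _ => ℕ) (Bool.rec (motive := fun _ => ℕ) (j1_16) (j1_17) (Nat.ble 17 b)) (Bool.rec (motive := fun _ => ℕ) (j1_18) (j1_19) (Nat.ble 19 b)) (Nat.ble 18 b)) (Bool.rec (motive := fun _ => ℕ) (Bool.rec (motive := fun _ => ℕ) (j1_20) (j1_21) (Nat.ble 21 b)) (Bool.rec (motive := fun _ => ℕ) (j1_22) (j1_23) (Nat.ble 23 b)) (Nat.ble 22 b)) (Nat.ble 20 b)) (Bool.rec (motive := fun _ => ℕ) (Bool.rec (motive := fun _ => ℕ) (Bool.rec (motive := fun _ => ℕ) (j1_24) (j1_25) (Nat.ble 25 b)) (Bool.rec (motive := fun _ => ℕ) (j1_26) (j1_27) (Nat.ble 27 b)) (Nat.ble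 26 b)) (Bool.rec (motive := fun _ => ℕ) (Bool.rec (motive := fun _ => ℕ) (j1_28) (j1_29) (Nat.ble 29 b)) (Bool.rec (motive := fun _ => ℕ) (j1_30) (j1_31) (Nat.ble 31 b)) (Nat.ble 30 b)) (Nat.ble 28 b)) (Nat.ble 24 b)) (Nat.ble 16 b)) (Bool.rec (motive := fun _ => ℕ) (Bool.rec (motive := fun _ => ℕ) (Bool.rec (motive := fun _ => ℕ) (Bool.rec (motive := fun _ => ℕ) (Bool.rec (motive := fun _ => ℕ) (j1_32) (j1_33) (Nat.ble 33 b)) (Bool.rec (motive := fun _ => ℕ) (j1_34) (j1_35) (Nat.ble 35 b)) (Nat.ble 34 b)) (Bool.rec (motive := fun _ => ℕ) (Bool.rec (motive := fun _ => ℕ) (j1_36) (0) (Nat.ble 37 b)) (0) (Nat.ble 38 b)) (Nat.ble 36 b)) (0) (Nat.ble 40 b)) (0) (Nat.ble 48 b)) (Nat.ble 32 b))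
noncomputable def ecol2 (b : ℕ) : ℕ := (Bool.rec (motive := fun _ => ℕ) (Bool.rec (motive := fun _ => ℕ) (Bool.rec (motive := fun _ => ℕ) (Bool.rec (motive := fun _ => ℕ) (Bool.rec (motive := fun _ => ℕ) (Bool.rec (motive := fun _ => ℕ) (e2_0) (e2_1) (Nat.ble 1 b)) (Bool.rec (motive := fun _ => ℕ) (e2_2) (e2_3) (Nat.ble 3 b)) (Nat.ble 2 b)) (Bool.rec (motive := fun _ => ℕ) (Bool.rec (motive := fun _ => ℕ) (e2_4) (e2_5) (Nat.ble 5 b)) (Bool.rec (motive := fun _ => ℕ) (e2_6) (e2_7) (Nat.ble 7 b)) (Nat.ble 6 b)) (Nat.ble 4 b)) (Bool.rec (motive := fun _ => ℕ) (Bool.rec (motive := fun _ => ℕ) (Bool.rec (motive := fun _ => ℕ) (e2_8) (e2_9) (Nat.ble 9 b)) (Bool.rec (motive := fun _ => ℕ) (e2_10) (e2_11) (Nat.ble 11 b)) (Nat.ble 10 b)) (Bool.rec (motive := fun _ => ℕ) (Bool.rec (motive := fun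 _ => ℕ) (e2_12) (e2_13) (Nat.ble 13 b)) (Bool.rec (motive := fun _ => ℕ) (e2_14) (e2_15) (Nat.ble 15 b)) (Nat.ble 14 b)) (Nat.ble 12 b)) (Nat.ble 8 b)) (Bool.rec (motive := fun _ => ℕ) (Bool.rec (motive := fun _ => ℕ) (Bool.rec (motive := fun _ => ℕ) (Bool.rec (motive := fun _ => ℕ) (e2_16) (e2_17) (Nat.ble 17 b)) (Bool.rec (motive := fun _ => ℕ) (e2_18) (e2_19) (Nat.ble 19 b)) (Nat.ble 18 b)) (Bool.rec (motive := fun _ => ℕ) (Bool.rec (motive := fun _ => ℕ) (e2_20) (e2_21) (Nat.ble 21 b)) (Bool.rec (motive := fun _ => ℕ) (e2_22) (e2_23) (Nat.ble 23 b)) (Nat.ble 22 b)) (Nat.ble 20 b)) (Bool.rec (motive := fun _ => ℕ) (Bool.rec (motive := fun _ => ℕ) (Bool.rec (motive := fun _ => ℕ) (e2_24) (e2_25) (Nat.ble 25 b)) (Bool.rec (motive := fun _ => ℕ) (e2_26) (e2_27) (Nat.ble 27 b)) (Nat.ble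 26 b)) (Bool.rec (motive := fun _ => ℕ) (Bool.rec (motive := fun _ => ℕ) (e2_28) (e2_29) (Nat.ble 29 b)) (Bool.rec (motive := fun _ => ℕ) (e2_30) (e2_31) (Nat.ble 31 b)) (Nat.ble 30 b)) (Nat.ble 28 b)) (Nat.ble 24 b)) (Nat.ble 16 b)) (Bool.rec (motive := fun _ => ℕ) (Bool.rec (motive := fun _ => ℕ) (Bool.rec (motive := fun _ => ℕ) (Bool.rec (motive := fun _ => ℕ) (Bool.rec (motive := fun _ => ℕ) (e2_32) (e2_33) (Nat.ble 33 b)) (Bool.rec (motive := fun _ => ℕ) (e2_34) (e2_35) (Nat.ble 35 b)) (Nat.ble 34 b)) (Bool.rec (motive := fun _ => ℕ) (Bool.rec (motive := fun _ => ℕ) (e2_36) (0) (Nat.ble 37 b)) (0) (Nat.ble 38 b)) (Nat.ble 36 b)) (0) (Nat.ble 40 b)) (0) (Nat.ble 48 b)) (Nat.ble 32 b))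
noncomputable def jcol2 (b : ℕ) : ℕ := (Bool.rec (motive := fun _ => ℕ) (Bool.rec (motive := fun _ => ℕ) (Bool.rec (motive := fun _ => ℕ) (Bool.rec (motive := fun _ => ℕ) (Bool.rec (motive := fun _ => ℕ) (Bool.rec (motive := fun _ => ℕ) (j2_0) (j2_1) (Nat.ble 1 b)) (Bool.rec (motive := fun _ => ℕ) (j2_2) (j2_3) (Nat.ble 3 b)) (Nat.ble 2 b)) (Bool.rec (motive := fun _ => ℕ) (Bool.rec (motive := fun _ => ℕ) (j2_4) (j2_5) (Nat.ble 5 b)) (Bool.rec (motive := fun _ => ℕ) (j2_6) (j2_7) (Nat.ble 7 b)) (Nat.ble 6 b)) (Nat.ble 4 b)) (Bool.rec (motive := fun _ => ℕ) (Bool.rec (motive := fun _ => ℕ) (Bool.rec (motive := fun _ => ℕ) (j2_8) (j2_9) (Nat.ble 9 b)) (Bool.rec (motive := fun _ => ℕ) (j2_10) (j2_11) (Nat.ble 11 b)) (Nat.ble 10 b)) (Bool.rec (motive := fun _ => ℕ) (Bool.rec (motive := fun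 _ => ℕ) (j2_12) (j2_13) (Nat.ble 13 b)) (Bool.rec (motive := fun _ => ℕ) (j2_14) (j2_15) (Nat.ble 15 b)) (Nat.ble 14 b)) (Nat.ble 12 b)) (Nat.ble 8 b)) (Bool.rec (motive := fun _ => ℕ) (Bool.rec (motive := fun _ => ℕ) (Bool.rec (motive := fun _ => ℕ) (Bool.rec (motive := fun _ => ℕ) (j2_16) (j2_17) (Nat.ble 17 b)) (Bool.rec (motive := fun _ => ℕ) (j2_18) (j2_19) (Nat.ble 19 b)) (Nat.ble 18 b)) (Bool.rec (motive := fun _ => ℕ) (Bool.rec (motive := fun _ => ℕ) (j2_20) (j2_21) (Nat.ble 21 b)) (Bool.rec (motive := fun _ => ℕ) (j2_22) (j2_23) (Nat.ble 23 b)) (Nat.ble 22 b)) (Nat.ble 20 b)) (Bool.rec (motive := fun _ => ℕ) (Bool.rec (motive := fun _ => ℕ) (Bool.rec (motive := fun _ => ℕ) (j2_24) (j2_25) (Nat.ble 25 b)) (Bool.rec (motive := fun _ => ℕ) (j2_26) (j2_27) (Nat.ble 27 b)) (Nat.ble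 26 b)) (Bool.rec (motive := fun _ => ℕ) (Bool.rec (motive := fun _ => ℕ) (j2_28) (j2_29) (Nat.ble 29 b)) (Bool.rec (motive := fun _ => ℕ) (j2_30) (j2_31) (Nat.ble 31 b)) (Nat.ble 30 b)) (Nat.ble 28 b)) (Nat.ble 24 b)) (Nat.ble 16 b)) (Bool.rec (motive := fun _ => ℕ) (Bool.rec (motive := fun _ => ℕ) (Bool.rec (motive := fun _ => ℕ) (Bool.rec (motive := fun _ => ℕ) (Bool.rec (motive := fun _ => ℕ) (j2_32) (j2_33) (Nat.ble 33 b)) (Bool.rec (motive := fun _ => ℕ) (j2_34) (j2_35) (Nat.ble 35 b)) (Nat.ble 34 b)) (Bool.rec (motive := fun _ => ℕ) (Bool.rec (motive := fun _ => ℕ) (j2_36) (0) (Nat.ble 37 b)) (0) (Nat.ble 38 b)) (Nat.ble 36 b)) (0) (Nat.ble 40 b)) (0) (Nat.ble 48 b)) (Nat.ble 32 b))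
noncomputable def ecol3 (b : ℕ) : ℕ := (Bool.rec (motive := fun _ => ℕ) (Bool.rec (motive := fun _ => ℕ) (Bool.rec (motive := fun _ => ℕ) (Bool.rec (motive := fun _ => ℕ) (Bool.rec (motive := fun _ => ℕ) (Bool.rec (motive := fun _ => ℕ) (e3_0) (e3_1) (Nat.ble 1 b)) (Bool.rec (motive := fun _ => ℕ) (e3_2) (e3_3) (Nat.ble 3 b)) (Nat.ble 2 b)) (Bool.rec (motive := fun _ => ℕ) (Bool.rec (motive := fun _ => ℕ) (e3_4) (e3_5) (Nat.ble 5 b)) (Bool.rec (motive := fun _ => ℕ) (e3_6) (e3_7) (Nat.ble 7 b)) (Nat.ble 6 b)) (Nat.ble 4 b)) (Bool.rec (motive := fun _ => ℕ) (Bool.rec (motive := fun _ => ℕ) (Bool.rec (motive := fun _ => ℕ) (e3_8) (e3_9) (Nat.ble 9 b)) (Bool.rec (motive := fun _ => ℕ) (e3_10) (e3_11) (Nat.ble 11 b)) (Nat.ble 10 b)) (Bool.rec (motive := fun _ => ℕ) (Bool.rec (motive := fun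 _ => ℕ) (e3_12) (e3_13) (Nat.ble 13 b)) (Bool.rec (motive := fun _ => ℕ) (e3_14) (e3_15) (Nat.ble 15 b)) (Nat.ble 14 b)) (Nat.ble 12 b)) (Nat.ble 8 b)) (Bool.rec (motive := fun _ => ℕ) (Bool.rec (motive := fun _ => ℕ) (Bool.rec (motive := fun _ => ℕ) (Bool.rec (motive := fun _ => ℕ) (e3_16) (e3_17) (Nat.ble 17 b)) (Bool.rec (motive := fun _ => ℕ) (e3_18) (e3_19) (Nat.ble 19 b)) (Nat.ble 18 b)) (Bool.rec (motive := fun _ => ℕ) (Bool.rec (motive := fun _ => ℕ) (e3_20) (e3_21) (Nat.ble 21 b)) (Bool.rec (motive := fun _ => ℕ) (e3_22) (e3_23) (Nat.ble 23 b)) (Nat.ble 22 b)) (Nat.ble 20 b)) (Bool.rec (motive := fun _ => ℕ) (Bool.rec (motive := fun _ => ℕ) (Bool.rec (motive := fun _ => ℕ) (e3_24) (e3_25) (Nat.ble 25 b)) (Bool.rec (motive := fun _ => ℕ) (e3_26) (e3_27) (Nat.ble 27 b)) (Nat.ble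 26 b)) (Bool.rec (motive := fun _ => ℕ) (Bool.rec (motive := fun _ => ℕ) (e3_28) (e3_29) (Nat.ble 29 b)) (Bool.rec (motive := fun _ => ℕ) (e3_30) (e3_31) (Nat.ble 31 b)) (Nat.ble 30 b)) (Nat.ble 28 b)) (Nat.ble 24 b)) (Nat.ble 16 b)) (Bool.rec (motive := fun _ => ℕ) (Bool.rec (motive := fun _ => ℕ) (Bool.rec (motive := fun _ => ℕ) (Bool.rec (motive := fun _ => ℕ) (Bool.rec (motive := fun _ => ℕ) (e3_32) (e3_33) (Nat.ble 33 b)) (Bool.rec (motive := fun _ => ℕ) (e3_34) (e3_35) (Nat.ble 35 b)) (Nat.ble 34 b)) (Bool.rec (motive := fun _ => ℕ) (Bool.rec (motive := fun _ => ℕ) (e3_36) (0) (Nat.ble 37 b)) (0) (Nat.ble 38 b)) (Nat.ble 36 b)) (0) (Nat.ble 40 b)) (0) (Nat.ble 48 b)) (Nat.ble 32 b))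
noncomputable def jcol3 (b : ℕ) : ℕ := (Bool.rec (motive := fun _ => ℕ) (Bool.rec (motive := fun _ => ℕ) (Bool.rec (motive := fun _ => ℕ) (Bool.rec (motive := fun _ => ℕ) (Bool.rec (motive := fun _ => ℕ) (Bool.rec (motive := fun _ => ℕ) (j3_0) (j3_1) (Nat.ble 1 b)) (Bool.rec (motive := fun _ => ℕ) (j3_2) (j3_3) (Nat.ble 3 b)) (Nat.ble 2 b)) (Bool.rec (motive := fun _ => ℕ) (Bool.rec (motive := fun _ => ℕ) (j3_4) (j3_5) (Nat.ble 5 b)) (Bool.rec (motive := fun _ => ℕ) (j3_6) (j3_7) (Nat.ble 7 b)) (Nat.ble 6 b)) (Nat.ble 4 b)) (Bool.rec (motive := fun _ => ℕ) (Bool.rec (motive := fun _ => ℕ) (Bool.rec (motive := fun _ => ℕ) (j3_8) (j3_9) (Nat.ble 9 b)) (Bool.rec (motive := fun _ => ℕ) (j3_10) (j3_11) (Nat.ble 11 b)) (Nat.ble 10 b)) (Bool.rec (motive := fun _ => ℕ) (Bool.rec (motive := fun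 _ => ℕ) (j3_12) (j3_13) (Nat.ble 13 b)) (Bool.rec (motive := fun _ => ℕ) (j3_14) (j3_15) (Nat.ble 15 b)) (Nat.ble 14 b)) (Nat.ble 12 b)) (Nat.ble 8 b)) (Bool.rec (motive := fun _ => ℕ) (Bool.rec (motive := fun _ => ℕ) (Bool.rec (motive := fun _ => ℕ) (Bool.rec (motive := fun _ => ℕ) (j3_16) (j3_17) (Nat.ble 17 b)) (Bool.rec (motive := fun _ => ℕ) (j3_18) (j3_19) (Nat.ble 19 b)) (Nat.ble 18 b)) (Bool.rec (motive := fun _ => ℕ) (Bool.rec (motive := fun _ => ℕ) (j3_20) (j3_21) (Nat.ble 21 b)) (Bool.rec (motive := fun _ => ℕ) (j3_22) (j3_23) (Nat.ble 23 b)) (Nat.ble 22 b)) (Nat.ble 20 b)) (Bool.rec (motive := fun _ => ℕ) (Bool.rec (motive := fun _ => ℕ) (Bool.rec (motive := fun _ => ℕ) (j3_24) (j3_25) (Nat.ble 25 b)) (Bool.rec (motive := fun _ => ℕ) (j3_26) (j3_27) (Nat.ble 27 b)) (Nat.ble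 26 b)) (Bool.rec (motive := fun _ => ℕ) (Bool.rec (motive := fun _ => ℕ) (j3_28) (j3_29) (Nat.ble 29 b)) (Bool.rec (motive := fun _ => ℕ) (j3_30) (j3_31) (Nat.ble 31 b)) (Nat.ble 30 b)) (Nat.ble 28 b)) (Nat.ble 24 b)) (Nat.ble 16 b)) (Bool.rec (motive := fun _ => ℕ) (Bool.rec (motive := fun _ => ℕ) (Bool.rec (motive := fun _ => ℕ) (Bool.rec (motive := fun _ => ℕ) (Bool.rec (motive := fun _ => ℕ) (j3_32) (j3_33) (Nat.ble 33 b)) (Bool.rec (motive := fun _ => ℕ) (j3_34) (j3_35) (Nat.ble 35 b)) (Nat.ble 34 b)) (Bool.rec (motive := fun _ => ℕ) (Bool.rec (motive := fun _ => ℕ) (j3_36) (0) (Nat.ble 37 b)) (0) (Nat.ble 38 b)) (Nat.ble 36 b)) (0) (Nat.ble 40 b)) (0) (Nat.ble 48 b)) (Nat.ble 32 b))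
noncomputable def ecol4 (b : ℕ) : ℕ := (Bool.rec (motive := fun _ => ℕ) (Bool.rec (motive := fun _ => ℕ) (Bool.rec (motive := fun _ => ℕ) (Bool.rec (motive := fun _ => ℕ) (Bool.rec (motive := fun _ => ℕ) (Bool.rec (motive := fun _ => ℕ) (e4_0) (e4_1) (Nat.ble 1 b)) (Bool.rec (motive := fun _ => ℕ) (e4_2) (e4_3) (Nat.ble 3 b)) (Nat.ble 2 b)) (Bool.rec (motive := fun _ => ℕ) (Bool.rec (motive := fun _ => ℕ) (e4_4) (e4_5) (Nat.ble 5 b)) (Bool.rec (motive := fun _ => ℕ) (e4_6) (e4_7) (Nat.ble 7 b)) (Nat.ble 6 b)) (Nat.ble 4 b)) (Bool.rec (motive := fun _ => ℕ) (Bool.rec (motive := fun _ => ℕ) (Bool.rec (motive := fun _ => ℕ) (e4_8) (e4_9) (Nat.ble 9 b)) (Bool.rec (motive := fun _ => ℕ) (e4_10) (e4_11) (Nat.ble 11 b)) (Nat.ble 10 b)) (Bool.rec (motive := fun _ => ℕ) (Bool.rec (motive := fun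 _ => ℕ) (e4_12) (e4_13) (Nat.ble 13 b)) (Bool.rec (motive := fun _ => ℕ) (e4_14) (e4_15) (Nat.ble 15 b)) (Nat.ble 14 b)) (Nat.ble 12 b)) (Nat.ble 8 b)) (Bool.rec (motive := fun _ => ℕ) (Bool.rec (motive := fun _ => ℕ) (Bool.rec (motive := fun _ => ℕ) (Bool.rec (motive := fun _ => ℕ) (e4_16) (e4_17) (Nat.ble 17 b)) (Bool.rec (motive := fun _ => ℕ) (e4_18) (e4_19) (Nat.ble 19 b)) (Nat.ble 18 b)) (Bool.rec (motive := fun _ => ℕ) (Bool.rec (motive := fun _ => ℕ) (e4_20) (e4_21) (Nat.ble 21 b)) (Bool.rec (motive := fun _ => ℕ) (e4_22) (e4_23) (Nat.ble 23 b)) (Nat.ble 22 b)) (Nat.ble 20 b)) (Bool.rec (motive := fun _ => ℕ) (Bool.rec (motive := fun _ => ℕ) (Bool.rec (motive := fun _ => ℕ) (e4_24) (e4_25) (Nat.ble 25 b)) (Bool.rec (motive := fun _ => ℕ) (e4_26) (e4_27) (Nat.ble 27 b)) (Nat.ble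 26 b)) (Bool.rec (motive := fun _ => ℕ) (Bool.rec (motive := fun _ => ℕ) (e4_28) (e4_29) (Nat.ble 29 b)) (Bool.rec (motive := fun _ => ℕ) (e4_30) (e4_31) (Nat.ble 31 b)) (Nat.ble 30 b)) (Nat.ble 28 b)) (Nat.ble 24 b)) (Nat.ble 16 b)) (Bool.rec (motive := fun _ => ℕ) (Bool.rec (motive := fun _ => ℕ) (Bool.rec (motive := fun _ => ℕ) (Bool.rec (motive := fun _ => ℕ) (Bool.rec (motive := fun _ => ℕ) (e4_32) (e4_33) (Nat.ble 33 b)) (Bool.rec (motive := fun _ => ℕ) (e4_34) (e4_35) (Nat.ble 35 b)) (Nat.ble 34 b)) (Bool.rec (motive := fun _ => ℕ) (Bool.rec (motive := fun _ => ℕ) (e4_36) (0) (Nat.ble 37 b)) (0) (Nat.ble 38 b)) (Nat.ble 36 b)) (0) (Nat.ble 40 b)) (0) (Nat.ble 48 b)) (Nat.ble 32 b))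
noncomputable def jcol4 (b : ℕ) : ℕ := (Bool.rec (motive := fun _ => ℕ) (Bool.rec (motive := fun _ => ℕ) (Bool.rec (motive := fun _ => ℕ) (Bool.rec (motive := fun _ => ℕ) (Bool.rec (motive := fun _ => ℕ) (Bool.rec (motive := fun _ => ℕ) (j4_0) (j4_1) (Nat.ble 1 b)) (Bool.rec (motive := fun _ => ℕ) (j4_2) (j4_3) (Nat.ble 3 b)) (Nat.ble 2 b)) (Bool.rec (motive := fun _ => ℕ) (Bool.rec (motive := fun _ => ℕ) (j4_4) (j4_5) (Nat.ble 5 b)) (Bool.rec (motive := fun _ => ℕ) (j4_6) (j4_7) (Nat.ble 7 b)) (Nat.ble 6 b)) (Nat.ble 4 b)) (Bool.rec (motive := fun _ => ℕ) (Bool.rec (motive := fun _ => ℕ) (Bool.rec (motive := fun _ => ℕ) (j4_8) (j4_9) (Nat.ble 9 b)) (Bool.rec (motive := fun _ => ℕ) (j4_10) (j4_11) (Nat.ble 11 b)) (Nat.ble 10 b)) (Bool.rec (motive := fun _ => ℕ) (Bool.rec (motive := fun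 _ => ℕ) (j4_12) (j4_13) (Nat.ble 13 b)) (Bool.rec (motive := fun _ => ℕ) (j4_14) (j4_15) (Nat.ble 15 b)) (Nat.ble 14 b)) (Nat.ble 12 b)) (Nat.ble 8 b)) (Bool.rec (motive := fun _ => ℕ) (Bool.rec (motive := fun _ => ℕ) (Bool.rec (motive := fun _ => ℕ) (Bool.rec (motive := fun _ => ℕ) (j4_16) (j4_17) (Nat.ble 17 b)) (Bool.rec (motive := fun _ => ℕ) (j4_18) (j4_19) (Nat.ble 19 b)) (Nat.ble 18 b)) (Bool.rec (motive := fun _ => ℕ) (Bool.rec (motive := fun _ => ℕ) (j4_20) (j4_21) (Nat.ble 21 b)) (Bool.rec (motive := fun _ => ℕ) (j4_22) (j4_23) (Nat.ble 23 b)) (Nat.ble 22 b)) (Nat.ble 20 b)) (Bool.rec (motive := fun _ => ℕ) (Bool.rec (motive := fun _ => ℕ) (Bool.rec (motive := fun _ => ℕ) (j4_24) (j4_25) (Nat.ble 25 b)) (Bool.rec (motive := fun _ => ℕ) (j4_26) (j4_27) (Nat.ble 27 b)) (Nat.ble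 26 b)) (Bool.rec (motive := fun _ => ℕ) (Bool.rec (motive := fun _ => ℕ) (j4_28) (j4_29) (Nat.ble 29 b)) (Bool.rec (motive := fun _ => ℕ) (j4_30) (j4_31) (Nat.ble 31 b)) (Nat.ble 30 b)) (Nat.ble 28 b)) (Nat.ble 24 b)) (Nat.ble 16 b)) (Bool.rec (motive := fun _ => ℕ) (Bool.rec (motive := fun _ => ℕ) (Bool.rec (motive := fun _ => ℕ) (Bool.rec (motive := fun _ => ℕ) (Bool.rec (motive := fun _ => ℕ) (j4_32) (j4_33) (Nat.ble 33 b)) (Bool.rec (motive := fun _ => ℕ) (j4_34) (j4_35) (Nat.ble 35 b)) (Nat.ble 34 b)) (Bool.rec (motive := fun _ => ℕ) (Bool.rec (motive := fun _ => ℕ) (j4_36) (0) (Nat.ble 37 b)) (0) (Nat.ble 38 b)) (Nat.ble 36 b)) (0) (Nat.ble 40 b)) (0) (Nat.ble 48 b)) (Nat.ble 32 b))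
noncomputable def ecol5 (b : ℕ) : ℕ := (Bool.rec (motive := fun _ => ℕ) (Bool.rec (motive := fun _ => ℕ) (Bool.rec (motive := fun _ => ℕ) (Bool.rec (motive := fun _ => ℕ) (Bool.rec (motive := fun _ => ℕ) (Bool.rec (motive := fun _ => ℕ) (e5_0) (e5_1) (Nat.ble 1 b)) (Bool.rec (motive := fun _ => ℕ) (e5_2) (e5_3) (Nat.ble 3 b)) (Nat.ble 2 b)) (Bool.rec (motive := fun _ => ℕ) (Bool.rec (motive := fun _ => ℕ) (e5_4) (e5_5) (Nat.ble 5 b)) (Bool.rec (motive := fun _ => ℕ) (e5_6) (e5_7) (Nat.ble 7 b)) (Nat.ble 6 b)) (Nat.ble 4 b)) (Bool.rec (motive := fun _ => ℕ) (Bool.rec (motive := fun _ => ℕ) (Bool.rec (motive := fun _ => ℕ) (e5_8) (e5_9) (Nat.ble 9 b)) (Bool.rec (motive := fun _ => ℕ) (e5_10) (e5_11) (Nat.ble 11 b)) (Nat.ble 10 b)) (Bool.rec (motive := fun _ => ℕ) (Bool.rec (motive := fun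 _ => ℕ) (e5_12) (e5_13) (Nat.ble 13 b)) (Bool.rec (motive := fun _ => ℕ) (e5_14) (e5_15) (Nat.ble 15 b)) (Nat.ble 14 b)) (Nat.ble 12 b)) (Nat.ble 8 b)) (Bool.rec (motive := fun _ => ℕ) (Bool.rec (motive := fun _ => ℕ) (Bool.rec (motive := fun _ => ℕ) (Bool.rec (motive := fun _ => ℕ) (e5_16) (e5_17) (Nat.ble 17 b)) (Bool.rec (motive := fun _ => ℕ) (e5_18) (e5_19) (Nat.ble 19 b)) (Nat.ble 18 b)) (Bool.rec (motive := fun _ => ℕ) (Bool.rec (motive := fun _ => ℕ) (e5_20) (e5_21) (Nat.ble 21 b)) (Bool.rec (motive := fun _ => ℕ) (e5_22) (e5_23) (Nat.ble 23 b)) (Nat.ble 22 b)) (Nat.ble 20 b)) (Bool.rec (motive := fun _ => ℕ) (Bool.rec (motive := fun _ => ℕ) (Bool.rec (motive := fun _ => ℕ) (e5_24) (e5_25) (Nat.ble 25 b)) (Bool.rec (motive := fun _ => ℕ) (e5_26) (e5_27) (Nat.ble 27 b)) (Nat.ble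 26 b)) (Bool.rec (motive := fun _ => ℕ) (Bool.rec (motive := fun _ => ℕ) (e5_28) (e5_29) (Nat.ble 29 b)) (Bool.rec (motive := fun _ => ℕ) (e5_30) (e5_31) (Nat.ble 31 b)) (Nat.ble 30 b)) (Nat.ble 28 b)) (Nat.ble 24 b)) (Nat.ble 16 b)) (Bool.rec (motive := fun _ => ℕ) (Bool.rec (motive := fun _ => ℕ) (Bool.rec (motive := fun _ => ℕ) (Bool.rec (motive := fun _ => ℕ) (Bool.rec (motive := fun _ => ℕ) (e5_32) (e5_33) (Nat.ble 33 b)) (Bool.rec (motive := fun _ => ℕ) (e5_34) (e5_35) (Nat.ble 35 b)) (Nat.ble 34 b)) (Bool.rec (motive := fun _ => ℕ) (Bool.rec (motive := fun _ => ℕ) (e5_36) (0) (Nat.ble 37 b)) (0) (Nat.ble 38 b)) (Nat.ble 36 b)) (0) (Nat.ble 40 b)) (0) (Nat.ble 48 b)) (Nat.ble 32 b))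
noncomputable def jcol5 (b : ℕ) : ℕ := (Bool.rec (motive := fun _ => ℕ) (Bool.rec (motive := fun _ => ℕ) (Bool.rec (motive := fun _ => ℕ) (Bool.rec (motive := fun _ => ℕ) (Bool.rec (motive := fun _ => ℕ) (Bool.rec (motive := fun _ => ℕ) (j5_0) (j5_1) (Nat.ble 1 b)) (Bool.rec (motive := fun _ => ℕ) (j5_2) (j5_3) (Nat.ble 3 b)) (Nat.ble 2 b)) (Bool.rec (motive := fun _ => ℕ) (Bool.rec (motive := fun _ => ℕ) (j5_4) (j5_5) (Nat.ble 5 b)) (Bool.rec (motive := fun _ => ℕ) (j5_6) (j5_7) (Nat.ble 7 b)) (Nat.ble 6 b)) (Nat.ble 4 b)) (Bool.rec (motive := fun _ => ℕ) (Bool.rec (motive := fun _ => ℕ) (Bool.rec (motive := fun _ => ℕ) (j5_8) (j5_9) (Nat.ble 9 b)) (Bool.rec (motive := fun _ => ℕ) (j5_10) (j5_11) (Nat.ble 11 b)) (Nat.ble 10 b)) (Bool.rec (motive := fun _ => ℕ) (Bool.rec (motive := fun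 _ => ℕ) (j5_12) (j5_13) (Nat.ble 13 b)) (Bool.rec (motive := fun _ => ℕ) (j5_14) (j5_15) (Nat.ble 15 b)) (Nat.ble 14 b)) (Nat.ble 12 b)) (Nat.ble 8 b)) (Bool.rec (motive := fun _ => ℕ) (Bool.rec (motive := fun _ => ℕ) (Bool.rec (motive := fun _ => ℕ) (Bool.rec (motive := fun _ => ℕ) (j5_16) (j5_17) (Nat.ble 17 b)) (Bool.rec (motive := fun _ => ℕ) (j5_18) (j5_19) (Nat.ble 19 b)) (Nat.ble 18 b)) (Bool.rec (motive := fun _ => ℕ) (Bool.rec (motive := fun _ => ℕ) (j5_20) (j5_21) (Nat.ble 21 b)) (Bool.rec (motive := fun _ => ℕ) (j5_22) (j5_23) (Nat.ble 23 b)) (Nat.ble 22 b)) (Nat.ble 20 b)) (Bool.rec (motive := fun _ => ℕ) (Bool.rec (motive := fun _ => ℕ) (Bool.rec (motive := fun _ => ℕ) (j5_24) (j5_25) (Nat.ble 25 b)) (Bool.rec (motive := fun _ => ℕ) (j5_26) (j5_27) (Nat.ble 27 b)) (Nat.ble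 26 b)) (Bool.rec (motive := fun _ => ℕ) (Bool.rec (motive := fun _ => ℕ) (j5_28) (j5_29) (Nat.ble 29 b)) (Bool.rec (motive := fun _ => ℕ) (j5_30) (j5_31) (Nat.ble 31 b)) (Nat.ble 30 b)) (Nat.ble 28 b)) (Nat.ble 24 b)) (Nat.ble 16 b)) (Bool.rec (motive := fun _ => ℕ) (Bool.rec (motive := fun _ => ℕ) (Bool.rec (motive := fun _ => ℕ) (Bool.rec (motive := fun _ => ℕ) (Bool.rec (motive := fun _ => ℕ) (j5_32) (j5_33) (Nat.ble 33 b)) (Bool.rec (motive := fun _ => ℕ) (j5_34) (j5_35) (Nat.ble 35 b)) (Nat.ble 34 b)) (Bool.rec (motive := fun _ => ℕ) (Bool.rec (motive := fun _ => ℕ) (j5_36) (0) (Nat.ble 37 b)) (0) (Nat.ble 38 b)) (Nat.ble 36 b)) (0) (Nat.ble 40 b)) (0) (Nat.ble 48 b)) (Nat.ble 32 b))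
noncomputable def ecol6 (b : ℕ) : ℕ := (Bool.rec (motive := fun _ => ℕ) (Bool.rec (motive := fun _ => ℕ) (Bool.rec (motive := fun _ => ℕ) (Bool.rec (motive := fun _ => ℕ) (Bool.rec (motive := fun _ => ℕ) (Bool.rec (motive := fun _ => ℕ) (e6_0) (e6_1) (Nat.ble 1 b)) (Bool.rec (motive := fun _ => ℕ) (e6_2) (e6_3) (Nat.ble 3 b)) (Nat.ble 2 b)) (Bool.rec (motive := fun _ => ℕ) (Bool.rec (motive := fun _ => ℕ) (e6_4) (e6_5) (Nat.ble 5 b)) (Bool.rec (motive := fun _ => ℕ) (e6_6) (e6_7) (Nat.ble 7 b)) (Nat.ble 6 b)) (Nat.ble 4 b)) (Bool.rec (motive := fun _ => ℕ) (Bool.rec (motive := fun _ => ℕ) (Bool.rec (motive := fun _ => ℕ) (e6_8) (e6_9) (Nat.ble 9 b)) (Bool.rec (motive := fun _ => ℕ) (e6_10) (e6_11) (Nat.ble 11 b)) (Nat.ble 10 b)) (Bool.rec (motive := fun _ => ℕ) (Bool.rec (motive := fun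 _ => ℕ) (e6_12) (e6_13) (Nat.ble 13 b)) (Bool.rec (motive := fun _ => ℕ) (e6_14) (e6_15) (Nat.ble 15 b)) (Nat.ble 14 b)) (Nat.ble 12 b)) (Nat.ble 8 b)) (Bool.rec (motive := fun _ => ℕ) (Bool.rec (motive := fun _ => ℕ) (Bool.rec (motive := fun _ => ℕ) (Bool.rec (motive := fun _ => ℕ) (e6_16) (e6_17) (Nat.ble 17 b)) (Bool.rec (motive := fun _ => ℕ) (e6_18) (e6_19) (Nat.ble 19 b)) (Nat.ble 18 b)) (Bool.rec (motive := fun _ => ℕ) (Bool.rec (motive := fun _ => ℕ) (e6_20) (e6_21) (Nat.ble 21 b)) (Bool.rec (motive := fun _ => ℕ) (e6_22) (e6_23) (Nat.ble 23 b)) (Nat.ble 22 b)) (Nat.ble 20 b)) (Bool.rec (motive := fun _ => ℕ) (Bool.rec (motive := fun _ => ℕ) (Bool.rec (motive := fun _ => ℕ) (e6_24) (e6_25) (Nat.ble 25 b)) (Bool.rec (motive := fun _ => ℕ) (e6_26) (e6_27) (Nat.ble 27 b)) (Nat.ble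 26 b)) (Bool.rec (motive := fun _ => ℕ) (Bool.rec (motive := fun _ => ℕ) (e6_28) (e6_29) (Nat.ble 29 b)) (Bool.rec (motive := fun _ => ℕ) (e6_30) (e6_31) (Nat.ble 31 b)) (Nat.ble 30 b)) (Nat.ble 28 b)) (Nat.ble 24 b)) (Nat.ble 16 b)) (Bool.rec (motive := fun _ => ℕ) (Bool.rec (motive := fun _ => ℕ) (Bool.rec (motive := fun _ => ℕ) (Bool.rec (motive := fun _ => ℕ) (Bool.rec (motive := fun _ => ℕ) (e6_32) (e6_33) (Nat.ble 33 b)) (Bool.rec (motive := fun _ => ℕ) (e6_34) (e6_35) (Nat.ble 35 b)) (Nat.ble 34 b)) (Bool.rec (motive := fun _ => ℕ) (Bool.rec (motive := fun _ => ℕ) (e6_36) (0) (Nat.ble 37 b)) (0) (Nat.ble 38 b)) (Nat.ble 36 b)) (0) (Nat.ble 40 b)) (0) (Nat.ble 48 b)) (Nat.ble 32 b))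
noncomputable def jcol6 (b : ℕ) : ℕ := (Bool.rec (motive := fun _ => ℕ) (Bool.rec (motive := fun _ => ℕ) (Bool.rec (motive := fun _ => ℕ) (Bool.rec (motive := fun _ => ℕ) (Bool.rec (motive := fun _ => ℕ) (Bool.rec (motive := fun _ => ℕ) (j6_0) (j6_1) (Nat.ble 1 b)) (Bool.rec (motive := fun _ => ℕ) (j6_2) (j6_3) (Nat.ble 3 b)) (Nat.ble 2 b)) (Bool.rec (motive := fun _ => ℕ) (Bool.rec (motive := fun _ => ℕ) (j6_4) (j6_5) (Nat.ble 5 b)) (Bool.rec (motive := fun _ => ℕ) (j6_6) (j6_7) (Nat.ble 7 b)) (Nat.ble 6 b)) (Nat.ble 4 b)) (Bool.rec (motive := fun _ => ℕ) (Bool.rec (motive := fun _ => ℕ) (Bool.rec (motive := fun _ => ℕ) (j6_8) (j6_9) (Nat.ble 9 b)) (Bool.rec (motive := fun _ => ℕ) (j6_10) (j6_11) (Nat.ble 11 b)) (Nat.ble 10 b)) (Bool.rec (motive := fun _ => ℕ) (Bool.rec (motive := fun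 _ => ℕ) (j6_12) (j6_13) (Nat.ble 13 b)) (Bool.rec (motive := fun _ => ℕ) (j6_14) (j6_15) (Nat.ble 15 b)) (Nat.ble 14 b)) (Nat.ble 12 b)) (Nat.ble 8 b)) (Bool.rec (motive := fun _ => ℕ) (Bool.rec (motive := fun _ => ℕ) (Bool.rec (motive := fun _ => ℕ) (Bool.rec (motive := fun _ => ℕ) (j6_16) (j6_17) (Nat.ble 17 b)) (Bool.rec (motive := fun _ => ℕ) (j6_18) (j6_19) (Nat.ble 19 b)) (Nat.ble 18 b)) (Bool.rec (motive := fun _ => ℕ) (Bool.rec (motive := fun _ => ℕ) (j6_20) (j6_21) (Nat.ble 21 b)) (Bool.rec (motive := fun _ => ℕ) (j6_22) (j6_23) (Nat.ble 23 b)) (Nat.ble 22 b)) (Nat.ble 20 b)) (Bool.rec (motive := fun _ => ℕ) (Bool.rec (motive := fun _ => ℕ) (Bool.rec (motive := fun _ => ℕ) (j6_24) (j6_25) (Nat.ble 25 b)) (Bool.rec (motive := fun _ => ℕ) (j6_26) (j6_27) (Nat.ble 27 b)) (Nat.ble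 26 b)) (Bool.rec (motive := fun _ => ℕ) (Bool.rec (motive := fun _ => ℕ) (j6_28) (j6_29) (Nat.ble 29 b)) (Bool.rec (motive := fun _ => ℕ) (j6_30) (j6_31) (Nat.ble 31 b)) (Nat.ble 30 b)) (Nat.ble 28 b)) (Nat.ble 24 b)) (Nat.ble 16 b)) (Bool.rec (motive := fun _ => ℕ) (Bool.rec (motive := fun _ => ℕ) (Bool.rec (motive := fun _ => ℕ) (Bool.rec (motive := fun _ => ℕ) (Bool.rec (motive := fun _ => ℕ) (j6_32) (j6_33) (Nat.ble 33 b)) (Bool.rec (motive := fun _ => ℕ) (j6_34) (j6_35) (Nat.ble 35 b)) (Nat.ble 34 b)) (Bool.rec (motive := fun _ => ℕ) (Bool.rec (motive := fun _ => ℕ) (j6_36) (0) (Nat.ble 37 b)) (0) (Nat.ble 38 b)) (Nat.ble 36 b)) (0) (Nat.ble 40 b)) (0) (Nat.ble 48 b)) (Nat.ble 32 b))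
noncomputable def ecol7 (b : ℕ) : ℕ := (Bool.rec (motive := fun _ => ℕ) (Bool.rec (motive := fun _ => ℕ) (Bool.rec (motive := fun _ => ℕ) (Bool.rec (motive := fun _ => ℕ) (Bool.rec (motive := fun _ => ℕ) (Bool.rec (motive := fun _ => ℕ) (e7_0) (e7_1) (Nat.ble 1 b)) (Bool.rec (motive := fun _ => ℕ) (e7_2) (e7_3) (Nat.ble 3 b)) (Nat.ble 2 b)) (Bool.rec (motive := fun _ => ℕ) (Bool.rec (motive := fun _ => ℕ) (e7_4) (e7_5) (Nat.ble 5 b)) (Bool.rec (motive := fun _ => ℕ) (e7_6) (e7_7) (Nat.ble 7 b)) (Nat.ble 6 b)) (Nat.ble 4 b)) (Bool.rec (motive := fun _ => ℕ) (Bool.rec (motive := fun _ => ℕ) (Bool.rec (motive := fun _ => ℕ) (e7_8) (e7_9) (Nat.ble 9 b)) (Bool.rec (motive := fun _ => ℕ) (e7_10) (e7_11) (Nat.ble 11 b)) (Nat.ble 10 b)) (Bool.rec (motive := fun _ => ℕ) (Bool.rec (motive := fun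 _ => ℕ) (e7_12) (e7_13) (Nat.ble 13 b)) (Bool.rec (motive := fun _ => ℕ) (e7_14) (e7_15) (Nat.ble 15 b)) (Nat.ble 14 b)) (Nat.ble 12 b)) (Nat.ble 8 b)) (Bool.rec (motive := fun _ => ℕ) (Bool.rec (motive := fun _ => ℕ) (Bool.rec (motive := fun _ => ℕ) (Bool.rec (motive := fun _ => ℕ) (e7_16) (e7_17) (Nat.ble 17 b)) (Bool.rec (motive := fun _ => ℕ) (e7_18) (e7_19) (Nat.ble 19 b)) (Nat.ble 18 b)) (Bool.rec (motive := fun _ => ℕ) (Bool.rec (motive := fun _ => ℕ) (e7_20) (e7_21) (Nat.ble 21 b)) (Bool.rec (motive := fun _ => ℕ) (e7_22) (e7_23) (Nat.ble 23 b)) (Nat.ble 22 b)) (Nat.ble 20 b)) (Bool.rec (motive := fun _ => ℕ) (Bool.rec (motive := fun _ => ℕ) (Bool.rec (motive := fun _ => ℕ) (e7_24) (e7_25) (Nat.ble 25 b)) (Bool.rec (motive := fun _ => ℕ) (e7_26) (e7_27) (Nat.ble 27 b)) (Nat.ble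 26 b)) (Bool.rec (motive := fun _ => ℕ) (Bool.rec (motive := fun _ => ℕ) (e7_28) (e7_29) (Nat.ble 29 b)) (Bool.rec (motive := fun _ => ℕ) (e7_30) (e7_31) (Nat.ble 31 b)) (Nat.ble 30 b)) (Nat.ble 28 b)) (Nat.ble 24 b)) (Nat.ble 16 b)) (Bool.rec (motive := fun _ => ℕ) (Bool.rec (motive := fun _ => ℕ) (Bool.rec (motive := fun _ => ℕ) (Bool.rec (motive := fun _ => ℕ) (Bool.rec (motive := fun _ => ℕ) (e7_32) (e7_33) (Nat.ble 33 b)) (Bool.rec (motive := fun _ => ℕ) (e7_34) (e7_35) (Nat.ble 35 b)) (Nat.ble 34 b)) (Bool.rec (motive := fun _ => ℕ) (Bool.rec (motive := fun _ => ℕ) (e7_36) (0) (Nat.ble 37 b)) (0) (Nat.ble 38 b)) (Nat.ble 36 b)) (0) (Nat.ble 40 b)) (0) (Nat.ble 48 b)) (Nat.ble 32 b))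
noncomputable def jcol7 (b : ℕ) : ℕ := (Bool.rec (motive := fun _ => ℕ) (Bool.rec (motive := fun _ => ℕ) (Bool.rec (motive := fun _ => ℕ) (Bool.rec (motive := fun _ => ℕ) (Bool.rec (motive := fun _ => ℕ) (Bool.rec (motive := fun _ => ℕ) (j7_0) (j7_1) (Nat.ble 1 b)) (Bool.rec (motive := fun _ => ℕ) (j7_2) (j7_3) (Nat.ble 3 b)) (Nat.ble 2 b)) (Bool.rec (motive := fun _ => ℕ) (Bool.rec (motive := fun _ => ℕ) (j7_4) (j7_5) (Nat.ble 5 b)) (Bool.rec (motive := fun _ => ℕ) (j7_6) (j7_7) (Nat.ble 7 b)) (Nat.ble 6 b)) (Nat.ble 4 b)) (Bool.rec (motive := fun _ => ℕ) (Bool.rec (motive := fun _ => ℕ) (Bool.rec (motive := fun _ => ℕ) (j7_8) (j7_9) (Nat.ble 9 b)) (Bool.rec (motive := fun _ => ℕ) (j7_10) (j7_11) (Nat.ble 11 b)) (Nat.ble 10 b)) (Bool.rec (motive := fun _ => ℕ) (Bool.rec (motive := fun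 _ => ℕ) (j7_12) (j7_13) (Nat.ble 13 b)) (Bool.rec (motive := fun _ => ℕ) (j7_14) (j7_15) (Nat.ble 15 b)) (Nat.ble 14 b)) (Nat.ble 12 b)) (Nat.ble 8 b)) (Bool.rec (motive := fun _ => ℕ) (Bool.rec (motive := fun _ => ℕ) (Bool.rec (motive := fun _ => ℕ) (Bool.rec (motive := fun _ => ℕ) (j7_16) (j7_17) (Nat.ble 17 b)) (Bool.rec (motive := fun _ => ℕ) (j7_18) (j7_19) (Nat.ble 19 b)) (Nat.ble 18 b)) (Bool.rec (motive := fun _ => ℕ) (Bool.rec (motive := fun _ => ℕ) (j7_20) (j7_21) (Nat.ble 21 b)) (Bool.rec (motive := fun _ => ℕ) (j7_22) (j7_23) (Nat.ble 23 b)) (Nat.ble 22 b)) (Nat.ble 20 b)) (Bool.rec (motive := fun _ => ℕ) (Bool.rec (motive := fun _ => ℕ) (Bool.rec (motive := fun _ => ℕ) (j7_24) (j7_25) (Nat.ble 25 b)) (Bool.rec (motive := fun _ => ℕ) (j7_26) (j7_27) (Nat.ble 27 b)) (Nat.ble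 26 b)) (Bool.rec (motive := fun _ => ℕ) (Bool.rec (motive := fun _ => ℕ) (j7_28) (j7_29) (Nat.ble 29 b)) (Bool.rec (motive := fun _ => ℕ) (j7_30) (j7_31) (Nat.ble 31 b)) (Nat.ble 30 b)) (Nat.ble 28 b)) (Nat.ble 24 b)) (Nat.ble 16 b)) (Bool.rec (motive := fun _ => ℕ) (Bool.rec (motive := fun _ => ℕ) (Bool.rec (motive := fun _ => ℕ) (Bool.rec (motive := fun _ => ℕ) (Bool.rec (motive := fun _ => ℕ) (j7_32) (j7_33) (Nat.ble 33 b)) (Bool.rec (motive := fun _ => ℕ) (j7_34) (j7_35) (Nat.ble 35 b)) (Nat.ble 34 b)) (Bool.rec (motive := fun _ => ℕ) (Bool.rec (motive := fun _ => ℕ) (j7_36) (0) (Nat.ble 37 b)) (0) (Nat.ble 38 b)) (Nat.ble 36 b)) (0) (Nat.ble 40 b)) (0) (Nat.ble 48 b)) (Nat.ble 32 b))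
noncomputable def ecol8 (b : ℕ) : ℕ := (Bool.rec (motive := fun _ => ℕ) (Bool.rec (motive := fun _ => ℕ) (Bool.rec (motive := fun _ => ℕ) (Bool.rec (motive := fun _ => ℕ) (Bool.rec (motive := fun _ => ℕ) (Bool.rec (motive := fun _ => ℕ) (e8_0) (e8_1) (Nat.ble 1 b)) (Bool.rec (motive := fun _ => ℕ) (e8_2) (e8_3) (Nat.ble 3 b)) (Nat.ble 2 b)) (Bool.rec (motive := fun _ => ℕ) (Bool.rec (motive := fun _ => ℕ) (e8_4) (e8_5) (Nat.ble 5 b)) (Bool.rec (motive := fun _ => ℕ) (e8_6) (e8_7) (Nat.ble 7 b)) (Nat.ble 6 b)) (Nat.ble 4 b)) (Bool.rec (motive := fun _ => ℕ) (Bool.rec (motive := fun _ => ℕ) (Bool.rec (motive := fun _ => ℕ) (e8_8) (e8_9) (Nat.ble 9 b)) (Bool.rec (motive := fun _ => ℕ) (e8_10) (e8_11) (Nat.ble 11 b)) (Nat.ble 10 b)) (Bool.rec (motive := fun _ => ℕ) (Bool.rec (motive := fun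 _ => ℕ) (e8_12) (e8_13) (Nat.ble 13 b)) (Bool.rec (motive := fun _ => ℕ) (e8_14) (e8_15) (Nat.ble 15 b)) (Nat.ble 14 b)) (Nat.ble 12 b)) (Nat.ble 8 b)) (Bool.rec (motive := fun _ => ℕ) (Bool.rec (motive := fun _ => ℕ) (Bool.rec (motive := fun _ => ℕ) (Bool.rec (motive := fun _ => ℕ) (e8_16) (e8_17) (Nat.ble 17 b)) (Bool.rec (motive := fun _ => ℕ) (e8_18) (e8_19) (Nat.ble 19 b)) (Nat.ble 18 b)) (Bool.rec (motive := fun _ => ℕ) (Bool.rec (motive := fun _ => ℕ) (e8_20) (e8_21) (Nat.ble 21 b)) (Bool.rec (motive := fun _ => ℕ) (e8_22) (e8_23) (Nat.ble 23 b)) (Nat.ble 22 b)) (Nat.ble 20 b)) (Bool.rec (motive := fun _ => ℕ) (Bool.rec (motive := fun _ => ℕ) (Bool.rec (motive := fun _ => ℕ) (e8_24) (e8_25) (Nat.ble 25 b)) (Bool.rec (motive := fun _ => ℕ) (e8_26) (e8_27) (Nat.ble 27 b)) (Nat.ble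 26 b)) (Bool.rec (motive := fun _ => ℕ) (Bool.rec (motive := fun _ => ℕ) (e8_28) (e8_29) (Nat.ble 29 b)) (Bool.rec (motive := fun _ => ℕ) (e8_30) (e8_31) (Nat.ble 31 b)) (Nat.ble 30 b)) (Nat.ble 28 b)) (Nat.ble 24 b)) (Nat.ble 16 b)) (Bool.rec (motive := fun _ => ℕ) (Bool.rec (motive := fun _ => ℕ) (Bool.rec (motive := fun _ => ℕ) (Bool.rec (motive := fun _ => ℕ) (Bool.rec (motive := fun _ => ℕ) (e8_32) (e8_33) (Nat.ble 33 b)) (Bool.rec (motive := fun _ => ℕ) (e8_34) (e8_35) (Nat.ble 35 b)) (Nat.ble 34 b)) (Bool.rec (motive := fun _ => ℕ) (Bool.rec (motive := fun _ => ℕ) (e8_36) (0) (Nat.ble 37 b)) (0) (Nat.ble 38 b)) (Nat.ble 36 b)) (0) (Nat.ble 40 b)) (0) (Nat.ble 48 b)) (Nat.ble 32 b))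
noncomputable def jcol8 (b : ℕ) : ℕ := (Bool.rec (motive := fun _ => ℕ) (Bool.rec (motive := fun _ => ℕ) (Bool.rec (motive := fun _ => ℕ) (Bool.rec (motive := fun _ => ℕ) (Bool.rec (motive := fun _ => ℕ) (Bool.rec (motive := fun _ => ℕ) (j8_0) (j8_1) (Nat.ble 1 b)) (Bool.rec (motive := fun _ => ℕ) (j8_2) (j8_3) (Nat.ble 3 b)) (Nat.ble 2 b)) (Bool.rec (motive := fun _ => ℕ) (Bool.rec (motive := fun _ => ℕ) (j8_4) (j8_5) (Nat.ble 5 b)) (Bool.rec (motive := fun _ => ℕ) (j8_6) (j8_7) (Nat.ble 7 b)) (Nat.ble 6 b)) (Nat.ble 4 b)) (Bool.rec (motive := fun _ => ℕ) (Bool.rec (motive := fun _ => ℕ) (Bool.rec (motive := fun _ => ℕ) (j8_8) (j8_9) (Nat.ble 9 b)) (Bool.rec (motive := fun _ => ℕ) (j8_10) (j8_11) (Nat.ble 11 b)) (Nat.ble 10 b)) (Bool.rec (motive := fun _ => ℕ) (Bool.rec (motive := fun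 _ => ℕ) (j8_12) (j8_13) (Nat.ble 13 b)) (Bool.rec (motive := fun _ => ℕ) (j8_14) (j8_15) (Nat.ble 15 b)) (Nat.ble 14 b)) (Nat.ble 12 b)) (Nat.ble 8 b)) (Bool.rec (motive := fun _ => ℕ) (Bool.rec (motive := fun _ => ℕ) (Bool.rec (motive := fun _ => ℕ) (Bool.rec (motive := fun _ => ℕ) (j8_16) (j8_17) (Nat.ble 17 b)) (Bool.rec (motive := fun _ => ℕ) (j8_18) (j8_19) (Nat.ble 19 b)) (Nat.ble 18 b)) (Bool.rec (motive := fun _ => ℕ) (Bool.rec (motive := fun _ => ℕ) (j8_20) (j8_21) (Nat.ble 21 b)) (Bool.rec (motive := fun _ => ℕ) (j8_22) (j8_23) (Nat.ble 23 b)) (Nat.ble 22 b)) (Nat.ble 20 b)) (Bool.rec (motive := fun _ => ℕ) (Bool.rec (motive := fun _ => ℕ) (Bool.rec (motive := fun _ => ℕ) (j8_24) (j8_25) (Nat.ble 25 b)) (Bool.rec (motive := fun _ => ℕ) (j8_26) (j8_27) (Nat.ble 27 b)) (Nat.ble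 26 b)) (Bool.rec (motive := fun _ => ℕ) (Bool.rec (motive := fun _ => ℕ) (j8_28) (j8_29) (Nat.ble 29 b)) (Bool.rec (motive := fun _ => ℕ) (j8_30) (j8_31) (Nat.ble 31 b)) (Nat.ble 30 b)) (Nat.ble 28 b)) (Nat.ble 24 b)) (Nat.ble 16 b)) (Bool.rec (motive := fun _ => ℕ) (Bool.rec (motive := fun _ => ℕ) (Bool.rec (motive := fun _ => ℕ) (Bool.rec (motive := fun _ => ℕ) (Bool.rec (motive := fun _ => ℕ) (j8_32) (j8_33) (Nat.ble 33 b)) (Bool.rec (motive := fun _ => ℕ) (j8_34) (j8_35) (Nat.ble 35 b)) (Nat.ble 34 b)) (Bool.rec (motive := fun _ => ℕ) (Bool.rec (motive := fun _ => ℕ) (j8_36) (0) (Nat.ble 37 b)) (0) (Nat.ble 38 b)) (Nat.ble 36 b)) (0) (Nat.ble 40 b)) (0) (Nat.ble 48 b)) (Nat.ble 32 b))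
noncomputable def ecol9 (b : ℕ) : ℕ := (Bool.rec (motive := fun _ => ℕ) (Bool.rec (motive := fun _ => ℕ) (Bool.rec (motive := fun _ => ℕ) (Bool.rec (motive := fun _ => ℕ) (Bool.rec (motive := fun _ => ℕ) (Bool.rec (motive := fun _ => ℕ) (e9_0) (e9_1) (Nat.ble 1 b)) (Bool.rec (motive := fun _ => ℕ) (e9_2) (e9_3) (Nat.ble 3 b)) (Nat.ble 2 b)) (Bool.rec (motive := fun _ => ℕ) (Bool.rec (motive := fun _ => ℕ) (e9_4) (e9_5) (Nat.ble 5 b)) (Bool.rec (motive := fun _ => ℕ) (e9_6) (e9_7) (Nat.ble 7 b)) (Nat.ble 6 b)) (Nat.ble 4 b)) (Bool.rec (motive := fun _ => ℕ) (Bool.rec (motive := fun _ => ℕ) (Bool.rec (motive := fun _ => ℕ) (e9_8) (e9_9) (Nat.ble 9 b)) (Bool.rec (motive := fun _ => ℕ) (e9_10) (e9_11) (Nat.ble 11 b)) (Nat.ble 10 b)) (Bool.rec (motive := fun _ => ℕ) (Bool.rec (motive := fun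 _ => ℕ) (e9_12) (e9_13) (Nat.ble 13 b)) (Bool.rec (motive := fun _ => ℕ) (e9_14) (e9_15) (Nat.ble 15 b)) (Nat.ble 14 b)) (Nat.ble 12 b)) (Nat.ble 8 b)) (Bool.rec (motive := fun _ => ℕ) (Bool.rec (motive := fun _ => ℕ) (Bool.rec (motive := fun _ => ℕ) (Bool.rec (motive := fun _ => ℕ) (e9_16) (e9_17) (Nat.ble 17 b)) (Bool.rec (motive := fun _ => ℕ) (e9_18) (e9_19) (Nat.ble 19 b)) (Nat.ble 18 b)) (Bool.rec (motive := fun _ => ℕ) (Bool.rec (motive := fun _ => ℕ) (e9_20) (e9_21) (Nat.ble 21 b)) (Bool.rec (motive := fun _ => ℕ) (e9_22) (e9_23) (Nat.ble 23 b)) (Nat.ble 22 b)) (Nat.ble 20 b)) (Bool.rec (motive := fun _ => ℕ) (Bool.rec (motive := fun _ => ℕ) (Bool.rec (motive := fun _ => ℕ) (e9_24) (e9_25) (Nat.ble 25 b)) (Bool.rec (motive := fun _ => ℕ) (e9_26) (e9_27) (Nat.ble 27 b)) (Nat.ble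 26 b)) (Bool.rec (motive := fun _ => ℕ) (Bool.rec (motive := fun _ => ℕ) (e9_28) (e9_29) (Nat.ble 29 b)) (Bool.rec (motive := fun _ => ℕ) (e9_30) (e9_31) (Nat.ble 31 b)) (Nat.ble 30 b)) (Nat.ble 28 b)) (Nat.ble 24 b)) (Nat.ble 16 b)) (Bool.rec (motive := fun _ => ℕ) (Bool.rec (motive := fun _ => ℕ) (Bool.rec (motive := fun _ => ℕ) (Bool.rec (motive := fun _ => ℕ) (Bool.rec (motive := fun _ => ℕ) (e9_32) (e9_33) (Nat.ble 33 b)) (Bool.rec (motive := fun _ => ℕ) (e9_34) (e9_35) (Nat.ble 35 b)) (Nat.ble 34 b)) (Bool.rec (motive := fun _ => ℕ) (Bool.rec (motive := fun _ => ℕ) (e9_36) (0) (Nat.ble 37 b)) (0) (Nat.ble 38 b)) (Nat.ble 36 b)) (0) (Nat.ble 40 b)) (0) (Nat.ble 48 b)) (Nat.ble 32 b))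
noncomputable def jcol9 (b : ℕ) : ℕ := (Bool.rec (motive := fun _ => ℕ) (Bool.rec (motive := fun _ => ℕ) (Bool.rec (motive := fun _ => ℕ) (Bool.rec (motive := fun _ => ℕ) (Bool.rec (motive := fun _ => ℕ) (Bool.rec (motive := fun _ => ℕ) (j9_0) (j9_1) (Nat.ble 1 b)) (Bool.rec (motive := fun _ => ℕ) (j9_2) (j9_3) (Nat.ble 3 b)) (Nat.ble 2 b)) (Bool.rec (motive := fun _ => ℕ) (Bool.rec (motive := fun _ => ℕ) (j9_4) (j9_5) (Nat.ble 5 b)) (Bool.rec (motive := fun _ => ℕ) (j9_6) (j9_7) (Nat.ble 7 b)) (Nat.ble 6 b)) (Nat.ble 4 b)) (Bool.rec (motive := fun _ => ℕ) (Bool.rec (motive := fun _ => ℕ) (Bool.rec (motive := fun _ => ℕ) (j9_8) (j9_9) (Nat.ble 9 b)) (Bool.rec (motive := fun _ => ℕ) (j9_10) (j9_11) (Nat.ble 11 b)) (Nat.ble 10 b)) (Bool.rec (motive := fun _ => ℕ) (Bool.rec (motive := fun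 _ => ℕ) (j9_12) (j9_13) (Nat.ble 13 b)) (Bool.rec (motive := fun _ => ℕ) (j9_14) (j9_15) (Nat.ble 15 b)) (Nat.ble 14 b)) (Nat.ble 12 b)) (Nat.ble 8 b)) (Bool.rec (motive := fun _ => ℕ) (Bool.rec (motive := fun _ => ℕ) (Bool.rec (motive := fun _ => ℕ) (Bool.rec (motive := fun _ => ℕ) (j9_16) (j9_17) (Nat.ble 17 b)) (Bool.rec (motive := fun _ => ℕ) (j9_18) (j9_19) (Nat.ble 19 b)) (Nat.ble 18 b)) (Bool.rec (motive := fun _ => ℕ) (Bool.rec (motive := fun _ => ℕ) (j9_20) (j9_21) (Nat.ble 21 b)) (Bool.rec (motive := fun _ => ℕ) (j9_22) (j9_23) (Nat.ble 23 b)) (Nat.ble 22 b)) (Nat.ble 20 b)) (Bool.rec (motive := fun _ => ℕ) (Bool.rec (motive := fun _ => ℕ) (Bool.rec (motive := fun _ => ℕ) (j9_24) (j9_25) (Nat.ble 25 b)) (Bool.rec (motive := fun _ => ℕ) (j9_26) (j9_27) (Nat.ble 27 b)) (Nat.ble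 26 b)) (Bool.rec (motive := fun _ => ℕ) (Bool.rec (motive := fun _ => ℕ) (j9_28) (j9_29) (Nat.ble 29 b)) (Bool.rec (motive := fun _ => ℕ) (j9_30) (j9_31) (Nat.ble 31 b)) (Nat.ble 30 b)) (Nat.ble 28 b)) (Nat.ble 24 b)) (Nat.ble 16 b)) (Bool.rec (motive := fun _ => ℕ) (Bool.rec (motive := fun _ => ℕ) (Bool.rec (motive := fun _ => ℕ) (Bool.rec (motive := fun _ => ℕ) (Bool.rec (motive := fun _ => ℕ) (j9_32) (j9_33) (Nat.ble 33 b)) (Bool.rec (motive := fun _ => ℕ) (j9_34) (j9_35) (Nat.ble 35 b)) (Nat.ble 34 b)) (Bool.rec (motive := fun _ => ℕ) (Bool.rec (motive := fun _ => ℕ) (j9_36) (0) (Nat.ble 37 b)) (0) (Nat.ble 38 b)) (Nat.ble 36 b)) (0) (Nat.ble 40 b)) (0) (Nat.ble 48 b)) (Nat.ble 32 b))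
noncomputable def eT (c b : ℕ) : ℕ := (Bool.rec (motive := fun _ => ℕ) (Bool.rec (motive := fun _ => ℕ) (Bool.rec (motive := fun _ => ℕ) (Bool.rec (motive := fun _ => ℕ) (ecol0 b) (ecol1 b) (Nat.ble 1 c)) (Bool.rec (motive := fun _ => ℕ) (ecol2 b) (ecol3 b) (Nat.ble 3 c)) (Nat.ble 2 c)) (Bool.rec (motive := fun _ => ℕ) (Bool.rec (motive := fun _ => ℕ) (ecol4 b) (ecol5 b) (Nat.ble 5 c)) (Bool.rec (motive := fun _ => ℕ) (ecol6 b) (ecol7 b) (Nat.ble 7 c)) (Nat.ble 6 c)) (Nat.ble 4 c)) (Bool.rec (motive := fun _ => ℕ) (Bool.rec (motive := fun _ => ℕ) (Bool.rec (motive := fun _ => ℕ) (ecol8 b) (ecol9 b) (Nat.ble 9 c)) (0) (Nat.ble 10 c)) (0) (Nat.ble 12 c)) (Nat.ble 8 c))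
noncomputable def jT (c b : ℕ) : ℕ := (Bool.rec (motive := fun _ => ℕ) (Bool.rec (motive := fun _ => ℕ) (Bool.rec (motive := fun _ => ℕ) (Bool.rec (motive := fun _ => ℕ) (jcol0 b) (jcol1 b) (Nat.ble 1 c)) (Bool.rec (motive := fun _ => ℕ) (jcol2 b) (jcol3 b) (Nat.ble 3 c)) (Nat.ble 2 c)) (Bool.rec (motive := fun _ => ℕ) (Bool.rec (motive := fun _ => ℕ) (jcol4 b) (jcol5 b) (Nat.ble 5 c)) (Bool.rec (motive := fun _ => ℕ) (jcol6 b) (jcol7 b) (Nat.ble 7 c)) (Nat.ble 6 c)) (Nat.ble 4 c)) (Bool.rec (motive := fun _ => ℕ) (Bool.rec (motive := fun _ => ℕ) (Bool.rec (motive := fun _ => ℕ) (jcol8 b) (jcol9 b) (Nat.ble 9 c)) (0) (Nat.ble 10 c)) (0) (Nat.ble 12 c)) (Nat.ble 8 c))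
noncomputable def mgT (b : ℕ) : ℕ := (Bool.rec (motive := fun _ => ℕ) (Bool.rec (motive := fun _ => ℕ) (Bool.rec (motive := fun _ => ℕ) (Bool.rec (motive := fun _ => ℕ) (Bool.rec (motive := fun _ => ℕ) (Bool.rec (motive := fun _ => ℕ) (m_0) (m_1) (Nat.ble 1 b)) (Bool.rec (motive := fun _ => ℕ) (m_2) (m_3) (Nat.ble 3 b)) (Nat.ble 2 b)) (Bool.rec (motive := fun _ => ℕ) (Bool.rec (motive := fun _ => ℕ) (m_4) (m_5) (Nat.ble 5 b)) (Bool.rec (motive := fun _ => ℕ) (m_6) (m_7) (Nat.ble 7 b)) (Nat.ble 6 b)) (Nat.ble 4 b)) (Bool.rec (motive := fun _ => ℕ) (Bool.rec (motive := fun _ => ℕ) (Bool.rec (motive := fun _ => ℕ) (m_8) (m_9) (Nat.ble 9 b)) (Bool.rec (motive := fun _ => ℕ) (m_10) (m_11) (Nat.ble 11 b)) (Nat.ble 10 b)) (Bool.rec (motive := fun _ => ℕ) (Bool.rec (motive := fun _ => ℕ) (m_12)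 (m_13) (Nat.ble 13 b)) (Bool.rec (motive := fun _ => ℕ) (m_14) (m_15) (Nat.ble 15 b)) (Nat.ble 14 b)) (Nat.ble 12 b)) (Nat.ble 8 b)) (Bool.rec (motive := fun _ => ℕ) (Bool.rec (motive := fun _ => ℕ) (Bool.rec (motive := fun _ => ℕ) (Bool.rec (motive := fun _ => ℕ) (m_16) (m_17) (Nat.ble 17 b)) (Bool.rec (motive := fun _ => ℕ) (m_18) (m_19) (Nat.ble 19 b)) (Nat.ble 18 b)) (Bool.rec (motive := fun _ => ℕ) (Bool.rec (motive := fun _ => ℕ) (m_20) (m_21) (Nat.ble 21 b)) (Bool.rec (motive := fun _ => ℕ) (m_22) (m_23) (Nat.ble 23 b)) (Nat.ble 22 b)) (Nat.ble 20 b)) (Bool.rec (motive := fun _ => ℕ) (Bool.rec (motive := fun _ => ℕ) (Bool.rec (motive := fun _ => ℕ) (m_24) (m_25) (Nat.ble 25 b)) (Bool.rec (motive := fun _ => ℕ) (m_26) (m_27) (Nat.ble 27 b)) (Nat.ble 26 b)) (Bool.rec (motive :=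 fun _ => ℕ) (Bool.rec (motive := fun _ => ℕ) (m_28) (m_29) (Nat.ble 29 b)) (Bool.rec (motive := fun _ => ℕ) (m_30) (m_31) (Nat.ble 31 b)) (Nat.ble 30 b)) (Nat.ble 28 b)) (Nat.ble 24 b)) (Nat.ble 16 b)) (Bool.rec (motive := fun _ => ℕ) (Bool.rec (motive := fun _ => ℕ) (Bool.rec (motive := fun _ => ℕ) (Bool.rec (motive := fun _ => ℕ) (Bool.rec (motive := fun _ => ℕ) (m_32) (m_33) (Nat.ble 33 b)) (Bool.rec (motive := fun _ => ℕ) (m_34) (m_35) (Nat.ble 35 b)) (Nat.ble 34 b)) (Bool.rec (motive := fun _ => ℕ) (Bool.rec (motive := fun _ => ℕ) (m_36) (0) (Nat.ble 37 b)) (0) (Nat.ble 38 b)) (Nat.ble 36 b)) (0) (Nat.ble 40 b)) (0) (Nat.ble 48 b)) (Nat.ble 32 b))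
noncomputable def jmT (b : ℕ) : ℕ := (Bool.rec (motive := fun _ => ℕ) (Bool.rec (motive := fun _ => ℕ) (Bool.rec (motive := fun _ => ℕ) (Bool.rec (motive := fun _ => ℕ) (Bool.rec (motive := fun _ => ℕ) (Bool.rec (motive := fun _ => ℕ) (jm_0) (jm_1) (Nat.ble 1 b)) (Bool.rec (motive := fun _ => ℕ) (jm_2) (jm_3) (Nat.ble 3 b)) (Nat.ble 2 b)) (Bool.rec (motive := fun _ => ℕ) (Bool.rec (motive := fun _ => ℕ) (jm_4) (jm_5) (Nat.ble 5 b)) (Bool.rec (motive := fun _ => ℕ) (jm_6) (jm_7) (Nat.ble 7 b)) (Nat.ble 6 b)) (Nat.ble 4 b)) (Bool.rec (motive := fun _ => ℕ) (Bool.rec (motive := fun _ => ℕ) (Bool.rec (motive := fun _ => ℕ) (jm_8) (jm_9) (Nat.ble 9 b)) (Bool.rec (motive := fun _ => ℕ) (jm_10) (jm_11) (Nat.ble 11 b)) (Nat.ble 10 b)) (Bool.rec (motive := fun _ => ℕ) (Bool.rec (motive := fun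 _ => ℕ) (jm_12) (jm_13) (Nat.ble 13 b)) (Bool.rec (motive := fun _ => ℕ) (jm_14) (jm_15) (Nat.ble 15 b)) (Nat.ble 14 b)) (Nat.ble 12 b)) (Nat.ble 8 b)) (Bool.rec (motive := fun _ => ℕ) (Bool.rec (motive := fun _ => ℕ) (Bool.rec (motive := fun _ => ℕ) (Bool.rec (motive := fun _ => ℕ) (jm_16) (jm_17) (Nat.ble 17 b)) (Bool.rec (motive := fun _ => ℕ) (jm_18) (jm_19) (Nat.ble 19 b)) (Nat.ble 18 b)) (Bool.rec (motive := fun _ => ℕ) (Bool.rec (motive := fun _ => ℕ) (jm_20) (jm_21) (Nat.ble 21 b)) (Bool.rec (motive := fun _ => ℕ) (jm_22) (jm_23) (Nat.ble 23 b)) (Nat.ble 22 b)) (Nat.ble 20 b)) (Bool.rec (motive := fun _ => ℕ) (Bool.rec (motive := fun _ => ℕ) (Bool.rec (motive := fun _ => ℕ) (jm_24) (jm_25) (Nat.ble 25 b)) (Bool.rec (motive := fun _ => ℕ) (jm_26) (jm_27) (Nat.ble 27 b)) (Nat.ble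 26 b)) (Bool.rec (motive := fun _ => ℕ) (Bool.rec (motive := fun _ => ℕ) (jm_28) (jm_29) (Nat.ble 29 b)) (Bool.rec (motive := fun _ => ℕ) (jm_30) (jm_31) (Nat.ble 31 b)) (Nat.ble 30 b)) (Nat.ble 28 b)) (Nat.ble 24 b)) (Nat.ble 16 b)) (Bool.rec (motive := fun _ => ℕ) (Bool.rec (motive := fun _ => ℕ) (Bool.rec (motive := fun _ => ℕ) (Bool.rec (motive := fun _ => ℕ) (Bool.rec (motive := fun _ => ℕ) (jm_32) (jm_33) (Nat.ble 33 b)) (Bool.rec (motive := fun _ => ℕ) (jm_34) (jm_35) (Nat.ble 35 b)) (Nat.ble 34 b)) (Bool.rec (motive := fun _ => ℕ) (Bool.rec (motive := fun _ => ℕ) (jm_36) (0) (Nat.ble 37 b)) (0) (Nat.ble 38 b)) (Nat.ble 36 b)) (0) (Nat.ble 40 b)) (0) (Nat.ble 48 b)) (Nat.ble 32 b))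
def rw0 : List ℕ := [0, 3, 1, 3, 0, 2]
def rw1 : List ℕ := [0, 2, 1, 3, 1, 2]
def rw2 : List ℕ := [0, 5, 2, 1, 3, 5, 4, 4, 2, 0, 3, 4, 1, 1, 5, 0]
def rw3 : List ℕ := [0, 3, 4, 1, 1, 0, 0, 0, 5, 2, 1, 3, 5, 1, 4, 2]
def rw4 : List ℕ := [0, 4, 2, 1, 9, 0, 3, 5, 1, 5, 1, 4, 8, 5, 0, 4]
def rw5 : List ℕ := [0, 2, 0, 3, 1, 3]
def rw6 : List ℕ := [0, 2, 4, 0, 5, 5, 5, 4, 4, 4, 4, 1, 5, 3, 1, 5]
def rw7 : List ℕ := [0, 4, 2, 1, 8, 0, 3, 5, 1, 5, 1, 4, 9, 5, 0, 4]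
def rw8 : List ℕ := [0, 0, 5, 2, 1, 3, 5, 4, 4, 2, 0, 3, 4, 1, 1, 5]
def rw9 : List ℕ := [0, 4, 0, 4, 2, 1, 3, 0, 3, 5, 1, 5, 1, 4, 2, 5]
def rw10 : List ℕ := [0, 4, 2, 6, 9, 7, 3, 5, 1, 7, 3, 5, 1, 8, 0, 4, 2, 6]
def rw11 : List ℕ := [0, 2, 0, 2, 0, 2]
def rw12 : List ℕ := [0, 4, 2, 1, 1, 0, 3, 5, 1, 5, 1, 4, 0, 5, 0, 4]
def rw13 : List ℕ := [0, 4, 0, 4, 2, 1, 4, 0, 3, 5, 1, 5, 1, 4, 5, 5]
def rw14 : List ℕ := [0, 0, 0, 0, 0, 0, 0]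
def rw15 : List ℕ := [0, 5, 5, 5, 5, 4, 4, 4, 1, 5, 3, 1, 4, 0, 2, 4]
def rw16 : List ℕ := [0, 4, 0, 4, 2, 1, 1, 0, 3, 5, 1, 5, 1, 4, 0, 5]
def rw17 : List ℕ := [0, 3, 5, 1, 5, 1, 4, 5, 5, 0, 4, 0, 4, 2, 1, 4]
def rw18 : List ℕ := [0, 4, 2, 1, 5, 0, 3, 5, 1, 5, 1, 4, 4, 5, 0, 4]
def rw19 : List ℕ := [0, 4, 2, 1, 3, 0, 3, 5, 1, 5, 1, 4, 2, 5, 0, 4]
def rw20 : List ℕ := [0, 3, 4, 5, 5, 2, 1, 5, 5, 1, 2, 1, 4, 0, 3, 0, 4, 4]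
def rw21 : List ℕ := [0, 0, 0, 0, 0, 0, 0]
def rw22 : List ℕ := [0, 2, 2, 0, 2, 2]
def rw23 : List ℕ := [0, 4, 2, 1, 2, 0, 3, 5, 1, 5, 1, 4, 3, 5, 0, 4]
def rw24 : List ℕ := [0, 3, 4, 3, 5, 2, 1, 5, 5, 1, 2, 1, 2, 0, 3, 0, 4, 4]
def rw25 : List ℕ := [0, 2, 2, 0, 2, 2]
def rw26 : List ℕ := [0, 0, 3, 1, 2, 1, 1, 2, 2, 0, 0, 3, 3]
def rw27 : List ℕ := [0, 3, 3, 1, 3, 0, 0, 2]
def rw28 : List ℕ := [0, 4, 0, 4, 2, 1, 0, 0, 3, 5, 1, 5, 1, 4, 1, 5]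
def rw29 : List ℕ := [0, 2, 0, 3, 3, 1, 3, 0]
def rw30 : List ℕ := [0, 5, 2, 1, 3, 5, 1, 4, 2, 0, 3, 4, 1, 1, 0, 0]
def rw31 : List ℕ := [0, 4, 4, 0, 3, 4, 3, 5, 2, 1, 5, 5, 1, 2, 1, 2, 0, 3]
def rw32 : List ℕ := [0, 0, 3, 0, 2, 1, 1, 2, 2, 1, 1, 3, 3]
def rw33 : List ℕ := [0, 5, 5, 5, 0, 4, 4, 4, 1, 5, 3, 1, 1, 0, 2, 4]
def rw34 : List ℕ := [0, 4, 2, 1, 4, 0, 3, 5, 1, 5, 1, 4, 5, 5, 0, 4]
def rw35 : List ℕ := [0, 2, 4, 0, 5, 5, 5, 5, 4, 4, 4, 1, 5, 3, 1, 4]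
def rw36 : List ℕ := [0, 5, 5, 5, 7, 4, 4, 4, 1, 5, 3, 1, 6, 0, 2, 4]
def rw37 : List ℕ := [0, 5, 5, 5, 3, 4, 4, 4, 1, 5, 3, 1, 2, 0, 2, 4]
def rw38 : List ℕ := [0, 4, 2, 1, 7, 0, 3, 5, 1, 5, 1, 4, 6, 5, 0, 4]
def rw39 : List ℕ := [0, 4, 2, 1, 6, 0, 3, 5, 1, 5, 1, 4, 7, 5, 0, 4]
def rw40 : List ℕ := [0, 8, 8, 7, 7, 8, 5, 6, 6, 5, 5, 1, 4, 4, 7, 7, 4, 9, 6, 6, 9, 9]
def rw41 : List ℕ := [0, 3, 0, 4, 4, 0, 3, 4, 2, 5, 2, 1, 5, 5, 1, 2, 1, 3]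
def rw42 : List ℕ := [0, 3, 4, 0, 5, 2, 1, 5, 5, 1, 2, 1, 1, 0, 3, 0, 4, 4]
def rw43 : List ℕ := [0, 5, 2, 1, 3, 5, 5, 4, 2, 0, 3, 4, 1, 1, 4, 0]
def rw44 : List ℕ := [0, 2, 4, 0, 5, 5, 5, 2, 4, 4, 4, 1, 5, 3, 1, 3]
def rw45 : List ℕ := [0, 4, 2, 6, 8, 7, 3, 5, 1, 7, 3, 5, 1, 9, 0, 4, 2, 6]
def rw46 : List ℕ := [0, 4, 0, 4, 2, 1, 2, 0, 3, 5, 1, 5, 1, 4, 3, 5]
def rw47 : List ℕ := [0, 4, 0, 4, 2, 1, 7, 0, 3, 5, 1, 5, 1, 4, 6, 5]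
def rw48 : List ℕ := [0, 5, 5, 5, 1, 4, 4, 4, 1, 5, 3, 1, 0, 0, 2, 4]
def rw49 : List ℕ := [0, 0, 2, 0, 3, 3, 1, 3]
def rw50 : List ℕ := [0, 3, 0, 4, 4, 0, 3, 4, 5, 5, 2, 1, 5, 5, 1, 2, 1, 4]
def rw51 : List ℕ := [0, 3, 0, 2, 1, 1, 2, 2, 1, 1, 3, 3, 0]
def rw52 : List ℕ := [0, 2, 2, 1, 3, 1, 1, 2]
def rw53 : List ℕ := [0, 4, 2, 6, 1, 7, 3, 5, 1, 7, 3, 5, 1, 0, 0, 4, 2, 6]
def rw54 : List ℕ := [0, 5, 2, 1, 3, 5, 2, 4, 2, 0, 3, 4, 1, 1, 3, 0]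
def rw55 : List ℕ := [0, 3, 4, 2, 5, 2, 1, 5, 5, 1, 2, 1, 3, 0, 3, 0, 4, 4]
def rw56 : List ℕ := [0, 0, 5, 2, 1, 3, 5, 5, 4, 2, 0, 3, 4, 1, 1, 4]
def rw57 : List ℕ := [0, 0, 0, 0, 0, 0, 0]
def rw58 : List ℕ := [0, 4, 4, 0, 3, 4, 5, 5, 2, 1, 5, 5, 1, 2, 1, 4, 0, 3]
def rw59 : List ℕ := [0, 3, 4, 1, 5, 2, 1, 5, 5, 1, 2, 1, 0, 0, 3, 0, 4, 4]
def rw60 : List ℕ := [0, 2, 0, 2, 0, 2]
def rw61 : List ℕ := [0, 3, 4, 1, 1, 3, 0, 0, 5, 2, 1, 3, 5, 2, 4, 2]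
def rw62 : List ℕ := [0, 0, 3, 3, 0, 0, 3, 1, 2, 1, 1, 2, 2]
def rw63 : List ℕ := [0, 4, 2, 6, 2, 7, 3, 5, 1, 7, 3, 5, 1, 3, 0, 4, 2, 6]
def rw64 : List ℕ := [0, 0, 5, 2, 1, 3, 5, 2, 4, 2, 0, 3, 4, 1, 1, 3]
def rw65 : List ℕ := [0, 3, 4, 1, 1, 1, 0, 0, 5, 2, 1, 3, 5, 0, 4, 2]
def rw66 : List ℕ := [0, 5, 5, 5, 4, 4, 4, 4, 1, 5, 3, 1, 5, 0, 2, 4]
def rw67 : List ℕ := [0, 3, 1, 2, 1, 1, 2, 2, 0, 0, 3, 3, 0]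
def rw68 : List ℕ := [0, 4, 2, 6, 5, 7, 3, 5, 1, 7, 3, 5, 1, 4, 0, 4, 2, 6]
def rw69 : List ℕ := [0, 2, 4, 0, 5, 5, 5, 7, 4, 4, 4, 1, 5, 3, 1, 6]
def rw70 : List ℕ := [0, 2, 0, 2, 0, 2]
def rw71 : List ℕ := [0, 3, 3, 0, 0, 3, 1, 2, 1, 1, 2, 2, 0]
def rw72 : List ℕ := [0, 4, 2, 6, 3, 7, 3, 5, 1, 7, 3, 5, 1, 2, 0, 4, 2, 6]
def rw73 : List ℕ := [0, 4, 4, 0, 3, 4, 4, 5, 2, 1, 5, 5, 1, 2, 1, 5, 0, 3]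
def rw74 : List ℕ := [0, 5, 5, 5, 6, 4, 4, 4, 1, 5, 3, 1, 7, 0, 2, 4]
def rw75 : List ℕ := [0, 4, 4, 0, 3, 4, 1, 5, 2, 1, 5, 5, 1, 2, 1, 0, 0, 3]
def rw76 : List ℕ := [0, 3, 5, 1, 5, 1, 4, 3, 5, 0, 4, 0, 4, 2, 1, 2]
def rw77 : List ℕ := [0, 2, 1, 1, 2, 2, 1, 1, 3, 3, 0, 0, 3]
def rw78 : List ℕ := [0, 5, 2, 1, 3, 5, 6, 4, 2, 0, 3, 4, 1, 1, 7, 0]
def rw79 : List ℕ := [0, 4, 2, 6, 0, 7, 3, 5, 1, 7, 3, 5, 1, 1, 0, 4, 2, 6]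
def rw80 : List ℕ := [0, 0, 0, 0, 0, 0, 0]
def rw81 : List ℕ := [0, 4, 2, 6, 0, 4, 2, 6, 7, 7, 3, 5, 1, 7, 3, 5, 1, 6]
def rw82 : List ℕ := [0, 4, 4, 0, 3, 4, 7, 5, 2, 1, 5, 5, 1, 2, 1, 6, 0, 3]
def rw83 : List ℕ := [0, 4, 4, 0, 3, 4, 0, 5, 2, 1, 5, 5, 1, 2, 1, 1, 0, 3]
def rw84 : List ℕ := [0, 3, 0, 4, 4, 0, 3, 4, 4, 5, 2, 1, 5, 5, 1, 2, 1, 5]
def rw85 : List ℕ := [0, 4, 2, 6, 6, 7, 3, 5, 1, 7, 3, 5, 1, 7, 0, 4, 2, 6]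
def rw86 : List ℕ := [0, 5, 5, 5, 2, 4, 4, 4, 1, 5, 3, 1, 3, 0, 2, 4]
def rw87 : List ℕ := [0, 4, 2, 6, 4, 7, 3, 5, 1, 7, 3, 5, 1, 5, 0, 4, 2, 6]
def rw88 : List ℕ := [0, 0, 0, 0, 0, 0, 0]
def rw89 : List ℕ := [0, 2, 4, 0, 5, 5, 5, 3, 4, 4, 4, 1, 5, 3, 1, 2]
def rw90 : List ℕ := [0, 3, 4, 1, 1, 4, 0, 0, 5, 2, 1, 3, 5, 5, 4, 2]
def rw91 : List ℕ := [0, 5, 2, 1, 3, 5, 3, 4, 2, 0, 3, 4, 1, 1, 2, 0]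
def rw92 : List ℕ := [0, 4, 4, 0, 3, 4, 2, 5, 2, 1, 5, 5, 1, 2, 1, 3, 0, 3]
def rw93 : List ℕ := [0, 0, 5, 2, 1, 3, 5, 6, 4, 2, 0, 3, 4, 1, 1, 7]
def rw94 : List ℕ := [0, 0, 0, 0, 0, 0, 0]
def rw95 : List ℕ := [0, 3, 4, 1, 1, 2, 0, 0, 5, 2, 1, 3, 5, 3, 4, 2]
def rw96 : List ℕ := [0, 5, 2, 1, 3, 5, 9, 4, 2, 0, 3, 4, 1, 1, 8, 0]
def rw97 : List ℕ := [0, 3, 5, 1, 5, 1, 4, 2, 5, 0, 4, 0, 4, 2, 1, 3]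
def rw98 : List ℕ := [0, 0, 5, 2, 1, 3, 5, 3, 4, 2, 0, 3, 4, 1, 1, 2]
def rw99 : List ℕ := [0, 3, 4, 1, 1, 7, 0, 0, 5, 2, 1, 3, 5, 6, 4, 2]
def rw100 : List ℕ := [0, 3, 5, 1, 5, 1, 4, 1, 5, 0, 4, 0, 4, 2, 1, 0]
def rw101 : List ℕ := [0, 4, 2, 1, 0, 0, 3, 5, 1, 5, 1, 4, 1, 5, 0, 4]
def rw102 : List ℕ := [0, 4, 2, 6, 7, 7, 3, 5, 1, 7, 3, 5, 1, 6, 0, 4, 2, 6]
def rw103 : List ℕ := [0, 3, 0, 4, 4, 0, 3, 4, 1, 5, 2, 1, 5, 5, 1, 2, 1, 0]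
def rw104 : List ℕ := [0, 5, 2, 1, 3, 5, 7, 4, 2, 0, 3, 4, 1, 1, 6, 0]
def rw105 : List ℕ := [0, 4, 4, 0, 3, 4, 6, 5, 2, 1, 5, 5, 1, 2, 1, 7, 0, 3]
def rw106 : List ℕ := [0, 3, 1, 9, 0, 2, 1, 8, 8, 8, 1, 2, 1, 8, 4, 8, 5, 9, 0, 3, 0, 9, 9, 9]
def rw107 : List ℕ := [0, 3, 0, 9, 9, 9, 0, 3, 1, 5, 0, 2, 1, 8, 8, 8, 1, 2, 1, 8, 4, 4, 5, 9]
def rw108 : List ℕ := [0, 4, 2, 6, 0, 4, 2, 6, 1, 7, 3, 5, 1, 7, 3, 5, 1, 0]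
def rw109 : List ℕ := [0, 3, 4, 1, 1, 5, 0, 0, 5, 2, 1, 3, 5, 4, 4, 2]
def rw110 : List ℕ := [0, 4, 4, 0, 3, 4, 9, 5, 2, 1, 5, 5, 1, 2, 1, 8, 0, 3]
def rw111 : List ℕ := [0, 3, 0, 4, 4, 0, 3, 4, 3, 5, 2, 1, 5, 5, 1, 2, 1, 2]
def rw112 : List ℕ := [0, 3, 4, 4, 5, 2, 1, 5, 5, 1, 2, 1, 5, 0, 3, 0, 4, 4]
def rw113 : List ℕ := [0, 3, 4, 7, 5, 2, 1, 5, 5, 1, 2, 1, 6, 0, 3, 0, 4, 4]
def rw114 : List ℕ := [0, 2, 4, 0, 5, 5, 5, 1, 4, 4, 4, 1, 5, 3, 1, 0]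
def rw115 : List ℕ := [0, 2, 4, 0, 5, 5, 5, 6, 4, 4, 4, 1, 5, 3, 1, 7]
def rw116 : List ℕ := [0, 4, 2, 6, 0, 4, 2, 6, 2, 7, 3, 5, 1, 7, 3, 5, 1, 3]
def rw117 : List ℕ := [0, 4, 4, 0, 3, 4, 8, 5, 2, 1, 5, 5, 1, 2, 1, 9, 0, 3]
def rw118 : List ℕ := [0, 3, 0, 4, 4, 0, 3, 4, 6, 5, 2, 1, 5, 5, 1, 2, 1, 7]
def rw119 : List ℕ := [0, 5, 2, 1, 3, 5, 8, 4, 2, 0, 3, 4, 1, 1, 9, 0]
def rw120 : List ℕ := [0, 4, 2, 6, 0, 4, 2, 6, 4, 7, 3, 5, 1, 7, 3, 5, 1, 5]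
def rw121 : List ℕ := [0, 3, 4, 6, 5, 2, 1, 5, 5, 1, 2, 1, 7, 0, 3, 0, 4, 4]
def rw122 : List ℕ := [0, 4, 0, 4, 2, 1, 6, 0, 3, 5, 1, 5, 1, 4, 7, 5]
def rw123 : List ℕ := [0, 9, 9, 9, 0, 3, 1, 2, 0, 2, 1, 8, 8, 8, 1, 2, 1, 8, 4, 3, 5, 9, 0, 3]
def rw124 : List ℕ := [0, 5, 5, 5, 9, 4, 4, 4, 1, 5, 3, 1, 8, 0, 2, 4]
def rw125 : List ℕ := [0, 0, 5, 2, 1, 3, 5, 7, 4, 2, 0, 3, 4, 1, 1, 6]
def rw126 : List ℕ := [0, 3, 5, 1, 5, 1, 4, 6, 5, 0, 4, 0, 4, 2, 1, 7]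
def rw127 : List ℕ := [1, 3, 1, 3, 1, 3]
def rw128 : List ℕ := [1, 1, 1, 1, 1, 1, 1]
def rw129 : List ℕ := [1, 2, 0, 2, 1, 3]
def rw130 : List ℕ := [1, 3, 0, 2, 0, 3]
def rw131 : List ℕ := [1, 5, 3, 1, 9, 0, 2, 4, 0, 5, 5, 5, 8, 4, 4, 4]
def rw132 : List ℕ := [1, 5, 3, 1, 8, 0, 2, 4, 0, 5, 5, 5, 9, 4, 4, 4]
def rw133 : List ℕ := [1, 2, 1, 4, 0, 3, 0, 4, 4, 0, 3, 4, 5, 5, 2, 1, 5, 5]
def rw134 : List ℕ := [1, 5, 0, 2, 4, 0, 5, 5, 5, 4, 4, 4, 4, 1, 5, 3]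
def rw135 : List ℕ := [1, 5, 3, 1, 1, 0, 2, 4, 0, 5, 5, 5, 0, 4, 4, 4]
def rw136 : List ℕ := [1, 4, 0, 5, 0, 4, 0, 4, 2, 1, 1, 0, 3, 5, 1, 5]
def rw137 : List ℕ := [1, 3, 3, 1, 3, 3]
def rw138 : List ℕ := [1, 1, 1, 1, 1, 1, 1]
def rw139 : List ℕ := [1, 1, 3, 3, 0, 0, 3, 0, 2, 1, 1, 2, 2]
def rw140 : List ℕ := [1, 3, 5, 3, 4, 2, 0, 3, 4, 1, 1, 2, 0, 0, 5, 2]
def rw141 : List ℕ := [1, 5, 3, 1, 0, 0, 2, 4, 0, 5, 5, 5, 1, 4, 4, 4]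
def rw142 : List ℕ := [1, 3, 3, 1, 3, 3]
def rw143 : List ℕ := [1, 7, 3, 5, 1, 0, 0, 4, 2, 6, 0, 4, 2, 6, 1, 7, 3, 5]
def rw144 : List ℕ := [1, 2, 1, 5, 0, 3, 0, 4, 4, 0, 3, 4, 4, 5, 2, 1, 5, 5]
def rw145 : List ℕ := [1, 4, 0, 0, 5, 2, 1, 3, 5, 5, 4, 2, 0, 3, 4, 1]
def rw146 : List ℕ := [1, 4, 3, 5, 0, 4, 0, 4, 2, 1, 2, 0, 3, 5, 1, 5]
def rw147 : List ℕ := [1, 1, 1, 1, 1, 1, 1]
def rw148 : List ℕ := [1, 1, 4, 0, 0, 5, 2, 1, 3, 5, 5, 4, 2, 0, 3, 4]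
def rw149 : List ℕ := [1, 3, 1, 2, 0, 2]
def rw150 : List ℕ := [1, 1, 1, 1, 1, 1, 1]
def rw151 : List ℕ := [1, 2, 0, 2, 2, 1, 3, 1]
def rw152 : List ℕ := [1, 5, 3, 1, 5, 0, 2, 4, 0, 5, 5, 5, 4, 4, 4, 4]
def rw153 : List ℕ := [1, 5, 3, 1, 4, 0, 2, 4, 0, 5, 5, 5, 5, 4, 4, 4]
def rw154 : List ℕ := [1, 2, 1, 0, 0, 3, 0, 4, 4, 0, 3, 4, 1, 5, 2, 1, 5, 5]
def rw155 : List ℕ := [1, 2, 1, 1, 0, 3, 0, 4, 4, 0, 3, 4, 0, 5, 2, 1, 5, 5]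
def rw156 : List ℕ := [1, 4, 0, 3, 0, 4, 4, 0, 3, 4, 5, 5, 2, 1, 5, 5, 1, 2]
def rw157 : List ℕ := [1, 5, 3, 1, 3, 0, 2, 4, 0, 5, 5, 5, 2, 4, 4, 4]
def rw158 : List ℕ := [1, 5, 1, 4, 0, 5, 0, 4, 0, 4, 2, 1, 1, 0, 3, 5]
def rw159 : List ℕ := [1, 7, 3, 5, 1, 5, 0, 4, 2, 6, 0, 4, 2, 6, 4, 7, 3, 5]
def rw160 : List ℕ := [1, 1, 2, 0, 2, 2, 1, 3]
def rw161 : List ℕ := [1, 5, 0, 3, 5, 1, 5, 1, 4, 4, 5, 0, 4, 0, 4, 2]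
def rw162 : List ℕ := [1, 5, 5, 1, 2, 1, 0, 0, 3, 0, 4, 4, 0, 3, 4, 1, 5, 2]
def rw163 : List ℕ := [1, 4, 0, 2, 4, 0, 5, 5, 5, 5, 4, 4, 4, 1, 5, 3]
def rw164 : List ℕ := [1, 2, 2, 0, 0, 3, 3, 0, 0, 3, 1, 2, 1]
def rw165 : List ℕ := [1, 5, 3, 1, 6, 0, 2, 4, 0, 5, 5, 5, 7, 4, 4, 4]
def rw166 : List ℕ := [1, 7, 3, 5, 1, 2, 0, 4, 2, 6, 0, 4, 2, 6, 3, 7, 3, 5]
def rw167 : List ℕ := [1, 6, 9, 6, 9, 6, 9, 6, 9, 0, 8, 7, 8, 7, 8, 7, 8, 7]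
def rw168 : List ℕ := [1, 7, 3, 5, 1, 3, 0, 4, 2, 6, 0, 4, 2, 6, 2, 7, 3, 5]
def rw169 : List ℕ := [1, 2, 1, 9, 0, 3, 0, 4, 4, 0, 3, 4, 8, 5, 2, 1, 5, 5]
def rw170 : List ℕ := [1, 2, 1, 7, 0, 3, 0, 4, 4, 0, 3, 4, 6, 5, 2, 1, 5, 5]
def rw171 : List ℕ := [1, 3, 1, 3, 1, 3]
def rw172 : List ℕ := [1, 1, 6, 0, 0, 5, 2, 1, 3, 5, 7, 4, 2, 0, 3, 4]
def rw173 : List ℕ := [1, 3, 5, 1, 4, 2, 0, 3, 4, 1, 1, 0, 0, 0, 5, 2]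
def rw174 : List ℕ := [1, 5, 3, 1, 2, 0, 2, 4, 0, 5, 5, 5, 3, 4, 4, 4]
def rw175 : List ℕ := [1, 4, 7, 5, 0, 4, 0, 4, 2, 1, 6, 0, 3, 5, 1, 5]
def rw176 : List ℕ := [1, 5, 5, 1, 2, 1, 2, 0, 3, 0, 4, 4, 0, 3, 4, 3, 5, 2]
def rw177 : List ℕ := [1, 1, 3, 0, 0, 5, 2, 1, 3, 5, 2, 4, 2, 0, 3, 4]
def rw178 : List ℕ := [1, 3, 5, 5, 4, 2, 0, 3, 4, 1, 1, 4, 0, 0, 5, 2]
def rw179 : List ℕ := [1, 3, 3, 0, 0, 3, 0, 2, 1, 1, 2, 2, 1]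
def rw180 : List ℕ := [1, 5, 5, 1, 2, 1, 3, 0, 3, 0, 4, 4, 0, 3, 4, 2, 5, 2]
def rw181 : List ℕ := [1, 3, 1, 3, 1, 3]
def rw182 : List ℕ := [1, 1, 1, 1, 1, 1, 1]
def rw183 : List ℕ := [1, 2, 0, 0, 5, 2, 1, 3, 5, 3, 4, 2, 0, 3, 4, 1]
def rw184 : List ℕ := [1, 2, 2, 1, 1, 3, 3, 0, 0, 3, 0, 2, 1]
def rw185 : List ℕ := [1, 1, 2, 2, 1, 1, 3, 3, 0, 0, 3, 0, 2]
def rw186 : List ℕ := [1, 5, 3, 1, 7, 0, 2, 4, 0, 5, 5, 5, 6, 4, 4, 4]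
def rw187 : List ℕ := [1, 7, 3, 5, 1, 4, 0, 4, 2, 6, 0, 4, 2, 6, 5, 7, 3, 5]
def rw188 : List ℕ := [1, 3, 5, 0, 4, 2, 0, 3, 4, 1, 1, 1, 0, 0, 5, 2]
def rw189 : List ℕ := [1, 1, 1, 1, 1, 1, 1]
def rw190 : List ℕ := [1, 5, 0, 0, 5, 2, 1, 3, 5, 4, 4, 2, 0, 3, 4, 1]
def rw191 : List ℕ := [1, 1, 1, 0, 0, 5, 2, 1, 3, 5, 0, 4, 2, 0, 3, 4]
def rw192 : List ℕ := [1, 5, 1, 4, 4, 5, 0, 4, 0, 4, 2, 1, 5, 0, 3, 5]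
def rw193 : List ℕ := [1, 7, 3, 5, 1, 6, 0, 4, 2, 6, 0, 4, 2, 6, 7, 7, 3, 5]
def rw194 : List ℕ := [1, 3, 0, 0, 2, 0, 3, 3]
def rw195 : List ℕ := [1, 2, 0, 3, 5, 1, 5, 1, 4, 3, 5, 0, 4, 0, 4, 2]
def rw196 : List ℕ := [1, 5, 1, 4, 2, 5, 0, 4, 0, 4, 2, 1, 3, 0, 3, 5]
def rw197 : List ℕ := [1, 1, 0, 2, 4, 0, 5, 5, 5, 0, 4, 4, 4, 1, 5, 3]
def rw198 : List ℕ := [1, 1, 2, 0, 0, 5, 2, 1, 3, 5, 3, 4, 2, 0, 3, 4]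
def rw199 : List ℕ := [1, 2, 1, 1, 2, 2, 0, 0, 3, 3, 0, 0, 3]
def rw200 : List ℕ := [1, 4, 4, 5, 0, 4, 0, 4, 2, 1, 5, 0, 3, 5, 1, 5]
def rw201 : List ℕ := [1, 5, 5, 1, 2, 1, 1, 0, 3, 0, 4, 4, 0, 3, 4, 0, 5, 2]
def rw202 : List ℕ := [1, 5, 1, 4, 5, 5, 0, 4, 0, 4, 2, 1, 4, 0, 3, 5]
def rw203 : List ℕ := [1, 5, 5, 1, 2, 1, 5, 0, 3, 0, 4, 4, 0, 3, 4, 4, 5, 2]
def rw204 : List ℕ := [1, 5, 0, 3, 0, 4, 4, 0, 3, 4, 4, 5, 2, 1, 5, 5, 1, 2]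
def rw205 : List ℕ := [1, 4, 2, 5, 0, 4, 0, 4, 2, 1, 3, 0, 3, 5, 1, 5]
def rw206 : List ℕ := [1, 2, 1, 3, 0, 3, 0, 4, 4, 0, 3, 4, 2, 5, 2, 1, 5, 5]
def rw207 : List ℕ := [1, 4, 1, 5, 0, 4, 0, 4, 2, 1, 0, 0, 3, 5, 1, 5]
def rw208 : List ℕ := [1, 5, 5, 1, 2, 1, 7, 0, 3, 0, 4, 4, 0, 3, 4, 6, 5, 2]
def rw209 : List ℕ := [1, 7, 3, 5, 1, 1, 0, 4, 2, 6, 0, 4, 2, 6, 0, 7, 3, 5]
def rw210 : List ℕ := [1, 3, 1, 1, 2, 0, 2, 2]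
def rw211 : List ℕ := [1, 5, 1, 4, 1, 5, 0, 4, 0, 4, 2, 1, 0, 0, 3, 5]
def rw212 : List ℕ := [1, 5, 5, 1, 2, 1, 6, 0, 3, 0, 4, 4, 0, 3, 4, 7, 5, 2]
def rw213 : List ℕ := [1, 7, 0, 4, 2, 6, 0, 4, 2, 6, 6, 7, 3, 5, 1, 7, 3, 5]
def rw214 : List ℕ := [1, 3, 0, 0, 5, 2, 1, 3, 5, 2, 4, 2, 0, 3, 4, 1]
def rw215 : List ℕ := [1, 2, 1, 2, 0, 3, 0, 4, 4, 0, 3, 4, 3, 5, 2, 1, 5, 5]
def rw216 : List ℕ := [1, 2, 0, 3, 0, 4, 4, 0, 3, 4, 3, 5, 2, 1, 5, 5, 1, 2]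
def rw217 : List ℕ := [1, 2, 1, 6, 0, 3, 0, 4, 4, 0, 3, 4, 7, 5, 2, 1, 5, 5]
def rw218 : List ℕ := [1, 1, 2, 2, 0, 0, 3, 3, 0, 0, 3, 1, 2]
def rw219 : List ℕ := [1, 3, 0, 2, 4, 0, 5, 5, 5, 2, 4, 4, 4, 1, 5, 3]
def rw220 : List ℕ := [1, 5, 1, 4, 3, 5, 0, 4, 0, 4, 2, 1, 2, 0, 3, 5]
def rw221 : List ℕ := [1, 5, 5, 1, 2, 1, 4, 0, 3, 0, 4, 4, 0, 3, 4, 5, 5, 2]
def rw222 : List ℕ := [1, 1, 5, 0, 0, 5, 2, 1, 3, 5, 4, 4, 2, 0, 3, 4]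
def rw223 : List ℕ := [1, 5, 1, 4, 7, 5, 0, 4, 0, 4, 2, 1, 6, 0, 3, 5]
def rw224 : List ℕ := [1, 3, 5, 2, 4, 2, 0, 3, 4, 1, 1, 3, 0, 0, 5, 2]
def rw225 : List ℕ := [1, 2, 0, 2, 4, 0, 5, 5, 5, 3, 4, 4, 4, 1, 5, 3]
def rw226 : List ℕ := [1, 2, 1, 8, 0, 3, 0, 4, 4, 0, 3, 4, 9, 5, 2, 1, 5, 5]
def rw227 : List ℕ := [1, 4, 0, 4, 2, 6, 0, 4, 2, 6, 5, 7, 3, 5, 1, 7, 3, 5]
def rw228 : List ℕ := [1, 1, 7, 0, 0, 5, 2, 1, 3, 5, 6, 4, 2, 0, 3, 4]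
def rw229 : List ℕ := [1, 6, 0, 0, 5, 2, 1, 3, 5, 7, 4, 2, 0, 3, 4, 1]
def rw230 : List ℕ := [1, 2, 1, 8, 4, 3, 5, 9, 0, 3, 0, 9, 9, 9, 0, 3, 1, 2, 0, 2, 1, 8, 8, 8]
def rw231 : List ℕ := [1, 1, 9, 0, 0, 5, 2, 1, 3, 5, 8, 4, 2, 0, 3, 4]
def rw232 : List ℕ := [1, 7, 0, 2, 4, 0, 5, 5, 5, 6, 4, 4, 4, 1, 5, 3]
def rw233 : List ℕ := [1, 5, 1, 4, 6, 5, 0, 4, 0, 4, 2, 1, 7, 0, 3, 5]
def rw234 : List ℕ := [1, 3, 0, 3, 0, 4, 4, 0, 3, 4, 2, 5, 2, 1, 5, 5, 1, 2]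
def rw235 : List ℕ := [1, 1, 0, 3, 5, 1, 5, 1, 4, 0, 5, 0, 4, 0, 4, 2]
def rw236 : List ℕ := [1, 6, 0, 2, 4, 0, 5, 5, 5, 7, 4, 4, 4, 1, 5, 3]
def rw237 : List ℕ := [1, 7, 3, 5, 1, 7, 0, 4, 2, 6, 0, 4, 2, 6, 6, 7, 3, 5]
def rw238 : List ℕ := [1, 3, 0, 3, 5, 1, 5, 1, 4, 2, 5, 0, 4, 0, 4, 2]
def rw239 : List ℕ := [1, 7, 0, 0, 5, 2, 1, 3, 5, 6, 4, 2, 0, 3, 4, 1]
def rw240 : List ℕ := [1, 1, 0, 4, 2, 6, 0, 4, 2, 6, 0, 7, 3, 5, 1, 7, 3, 5]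
def rw241 : List ℕ := [1, 7, 0, 3, 0, 4, 4, 0, 3, 4, 6, 5, 2, 1, 5, 5, 1, 2]
def rw242 : List ℕ := [1, 1, 0, 3, 0, 4, 4, 0, 3, 4, 0, 5, 2, 1, 5, 5, 1, 2]
def rw243 : List ℕ := [1, 6, 0, 3, 0, 4, 4, 0, 3, 4, 7, 5, 2, 1, 5, 5, 1, 2]
def rw244 : List ℕ := [1, 1, 8, 0, 0, 5, 2, 1, 3, 5, 9, 4, 2, 0, 3, 4]
def rw245 : List ℕ := [2, 0, 2, 0, 2, 0]
def rw246 : List ℕ := [2, 1, 3, 1, 2, 0]
def rw247 : List ℕ := [2, 0, 3, 1, 3, 0]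
def rw248 : List ℕ := [2, 5, 2, 5, 3, 4, 3, 4, 3, 4, 3, 2, 2, 5]
def rw249 : List ℕ := [2, 5, 2, 5, 2, 5, 4, 4, 3, 4, 3, 4, 3, 5]
def rw250 : List ℕ := [2, 4, 0, 5, 5, 5, 4, 4, 4, 4, 1, 5, 3, 1, 5, 0]
def rw251 : List ℕ := [2, 8, 7, 8, 7, 8, 7, 8, 7, 3, 6, 9, 6, 9, 6, 9, 6, 9]
def rw252 : List ℕ := [2, 0, 2, 0, 2, 0]
def rw253 : List ℕ := [2, 1, 5, 0, 3, 5, 1, 5, 1, 4, 4, 5, 0, 4, 0, 4]
def rw254 : List ℕ := [2, 0, 2, 1, 3, 1]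
def rw255 : List ℕ := [2, 5, 0, 4, 3, 4, 3, 4, 3, 1, 2, 5, 2, 5]
def rw256 : List ℕ := [2, 0, 2, 2, 1, 3, 1, 1]
def rw257 : List ℕ := [2, 0, 3, 4, 1, 1, 1, 0, 0, 5, 2, 1, 3, 5, 0, 4]
def rw258 : List ℕ := [2, 5, 5, 5, 1, 4, 4, 4, 3, 4, 4, 4, 3, 0, 2, 5, 5, 5]
def rw259 : List ℕ := [2, 2, 4, 3, 3, 5, 3, 3, 4]
def rw260 : List ℕ := [2, 4, 2, 2, 5, 3, 3, 5, 2]
def rw261 : List ℕ := [2, 1, 5, 0, 3, 0, 4, 4, 0, 3, 4, 4, 5, 2, 1, 5, 5, 1]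
def rw262 : List ℕ := [2, 6, 6, 6, 9, 7, 7, 7, 3, 7, 7, 7, 3, 8, 2, 6, 6, 6]
def rw263 : List ℕ := [2, 5, 2, 5, 0, 4, 3, 4, 3, 4, 3, 1, 2, 5]
def rw264 : List ℕ := [2, 4, 3, 3, 5, 3, 3, 4, 2]
def rw265 : List ℕ := [2, 2, 0, 2, 2, 0]
def rw266 : List ℕ := [2, 2, 4, 2, 2, 5, 3, 3, 5]
def rw267 : List ℕ := [2, 2, 2, 2, 2, 2, 2]
def rw268 : List ℕ := [2, 5, 3, 3, 3, 3, 3, 2, 2, 2, 2, 4, 3, 3, 3, 4, 2, 5, 2, 2]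
def rw269 : List ℕ := [2, 0, 2, 2, 0, 2]
def rw270 : List ℕ := [2, 6, 4, 4, 3, 2, 2, 5, 5, 7, 3, 7, 7, 5, 3, 4, 6, 6]
def rw271 : List ℕ := [2, 2, 1, 3, 1, 1, 2, 0]
def rw272 : List ℕ := [2, 5, 3, 3, 5, 2, 2, 4, 2]
def rw273 : List ℕ := [2, 5, 5, 5, 2, 5, 5, 5, 0, 4, 4, 4, 3, 4, 4, 4, 3, 1]
def rw274 : List ℕ := [2, 6, 3, 4, 3, 2, 2, 5, 2, 7, 3, 7, 7, 4, 3, 5, 6, 6]
def rw275 : List ℕ := [2, 5, 2, 4, 3, 4, 3, 4, 3, 3, 2, 5, 2, 5]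
def rw276 : List ℕ := [2, 2, 0, 0, 3, 3, 0, 0, 3, 1, 2, 1, 1]
def rw277 : List ℕ := [2, 4, 0, 5, 5, 5, 5, 4, 4, 4, 1, 5, 3, 1, 4, 0]
def rw278 : List ℕ := [2, 2, 5, 3, 3, 5, 2, 2, 4]
def rw279 : List ℕ := [2, 2, 0, 2, 2, 0]
def rw280 : List ℕ := [2, 0, 3, 4, 1, 1, 0, 0, 0, 5, 2, 1, 3, 5, 1, 4]
def rw281 : List ℕ := [2, 6, 3, 4, 3, 5, 2, 5, 2, 7, 3, 7, 7, 4, 4, 5, 6, 6]
def rw282 : List ℕ := [2, 7, 3, 7, 7, 4, 2, 5, 6, 6, 2, 6, 3, 4, 3, 3, 2, 5]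
def rw283 : List ℕ := [2, 2, 2, 2, 2, 2, 2]
def rw284 : List ℕ := [2, 1, 1, 2, 2, 1, 1, 3, 3, 0, 0, 3, 0]
def rw285 : List ℕ := [2, 1, 2, 0, 3, 5, 1, 5, 1, 4, 3, 5, 0, 4, 0, 4]
def rw286 : List ℕ := [2, 5, 5, 5, 5, 4, 4, 4, 3, 4, 4, 4, 3, 4, 2, 5, 5, 5]
def rw287 : List ℕ := [2, 5, 5, 5, 8, 4, 4, 4, 3, 4, 4, 4, 3, 9, 2, 5, 5, 5]
def rw288 : List ℕ := [2, 0, 3, 4, 1, 1, 5, 0, 0, 5, 2, 1, 3, 5, 4, 4]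
def rw289 : List ℕ := [2, 7, 3, 7, 7, 4, 3, 5, 6, 6, 2, 6, 3, 4, 3, 2, 2, 5]
def rw290 : List ℕ := [2, 2, 2, 2, 2, 2, 2]
def rw291 : List ℕ := [2, 5, 2, 7, 3, 7, 7, 4, 7, 5, 6, 6, 2, 6, 3, 4, 3, 6]
def rw292 : List ℕ := [2, 6, 6, 6, 2, 6, 6, 6, 7, 7, 7, 7, 3, 7, 7, 7, 3, 6]
def rw293 : List ℕ := [2, 7, 5, 3, 3, 2, 4, 6, 3, 7, 2, 4, 7, 2, 6, 5, 3, 6]
def rw294 : List ℕ := [2, 7, 4, 4, 7, 3, 5, 2, 6, 5, 5, 6, 3, 6, 5, 6, 4, 4, 5, 7, 4, 7]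
def rw295 : List ℕ := [2, 6, 3, 4, 3, 7, 2, 5, 2, 7, 3, 7, 7, 4, 6, 5, 6, 6]
def rw296 : List ℕ := [2, 2, 2, 2, 2, 2, 2]
def rw297 : List ℕ := [2, 6, 4, 4, 3, 3, 2, 5, 5, 7, 3, 7, 7, 5, 2, 4, 6, 6]
def rw298 : List ℕ := [2, 5, 3, 3, 3, 3, 7, 2, 2, 2, 2, 4, 3, 3, 3, 4, 6, 5, 2, 2]
def rw299 : List ℕ := [2, 5, 4, 4, 3, 4, 3, 4, 3, 5, 2, 5, 2, 5]
def rw300 : List ℕ := [2, 6, 3, 4, 3, 3, 2, 5, 2, 7, 3, 7, 7, 4, 2, 5, 6, 6]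
def rw301 : List ℕ := [2, 5, 5, 5, 4, 4, 4, 4, 3, 4, 4, 4, 3, 5, 2, 5, 5, 5]
def rw302 : List ℕ := [2, 6, 6, 6, 2, 7, 7, 7, 3, 7, 7, 7, 3, 3, 2, 6, 6, 6]
def rw303 : List ℕ := [2, 6, 6, 6, 2, 6, 6, 6, 6, 7, 7, 7, 3, 7, 7, 7, 3, 7]
def rw304 : List ℕ := [2, 7, 5, 3, 2, 2, 4, 6, 3, 7, 2, 4, 7, 3, 6, 5, 3, 6]
def rw305 : List ℕ := [2, 2, 5, 3, 3, 3, 3, 4, 2, 2, 2, 2, 4, 3, 3, 3, 4, 5, 5, 2]
def rw306 : List ℕ := [2, 5, 2, 7, 3, 7, 7, 4, 3, 5, 6, 6, 2, 6, 3, 4, 3, 2]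
def rw307 : List ℕ := [2, 2, 4, 3, 3, 3, 4, 7, 5, 2, 2, 2, 5, 3, 3, 3, 3, 6, 2, 2]
def rw308 : List ℕ := [2, 4, 0, 5, 5, 5, 6, 4, 4, 4, 1, 5, 3, 1, 7, 0]
def rw309 : List ℕ := [2, 7, 3, 7, 7, 4, 6, 5, 6, 6, 2, 6, 3, 4, 3, 7, 2, 5]
def rw310 : List ℕ := [2, 5, 5, 5, 7, 4, 4, 4, 3, 4, 4, 4, 3, 6, 2, 5, 5, 5]
def rw311 : List ℕ := [2, 7, 5, 3, 4, 2, 4, 6, 3, 7, 2, 4, 7, 5, 6, 5, 3, 6]
def rw312 : List ℕ := [2, 7, 4, 4, 7, 3, 7, 2, 6, 5, 5, 6, 3, 6, 5, 6, 4, 6, 5, 7, 4, 7]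
def rw313 : List ℕ := [2, 6, 3, 4, 3, 4, 2, 5, 2, 7, 3, 7, 7, 4, 5, 5, 6, 6]
def rw314 : List ℕ := [2, 8, 8, 7, 7, 8, 5, 6, 6, 5, 5, 3, 4, 4, 7, 7, 4, 9, 6, 6, 9, 9]
def rw315 : List ℕ := [2, 2, 5, 3, 3, 3, 3, 1, 2, 2, 2, 2, 4, 3, 3, 3, 4, 0, 5, 2]
def rw316 : List ℕ := [2, 5, 5, 7, 3, 7, 7, 5, 4, 4, 6, 6, 2, 6, 4, 4, 3, 5]
def rw317 : List ℕ := [2, 6, 5, 5, 6, 3, 6, 5, 6, 4, 5, 5, 7, 4, 7, 2, 7, 4, 4, 7, 3, 4]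
def rw318 : List ℕ := [2, 5, 3, 4, 3, 4, 3, 4, 3, 2, 2, 5, 2, 5]
def rw319 : List ℕ := [2, 2, 2, 2, 2, 2, 2]
def rw320 : List ℕ := [2, 6, 6, 6, 2, 6, 6, 6, 4, 7, 7, 7, 3, 7, 7, 7, 3, 5]
def rw321 : List ℕ := [2, 1, 1, 0, 3, 0, 4, 4, 0, 3, 4, 0, 5, 2, 1, 5, 5, 1]
def rw322 : List ℕ := [2, 2, 5, 3, 3, 3, 3, 2, 2, 2, 2, 2, 4, 3, 3, 3, 4, 3, 5, 2]
def rw323 : List ℕ := [2, 5, 2, 5, 2, 4, 3, 4, 3, 4, 3, 3, 2, 5]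
def rw324 : List ℕ := [2, 7, 5, 3, 7, 2, 4, 6, 3, 7, 2, 4, 7, 6, 6, 5, 3, 6]
def rw325 : List ℕ := [2, 4, 0, 5, 5, 5, 7, 4, 4, 4, 1, 5, 3, 1, 6, 0]
def rw326 : List ℕ := [2, 4, 6, 3, 7, 2, 4, 7, 6, 6, 5, 3, 6, 2, 7, 5, 3, 7]
def rw327 : List ℕ := [2, 5, 2, 7, 3, 7, 7, 4, 4, 5, 6, 6, 2, 6, 3, 4, 3, 5]
def rw328 : List ℕ := [2, 7, 4, 4, 7, 3, 3, 2, 6, 5, 5, 6, 3, 6, 5, 6, 4, 2, 5, 7, 4, 7]
def rw329 : List ℕ := [2, 6, 6, 6, 8, 7, 7, 7, 3, 7, 7, 7, 3, 9, 2, 6, 6, 6]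
def rw330 : List ℕ := [2, 7, 4, 4, 7, 3, 2, 2, 6, 5, 5, 6, 3, 6, 5, 6, 4, 3, 5, 7, 4, 7]
def rw331 : List ℕ := [2, 6, 4, 4, 3, 5, 2, 5, 5, 7, 3, 7, 7, 5, 4, 4, 6, 6]
def rw332 : List ℕ := [2, 1, 1, 3, 3, 0, 0, 3, 0, 2, 1, 1, 2]
def rw333 : List ℕ := [2, 4, 7, 3, 6, 5, 3, 6, 2, 7, 5, 3, 2, 2, 4, 6, 3, 7]
def rw334 : List ℕ := [2, 6, 4, 4, 3, 4, 2, 5, 5, 7, 3, 7, 7, 5, 5, 4, 6, 6]
def rw335 : List ℕ := [2, 2, 2, 2, 4, 3, 3, 3, 4, 5, 5, 2, 2, 2, 5, 3, 3, 3, 3, 4]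
def rw336 : List ℕ := [2, 4, 3, 3, 3, 4, 5, 5, 2, 2, 2, 5, 3, 3, 3, 3, 4, 2, 2, 2]
def rw337 : List ℕ := [2, 5, 3, 3, 3, 3, 2, 2, 2, 2, 2, 4, 3, 3, 3, 4, 3, 5, 2, 2]
def rw338 : List ℕ := [2, 6, 6, 6, 6, 7, 7, 7, 3, 7, 7, 7, 3, 7, 2, 6, 6, 6]
def rw339 : List ℕ := [2, 4, 3, 3, 3, 4, 6, 5, 2, 2, 2, 5, 3, 3, 3, 3, 7, 2, 2, 2]
def rw340 : List ℕ := [2, 4, 7, 4, 6, 5, 3, 6, 2, 7, 5, 3, 5, 2, 4, 6, 3, 7]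
def rw341 : List ℕ := [2, 6, 4, 4, 3, 6, 2, 5, 5, 7, 3, 7, 7, 5, 7, 4, 6, 6]
def rw342 : List ℕ := [2, 6, 0, 4, 2, 6, 6, 7, 3, 5, 1, 7, 3, 5, 1, 7, 0, 4]
def rw343 : List ℕ := [2, 6, 6, 6, 4, 7, 7, 7, 3, 7, 7, 7, 3, 5, 2, 6, 6, 6]
def rw344 : List ℕ := [2, 5, 5, 7, 3, 7, 7, 5, 5, 4, 6, 6, 2, 6, 4, 4, 3, 4]
def rw345 : List ℕ := [2, 6, 5, 5, 6, 3, 6, 5, 6, 4, 3, 5, 7, 4, 7, 2, 7, 4, 4, 7, 3, 2]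
def rw346 : List ℕ := [2, 5, 2, 5, 2, 5, 8, 4, 3, 4, 3, 4, 3, 9]
def rw347 : List ℕ := [2, 5, 2, 5, 2, 5, 0, 4, 3, 4, 3, 4, 3, 1]
def rw348 : List ℕ := [2, 5, 5, 5, 2, 5, 5, 5, 3, 4, 4, 4, 3, 4, 4, 4, 3, 2]
def rw349 : List ℕ := [2, 0, 3, 3, 1, 3, 0, 0]
def rw350 : List ℕ := [2, 6, 0, 4, 2, 6, 1, 7, 3, 5, 1, 7, 3, 5, 1, 0, 0, 4]
def rw351 : List ℕ := [2, 2, 5, 3, 3, 3, 3, 7, 2, 2, 2, 2, 4, 3, 3, 3, 4, 6, 5, 2]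
def rw352 : List ℕ := [2, 5, 2, 5, 8, 4, 3, 4, 3, 4, 3, 9, 2, 5]
def rw353 : List ℕ := [2, 2, 2, 2, 4, 3, 3, 3, 4, 7, 5, 2, 2, 2, 5, 3, 3, 3, 3, 6]
def rw354 : List ℕ := [2, 5, 3, 3, 3, 3, 4, 2, 2, 2, 2, 4, 3, 3, 3, 4, 5, 5, 2, 2]
def rw355 : List ℕ := [2, 6, 6, 6, 2, 6, 6, 6, 5, 7, 7, 7, 3, 7, 7, 7, 3, 4]
def rw356 : List ℕ := [2, 7, 3, 7, 7, 4, 4, 5, 6, 6, 2, 6, 3, 4, 3, 5, 2, 5]
def rw357 : List ℕ := [2, 5, 5, 5, 2, 5, 5, 5, 4, 4, 4, 4, 3, 4, 4, 4, 3, 5]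
def rw358 : List ℕ := [2, 2, 2, 5, 3, 3, 3, 3, 1, 2, 2, 2, 2, 4, 3, 3, 3, 4, 0, 5]
def rw359 : List ℕ := [2, 7, 4, 4, 7, 3, 6, 2, 6, 5, 5, 6, 3, 6, 5, 6, 4, 7, 5, 7, 4, 7]
def rw360 : List ℕ := [2, 7, 3, 7, 7, 4, 7, 5, 6, 6, 2, 6, 3, 4, 3, 6, 2, 5]
def rw361 : List ℕ := [2, 4, 2, 5, 8, 7, 9, 6, 9, 4, 3, 5, 3, 8, 4, 3, 3, 8, 2, 2, 5, 9]
def rw362 : List ℕ := [2, 2, 2, 4, 3, 3, 3, 4, 5, 5, 2, 2, 2, 5, 3, 3, 3, 3, 4, 2]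
def rw363 : List ℕ := [2, 5, 5, 5, 2, 4, 4, 4, 3, 4, 4, 4, 3, 3, 2, 5, 5, 5]
def rw364 : List ℕ := [2, 4, 0, 5, 5, 5, 9, 4, 4, 4, 1, 5, 3, 1, 8, 0]
def rw365 : List ℕ := [2, 2, 2, 2, 2, 2, 2]
def rw366 : List ℕ := [2, 4, 6, 3, 7, 2, 4, 7, 7, 6, 5, 3, 6, 2, 7, 5, 3, 6]
def rw367 : List ℕ := [2, 4, 3, 3, 3, 4, 1, 5, 2, 2, 2, 5, 3, 3, 3, 3, 0, 2, 2, 2]
def rw368 : List ℕ := [2, 5, 5, 5, 6, 4, 4, 4, 3, 4, 4, 4, 3, 7, 2, 5, 5, 5]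
def rw369 : List ℕ := [2, 1, 3, 5, 4, 4, 2, 0, 3, 4, 1, 1, 5, 0, 0, 5]
def rw370 : List ℕ := [2, 1, 5, 5, 1, 2, 1, 0, 0, 3, 0, 4, 4, 0, 3, 4, 1, 5]
def rw371 : List ℕ := [2, 6, 0, 4, 2, 6, 2, 7, 3, 5, 1, 7, 3, 5, 1, 3, 0, 4]
def rw372 : List ℕ := [2, 6, 0, 4, 2, 6, 7, 7, 3, 5, 1, 7, 3, 5, 1, 6, 0, 4]
def rw373 : List ℕ := [2, 6, 0, 4, 2, 6, 0, 7, 3, 5, 1, 7, 3, 5, 1, 1, 0, 4]
def rw374 : List ℕ := [2, 2, 2, 4, 3, 3, 3, 4, 1, 5, 2, 2, 2, 5, 3, 3, 3, 3, 0, 2]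
def rw375 : List ℕ := [2, 5, 6, 4, 3, 4, 3, 4, 3, 7, 2, 5, 2, 5]
def rw376 : List ℕ := [2, 0, 0, 3, 3, 0, 0, 3, 1, 2, 1, 1, 2]
def rw377 : List ℕ := [2, 1, 3, 5, 1, 4, 2, 0, 3, 4, 1, 1, 0, 0, 0, 5]
def rw378 : List ℕ := [2, 5, 5, 5, 0, 4, 4, 4, 3, 4, 4, 4, 3, 1, 2, 5, 5, 5]
def rw379 : List ℕ := [2, 6, 6, 6, 1, 7, 7, 7, 3, 7, 7, 7, 3, 0, 2, 6, 6, 6]
def rw380 : List ℕ := [2, 2, 5, 3, 3, 3, 3, 3, 2, 2, 2, 2, 4, 3, 3, 3, 4, 2, 5, 2]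
def rw381 : List ℕ := [2, 6, 3, 4, 3, 1, 2, 5, 2, 7, 3, 7, 7, 4, 0, 5, 6, 6]
def rw382 : List ℕ := [2, 2, 4, 3, 3, 3, 4, 5, 5, 2, 2, 2, 5, 3, 3, 3, 3, 4, 2, 2]
def rw383 : List ℕ := [2, 2, 2, 5, 3, 3, 3, 3, 7, 2, 2, 2, 2, 4, 3, 3, 3, 4, 6, 5]
def rw384 : List ℕ := [2, 7, 3, 7, 7, 4, 5, 5, 6, 6, 2, 6, 3, 4, 3, 4, 2, 5]
def rw385 : List ℕ := [2, 0, 3, 4, 1, 1, 3, 0, 0, 5, 2, 1, 3, 5, 2, 4]
def rw386 : List ℕ := [2, 1, 4, 0, 3, 5, 1, 5, 1, 4, 5, 5, 0, 4, 0, 4]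
def rw387 : List ℕ := [2, 6, 4, 4, 3, 1, 2, 5, 5, 7, 3, 7, 7, 5, 0, 4, 6, 6]
def rw388 : List ℕ := [2, 1, 3, 5, 3, 4, 2, 0, 3, 4, 1, 1, 2, 0, 0, 5]
def rw389 : List ℕ := [2, 2, 2, 5, 3, 3, 3, 3, 3, 2, 2, 2, 2, 4, 3, 3, 3, 4, 2, 5]
def rw390 : List ℕ := [2, 1, 5, 5, 1, 2, 1, 4, 0, 3, 0, 4, 4, 0, 3, 4, 5, 5]
def rw391 : List ℕ := [2, 2, 1, 1, 3, 3, 0, 0, 3, 0, 2, 1, 1]
def rw392 : List ℕ := [2, 4, 7, 2, 6, 5, 3, 6, 2, 7, 5, 3, 3, 2, 4, 6, 3, 7]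
def rw393 : List ℕ := [2, 4, 6, 3, 7, 2, 4, 7, 3, 6, 5, 3, 6, 2, 7, 5, 3, 2]
def rw394 : List ℕ := [2, 5, 5, 7, 3, 7, 7, 5, 7, 4, 6, 6, 2, 6, 4, 4, 3, 6]
def rw395 : List ℕ := [2, 4, 7, 5, 6, 5, 3, 6, 2, 7, 5, 3, 4, 2, 4, 6, 3, 7]
def rw396 : List ℕ := [2, 5, 1, 4, 3, 4, 3, 4, 3, 0, 2, 5, 2, 5]
def rw397 : List ℕ := [2, 7, 4, 4, 7, 3, 4, 2, 6, 5, 5, 6, 3, 6, 5, 6, 4, 5, 5, 7, 4, 7]
def rw398 : List ℕ := [2, 1, 5, 5, 1, 2, 1, 1, 0, 3, 0, 4, 4, 0, 3, 4, 0, 5]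
def rw399 : List ℕ := [2, 5, 2, 5, 6, 4, 3, 4, 3, 4, 3, 7, 2, 5]
def rw400 : List ℕ := [2, 1, 3, 5, 0, 4, 2, 0, 3, 4, 1, 1, 1, 0, 0, 5]
def rw401 : List ℕ := [2, 6, 3, 4, 3, 0, 2, 5, 2, 7, 3, 7, 7, 4, 1, 5, 6, 6]
def rw402 : List ℕ := [2, 6, 6, 6, 3, 7, 7, 7, 3, 7, 7, 7, 3, 2, 2, 6, 6, 6]
def rw403 : List ℕ := [2, 0, 3, 4, 1, 1, 4, 0, 0, 5, 2, 1, 3, 5, 5, 4]
def rw404 : List ℕ := [2, 2, 2, 5, 3, 3, 3, 3, 4, 2, 2, 2, 2, 4, 3, 3, 3, 4, 5, 5]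
def rw405 : List ℕ := [2, 4, 7, 6, 6, 5, 3, 6, 2, 7, 5, 3, 7, 2, 4, 6, 3, 7]
def rw406 : List ℕ := [2, 4, 7, 1, 6, 5, 3, 6, 2, 7, 5, 3, 0, 2, 4, 6, 3, 7]
def rw407 : List ℕ := [2, 1, 5, 5, 1, 2, 1, 3, 0, 3, 0, 4, 4, 0, 3, 4, 2, 5]
def rw408 : List ℕ := [2, 5, 3, 3, 3, 3, 0, 2, 2, 2, 2, 4, 3, 3, 3, 4, 1, 5, 2, 2]
def rw409 : List ℕ := [2, 1, 1, 2, 2, 0, 0, 3, 3, 0, 0, 3, 1]
def rw410 : List ℕ := [2, 4, 0, 5, 5, 5, 1, 4, 4, 4, 1, 5, 3, 1, 0, 0]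
def rw411 : List ℕ := [2, 6, 6, 6, 0, 7, 7, 7, 3, 7, 7, 7, 3, 1, 2, 6, 6, 6]
def rw412 : List ℕ := [2, 7, 5, 3, 1, 2, 4, 6, 3, 7, 2, 4, 7, 0, 6, 5, 3, 6]
def rw413 : List ℕ := [2, 4, 3, 3, 3, 4, 0, 5, 2, 2, 2, 5, 3, 3, 3, 3, 1, 2, 2, 2]
def rw414 : List ℕ := [2, 4, 6, 3, 7, 2, 4, 7, 4, 6, 5, 3, 6, 2, 7, 5, 3, 5]
def rw415 : List ℕ := [2, 6, 3, 4, 3, 6, 2, 5, 2, 7, 3, 7, 7, 4, 7, 5, 6, 6]
def rw416 : List ℕ := [2, 5, 2, 5, 7, 4, 3, 4, 3, 4, 3, 6, 2, 5]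
def rw417 : List ℕ := [2, 5, 5, 5, 2, 5, 5, 5, 5, 4, 4, 4, 3, 4, 4, 4, 3, 4]
def rw418 : List ℕ := [2, 1, 2, 0, 3, 0, 4, 4, 0, 3, 4, 3, 5, 2, 1, 5, 5, 1]
def rw419 : List ℕ := [2, 4, 7, 0, 6, 5, 3, 6, 2, 7, 5, 3, 1, 2, 4, 6, 3, 7]
def rw420 : List ℕ := [2, 7, 5, 3, 5, 2, 4, 6, 3, 7, 2, 4, 7, 4, 6, 5, 3, 6]
def rw421 : List ℕ := [2, 5, 2, 7, 3, 7, 7, 4, 5, 5, 6, 6, 2, 6, 3, 4, 3, 4]
def rw422 : List ℕ := [2, 5, 5, 5, 2, 5, 5, 5, 1, 4, 4, 4, 3, 4, 4, 4, 3, 0]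
def rw423 : List ℕ := [2, 2, 2, 4, 3, 3, 3, 4, 6, 5, 2, 2, 2, 5, 3, 3, 3, 3, 7, 2]
def rw424 : List ℕ := [2, 1, 4, 0, 3, 0, 4, 4, 0, 3, 4, 5, 5, 2, 1, 5, 5, 1]
def rw425 : List ℕ := [2, 7, 5, 3, 6, 2, 4, 6, 3, 7, 2, 4, 7, 7, 6, 5, 3, 6]
def rw426 : List ℕ := [2, 1, 6, 0, 3, 0, 4, 4, 0, 3, 4, 7, 5, 2, 1, 5, 5, 1]
def rw427 : List ℕ := [2, 5, 7, 4, 3, 4, 3, 4, 3, 6, 2, 5, 2, 5]
def rw428 : List ℕ := [2, 6, 4, 4, 3, 0, 2, 5, 5, 7, 3, 7, 7, 5, 1, 4, 6, 6]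
def rw429 : List ℕ := [2, 4, 0, 5, 5, 5, 3, 4, 4, 4, 1, 5, 3, 1, 2, 0]
def rw430 : List ℕ := [2, 2, 5, 3, 3, 3, 3, 0, 2, 2, 2, 2, 4, 3, 3, 3, 4, 1, 5, 2]
def rw431 : List ℕ := [2, 6, 0, 4, 2, 6, 3, 7, 3, 5, 1, 7, 3, 5, 1, 2, 0, 4]
def rw432 : List ℕ := [2, 2, 2, 4, 3, 3, 3, 4, 7, 5, 2, 2, 2, 5, 3, 3, 3, 3, 6, 2]
def rw433 : List ℕ := [2, 6, 5, 5, 6, 3, 6, 5, 6, 4, 4, 5, 7, 4, 7, 2, 7, 4, 4, 7, 3, 5]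
def rw434 : List ℕ := [2, 4, 2, 5, 8, 7, 8, 6, 9, 4, 3, 5, 3, 8, 4, 3, 3, 9, 2, 2, 5, 9]
def rw435 : List ℕ := [2, 5, 5, 7, 3, 7, 7, 5, 6, 4, 6, 6, 2, 6, 4, 4, 3, 7]
def rw436 : List ℕ := [2, 6, 5, 5, 6, 3, 6, 5, 6, 4, 6, 5, 7, 4, 7, 2, 7, 4, 4, 7, 3, 7]
def rw437 : List ℕ := [2, 4, 0, 5, 5, 5, 8, 4, 4, 4, 1, 5, 3, 1, 9, 0]
def rw438 : List ℕ := [2, 1, 1, 0, 3, 5, 1, 5, 1, 4, 0, 5, 0, 4, 0, 4]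
def rw439 : List ℕ := [2, 2, 5, 9, 2, 4, 2, 5, 8, 7, 6, 6, 9, 4, 3, 5, 3, 8, 4, 3, 3, 7]
def rw440 : List ℕ := [2, 4, 7, 9, 6, 5, 3, 6, 2, 7, 5, 3, 8, 2, 4, 6, 3, 7]
def rw441 : List ℕ := [2, 4, 3, 3, 3, 4, 3, 5, 2, 2, 2, 5, 3, 3, 3, 3, 2, 2, 2, 2]
def rw442 : List ℕ := [2, 5, 5, 7, 3, 7, 7, 5, 3, 4, 6, 6, 2, 6, 4, 4, 3, 2]
def rw443 : List ℕ := [2, 5, 2, 5, 9, 4, 3, 4, 3, 4, 3, 8, 2, 5]
def rw444 : List ℕ := [2, 2, 5, 9, 2, 4, 2, 5, 8, 7, 4, 6, 9, 4, 3, 5, 3, 8, 4, 3, 3, 5]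
def rw445 : List ℕ := [2, 5, 2, 5, 1, 4, 3, 4, 3, 4, 3, 0, 2, 5]
def rw446 : List ℕ := [2, 6, 4, 4, 3, 7, 2, 5, 5, 7, 3, 7, 7, 5, 6, 4, 6, 6]
def rw447 : List ℕ := [2, 2, 2, 5, 3, 3, 3, 3, 6, 2, 2, 2, 2, 4, 3, 3, 3, 4, 7, 5]
def rw448 : List ℕ := [2, 1, 3, 5, 5, 4, 2, 0, 3, 4, 1, 1, 4, 0, 0, 5]
def rw449 : List ℕ := [2, 8, 5, 5, 8, 5, 5, 8, 5, 5, 3, 4, 4, 9, 4, 4, 9, 4, 4, 9]
def rw450 : List ℕ := [2, 2, 5, 9, 2, 4, 2, 5, 8, 7, 8, 6, 9, 4, 3, 5, 3, 8, 4, 3, 3, 9]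
def rw451 : List ℕ := [2, 4, 2, 5, 8, 7, 7, 6, 9, 4, 3, 5, 3, 8, 4, 3, 3, 6, 2, 2, 5, 9]
def rw452 : List ℕ := [2, 2, 2, 5, 3, 3, 3, 3, 2, 2, 2, 2, 2, 4, 3, 3, 3, 4, 3, 5]
def rw453 : List ℕ := [2, 4, 0, 5, 5, 5, 2, 4, 4, 4, 1, 5, 3, 1, 3, 0]
def rw454 : List ℕ := [2, 4, 4, 7, 7, 4, 9, 6, 6, 9, 9, 3, 8, 8, 7, 7, 8, 5, 6, 6, 5, 5]
def rw455 : List ℕ := [2, 6, 0, 7, 3, 5, 1, 7, 3, 5, 1, 1, 0, 4, 2, 6, 0, 4]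
def rw456 : List ℕ := [2, 5, 8, 4, 3, 4, 3, 4, 3, 9, 2, 5, 2, 5]
def rw457 : List ℕ := [2, 0, 2, 0, 2, 0]
def rw458 : List ℕ := [2, 0, 2, 2, 0, 2]
def rw459 : List ℕ := [2, 5, 9, 2, 4, 2, 5, 8, 7, 9, 6, 9, 4, 3, 5, 3, 8, 4, 3, 3, 8, 2]
def rw460 : List ℕ := [2, 4, 2, 5, 8, 7, 2, 6, 9, 4, 3, 5, 3, 8, 4, 3, 3, 3, 2, 2, 5, 9]
def rw461 : List ℕ := [2, 6, 6, 6, 5, 7, 7, 7, 3, 7, 7, 7, 3, 4, 2, 6, 6, 6]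
def rw462 : List ℕ := [2, 5, 8, 7, 4, 6, 9, 4, 3, 5, 3, 8, 4, 3, 3, 5, 2, 2, 5, 9, 2, 4]
def rw463 : List ℕ := [2, 4, 3, 3, 3, 4, 4, 5, 2, 2, 2, 5, 3, 3, 3, 3, 5, 2, 2, 2]
def rw464 : List ℕ := [2, 7, 5, 3, 9, 2, 4, 6, 3, 7, 2, 4, 7, 8, 6, 5, 3, 6]
def rw465 : List ℕ := [2, 5, 5, 7, 3, 7, 7, 5, 8, 4, 6, 6, 2, 6, 4, 4, 3, 9]
def rw466 : List ℕ := [2, 2, 4, 3, 3, 3, 4, 6, 5, 2, 2, 2, 5, 3, 3, 3, 3, 7, 2, 2]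
def rw467 : List ℕ := [2, 6, 5, 5, 6, 3, 6, 5, 6, 4, 7, 5, 7, 4, 7, 2, 7, 4, 4, 7, 3, 6]
def rw468 : List ℕ := [2, 6, 6, 6, 2, 6, 6, 6, 8, 7, 7, 7, 3, 7, 7, 7, 3, 9]
def rw469 : List ℕ := [2, 5, 9, 2, 4, 2, 5, 8, 7, 4, 6, 9, 4, 3, 5, 3, 8, 4, 3, 3, 5, 2]
def rw470 : List ℕ := [2, 4, 7, 7, 6, 5, 3, 6, 2, 7, 5, 3, 6, 2, 4, 6, 3, 7]
def rw471 : List ℕ := [2, 7, 3, 7, 7, 4, 8, 5, 6, 6, 2, 6, 3, 4, 3, 9, 2, 5]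
def rw472 : List ℕ := [2, 2, 2, 2, 4, 3, 3, 3, 4, 6, 5, 2, 2, 2, 5, 3, 3, 3, 3, 7]
def rw473 : List ℕ := [2, 5, 9, 2, 4, 2, 5, 8, 7, 8, 6, 9, 4, 3, 5, 3, 8, 4, 3, 3, 9, 2]
def rw474 : List ℕ := [2, 2, 5, 3, 3, 3, 3, 8, 2, 2, 2, 2, 4, 3, 3, 3, 4, 9, 5, 2]
def rw475 : List ℕ := [2, 4, 2, 5, 8, 7, 3, 6, 9, 4, 3, 5, 3, 8, 4, 3, 3, 2, 2, 2, 5, 9]
def rw476 : List ℕ := [2, 5, 8, 7, 3, 6, 9, 4, 3, 5, 3, 8, 4, 3, 3, 2, 2, 2, 5, 9, 2, 4]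
def rw477 : List ℕ := [2, 4, 2, 5, 8, 7, 4, 6, 9, 4, 3, 5, 3, 8, 4, 3, 3, 5, 2, 2, 5, 9]
def rw478 : List ℕ := [2, 5, 2, 5, 2, 5, 9, 4, 3, 4, 3, 4, 3, 8]
def rw479 : List ℕ := [2, 2, 4, 3, 3, 3, 4, 0, 5, 2, 2, 2, 5, 3, 3, 3, 3, 1, 2, 2]
def rw480 : List ℕ := [2, 2, 4, 3, 3, 3, 4, 1, 5, 2, 2, 2, 5, 3, 3, 3, 3, 0, 2, 2]
def rw481 : List ℕ := [2, 5, 3, 3, 3, 3, 6, 2, 2, 2, 2, 4, 3, 3, 3, 4, 7, 5, 2, 2]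
def rw482 : List ℕ := [2, 4, 6, 3, 7, 2, 4, 7, 9, 6, 5, 3, 6, 2, 7, 5, 3, 8]
def rw483 : List ℕ := [2, 6, 6, 6, 7, 7, 7, 7, 3, 7, 7, 7, 3, 6, 2, 6, 6, 6]
def rw484 : List ℕ := [2, 4, 6, 3, 7, 2, 4, 7, 5, 6, 5, 3, 6, 2, 7, 5, 3, 4]
def rw485 : List ℕ := [2, 5, 8, 7, 5, 6, 9, 4, 3, 5, 3, 8, 4, 3, 3, 4, 2, 2, 5, 9, 2, 4]
def rw486 : List ℕ := [2, 2, 2, 5, 3, 3, 3, 3, 9, 2, 2, 2, 2, 4, 3, 3, 3, 4, 8, 5]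
def rw487 : List ℕ := [2, 0, 3, 4, 1, 1, 2, 0, 0, 5, 2, 1, 3, 5, 3, 4]
def rw488 : List ℕ := [2, 1, 5, 5, 1, 2, 1, 2, 0, 3, 0, 4, 4, 0, 3, 4, 3, 5]
def rw489 : List ℕ := [2, 4, 3, 3, 3, 4, 7, 5, 2, 2, 2, 5, 3, 3, 3, 3, 6, 2, 2, 2]
def rw490 : List ℕ := [2, 4, 0, 5, 5, 5, 0, 4, 4, 4, 1, 5, 3, 1, 1, 0]
def rw491 : List ℕ := [2, 2, 2, 4, 3, 3, 3, 4, 8, 5, 2, 2, 2, 5, 3, 3, 3, 3, 9, 2]
def rw492 : List ℕ := [2, 5, 5, 5, 2, 5, 5, 5, 6, 4, 4, 4, 3, 4, 4, 4, 3, 7]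
def rw493 : List ℕ := [2, 4, 2, 5, 8, 7, 5, 6, 9, 4, 3, 5, 3, 8, 4, 3, 3, 4, 2, 2, 5, 9]
def rw494 : List ℕ := [2, 7, 4, 4, 7, 3, 8, 2, 6, 5, 5, 6, 3, 6, 5, 6, 4, 9, 5, 7, 4, 7]
def rw495 : List ℕ := [2, 7, 5, 3, 0, 2, 4, 6, 3, 7, 2, 4, 7, 1, 6, 5, 3, 6]
def rw496 : List ℕ := [2, 5, 5, 5, 3, 4, 4, 4, 3, 4, 4, 4, 3, 2, 2, 5, 5, 5]
def rw497 : List ℕ := [2, 5, 9, 2, 4, 2, 5, 8, 7, 6, 6, 9, 4, 3, 5, 3, 8, 4, 3, 3, 7, 2]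
def rw498 : List ℕ := [2, 5, 8, 7, 6, 6, 9, 4, 3, 5, 3, 8, 4, 3, 3, 7, 2, 2, 5, 9, 2, 4]
def rw499 : List ℕ := [2, 7, 3, 7, 7, 4, 9, 5, 6, 6, 2, 6, 3, 4, 3, 8, 2, 5]
def rw500 : List ℕ := [2, 5, 8, 7, 2, 6, 9, 4, 3, 5, 3, 8, 4, 3, 3, 3, 2, 2, 5, 9, 2, 4]
def rw501 : List ℕ := [2, 2, 5, 9, 2, 4, 2, 5, 8, 7, 9, 6, 9, 4, 3, 5, 3, 8, 4, 3, 3, 8]
def rw502 : List ℕ := [2, 5, 2, 5, 2, 5, 3, 4, 3, 4, 3, 4, 3, 2]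
def rw503 : List ℕ := [2, 1, 3, 1, 1, 2, 0, 2]
def rw504 : List ℕ := [2, 5, 2, 5, 2, 5, 1, 4, 3, 4, 3, 4, 3, 0]
def rw505 : List ℕ := [2, 1, 3, 5, 2, 4, 2, 0, 3, 4, 1, 1, 3, 0, 0, 5]
def rw506 : List ℕ := [2, 5, 8, 7, 7, 6, 9, 4, 3, 5, 3, 8, 4, 3, 3, 6, 2, 2, 5, 9, 2, 4]
def rw507 : List ℕ := [2, 2, 5, 3, 3, 3, 3, 9, 2, 2, 2, 2, 4, 3, 3, 3, 4, 8, 5, 2]
def rw508 : List ℕ := [2, 4, 2, 5, 8, 7, 6, 6, 9, 4, 3, 5, 3, 8, 4, 3, 3, 7, 2, 2, 5, 9]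
def rw509 : List ℕ := [2, 1, 3, 0, 3, 0, 4, 4, 0, 3, 4, 2, 5, 2, 1, 5, 5, 1]
def rw510 : List ℕ := [2, 5, 9, 2, 4, 2, 5, 8, 7, 5, 6, 9, 4, 3, 5, 3, 8, 4, 3, 3, 4, 2]
def rw511 : List ℕ := [2, 1, 6, 0, 3, 5, 1, 5, 1, 4, 7, 5, 0, 4, 0, 4]
def rw512 : List ℕ := [2, 2, 5, 3, 3, 3, 3, 6, 2, 2, 2, 2, 4, 3, 3, 3, 4, 7, 5, 2]
def rw513 : List ℕ := [2, 2, 2, 2, 4, 3, 3, 3, 4, 8, 5, 2, 2, 2, 5, 3, 3, 3, 3, 9]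
def rw514 : List ℕ := [2, 1, 8, 4, 2, 5, 9, 0, 3, 0, 9, 9, 9, 0, 3, 1, 3, 0, 2, 1, 8, 8, 8, 1]
def rw515 : List ℕ := [2, 2, 4, 3, 3, 3, 4, 8, 5, 2, 2, 2, 5, 3, 3, 3, 3, 9, 2, 2]
def rw516 : List ℕ := [2, 5, 8, 7, 8, 6, 9, 4, 3, 5, 3, 8, 4, 3, 3, 9, 2, 2, 5, 9, 2, 4]
def rw517 : List ℕ := [2, 1, 0, 0, 3, 5, 1, 5, 1, 4, 1, 5, 0, 4, 0, 4]
def rw518 : List ℕ := [2, 1, 0, 0, 3, 0, 4, 4, 0, 3, 4, 1, 5, 2, 1, 5, 5, 1]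
def rw519 : List ℕ := [2, 5, 3, 3, 3, 3, 1, 2, 2, 2, 2, 4, 3, 3, 3, 4, 0, 5, 2, 2]
def rw520 : List ℕ := [2, 6, 5, 5, 6, 3, 6, 5, 6, 4, 9, 5, 7, 4, 7, 2, 7, 4, 4, 7, 3, 8]
def rw521 : List ℕ := [2, 5, 2, 5, 2, 5, 6, 4, 3, 4, 3, 4, 3, 7]
def rw522 : List ℕ := [2, 2, 2, 2, 4, 3, 3, 3, 4, 9, 5, 2, 2, 2, 5, 3, 3, 3, 3, 8]
def rw523 : List ℕ := [2, 1, 8, 0, 3, 0, 4, 4, 0, 3, 4, 9, 5, 2, 1, 5, 5, 1]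
def rw524 : List ℕ := [2, 5, 9, 2, 4, 2, 5, 8, 7, 7, 6, 9, 4, 3, 5, 3, 8, 4, 3, 3, 6, 2]
def rw525 : List ℕ := [2, 7, 4, 4, 7, 3, 9, 2, 6, 5, 5, 6, 3, 6, 5, 6, 4, 8, 5, 7, 4, 7]
def rw526 : List ℕ := [2, 1, 7, 0, 3, 0, 4, 4, 0, 3, 4, 6, 5, 2, 1, 5, 5, 1]
def rw527 : List ℕ := [2, 4, 3, 3, 3, 4, 8, 5, 2, 2, 2, 5, 3, 3, 3, 3, 9, 2, 2, 2]
def rw528 : List ℕ := [2, 1, 3, 5, 7, 4, 2, 0, 3, 4, 1, 1, 6, 0, 0, 5]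
def rw529 : List ℕ := [2, 6, 0, 4, 2, 6, 4, 7, 3, 5, 1, 7, 3, 5, 1, 5, 0, 4]
def rw530 : List ℕ := [2, 7, 5, 3, 8, 2, 4, 6, 3, 7, 2, 4, 7, 9, 6, 5, 3, 6]
def rw531 : List ℕ := [2, 6, 0, 4, 2, 6, 5, 7, 3, 5, 1, 7, 3, 5, 1, 4, 0, 4]
def rw532 : List ℕ := [2, 1, 3, 5, 6, 4, 2, 0, 3, 4, 1, 1, 7, 0, 0, 5]
def rw533 : List ℕ := [2, 1, 9, 0, 3, 0, 4, 4, 0, 3, 4, 8, 5, 2, 1, 5, 5, 1]
def rw534 : List ℕ := [2, 6, 0, 4, 2, 6, 8, 7, 3, 5, 1, 7, 3, 5, 1, 9, 0, 4]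
def rw535 : List ℕ := [2, 5, 2, 7, 3, 7, 7, 4, 6, 5, 6, 6, 2, 6, 3, 4, 3, 7]
def rw536 : List ℕ := [2, 7, 4, 4, 7, 3, 0, 2, 6, 5, 5, 6, 3, 6, 5, 6, 4, 1, 5, 7, 4, 7]
def rw537 : List ℕ := [2, 7, 4, 4, 7, 3, 1, 2, 6, 5, 5, 6, 3, 6, 5, 6, 4, 0, 5, 7, 4, 7]
def rw538 : List ℕ := [2, 5, 3, 3, 3, 3, 8, 2, 2, 2, 2, 4, 3, 3, 3, 4, 9, 5, 2, 2]
def rw539 : List ℕ := [2, 4, 4, 9, 4, 4, 9, 4, 4, 9, 3, 8, 5, 5, 8, 5, 5, 8, 5, 5]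
def rw540 : List ℕ := [2, 7, 3, 7, 7, 4, 1, 5, 6, 6, 2, 6, 3, 4, 3, 0, 2, 5]
def rw541 : List ℕ := [2, 2, 2, 2, 4, 3, 3, 3, 4, 0, 5, 2, 2, 2, 5, 3, 3, 3, 3, 1]
def rw542 : List ℕ := [2, 2, 5, 9, 2, 4, 2, 5, 8, 7, 7, 6, 9, 4, 3, 5, 3, 8, 4, 3, 3, 6]
def rw543 : List ℕ := [2, 5, 2, 5, 2, 5, 7, 4, 3, 4, 3, 4, 3, 6]
def rw544 : List ℕ := [2, 6, 3, 4, 3, 9, 2, 5, 2, 7, 3, 7, 7, 4, 8, 5, 6, 6]
def rw545 : List ℕ := [2, 4, 3, 3, 3, 4, 9, 5, 2, 2, 2, 5, 3, 3, 3, 3, 8, 2, 2, 2]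
def rw546 : List ℕ := [2, 5, 9, 4, 3, 4, 3, 4, 3, 8, 2, 5, 2, 5]
def rw547 : List ℕ := [2, 5, 5, 5, 2, 5, 5, 5, 8, 4, 4, 4, 3, 4, 4, 4, 3, 9]
def rw548 : List ℕ := [2, 5, 5, 7, 3, 7, 7, 5, 9, 4, 6, 6, 2, 6, 4, 4, 3, 8]
def rw549 : List ℕ := [2, 5, 3, 3, 3, 3, 9, 2, 2, 2, 2, 4, 3, 3, 3, 4, 8, 5, 2, 2]
def rw550 : List ℕ := [2, 5, 5, 5, 2, 5, 5, 5, 7, 4, 4, 4, 3, 4, 4, 4, 3, 6]
def rw551 : List ℕ := [2, 6, 4, 4, 3, 9, 2, 5, 5, 7, 3, 7, 7, 5, 8, 4, 6, 6]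
def rw552 : List ℕ := [2, 6, 4, 4, 3, 8, 2, 5, 5, 7, 3, 7, 7, 5, 9, 4, 6, 6]
def rw553 : List ℕ := [2, 5, 5, 5, 2, 5, 5, 5, 9, 4, 4, 4, 3, 4, 4, 4, 3, 8]
def rw554 : List ℕ := [2, 6, 6, 6, 2, 6, 6, 6, 3, 7, 7, 7, 3, 7, 7, 7, 3, 2]
def rw555 : List ℕ := [2, 1, 5, 5, 1, 2, 1, 7, 0, 3, 0, 4, 4, 0, 3, 4, 6, 5]
def rw556 : List ℕ := [2, 5, 2, 7, 3, 7, 7, 4, 8, 5, 6, 6, 2, 6, 3, 4, 3, 9]
def rw557 : List ℕ := [2, 6, 1, 7, 3, 5, 1, 7, 3, 5, 1, 0, 0, 4, 2, 6, 0, 4]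
def rw558 : List ℕ := [2, 6, 2, 7, 3, 5, 1, 7, 3, 5, 1, 3, 0, 4, 2, 6, 0, 4]
def rw559 : List ℕ := [2, 6, 5, 7, 3, 5, 1, 7, 3, 5, 1, 4, 0, 4, 2, 6, 0, 4]
def rw560 : List ℕ := [2, 6, 3, 4, 3, 8, 2, 5, 2, 7, 3, 7, 7, 4, 9, 5, 6, 6]
def rw561 : List ℕ := [2, 6, 3, 7, 3, 5, 1, 7, 3, 5, 1, 2, 0, 4, 2, 6, 0, 4]
def rw562 : List ℕ := [2, 1, 7, 0, 3, 5, 1, 5, 1, 4, 6, 5, 0, 4, 0, 4]
def rw563 : List ℕ := [2, 5, 8, 7, 1, 6, 9, 4, 3, 5, 3, 8, 4, 3, 3, 0, 2, 2, 5, 9, 2, 4]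
def rw564 : List ℕ := [2, 0, 3, 4, 1, 1, 6, 0, 0, 5, 2, 1, 3, 5, 7, 4]
def rw565 : List ℕ := [2, 1, 8, 4, 7, 5, 9, 0, 3, 0, 9, 9, 9, 0, 3, 1, 6, 0, 2, 1, 8, 8, 8, 1]
def rw566 : List ℕ := [2, 6, 4, 7, 3, 5, 1, 7, 3, 5, 1, 5, 0, 4, 2, 6, 0, 4]
def rw567 : List ℕ := [2, 1, 3, 5, 8, 4, 2, 0, 3, 4, 1, 1, 9, 0, 0, 5]
def rw568 : List ℕ := [2, 6, 6, 7, 3, 5, 1, 7, 3, 5, 1, 7, 0, 4, 2, 6, 0, 4]
def rw569 : List ℕ := [2, 5, 2, 7, 3, 7, 7, 4, 9, 5, 6, 6, 2, 6, 3, 4, 3, 8]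
def rw570 : List ℕ := [2, 4, 6, 3, 7, 2, 4, 7, 8, 6, 5, 3, 6, 2, 7, 5, 3, 9]
def rw571 : List ℕ := [2, 1, 3, 5, 9, 4, 2, 0, 3, 4, 1, 1, 8, 0, 0, 5]
def rw572 : List ℕ := [2, 2, 5, 9, 2, 4, 2, 5, 8, 7, 5, 6, 9, 4, 3, 5, 3, 8, 4, 3, 3, 4]
def rw573 : List ℕ := [2, 2, 2, 4, 3, 3, 3, 4, 9, 5, 2, 2, 2, 5, 3, 3, 3, 3, 8, 2]
def rw574 : List ℕ := [3, 1, 3, 0, 2, 0]
def rw575 : List ℕ := [3, 1, 2, 0, 2, 1]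
def rw576 : List ℕ := [3, 0, 2, 0, 3, 1]
def rw577 : List ℕ := [3, 5, 1, 5, 1, 4, 5, 5, 0, 4, 0, 4, 2, 1, 4, 0]
def rw578 : List ℕ := [3, 3, 3, 3, 3, 3, 3]
def rw579 : List ℕ := [3, 3, 3, 4, 3, 5, 2, 2, 2, 5, 3, 3, 3, 3, 2, 2, 2, 2, 2, 4]
def rw580 : List ℕ := [3, 4, 1, 1, 9, 0, 0, 5, 2, 1, 3, 5, 8, 4, 2, 0]
def rw581 : List ℕ := [3, 4, 3, 4, 3, 5, 2, 5, 2, 5, 2, 5, 4, 4]
def rw582 : List ℕ := [3, 4, 3, 5, 2, 2, 2, 5, 3, 3, 3, 3, 2, 2, 2, 2, 2, 4, 3, 3]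
def rw583 : List ℕ := [3, 5, 0, 4, 2, 0, 3, 4, 1, 1, 1, 0, 0, 5, 2, 1]
def rw584 : List ℕ := [3, 4, 3, 4, 3, 2, 2, 5, 2, 5, 2, 5, 3, 4]
def rw585 : List ℕ := [3, 4, 1, 1, 8, 0, 0, 5, 2, 1, 3, 5, 9, 4, 2, 0]
def rw586 : List ℕ := [3, 3, 3, 3, 3, 3, 3]
def rw587 : List ℕ := [3, 4, 1, 1, 1, 0, 0, 5, 2, 1, 3, 5, 0, 4, 2, 0]
def rw588 : List ℕ := [3, 3, 3, 3, 3, 3, 3]
def rw589 : List ℕ := [3, 5, 2, 5, 5, 5, 2, 5, 5, 5, 4, 4, 4, 4, 3, 4, 4, 4]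
def rw590 : List ℕ := [3, 1, 3, 1, 3, 1]
def rw591 : List ℕ := [3, 3, 3, 3, 3, 3, 3]
def rw592 : List ℕ := [3, 4, 3, 4, 3, 1, 2, 5, 2, 5, 2, 5, 0, 4]
def rw593 : List ℕ := [3, 3, 5, 3, 3, 4, 2, 2, 4]
def rw594 : List ℕ := [3, 3, 4, 2, 2, 4, 3, 3, 5]
def rw595 : List ℕ := [3, 4, 4, 4, 3, 2, 2, 5, 5, 5, 2, 5, 5, 5, 3, 4, 4, 4]
def rw596 : List ℕ := [3, 4, 1, 1, 3, 0, 0, 5, 2, 1, 3, 5, 2, 4, 2, 0]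
def rw597 : List ℕ := [3, 3, 3, 4, 0, 5, 2, 2, 2, 5, 3, 3, 3, 3, 1, 2, 2, 2, 2, 4]
def rw598 : List ℕ := [3, 7, 7, 4, 9, 5, 6, 6, 2, 6, 3, 4, 3, 8, 2, 5, 2, 7]
def rw599 : List ℕ := [3, 5, 2, 2, 2, 2, 4, 3, 3, 3, 4, 4, 5, 2, 2, 2, 5, 3, 3, 3]
def rw600 : List ℕ := [3, 5, 2, 2, 4, 2, 2, 5, 3]
def rw601 : List ℕ := [3, 7, 7, 5, 9, 4, 6, 6, 2, 6, 4, 4, 3, 8, 2, 5, 5, 7]
def rw602 : List ℕ := [3, 1, 4, 0, 2, 4, 0, 5, 5, 5, 5, 4, 4, 4, 1, 5]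
def rw603 : List ℕ := [3, 1, 3, 0, 0, 2, 0, 3]
def rw604 : List ℕ := [3, 3, 3, 4, 9, 5, 2, 2, 2, 5, 3, 3, 3, 3, 8, 2, 2, 2, 2, 4]
def rw605 : List ℕ := [3, 3, 5, 2, 2, 4, 2, 2, 5]
def rw606 : List ℕ := [3, 4, 1, 1, 2, 0, 0, 5, 2, 1, 3, 5, 3, 4, 2, 0]
def rw607 : List ℕ := [3, 4, 3, 5, 2, 1, 5, 5, 1, 2, 1, 2, 0, 3, 0, 4, 4, 0]
def rw608 : List ℕ := [3, 5, 3, 3, 4, 2, 2, 4, 3]
def rw609 : List ℕ := [3, 5, 1, 7, 0, 4, 2, 6, 0, 4, 2, 6, 6, 7, 3, 5, 1, 7]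
def rw610 : List ℕ := [3, 7, 7, 7, 3, 2, 2, 6, 6, 6, 2, 6, 6, 6, 3, 7, 7, 7]
def rw611 : List ℕ := [3, 4, 1, 1, 0, 0, 0, 5, 2, 1, 3, 5, 1, 4, 2, 0]
def rw612 : List ℕ := [3, 1, 3, 3, 1, 3]
def rw613 : List ℕ := [3, 5, 1, 4, 2, 0, 3, 4, 1, 1, 0, 0, 0, 5, 2, 1]
def rw614 : List ℕ := [3, 3, 1, 3, 0, 0, 2, 0]
def rw615 : List ℕ := [3, 4, 3, 0, 2, 5, 2, 5, 2, 5, 1, 4, 3, 4]
def rw616 : List ℕ := [3, 4, 3, 4, 3, 0, 2, 5, 2, 5, 2, 5, 1, 4]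
def rw617 : List ℕ := [3, 4, 2, 5, 5, 5, 2, 5, 5, 5, 5, 4, 4, 4, 3, 4, 4, 4]
def rw618 : List ℕ := [3, 1, 3, 1, 3, 1]
def rw619 : List ℕ := [3, 4, 1, 1, 5, 0, 0, 5, 2, 1, 3, 5, 4, 4, 2, 0]
def rw620 : List ℕ := [3, 4, 3, 7, 2, 5, 2, 5, 2, 5, 6, 4, 3, 4]
def rw621 : List ℕ := [3, 7, 7, 5, 2, 4, 6, 6, 2, 6, 4, 4, 3, 3, 2, 5, 5, 7]
def rw622 : List ℕ := [3, 3, 4, 0, 5, 2, 2, 2, 5, 3, 3, 3, 3, 1, 2, 2, 2, 2, 4, 3]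
def rw623 : List ℕ := [3, 1, 5, 0, 2, 4, 0, 5, 5, 5, 4, 4, 4, 4, 1, 5]
def rw624 : List ℕ := [3, 5, 3, 4, 2, 0, 3, 4, 1, 1, 2, 0, 0, 5, 2, 1]
def rw625 : List ℕ := [3, 3, 3, 3, 0, 2, 2, 2, 2, 4, 3, 3, 3, 4, 1, 5, 2, 2, 2, 5]
def rw626 : List ℕ := [3, 3, 1, 3, 3, 1]
def rw627 : List ℕ := [3, 6, 5, 6, 4, 5, 5, 7, 4, 7, 2, 7, 4, 4, 7, 3, 4, 2, 6, 5, 5, 6]
def rw628 : List ℕ := [3, 4, 3, 3, 2, 5, 2, 5, 2, 5, 2, 4, 3, 4]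
def rw629 : List ℕ := [3, 4, 3, 1, 2, 5, 2, 5, 2, 5, 0, 4, 3, 4]
def rw630 : List ℕ := [3, 4, 2, 2, 4, 3, 3, 5, 3]
def rw631 : List ℕ := [3, 4, 4, 4, 3, 4, 2, 5, 5, 5, 2, 5, 5, 5, 5, 4, 4, 4]
def rw632 : List ℕ := [3, 0, 0, 3, 0, 2, 1, 1, 2, 2, 1, 1, 3]
def rw633 : List ℕ := [3, 6, 2, 7, 5, 3, 4, 2, 4, 6, 3, 7, 2, 4, 7, 5, 6, 5]
def rw634 : List ℕ := [3, 3, 2, 5, 5, 5, 2, 5, 5, 5, 2, 4, 4, 4, 3, 4, 4, 4]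
def rw635 : List ℕ := [3, 3, 3, 5, 2, 2, 2, 2, 4, 3, 3, 3, 4, 4, 5, 2, 2, 2, 5, 3]
def rw636 : List ℕ := [3, 4, 4, 4, 3, 3, 2, 5, 5, 5, 2, 5, 5, 5, 2, 4, 4, 4]
def rw637 : List ℕ := [3, 4, 3, 4, 3, 3, 2, 5, 2, 5, 2, 5, 2, 4]
def rw638 : List ℕ := [3, 3, 2, 5, 2, 5, 2, 5, 2, 4, 3, 4, 3, 4]
def rw639 : List ℕ := [3, 3, 3, 3, 3, 3, 3]
def rw640 : List ℕ := [3, 7, 7, 7, 3, 3, 2, 6, 6, 6, 2, 6, 6, 6, 2, 7, 7, 7]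
def rw641 : List ℕ := [3, 7, 2, 4, 7, 6, 6, 5, 3, 6, 2, 7, 5, 3, 7, 2, 4, 6]
def rw642 : List ℕ := [3, 6, 2, 7, 5, 3, 3, 2, 4, 6, 3, 7, 2, 4, 7, 2, 6, 5]
def rw643 : List ℕ := [3, 6, 2, 7, 5, 3, 7, 2, 4, 6, 3, 7, 2, 4, 7, 6, 6, 5]
def rw644 : List ℕ := [3, 4, 1, 1, 7, 0, 0, 5, 2, 1, 3, 5, 6, 4, 2, 0]
def rw645 : List ℕ := [3, 4, 3, 4, 3, 6, 2, 5, 2, 5, 2, 5, 7, 4]
def rw646 : List ℕ := [3, 8, 4, 3, 3, 7, 2, 2, 5, 9, 2, 4, 2, 5, 8, 7, 6, 6, 9, 4, 3, 5]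
def rw647 : List ℕ := [3, 7, 7, 7, 3, 5, 2, 6, 6, 6, 2, 6, 6, 6, 4, 7, 7, 7]
def rw648 : List ℕ := [3, 7, 7, 4, 5, 5, 6, 6, 2, 6, 3, 4, 3, 4, 2, 5, 2, 7]
def rw649 : List ℕ := [3, 7, 7, 5, 4, 4, 6, 6, 2, 6, 4, 4, 3, 5, 2, 5, 5, 7]
def rw650 : List ℕ := [3, 3, 1, 3, 3, 1]
def rw651 : List ℕ := [3, 7, 7, 4, 3, 5, 6, 6, 2, 6, 3, 4, 3, 2, 2, 5, 2, 7]
def rw652 : List ℕ := [3, 1, 7, 0, 2, 4, 0, 5, 5, 5, 6, 4, 4, 4, 1, 5]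
def rw653 : List ℕ := [3, 4, 1, 1, 6, 0, 0, 5, 2, 1, 3, 5, 7, 4, 2, 0]
def rw654 : List ℕ := [3, 3, 2, 6, 6, 6, 2, 6, 6, 6, 2, 7, 7, 7, 3, 7, 7, 7]
def rw655 : List ℕ := [3, 4, 4, 4, 3, 5, 2, 5, 5, 5, 2, 5, 5, 5, 4, 4, 4, 4]
def rw656 : List ℕ := [3, 6, 5, 6, 4, 3, 5, 7, 4, 7, 2, 7, 4, 4, 7, 3, 2, 2, 6, 5, 5, 6]
def rw657 : List ℕ := [3, 4, 4, 5, 2, 2, 2, 5, 3, 3, 3, 3, 5, 2, 2, 2, 2, 4, 3, 3]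
def rw658 : List ℕ := [3, 3, 2, 5, 2, 7, 3, 7, 7, 4, 2, 5, 6, 6, 2, 6, 3, 4]
def rw659 : List ℕ := [3, 4, 2, 5, 2, 2, 2, 5, 3, 3, 3, 3, 3, 2, 2, 2, 2, 4, 3, 3]
def rw660 : List ℕ := [3, 5, 1, 7, 3, 5, 1, 0, 0, 4, 2, 6, 0, 4, 2, 6, 1, 7]
def rw661 : List ℕ := [3, 7, 2, 6, 5, 5, 6, 3, 6, 5, 6, 4, 6, 5, 7, 4, 7, 2, 7, 4, 4, 7]
def rw662 : List ℕ := [3, 3, 0, 0, 3, 0, 2, 1, 1, 2, 2, 1, 1]
def rw663 : List ℕ := [3, 5, 1, 5, 1, 4, 1, 5, 0, 4, 0, 4, 2, 1, 0, 0]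
def rw664 : List ℕ := [3, 5, 1, 5, 1, 4, 4, 5, 0, 4, 0, 4, 2, 1, 5, 0]
def rw665 : List ℕ := [3, 7, 2, 4, 7, 3, 6, 5, 3, 6, 2, 7, 5, 3, 2, 2, 4, 6]
def rw666 : List ℕ := [3, 4, 3, 4, 3, 7, 2, 5, 2, 5, 2, 5, 6, 4]
def rw667 : List ℕ := [3, 7, 7, 4, 4, 5, 6, 6, 2, 6, 3, 4, 3, 5, 2, 5, 2, 7]
def rw668 : List ℕ := [3, 4, 2, 6, 5, 5, 6, 3, 6, 5, 6, 4, 5, 5, 7, 4, 7, 2, 7, 4, 4, 7]
def rw669 : List ℕ := [3, 6, 9, 6, 9, 6, 9, 6, 9, 2, 8, 7, 8, 7, 8, 7, 8, 7]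
def rw670 : List ℕ := [3, 7, 7, 4, 8, 5, 6, 6, 2, 6, 3, 4, 3, 9, 2, 5, 2, 7]
def rw671 : List ℕ := [3, 7, 7, 5, 8, 4, 6, 6, 2, 6, 4, 4, 3, 9, 2, 5, 5, 7]
def rw672 : List ℕ := [3, 3, 3, 4, 8, 5, 2, 2, 2, 5, 3, 3, 3, 3, 9, 2, 2, 2, 2, 4]
def rw673 : List ℕ := [3, 7, 7, 4, 2, 5, 6, 6, 2, 6, 3, 4, 3, 3, 2, 5, 2, 7]
def rw674 : List ℕ := [3, 6, 2, 7, 5, 3, 6, 2, 4, 6, 3, 7, 2, 4, 7, 7, 6, 5]
def rw675 : List ℕ := [3, 7, 7, 5, 1, 4, 6, 6, 2, 6, 4, 4, 3, 0, 2, 5, 5, 7]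
def rw676 : List ℕ := [3, 3, 3, 3, 5, 2, 2, 2, 2, 4, 3, 3, 3, 4, 4, 5, 2, 2, 2, 5]
def rw677 : List ℕ := [3, 9, 2, 4, 6, 3, 7, 2, 4, 7, 8, 6, 5, 3, 6, 2, 7, 5]
def rw678 : List ℕ := [3, 4, 3, 8, 2, 5, 2, 5, 2, 5, 9, 4, 3, 4]
def rw679 : List ℕ := [3, 3, 9, 2, 2, 5, 9, 2, 4, 2, 5, 8, 7, 8, 6, 9, 4, 3, 5, 3, 8, 4]
def rw680 : List ℕ := [3, 1, 2, 0, 2, 4, 0, 5, 5, 5, 3, 4, 4, 4, 1, 5]
def rw681 : List ℕ := [3, 3, 4, 2, 5, 2, 2, 2, 5, 3, 3, 3, 3, 3, 2, 2, 2, 2, 4, 3]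
def rw682 : List ℕ := [3, 6, 2, 6, 6, 6, 2, 6, 6, 6, 7, 7, 7, 7, 3, 7, 7, 7]
def rw683 : List ℕ := [3, 5, 1, 9, 0, 4, 2, 6, 0, 4, 2, 6, 8, 7, 3, 5, 1, 7]
def rw684 : List ℕ := [3, 7, 2, 4, 7, 2, 6, 5, 3, 6, 2, 7, 5, 3, 3, 2, 4, 6]
def rw685 : List ℕ := [3, 7, 2, 4, 7, 7, 6, 5, 3, 6, 2, 7, 5, 3, 6, 2, 4, 6]
def rw686 : List ℕ := [3, 0, 4, 4, 0, 3, 4, 1, 5, 2, 1, 5, 5, 1, 2, 1, 0, 0]
def rw687 : List ℕ := [3, 1, 3, 1, 3, 1]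
def rw688 : List ℕ := [3, 8, 4, 3, 3, 6, 2, 2, 5, 9, 2, 4, 2, 5, 8, 7, 7, 6, 9, 4, 3, 5]
def rw689 : List ℕ := [3, 4, 4, 7, 7, 4, 9, 6, 6, 9, 9, 2, 8, 8, 7, 7, 8, 5, 6, 6, 5, 5]
def rw690 : List ℕ := [3, 4, 3, 2, 2, 5, 2, 5, 2, 5, 3, 4, 3, 4]
def rw691 : List ℕ := [3, 3, 3, 4, 2, 5, 2, 2, 2, 5, 3, 3, 3, 3, 3, 2, 2, 2, 2, 4]
def rw692 : List ℕ := [3, 1, 6, 0, 2, 4, 0, 5, 5, 5, 7, 4, 4, 4, 1, 5]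
def rw693 : List ℕ := [3, 3, 4, 3, 5, 2, 2, 2, 5, 3, 3, 3, 3, 2, 2, 2, 2, 2, 4, 3]
def rw694 : List ℕ := [3, 5, 3, 8, 4, 3, 3, 7, 2, 2, 5, 9, 2, 4, 2, 5, 8, 7, 6, 6, 9, 4]
def rw695 : List ℕ := [3, 6, 5, 6, 4, 4, 5, 7, 4, 7, 2, 7, 4, 4, 7, 3, 5, 2, 6, 5, 5, 6]
def rw696 : List ℕ := [3, 3, 5, 2, 2, 2, 2, 4, 3, 3, 3, 4, 4, 5, 2, 2, 2, 5, 3, 3]
def rw697 : List ℕ := [3, 7, 7, 4, 0, 5, 6, 6, 2, 6, 3, 4, 3, 1, 2, 5, 2, 7]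
def rw698 : List ℕ := [3, 4, 3, 5, 2, 5, 2, 7, 3, 7, 7, 4, 4, 5, 6, 6, 2, 6]
def rw699 : List ℕ := [3, 5, 2, 4, 2, 0, 3, 4, 1, 1, 3, 0, 0, 5, 2, 1]
def rw700 : List ℕ := [3, 0, 0, 3, 1, 2, 1, 1, 2, 2, 0, 0, 3]
def rw701 : List ℕ := [3, 3, 0, 0, 3, 1, 2, 1, 1, 2, 2, 0, 0]
def rw702 : List ℕ := [3, 7, 7, 5, 5, 4, 6, 6, 2, 6, 4, 4, 3, 4, 2, 5, 5, 7]
def rw703 : List ℕ := [3, 4, 1, 5, 2, 2, 2, 5, 3, 3, 3, 3, 0, 2, 2, 2, 2, 4, 3, 3]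
def rw704 : List ℕ := [3, 3, 3, 1, 2, 2, 2, 2, 4, 3, 3, 3, 4, 0, 5, 2, 2, 2, 5, 3]
def rw705 : List ℕ := [3, 4, 0, 5, 2, 1, 5, 5, 1, 2, 1, 1, 0, 3, 0, 4, 4, 0]
def rw706 : List ℕ := [3, 6, 2, 7, 5, 3, 0, 2, 4, 6, 3, 7, 2, 4, 7, 1, 6, 5]
def rw707 : List ℕ := [3, 7, 2, 4, 7, 1, 6, 5, 3, 6, 2, 7, 5, 3, 0, 2, 4, 6]
def rw708 : List ℕ := [3, 6, 5, 6, 4, 2, 5, 7, 4, 7, 2, 7, 4, 4, 7, 3, 3, 2, 6, 5, 5, 6]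
def rw709 : List ℕ := [3, 7, 7, 4, 1, 5, 6, 6, 2, 6, 3, 4, 3, 0, 2, 5, 2, 7]
def rw710 : List ℕ := [3, 0, 2, 1, 1, 2, 2, 1, 1, 3, 3, 0, 0]
def rw711 : List ℕ := [3, 4, 3, 6, 2, 5, 2, 7, 3, 7, 7, 4, 7, 5, 6, 6, 2, 6]
def rw712 : List ℕ := [3, 4, 3, 6, 2, 5, 2, 5, 2, 5, 7, 4, 3, 4]
def rw713 : List ℕ := [3, 5, 1, 3, 0, 4, 2, 6, 0, 4, 2, 6, 2, 7, 3, 5, 1, 7]
def rw714 : List ℕ := [3, 0, 4, 4, 0, 3, 4, 2, 5, 2, 1, 5, 5, 1, 2, 1, 3, 0]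
def rw715 : List ℕ := [3, 4, 4, 4, 3, 1, 2, 5, 5, 5, 2, 5, 5, 5, 0, 4, 4, 4]
def rw716 : List ℕ := [3, 7, 2, 4, 7, 4, 6, 5, 3, 6, 2, 7, 5, 3, 5, 2, 4, 6]
def rw717 : List ℕ := [3, 7, 2, 6, 6, 6, 2, 6, 6, 6, 6, 7, 7, 7, 3, 7, 7, 7]
def rw718 : List ℕ := [3, 6, 2, 4, 6, 3, 7, 2, 4, 7, 7, 6, 5, 3, 6, 2, 7, 5]
def rw719 : List ℕ := [3, 4, 3, 4, 3, 4, 2, 5, 2, 5, 2, 5, 5, 4]
def rw720 : List ℕ := [3, 3, 3, 3, 4, 2, 2, 2, 2, 4, 3, 3, 3, 4, 5, 5, 2, 2, 2, 5]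
def rw721 : List ℕ := [3, 6, 5, 6, 4, 6, 5, 7, 4, 7, 2, 7, 4, 4, 7, 3, 7, 2, 6, 5, 5, 6]
def rw722 : List ℕ := [3, 5, 2, 5, 2, 7, 3, 7, 7, 4, 4, 5, 6, 6, 2, 6, 3, 4]
def rw723 : List ℕ := [3, 7, 2, 2, 2, 2, 4, 3, 3, 3, 4, 6, 5, 2, 2, 2, 5, 3, 3, 3]
def rw724 : List ℕ := [3, 1, 1, 2, 0, 2, 2, 1]
def rw725 : List ℕ := [3, 7, 2, 5, 5, 5, 2, 5, 5, 5, 6, 4, 4, 4, 3, 4, 4, 4]
def rw726 : List ℕ := [3, 5, 2, 5, 5, 7, 3, 7, 7, 5, 4, 4, 6, 6, 2, 6, 4, 4]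
def rw727 : List ℕ := [3, 1, 2, 5, 2, 5, 2, 5, 0, 4, 3, 4, 3, 4]
def rw728 : List ℕ := [3, 4, 3, 3, 2, 5, 2, 7, 3, 7, 7, 4, 2, 5, 6, 6, 2, 6]
def rw729 : List ℕ := [3, 4, 3, 2, 2, 5, 2, 7, 3, 7, 7, 4, 3, 5, 6, 6, 2, 6]
def rw730 : List ℕ := [3, 7, 7, 5, 3, 4, 6, 6, 2, 6, 4, 4, 3, 2, 2, 5, 5, 7]
def rw731 : List ℕ := [3, 4, 3, 7, 2, 5, 2, 7, 3, 7, 7, 4, 6, 5, 6, 6, 2, 6]
def rw732 : List ℕ := [3, 6, 2, 7, 5, 3, 5, 2, 4, 6, 3, 7, 2, 4, 7, 4, 6, 5]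
def rw733 : List ℕ := [3, 7, 7, 7, 3, 4, 2, 6, 6, 6, 2, 6, 6, 6, 5, 7, 7, 7]
def rw734 : List ℕ := [3, 6, 5, 6, 4, 7, 5, 7, 4, 7, 2, 7, 4, 4, 7, 3, 6, 2, 6, 5, 5, 6]
def rw735 : List ℕ := [3, 7, 7, 5, 0, 4, 6, 6, 2, 6, 4, 4, 3, 1, 2, 5, 5, 7]
def rw736 : List ℕ := [3, 0, 4, 4, 0, 3, 4, 5, 5, 2, 1, 5, 5, 1, 2, 1, 4, 0]
def rw737 : List ℕ := [3, 0, 2, 5, 2, 5, 2, 5, 1, 4, 3, 4, 3, 4]
def rw738 : List ℕ := [3, 1, 3, 0, 2, 4, 0, 5, 5, 5, 2, 4, 4, 4, 1, 5]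
def rw739 : List ℕ := [3, 5, 2, 4, 6, 3, 7, 2, 4, 7, 4, 6, 5, 3, 6, 2, 7, 5]
def rw740 : List ℕ := [3, 3, 3, 3, 6, 2, 2, 2, 2, 4, 3, 3, 3, 4, 7, 5, 2, 2, 2, 5]
def rw741 : List ℕ := [3, 1, 0, 0, 2, 4, 0, 5, 5, 5, 1, 4, 4, 4, 1, 5]
def rw742 : List ℕ := [3, 3, 3, 3, 3, 3, 3]
def rw743 : List ℕ := [3, 7, 2, 5, 2, 5, 2, 5, 6, 4, 3, 4, 3, 4]
def rw744 : List ℕ := [3, 0, 0, 2, 0, 3, 3, 1]
def rw745 : List ℕ := [3, 4, 4, 4, 3, 6, 2, 5, 5, 5, 2, 5, 5, 5, 7, 4, 4, 4]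
def rw746 : List ℕ := [3, 1, 1, 0, 2, 4, 0, 5, 5, 5, 0, 4, 4, 4, 1, 5]
def rw747 : List ℕ := [3, 5, 1, 5, 1, 4, 0, 5, 0, 4, 0, 4, 2, 1, 1, 0]
def rw748 : List ℕ := [3, 6, 2, 7, 5, 3, 2, 2, 4, 6, 3, 7, 2, 4, 7, 3, 6, 5]
def rw749 : List ℕ := [3, 4, 2, 5, 2, 7, 3, 7, 7, 4, 5, 5, 6, 6, 2, 6, 3, 4]
def rw750 : List ℕ := [3, 6, 2, 5, 5, 5, 2, 5, 5, 5, 7, 4, 4, 4, 3, 4, 4, 4]
def rw751 : List ℕ := [3, 5, 2, 6, 5, 5, 6, 3, 6, 5, 6, 4, 4, 5, 7, 4, 7, 2, 7, 4, 4, 7]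
def rw752 : List ℕ := [3, 5, 1, 5, 1, 4, 2, 5, 0, 4, 0, 4, 2, 1, 3, 0]
def rw753 : List ℕ := [3, 3, 3, 4, 4, 5, 2, 2, 2, 5, 3, 3, 3, 3, 5, 2, 2, 2, 2, 4]
def rw754 : List ℕ := [3, 6, 2, 5, 2, 5, 2, 5, 7, 4, 3, 4, 3, 4]
def rw755 : List ℕ := [3, 4, 3, 1, 2, 5, 2, 7, 3, 7, 7, 4, 0, 5, 6, 6, 2, 6]
def rw756 : List ℕ := [3, 5, 1, 1, 0, 4, 2, 6, 0, 4, 2, 6, 0, 7, 3, 5, 1, 7]
def rw757 : List ℕ := [3, 5, 3, 8, 4, 3, 3, 5, 2, 2, 5, 9, 2, 4, 2, 5, 8, 7, 4, 6, 9, 4]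
def rw758 : List ℕ := [3, 1, 2, 1, 1, 2, 2, 0, 0, 3, 3, 0, 0]
def rw759 : List ℕ := [3, 7, 7, 7, 3, 7, 2, 6, 6, 6, 2, 6, 6, 6, 6, 7, 7, 7]
def rw760 : List ℕ := [3, 3, 8, 2, 2, 5, 9, 2, 4, 2, 5, 8, 7, 9, 6, 9, 4, 3, 5, 3, 8, 4]
def rw761 : List ℕ := [3, 1, 9, 0, 2, 4, 0, 5, 5, 5, 8, 4, 4, 4, 1, 5]
def rw762 : List ℕ := [3, 4, 3, 9, 2, 5, 2, 7, 3, 7, 7, 4, 8, 5, 6, 6, 2, 6]
def rw763 : List ℕ := [3, 0, 4, 4, 0, 3, 4, 3, 5, 2, 1, 5, 5, 1, 2, 1, 2, 0]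
def rw764 : List ℕ := [3, 4, 2, 5, 5, 7, 3, 7, 7, 5, 5, 4, 6, 6, 2, 6, 4, 4]
def rw765 : List ℕ := [3, 7, 2, 5, 5, 7, 3, 7, 7, 5, 6, 4, 6, 6, 2, 6, 4, 4]
def rw766 : List ℕ := [3, 3, 3, 7, 2, 2, 2, 2, 4, 3, 3, 3, 4, 6, 5, 2, 2, 2, 5, 3]
def rw767 : List ℕ := [3, 7, 2, 4, 7, 9, 6, 5, 3, 6, 2, 7, 5, 3, 8, 2, 4, 6]
def rw768 : List ℕ := [3, 7, 2, 5, 2, 7, 3, 7, 7, 4, 6, 5, 6, 6, 2, 6, 3, 4]
def rw769 : List ℕ := [3, 3, 7, 2, 2, 5, 9, 2, 4, 2, 5, 8, 7, 6, 6, 9, 4, 3, 5, 3, 8, 4]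
def rw770 : List ℕ := [3, 3, 5, 2, 2, 5, 9, 2, 4, 2, 5, 8, 7, 4, 6, 9, 4, 3, 5, 3, 8, 4]
def rw771 : List ℕ := [3, 8, 2, 5, 2, 7, 3, 7, 7, 4, 9, 5, 6, 6, 2, 6, 3, 4]
def rw772 : List ℕ := [3, 7, 2, 4, 7, 8, 6, 5, 3, 6, 2, 7, 5, 3, 9, 2, 4, 6]
def rw773 : List ℕ := [3, 7, 2, 4, 7, 5, 6, 5, 3, 6, 2, 7, 5, 3, 4, 2, 4, 6]
def rw774 : List ℕ := [3, 0, 4, 4, 0, 3, 4, 0, 5, 2, 1, 5, 5, 1, 2, 1, 1, 0]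
def rw775 : List ℕ := [3, 4, 3, 4, 3, 9, 2, 5, 2, 5, 2, 5, 8, 4]
def rw776 : List ℕ := [3, 1, 3, 3, 1, 3]
def rw777 : List ℕ := [3, 7, 7, 5, 6, 4, 6, 6, 2, 6, 4, 4, 3, 7, 2, 5, 5, 7]
def rw778 : List ℕ := [3, 6, 5, 6, 4, 9, 5, 7, 4, 7, 2, 7, 4, 4, 7, 3, 8, 2, 6, 5, 5, 6]
def rw779 : List ℕ := [3, 8, 8, 7, 7, 8, 5, 6, 6, 5, 5, 2, 4, 4, 7, 7, 4, 9, 6, 6, 9, 9]
def rw780 : List ℕ := [3, 4, 3, 4, 2, 5, 2, 7, 3, 7, 7, 4, 5, 5, 6, 6, 2, 6]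
def rw781 : List ℕ := [3, 3, 4, 4, 5, 2, 2, 2, 5, 3, 3, 3, 3, 5, 2, 2, 2, 2, 4, 3]
def rw782 : List ℕ := [3, 7, 7, 5, 7, 4, 6, 6, 2, 6, 4, 4, 3, 6, 2, 5, 5, 7]
def rw783 : List ℕ := [3, 5, 4, 4, 2, 0, 3, 4, 1, 1, 5, 0, 0, 5, 2, 1]
def rw784 : List ℕ := [3, 4, 4, 4, 3, 7, 2, 5, 5, 5, 2, 5, 5, 5, 6, 4, 4, 4]
def rw785 : List ℕ := [3, 5, 1, 5, 1, 4, 6, 5, 0, 4, 0, 4, 2, 1, 7, 0]
def rw786 : List ℕ := [3, 0, 4, 4, 0, 3, 4, 7, 5, 2, 1, 5, 5, 1, 2, 1, 6, 0]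
def rw787 : List ℕ := [3, 6, 2, 5, 2, 7, 3, 7, 7, 4, 7, 5, 6, 6, 2, 6, 3, 4]
def rw788 : List ℕ := [3, 8, 4, 3, 3, 8, 2, 2, 5, 9, 2, 4, 2, 5, 8, 7, 9, 6, 9, 4, 3, 5]
def rw789 : List ℕ := [3, 9, 2, 6, 6, 6, 2, 6, 6, 6, 8, 7, 7, 7, 3, 7, 7, 7]
def rw790 : List ℕ := [3, 5, 1, 2, 0, 4, 2, 6, 0, 4, 2, 6, 3, 7, 3, 5, 1, 7]
def rw791 : List ℕ := [3, 3, 3, 3, 3, 2, 2, 2, 2, 4, 3, 3, 3, 4, 2, 5, 2, 2, 2, 5]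
def rw792 : List ℕ := [3, 6, 2, 7, 5, 3, 9, 2, 4, 6, 3, 7, 2, 4, 7, 8, 6, 5]
def rw793 : List ℕ := [3, 5, 3, 8, 4, 3, 3, 6, 2, 2, 5, 9, 2, 4, 2, 5, 8, 7, 7, 6, 9, 4]
def rw794 : List ℕ := [3, 3, 2, 6, 5, 5, 6, 3, 6, 5, 6, 4, 2, 5, 7, 4, 7, 2, 7, 4, 4, 7]
def rw795 : List ℕ := [3, 8, 4, 3, 3, 4, 2, 2, 5, 9, 2, 4, 2, 5, 8, 7, 5, 6, 9, 4, 3, 5]
def rw796 : List ℕ := [3, 3, 2, 4, 6, 3, 7, 2, 4, 7, 2, 6, 5, 3, 6, 2, 7, 5]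
def rw797 : List ℕ := [3, 5, 2, 6, 6, 6, 2, 6, 6, 6, 4, 7, 7, 7, 3, 7, 7, 7]
def rw798 : List ℕ := [3, 8, 5, 5, 8, 5, 5, 8, 5, 5, 2, 4, 4, 9, 4, 4, 9, 4, 4, 9]
def rw799 : List ℕ := [3, 3, 7, 2, 2, 2, 2, 4, 3, 3, 3, 4, 6, 5, 2, 2, 2, 5, 3, 3]
def rw800 : List ℕ := [3, 5, 3, 8, 4, 3, 3, 3, 2, 2, 5, 9, 2, 4, 2, 5, 8, 7, 2, 6, 9, 4]
def rw801 : List ℕ := [3, 9, 2, 2, 5, 9, 2, 4, 2, 5, 8, 7, 8, 6, 9, 4, 3, 5, 3, 8, 4, 3]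
def rw802 : List ℕ := [3, 8, 4, 3, 3, 3, 2, 2, 5, 9, 2, 4, 2, 5, 8, 7, 2, 6, 9, 4, 3, 5]
def rw803 : List ℕ := [3, 4, 2, 4, 6, 3, 7, 2, 4, 7, 5, 6, 5, 3, 6, 2, 7, 5]
def rw804 : List ℕ := [3, 7, 7, 7, 3, 6, 2, 6, 6, 6, 2, 6, 6, 6, 7, 7, 7, 7]
def rw805 : List ℕ := [3, 4, 5, 5, 2, 1, 5, 5, 1, 2, 1, 4, 0, 3, 0, 4, 4, 0]
def rw806 : List ℕ := [3, 6, 5, 6, 4, 1, 5, 7, 4, 7, 2, 7, 4, 4, 7, 3, 0, 2, 6, 5, 5, 6]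
def rw807 : List ℕ := [3, 5, 3, 8, 4, 3, 3, 8, 2, 2, 5, 9, 2, 4, 2, 5, 8, 7, 9, 6, 9, 4]
def rw808 : List ℕ := [3, 8, 2, 5, 5, 5, 2, 5, 5, 5, 9, 4, 4, 4, 3, 4, 4, 4]
def rw809 : List ℕ := [3, 6, 2, 6, 5, 5, 6, 3, 6, 5, 6, 4, 7, 5, 7, 4, 7, 2, 7, 4, 4, 7]
def rw810 : List ℕ := [3, 4, 4, 4, 3, 9, 2, 5, 5, 5, 2, 5, 5, 5, 8, 4, 4, 4]
def rw811 : List ℕ := [3, 6, 2, 5, 5, 7, 3, 7, 7, 5, 7, 4, 6, 6, 2, 6, 4, 4]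
def rw812 : List ℕ := [3, 4, 6, 5, 2, 2, 2, 5, 3, 3, 3, 3, 7, 2, 2, 2, 2, 4, 3, 3]
def rw813 : List ℕ := [3, 6, 2, 2, 2, 2, 4, 3, 3, 3, 4, 7, 5, 2, 2, 2, 5, 3, 3, 3]
def rw814 : List ℕ := [3, 4, 3, 4, 3, 8, 2, 5, 2, 5, 2, 5, 9, 4]
def rw815 : List ℕ := [3, 6, 5, 6, 4, 8, 5, 7, 4, 7, 2, 7, 4, 4, 7, 3, 9, 2, 6, 5, 5, 6]
def rw816 : List ℕ := [3, 7, 7, 4, 6, 5, 6, 6, 2, 6, 3, 4, 3, 7, 2, 5, 2, 7]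
def rw817 : List ℕ := [3, 4, 3, 9, 2, 5, 2, 5, 2, 5, 8, 4, 3, 4]
def rw818 : List ℕ := [3, 3, 3, 4, 6, 5, 2, 2, 2, 5, 3, 3, 3, 3, 7, 2, 2, 2, 2, 4]
def rw819 : List ℕ := [3, 3, 3, 8, 2, 2, 2, 2, 4, 3, 3, 3, 4, 9, 5, 2, 2, 2, 5, 3]
def rw820 : List ℕ := [3, 8, 2, 5, 2, 5, 2, 5, 9, 4, 3, 4, 3, 4]
def rw821 : List ℕ := [3, 7, 2, 2, 5, 9, 2, 4, 2, 5, 8, 7, 6, 6, 9, 4, 3, 5, 3, 8, 4, 3]
def rw822 : List ℕ := [3, 4, 3, 8, 2, 5, 2, 7, 3, 7, 7, 4, 9, 5, 6, 6, 2, 6]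
def rw823 : List ℕ := [3, 3, 4, 2, 2, 5, 9, 2, 4, 2, 5, 8, 7, 5, 6, 9, 4, 3, 5, 3, 8, 4]
def rw824 : List ℕ := [3, 4, 0, 5, 2, 2, 2, 5, 3, 3, 3, 3, 1, 2, 2, 2, 2, 4, 3, 3]
def rw825 : List ℕ := [3, 3, 3, 4, 7, 5, 2, 2, 2, 5, 3, 3, 3, 3, 6, 2, 2, 2, 2, 4]
def rw826 : List ℕ := [3, 5, 3, 8, 4, 3, 3, 4, 2, 2, 5, 9, 2, 4, 2, 5, 8, 7, 5, 6, 9, 4]
def rw827 : List ℕ := [3, 8, 4, 3, 3, 5, 2, 2, 5, 9, 2, 4, 2, 5, 8, 7, 4, 6, 9, 4, 3, 5]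
def rw828 : List ℕ := [3, 6, 2, 7, 5, 3, 1, 2, 4, 6, 3, 7, 2, 4, 7, 0, 6, 5]
def rw829 : List ℕ := [3, 8, 4, 3, 3, 2, 2, 2, 5, 9, 2, 4, 2, 5, 8, 7, 3, 6, 9, 4, 3, 5]
def rw830 : List ℕ := [3, 3, 3, 3, 1, 2, 2, 2, 2, 4, 3, 3, 3, 4, 0, 5, 2, 2, 2, 5]
def rw831 : List ℕ := [3, 9, 2, 5, 2, 5, 2, 5, 8, 4, 3, 4, 3, 4]
def rw832 : List ℕ := [3, 7, 7, 4, 7, 5, 6, 6, 2, 6, 3, 4, 3, 6, 2, 5, 2, 7]
def rw833 : List ℕ := [3, 4, 1, 1, 4, 0, 0, 5, 2, 1, 3, 5, 5, 4, 2, 0]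
def rw834 : List ℕ := [3, 1, 2, 2, 2, 2, 4, 3, 3, 3, 4, 0, 5, 2, 2, 2, 5, 3, 3, 3]
def rw835 : List ℕ := [3, 5, 1, 4, 0, 4, 2, 6, 0, 4, 2, 6, 5, 7, 3, 5, 1, 7]
def rw836 : List ℕ := [3, 9, 2, 5, 5, 5, 2, 5, 5, 5, 8, 4, 4, 4, 3, 4, 4, 4]
def rw837 : List ℕ := [3, 4, 4, 9, 4, 4, 9, 4, 4, 9, 2, 8, 5, 5, 8, 5, 5, 8, 5, 5]
def rw838 : List ℕ := [3, 5, 1, 5, 0, 4, 2, 6, 0, 4, 2, 6, 4, 7, 3, 5, 1, 7]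
def rw839 : List ℕ := [3, 4, 2, 2, 5, 9, 2, 4, 2, 5, 8, 7, 5, 6, 9, 4, 3, 5, 3, 8, 4, 3]
def rw840 : List ℕ := [3, 3, 6, 2, 2, 2, 2, 4, 3, 3, 3, 4, 7, 5, 2, 2, 2, 5, 3, 3]
def rw841 : List ℕ := [3, 1, 5, 0, 2, 1, 8, 8, 8, 1, 2, 1, 8, 4, 4, 5, 9, 0, 3, 0, 9, 9, 9, 0]
def rw842 : List ℕ := [3, 3, 4, 6, 5, 2, 2, 2, 5, 3, 3, 3, 3, 7, 2, 2, 2, 2, 4, 3]
def rw843 : List ℕ := [3, 0, 9, 9, 9, 0, 3, 1, 3, 0, 2, 1, 8, 8, 8, 1, 2, 1, 8, 4, 2, 5, 9, 0]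
def rw844 : List ℕ := [3, 5, 1, 7, 3, 5, 1, 5, 0, 4, 2, 6, 0, 4, 2, 6, 4, 7]
def rw845 : List ℕ := [3, 3, 2, 5, 5, 7, 3, 7, 7, 5, 2, 4, 6, 6, 2, 6, 4, 4]
def rw846 : List ℕ := [3, 8, 2, 2, 5, 9, 2, 4, 2, 5, 8, 7, 9, 6, 9, 4, 3, 5, 3, 8, 4, 3]
def rw847 : List ℕ := [3, 7, 7, 7, 3, 8, 2, 6, 6, 6, 2, 6, 6, 6, 9, 7, 7, 7]
def rw848 : List ℕ := [3, 0, 2, 5, 5, 5, 2, 5, 5, 5, 1, 4, 4, 4, 3, 4, 4, 4]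
def rw849 : List ℕ := [3, 0, 4, 4, 0, 3, 4, 4, 5, 2, 1, 5, 5, 1, 2, 1, 5, 0]
def rw850 : List ℕ := [3, 3, 6, 2, 2, 5, 9, 2, 4, 2, 5, 8, 7, 7, 6, 9, 4, 3, 5, 3, 8, 4]
def rw851 : List ℕ := [3, 3, 4, 1, 5, 2, 2, 2, 5, 3, 3, 3, 3, 0, 2, 2, 2, 2, 4, 3]
def rw852 : List ℕ := [3, 3, 8, 2, 2, 2, 2, 4, 3, 3, 3, 4, 9, 5, 2, 2, 2, 5, 3, 3]
def rw853 : List ℕ := [3, 3, 9, 2, 2, 2, 2, 4, 3, 3, 3, 4, 8, 5, 2, 2, 2, 5, 3, 3]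
def rw854 : List ℕ := [3, 5, 1, 6, 0, 4, 2, 6, 0, 4, 2, 6, 7, 7, 3, 5, 1, 7]
def rw855 : List ℕ := [3, 3, 0, 2, 2, 2, 2, 4, 3, 3, 3, 4, 1, 5, 2, 2, 2, 5, 3, 3]
def rw856 : List ℕ := [3, 3, 3, 2, 2, 5, 9, 2, 4, 2, 5, 8, 7, 2, 6, 9, 4, 3, 5, 3, 8, 4]
def rw857 : List ℕ := [3, 7, 2, 4, 6, 3, 7, 2, 4, 7, 6, 6, 5, 3, 6, 2, 7, 5]
def rw858 : List ℕ := [3, 3, 3, 4, 1, 5, 2, 2, 2, 5, 3, 3, 3, 3, 0, 2, 2, 2, 2, 4]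
def rw859 : List ℕ := [3, 4, 4, 4, 3, 0, 2, 5, 5, 5, 2, 5, 5, 5, 1, 4, 4, 4]
def rw860 : List ℕ := [3, 9, 2, 5, 2, 7, 3, 7, 7, 4, 8, 5, 6, 6, 2, 6, 3, 4]
def rw861 : List ℕ := [3, 1, 8, 0, 2, 4, 0, 5, 5, 5, 9, 4, 4, 4, 1, 5]
def rw862 : List ℕ := [3, 0, 9, 9, 9, 0, 3, 1, 2, 0, 2, 1, 8, 8, 8, 1, 2, 1, 8, 4, 3, 5, 9, 0]
def rw863 : List ℕ := [3, 8, 2, 4, 6, 3, 7, 2, 4, 7, 9, 6, 5, 3, 6, 2, 7, 5]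
def rw864 : List ℕ := [3, 3, 3, 3, 7, 2, 2, 2, 2, 4, 3, 3, 3, 4, 6, 5, 2, 2, 2, 5]
def rw865 : List ℕ := [3, 4, 1, 5, 2, 1, 5, 5, 1, 2, 1, 0, 0, 3, 0, 4, 4, 0]
def rw866 : List ℕ := [3, 0, 4, 4, 0, 3, 4, 6, 5, 2, 1, 5, 5, 1, 2, 1, 7, 0]
def rw867 : List ℕ := [3, 0, 9, 9, 9, 0, 3, 1, 5, 0, 2, 1, 8, 8, 8, 1, 2, 1, 8, 4, 4, 5, 9, 0]
def rw868 : List ℕ := [3, 3, 3, 9, 2, 2, 2, 2, 4, 3, 3, 3, 4, 8, 5, 2, 2, 2, 5, 3]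
def rw869 : List ℕ := [3, 6, 2, 2, 5, 9, 2, 4, 2, 5, 8, 7, 7, 6, 9, 4, 3, 5, 3, 8, 4, 3]
def rw870 : List ℕ := [3, 3, 3, 6, 2, 2, 2, 2, 4, 3, 3, 3, 4, 7, 5, 2, 2, 2, 5, 3]
def rw871 : List ℕ := [3, 5, 7, 4, 2, 0, 3, 4, 1, 1, 6, 0, 0, 5, 2, 1]
def rw872 : List ℕ := [3, 5, 5, 4, 2, 0, 3, 4, 1, 1, 4, 0, 0, 5, 2, 1]
def rw873 : List ℕ := [3, 7, 2, 4, 7, 0, 6, 5, 3, 6, 2, 7, 5, 3, 1, 2, 4, 6]
def rw874 : List ℕ := [3, 3, 4, 8, 5, 2, 2, 2, 5, 3, 3, 3, 3, 9, 2, 2, 2, 2, 4, 3]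
def rw875 : List ℕ := [3, 4, 2, 6, 6, 6, 2, 6, 6, 6, 5, 7, 7, 7, 3, 7, 7, 7]
def rw876 : List ℕ := [3, 8, 4, 3, 3, 9, 2, 2, 5, 9, 2, 4, 2, 5, 8, 7, 8, 6, 9, 4, 3, 5]
def rw877 : List ℕ := [3, 5, 3, 8, 4, 3, 3, 2, 2, 2, 5, 9, 2, 4, 2, 5, 8, 7, 3, 6, 9, 4]
def rw878 : List ℕ := [3, 9, 2, 2, 2, 2, 4, 3, 3, 3, 4, 8, 5, 2, 2, 2, 5, 3, 3, 3]
def rw879 : List ℕ := [3, 8, 2, 6, 5, 5, 6, 3, 6, 5, 6, 4, 9, 5, 7, 4, 7, 2, 7, 4, 4, 7]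
def rw880 : List ℕ := [3, 3, 4, 7, 5, 2, 2, 2, 5, 3, 3, 3, 3, 6, 2, 2, 2, 2, 4, 3]
def rw881 : List ℕ := [3, 1, 2, 5, 5, 5, 2, 5, 5, 5, 0, 4, 4, 4, 3, 4, 4, 4]
def rw882 : List ℕ := [3, 5, 1, 5, 1, 4, 3, 5, 0, 4, 0, 4, 2, 1, 2, 0]
def rw883 : List ℕ := [3, 0, 2, 2, 2, 2, 4, 3, 3, 3, 4, 1, 5, 2, 2, 2, 5, 3, 3, 3]
def rw884 : List ℕ := [3, 5, 1, 7, 3, 5, 1, 2, 0, 4, 2, 6, 0, 4, 2, 6, 3, 7]
def rw885 : List ℕ := [3, 5, 1, 7, 3, 5, 1, 3, 0, 4, 2, 6, 0, 4, 2, 6, 2, 7]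
def rw886 : List ℕ := [3, 7, 7, 7, 3, 0, 2, 6, 6, 6, 2, 6, 6, 6, 1, 7, 7, 7]
def rw887 : List ℕ := [3, 7, 7, 7, 3, 1, 2, 6, 6, 6, 2, 6, 6, 6, 0, 7, 7, 7]
def rw888 : List ℕ := [3, 1, 2, 6, 5, 5, 6, 3, 6, 5, 6, 4, 0, 5, 7, 4, 7, 2, 7, 4, 4, 7]
def rw889 : List ℕ := [3, 0, 9, 9, 9, 0, 3, 1, 6, 0, 2, 1, 8, 8, 8, 1, 2, 1, 8, 4, 7, 5, 9, 0]
def rw890 : List ℕ := [3, 0, 4, 4, 0, 3, 4, 9, 5, 2, 1, 5, 5, 1, 2, 1, 8, 0]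
def rw891 : List ℕ := [3, 1, 2, 6, 6, 6, 2, 6, 6, 6, 0, 7, 7, 7, 3, 7, 7, 7]
def rw892 : List ℕ := [3, 5, 1, 7, 3, 5, 1, 1, 0, 4, 2, 6, 0, 4, 2, 6, 0, 7]
def rw893 : List ℕ := [3, 6, 5, 6, 4, 0, 5, 7, 4, 7, 2, 7, 4, 4, 7, 3, 1, 2, 6, 5, 5, 6]
def rw894 : List ℕ := [3, 4, 3, 0, 2, 5, 2, 7, 3, 7, 7, 4, 1, 5, 6, 6, 2, 6]
def rw895 : List ℕ := [3, 0, 4, 4, 0, 3, 4, 8, 5, 2, 1, 5, 5, 1, 2, 1, 9, 0]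
def rw896 : List ℕ := [3, 5, 1, 7, 3, 5, 1, 4, 0, 4, 2, 6, 0, 4, 2, 6, 5, 7]
def rw897 : List ℕ := [3, 5, 2, 2, 5, 9, 2, 4, 2, 5, 8, 7, 4, 6, 9, 4, 3, 5, 3, 8, 4, 3]
def rw898 : List ℕ := [3, 4, 7, 5, 2, 2, 2, 5, 3, 3, 3, 3, 6, 2, 2, 2, 2, 4, 3, 3]
def rw899 : List ℕ := [3, 9, 2, 6, 5, 5, 6, 3, 6, 5, 6, 4, 8, 5, 7, 4, 7, 2, 7, 4, 4, 7]
def rw900 : List ℕ := [3, 1, 8, 0, 2, 1, 8, 8, 8, 1, 2, 1, 8, 4, 9, 5, 9, 0, 3, 0, 9, 9, 9, 0]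
def rw901 : List ℕ := [3, 6, 2, 7, 5, 3, 8, 2, 4, 6, 3, 7, 2, 4, 7, 9, 6, 5]
def rw902 : List ℕ := [3, 5, 1, 8, 0, 4, 2, 6, 0, 4, 2, 6, 9, 7, 3, 5, 1, 7]
def rw903 : List ℕ := [3, 1, 3, 0, 2, 1, 8, 8, 8, 1, 2, 1, 8, 4, 2, 5, 9, 0, 3, 0, 9, 9, 9, 0]
def rw904 : List ℕ := [4, 2, 1, 5, 0, 3, 5, 1, 5, 1, 4, 4, 5, 0, 4, 0]
def rw905 : List ℕ := [4, 1, 5, 3, 1, 0, 0, 2, 4, 0, 5, 5, 5, 1, 4, 4]
def rw906 : List ℕ := [4, 0, 4, 2, 1, 0, 0, 3, 5, 1, 5, 1, 4, 1, 5, 0]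
def rw907 : List ℕ := [4, 4, 1, 5, 3, 1, 3, 0, 2, 4, 0, 5, 5, 5, 2, 4]
def rw908 : List ℕ := [4, 3, 4, 3, 2, 2, 5, 2, 5, 2, 5, 3, 4, 3]
def rw909 : List ℕ := [4, 4, 6, 9, 7, 5, 5, 7, 5, 5, 8, 4, 4, 6]
def rw910 : List ℕ := [4, 6, 4, 7, 5, 5, 7, 5, 5, 5, 4, 4, 6, 4]
def rw911 : List ℕ := [4, 6, 5, 7, 5, 6]
def rw912 : List ℕ := [4, 0, 5, 5, 5, 4, 4, 4, 4, 1, 5, 3, 1, 5, 0, 2]
def rw913 : List ℕ := [4, 2, 2, 4, 3, 3, 5, 3, 3]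
def rw914 : List ℕ := [4, 4, 6, 8, 7, 5, 5, 7, 5, 5, 9, 4, 4, 6]
def rw915 : List ℕ := [4, 4, 6, 7, 7, 5, 5, 7, 5, 5, 6, 4, 4, 6]
def rw916 : List ℕ := [4, 8, 7, 8, 7, 8, 7, 8, 7, 5, 6, 9, 6, 9, 6, 9, 6, 9]
def rw917 : List ℕ := [4, 1, 1, 4, 0, 0, 5, 2, 1, 3, 5, 5, 4, 2, 0, 3]
def rw918 : List ℕ := [4, 0, 3, 4, 9, 5, 2, 1, 5, 5, 1, 2, 1, 8, 0, 3, 0, 4]
def rw919 : List ℕ := [4, 3, 3, 3, 4, 1, 5, 2, 2, 2, 5, 3, 3, 3, 3, 0, 2, 2, 2, 2]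
def rw920 : List ℕ := [4, 3, 0, 2, 5, 5, 5, 2, 5, 5, 5, 1, 4, 4, 4, 3, 4, 4]
def rw921 : List ℕ := [4, 0, 5, 5, 5, 5, 4, 4, 4, 1, 5, 3, 1, 4, 0, 2]
def rw922 : List ℕ := [4, 4, 6, 1, 7, 5, 5, 7, 5, 5, 0, 4, 4, 6]
def rw923 : List ℕ := [4, 2, 1, 2, 0, 3, 5, 1, 5, 1, 4, 3, 5, 0, 4, 0]
def rw924 : List ℕ := [4, 0, 5, 5, 5, 2, 4, 4, 4, 1, 5, 3, 1, 3, 0, 2]
def rw925 : List ℕ := [4, 4, 4, 4, 4, 4, 4]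
def rw926 : List ℕ := [4, 2, 1, 0, 0, 3, 5, 1, 5, 1, 4, 1, 5, 0, 4, 0]
def rw927 : List ℕ := [4, 0, 3, 4, 0, 5, 2, 1, 5, 5, 1, 2, 1, 1, 0, 3, 0, 4]
def rw928 : List ℕ := [4, 2, 0, 3, 4, 1, 1, 1, 0, 0, 5, 2, 1, 3, 5, 0]
def rw929 : List ℕ := [4, 1, 1, 1, 0, 0, 5, 2, 1, 3, 5, 0, 4, 2, 0, 3]
def rw930 : List ℕ := [4, 4, 6, 0, 7, 5, 5, 7, 5, 5, 1, 4, 4, 6]
def rw931 : List ℕ := [4, 4, 4, 4, 4, 4, 4]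
def rw932 : List ℕ := [4, 1, 5, 3, 1, 2, 0, 2, 4, 0, 5, 5, 5, 3, 4, 4]
def rw933 : List ℕ := [4, 4, 0, 3, 4, 5, 5, 2, 1, 5, 5, 1, 2, 1, 4, 0, 3, 0]
def rw934 : List ℕ := [4, 3, 3, 3, 4, 5, 5, 2, 2, 2, 5, 3, 3, 3, 3, 4, 2, 2, 2, 2]
def rw935 : List ℕ := [4, 3, 4, 3, 3, 2, 5, 2, 5, 2, 5, 2, 4, 3]
def rw936 : List ℕ := [4, 7, 5, 7, 4, 6]
def rw937 : List ℕ := [4, 3, 3, 2, 5, 5, 5, 2, 5, 5, 5, 2, 4, 4, 4, 3, 4, 4]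
def rw938 : List ℕ := [4, 4, 6, 3, 7, 5, 5, 7, 5, 5, 2, 4, 4, 6]
def rw939 : List ℕ := [4, 3, 4, 2, 5, 5, 5, 2, 5, 5, 5, 5, 4, 4, 4, 3, 4, 4]
def rw940 : List ℕ := [4, 3, 3, 5, 3, 3, 4, 2, 2]
def rw941 : List ℕ := [4, 3, 5, 2, 5, 5, 5, 2, 5, 5, 5, 4, 4, 4, 4, 3, 4, 4]
def rw942 : List ℕ := [4, 3, 1, 2, 5, 2, 5, 2, 5, 0, 4, 3, 4, 3]
def rw943 : List ℕ := [4, 3, 5, 2, 5, 2, 5, 2, 5, 4, 4, 3, 4, 3]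
def rw944 : List ℕ := [4, 0, 4, 2, 1, 1, 0, 3, 5, 1, 5, 1, 4, 0, 5, 0]
def rw945 : List ℕ := [4, 0, 3, 4, 5, 5, 2, 1, 5, 5, 1, 2, 1, 4, 0, 3, 0, 4]
def rw946 : List ℕ := [4, 1, 1, 3, 0, 0, 5, 2, 1, 3, 5, 2, 4, 2, 0, 3]
def rw947 : List ℕ := [4, 4, 4, 1, 5, 3, 1, 3, 0, 2, 4, 0, 5, 5, 5, 2]
def rw948 : List ℕ := [4, 4, 6, 2, 7, 5, 5, 7, 5, 5, 3, 4, 4, 6]
def rw949 : List ℕ := [4, 2, 2, 5, 3, 3, 5, 2, 2]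
def rw950 : List ℕ := [4, 4, 4, 1, 5, 3, 1, 0, 0, 2, 4, 0, 5, 5, 5, 1]
def rw951 : List ℕ := [4, 0, 5, 5, 5, 1, 4, 4, 4, 1, 5, 3, 1, 0, 0, 2]
def rw952 : List ℕ := [4, 4, 4, 4, 4, 4, 4]
def rw953 : List ℕ := [4, 4, 3, 1, 2, 5, 5, 5, 2, 5, 5, 5, 0, 4, 4, 4, 3, 4]
def rw954 : List ℕ := [4, 3, 3, 3, 4, 3, 5, 2, 2, 2, 5, 3, 3, 3, 3, 2, 2, 2, 2, 2]
def rw955 : List ℕ := [4, 6, 5, 7, 5, 5, 7, 5, 5, 4, 4, 4, 6, 4]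
def rw956 : List ℕ := [4, 4, 0, 3, 4, 4, 5, 2, 1, 5, 5, 1, 2, 1, 5, 0, 3, 0]
def rw957 : List ℕ := [4, 4, 0, 3, 4, 1, 5, 2, 1, 5, 5, 1, 2, 1, 0, 0, 3, 0]
def rw958 : List ℕ := [4, 0, 5, 5, 5, 0, 4, 4, 4, 1, 5, 3, 1, 1, 0, 2]
def rw959 : List ℕ := [4, 3, 4, 3, 1, 2, 5, 2, 5, 2, 5, 0, 4, 3]
def rw960 : List ℕ := [4, 7, 3, 7, 2, 6, 5, 5, 6, 3, 6, 5, 6, 4, 6, 5, 7, 4, 7, 2, 7, 4]
def rw961 : List ℕ := [4, 4, 1, 5, 3, 1, 0, 0, 2, 4, 0, 5, 5, 5, 1, 4]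
def rw962 : List ℕ := [4, 6, 4, 6, 4, 7, 5, 7, 5, 7, 5, 5, 4, 6]
def rw963 : List ℕ := [4, 4, 4, 4, 4, 4, 4]
def rw964 : List ℕ := [4, 7, 4, 7, 9, 6, 5, 6, 5, 6, 5, 6, 5, 8, 4, 7, 4, 7]
def rw965 : List ℕ := [4, 3, 4, 3, 7, 2, 5, 2, 5, 2, 5, 6, 4, 3]
def rw966 : List ℕ := [4, 1, 1, 5, 0, 0, 5, 2, 1, 3, 5, 4, 4, 2, 0, 3]
def rw967 : List ℕ := [4, 4, 5, 0, 4, 0, 4, 2, 1, 5, 0, 3, 5, 1, 5, 1]
def rw968 : List ℕ := [4, 2, 0, 3, 4, 1, 1, 3, 0, 0, 5, 2, 1, 3, 5, 2]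
def rw969 : List ℕ := [4, 2, 1, 1, 0, 3, 5, 1, 5, 1, 4, 0, 5, 0, 4, 0]
def rw970 : List ℕ := [4, 6, 4, 7, 5, 7]
def rw971 : List ℕ := [4, 2, 1, 4, 0, 3, 5, 1, 5, 1, 4, 5, 5, 0, 4, 0]
def rw972 : List ℕ := [4, 4, 4, 3, 3, 2, 5, 5, 5, 2, 5, 5, 5, 2, 4, 4, 4, 3]
def rw973 : List ℕ := [4, 7, 5, 7, 7, 6, 4, 6, 5, 7, 5, 6, 4, 6]
def rw974 : List ℕ := [4, 3, 3, 3, 4, 4, 5, 2, 2, 2, 5, 3, 3, 3, 3, 5, 2, 2, 2, 2]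
def rw975 : List ℕ := [4, 4, 3, 7, 2, 5, 5, 7, 3, 7, 7, 5, 6, 4, 6, 6, 2, 6]
def rw976 : List ℕ := [4, 4, 4, 4, 4, 4, 4]
def rw977 : List ℕ := [4, 3, 4, 4, 4, 3, 5, 2, 5, 5, 5, 2, 5, 5, 5, 4, 4, 4]
def rw978 : List ℕ := [4, 3, 3, 2, 5, 2, 5, 2, 5, 2, 4, 3, 4, 3]
def rw979 : List ℕ := [4, 7, 4, 7, 4, 7, 2, 6, 5, 6, 5, 6, 5, 6, 5, 3, 4, 7]
def rw980 : List ℕ := [4, 3, 6, 2, 5, 5, 5, 2, 5, 5, 5, 7, 4, 4, 4, 3, 4, 4]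
def rw981 : List ℕ := [4, 4, 4, 4, 4, 4, 4]
def rw982 : List ℕ := [4, 6, 5, 7, 5, 4, 4, 6, 4, 7, 5, 7, 5, 6]
def rw983 : List ℕ := [4, 6, 3, 7, 2, 4, 7, 3, 6, 5, 3, 6, 2, 7, 5, 3, 2, 2]
def rw984 : List ℕ := [4, 3, 4, 3, 4, 3, 2, 2, 5, 2, 5, 2, 5, 3]
def rw985 : List ℕ := [4, 4, 3, 5, 2, 5, 5, 5, 2, 5, 5, 5, 4, 4, 4, 4, 3, 4]
def rw986 : List ℕ := [4, 3, 7, 2, 5, 2, 5, 2, 5, 6, 4, 3, 4, 3]
def rw987 : List ℕ := [4, 6, 4, 4, 6, 7, 7, 5, 5, 7, 5, 5, 6, 4]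
def rw988 : List ℕ := [4, 6, 3, 7, 2, 4, 7, 6, 6, 5, 3, 6, 2, 7, 5, 3, 7, 2]
def rw989 : List ℕ := [4, 4, 4, 3, 4, 4, 4, 3, 2, 2, 5, 5, 5, 2, 5, 5, 5, 3]
def rw990 : List ℕ := [4, 2, 5, 2, 2, 2, 5, 3, 3, 3, 3, 3, 2, 2, 2, 2, 4, 3, 3, 3]
def rw991 : List ℕ := [4, 6, 4, 4, 6, 2, 7, 5, 5, 7, 5, 5, 3, 4]
def rw992 : List ℕ := [4, 6, 5, 6, 4, 6, 6, 6, 2, 7, 7, 7, 5, 7, 4, 7, 5, 3]
def rw993 : List ℕ := [4, 8, 8, 7, 7, 8, 5, 6, 6, 5, 5, 5, 4, 4, 7, 7, 4, 9, 6, 6, 9, 9]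
def rw994 : List ℕ := [4, 4, 3, 4, 2, 5, 5, 5, 2, 5, 5, 5, 5, 4, 4, 4, 3, 4]
def rw995 : List ℕ := [4, 7, 4, 7, 4, 7, 3, 6, 5, 6, 5, 6, 5, 6, 5, 2, 4, 7]
def rw996 : List ℕ := [4, 1, 1, 2, 0, 0, 5, 2, 1, 3, 5, 3, 4, 2, 0, 3]
def rw997 : List ℕ := [4, 4, 3, 6, 2, 5, 5, 7, 3, 7, 7, 5, 7, 4, 6, 6, 2, 6]
def rw998 : List ℕ := [4, 0, 5, 5, 5, 3, 4, 4, 4, 1, 5, 3, 1, 2, 0, 2]
def rw999 : List ℕ := [4, 0, 4, 2, 1, 4, 0, 3, 5, 1, 5, 1, 4, 5, 5, 0]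
def rw1000 : List ℕ := [4, 4, 7, 3, 4, 2, 6, 5, 5, 6, 3, 6, 5, 6, 4, 5, 5, 7, 4, 7, 2, 7]
def rw1001 : List ℕ := [4, 0, 5, 5, 5, 6, 4, 4, 4, 1, 5, 3, 1, 7, 0, 2]
def rw1002 : List ℕ := [4, 4, 3, 4, 4, 4, 3, 2, 2, 5, 5, 5, 2, 5, 5, 5, 3, 4]
def rw1003 : List ℕ := [4, 6, 6, 7, 5, 5, 7, 5, 5, 7, 4, 4, 6, 4]
def rw1004 : List ℕ := [4, 7, 4, 7, 4, 7, 5, 6, 5, 6, 5, 6, 5, 6, 5, 4, 4, 7]
def rw1005 : List ℕ := [4, 0, 3, 4, 8, 5, 2, 1, 5, 5, 1, 2, 1, 9, 0, 3, 0, 4]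
def rw1006 : List ℕ := [4, 7, 3, 9, 2, 6, 5, 5, 6, 3, 6, 5, 6, 4, 8, 5, 7, 4, 7, 2, 7, 4]
def rw1007 : List ℕ := [4, 4, 7, 3, 7, 2, 6, 5, 5, 6, 3, 6, 5, 6, 4, 6, 5, 7, 4, 7, 2, 7]
def rw1008 : List ℕ := [4, 6, 8, 7, 5, 5, 7, 5, 5, 9, 4, 4, 6, 4]
def rw1009 : List ℕ := [4, 7, 4, 7, 8, 6, 5, 6, 5, 6, 5, 6, 5, 9, 4, 7, 4, 7]
def rw1010 : List ℕ := [4, 7, 2, 6, 5, 3, 6, 2, 7, 5, 3, 3, 2, 4, 6, 3, 7, 2]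
def rw1011 : List ℕ := [4, 7, 7, 6, 5, 3, 6, 2, 7, 5, 3, 6, 2, 4, 6, 3, 7, 2]
def rw1012 : List ℕ := [4, 7, 4, 7, 4, 7, 4, 7, 2, 6, 5, 6, 5, 6, 5, 6, 5, 3]
def rw1013 : List ℕ := [4, 6, 5, 7, 5, 7, 4, 6, 4, 7, 5, 7, 6, 6]
def rw1014 : List ℕ := [4, 4, 6, 4, 4, 6, 6, 7, 5, 5, 7, 5, 5, 7]
def rw1015 : List ℕ := [4, 7, 5, 6, 4, 6, 5, 6, 4, 6, 6, 6, 7, 7, 7, 7, 5, 7]
def rw1016 : List ℕ := [4, 4, 9, 6, 8, 5, 5, 8, 5, 5, 8, 5, 5, 7, 4, 4, 9, 4, 4, 9]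
def rw1017 : List ℕ := [4, 4, 9, 4, 4, 9, 7, 8, 5, 5, 8, 5, 5, 8, 5, 5, 6, 4, 4, 9]
def rw1018 : List ℕ := [4, 9, 6, 6, 9, 9, 9, 8, 8, 7, 7, 8, 5, 6, 6, 5, 5, 8, 4, 4, 7, 7]
def rw1019 : List ℕ := [4, 7, 7, 4, 9, 6, 6, 9, 9, 7, 8, 8, 7, 7, 8, 5, 6, 6, 5, 5, 6, 4]
def rw1020 : List ℕ := [4, 4, 0, 3, 4, 3, 5, 2, 1, 5, 5, 1, 2, 1, 2, 0, 3, 0]
def rw1021 : List ℕ := [4, 4, 4, 3, 5, 2, 5, 5, 5, 2, 5, 5, 5, 4, 4, 4, 4, 3]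
def rw1022 : List ℕ := [4, 3, 5, 2, 5, 5, 7, 3, 7, 7, 5, 4, 4, 6, 6, 2, 6, 4]
def rw1023 : List ℕ := [4, 7, 3, 6, 2, 6, 5, 5, 6, 3, 6, 5, 6, 4, 7, 5, 7, 4, 7, 2, 7, 4]
def rw1024 : List ℕ := [4, 6, 3, 7, 2, 4, 7, 2, 6, 5, 3, 6, 2, 7, 5, 3, 3, 2]
def rw1025 : List ℕ := [4, 6, 4, 4, 6, 9, 7, 5, 5, 7, 5, 5, 8, 4]
def rw1026 : List ℕ := [4, 3, 4, 4, 4, 3, 3, 2, 5, 5, 5, 2, 5, 5, 5, 2, 4, 4]
def rw1027 : List ℕ := [4, 2, 6, 0, 7, 3, 5, 1, 7, 3, 5, 1, 1, 0, 4, 2, 6, 0]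
def rw1028 : List ℕ := [4, 4, 4, 1, 5, 3, 1, 7, 0, 2, 4, 0, 5, 5, 5, 6]
def rw1029 : List ℕ := [4, 4, 4, 3, 6, 2, 5, 5, 5, 2, 5, 5, 5, 7, 4, 4, 4, 3]
def rw1030 : List ℕ := [4, 6, 4, 7, 5, 7, 3, 6, 4, 6, 5, 7, 5, 2]
def rw1031 : List ℕ := [4, 4, 6, 6, 7, 5, 5, 7, 5, 5, 7, 4, 4, 6]
def rw1032 : List ℕ := [4, 3, 6, 2, 5, 5, 7, 3, 7, 7, 5, 7, 4, 6, 6, 2, 6, 4]
def rw1033 : List ℕ := [4, 7, 7, 4, 9, 6, 6, 9, 9, 6, 8, 8, 7, 7, 8, 5, 6, 6, 5, 5, 7, 4]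
def rw1034 : List ℕ := [4, 6, 4, 6, 8, 7, 5, 7, 5, 7, 5, 9, 4, 6]
def rw1035 : List ℕ := [4, 1, 1, 6, 0, 0, 5, 2, 1, 3, 5, 7, 4, 2, 0, 3]
def rw1036 : List ℕ := [4, 6, 5, 6, 4, 6, 6, 6, 7, 7, 7, 7, 5, 7, 4, 7, 5, 6]
def rw1037 : List ℕ := [4, 4, 3, 4, 2, 5, 5, 7, 3, 7, 7, 5, 5, 4, 6, 6, 2, 6]
def rw1038 : List ℕ := [4, 3, 3, 3, 4, 2, 5, 2, 2, 2, 5, 3, 3, 3, 3, 3, 2, 2, 2, 2]
def rw1039 : List ℕ := [4, 4, 5, 2, 2, 2, 5, 3, 3, 3, 3, 5, 2, 2, 2, 2, 4, 3, 3, 3]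
def rw1040 : List ℕ := [4, 4, 0, 3, 4, 7, 5, 2, 1, 5, 5, 1, 2, 1, 6, 0, 3, 0]
def rw1041 : List ℕ := [4, 6, 2, 7, 5, 5, 7, 5, 5, 3, 4, 4, 6, 4]
def rw1042 : List ℕ := [4, 7, 4, 7, 4, 6, 5, 6, 5, 6, 5, 6, 5, 5, 4, 7, 4, 7]
def rw1043 : List ℕ := [4, 2, 0, 3, 4, 1, 1, 0, 0, 0, 5, 2, 1, 3, 5, 1]
def rw1044 : List ℕ := [4, 4, 6, 4, 4, 6, 0, 7, 5, 5, 7, 5, 5, 1]
def rw1045 : List ℕ := [4, 2, 6, 0, 4, 2, 6, 7, 7, 3, 5, 1, 7, 3, 5, 1, 6, 0]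
def rw1046 : List ℕ := [4, 9, 6, 6, 9, 9, 8, 8, 8, 7, 7, 8, 5, 6, 6, 5, 5, 9, 4, 4, 7, 7]
def rw1047 : List ℕ := [4, 4, 9, 4, 4, 9, 4, 4, 9, 6, 8, 5, 5, 8, 5, 5, 8, 5, 5, 7]
def rw1048 : List ℕ := [4, 7, 5, 7, 5, 6, 4, 6, 5, 7, 5, 4, 4, 6]
def rw1049 : List ℕ := [4, 4, 9, 4, 4, 9, 6, 8, 5, 5, 8, 5, 5, 8, 5, 5, 7, 4, 4, 9]
def rw1050 : List ℕ := [4, 3, 4, 3, 9, 2, 5, 2, 5, 2, 5, 8, 4, 3]
def rw1051 : List ℕ := [4, 4, 7, 3, 6, 2, 6, 5, 5, 6, 3, 6, 5, 6, 4, 7, 5, 7, 4, 7, 2, 7]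
def rw1052 : List ℕ := [4, 3, 4, 2, 5, 2, 7, 3, 7, 7, 4, 5, 5, 6, 6, 2, 6, 3]
def rw1053 : List ℕ := [4, 4, 9, 4, 4, 9, 8, 8, 5, 5, 8, 5, 5, 8, 5, 5, 9, 4, 4, 9]
def rw1054 : List ℕ := [4, 4, 9, 4, 4, 9, 9, 8, 5, 5, 8, 5, 5, 8, 5, 5, 8, 4, 4, 9]
def rw1055 : List ℕ := [4, 4, 6, 4, 4, 6, 3, 7, 5, 5, 7, 5, 5, 2]
def rw1056 : List ℕ := [4, 7, 4, 6, 5, 6, 5, 6, 5, 6, 5, 5, 4, 7, 4, 7, 4, 7]
def rw1057 : List ℕ := [4, 7, 7, 4, 9, 6, 6, 9, 9, 9, 8, 8, 7, 7, 8, 5, 6, 6, 5, 5, 8, 4]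
def rw1058 : List ℕ := [4, 0, 5, 0, 4, 0, 4, 2, 1, 1, 0, 3, 5, 1, 5, 1]
def rw1059 : List ℕ := [4, 2, 6, 3, 7, 3, 5, 1, 7, 3, 5, 1, 2, 0, 4, 2, 6, 0]
def rw1060 : List ℕ := [4, 2, 0, 3, 4, 1, 1, 5, 0, 0, 5, 2, 1, 3, 5, 4]
def rw1061 : List ℕ := [4, 0, 3, 4, 1, 5, 2, 1, 5, 5, 1, 2, 1, 0, 0, 3, 0, 4]
def rw1062 : List ℕ := [4, 4, 0, 3, 4, 0, 5, 2, 1, 5, 5, 1, 2, 1, 1, 0, 3, 0]
def rw1063 : List ℕ := [4, 3, 6, 2, 5, 2, 7, 3, 7, 7, 4, 7, 5, 6, 6, 2, 6, 3]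
def rw1064 : List ℕ := [4, 3, 4, 3, 6, 2, 5, 2, 5, 2, 5, 7, 4, 3]
def rw1065 : List ℕ := [4, 3, 4, 3, 0, 2, 5, 2, 5, 2, 5, 1, 4, 3]
def rw1066 : List ℕ := [4, 6, 4, 6, 0, 7, 5, 7, 5, 7, 5, 1, 4, 6]
def rw1067 : List ℕ := [4, 4, 7, 3, 2, 2, 6, 5, 5, 6, 3, 6, 5, 6, 4, 3, 5, 7, 4, 7, 2, 7]
def rw1068 : List ℕ := [4, 4, 3, 4, 4, 4, 3, 0, 2, 5, 5, 5, 2, 5, 5, 5, 1, 4]
def rw1069 : List ℕ := [4, 4, 4, 3, 4, 2, 5, 5, 5, 2, 5, 5, 5, 5, 4, 4, 4, 3]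
def rw1070 : List ℕ := [4, 6, 6, 6, 3, 7, 7, 7, 5, 7, 4, 7, 5, 2, 4, 6, 5, 6]
def rw1071 : List ℕ := [4, 2, 0, 3, 4, 1, 1, 2, 0, 0, 5, 2, 1, 3, 5, 3]
def rw1072 : List ℕ := [4, 3, 4, 3, 4, 3, 1, 2, 5, 2, 5, 2, 5, 0]
def rw1073 : List ℕ := [4, 4, 3, 3, 2, 5, 5, 5, 2, 5, 5, 5, 2, 4, 4, 4, 3, 4]
def rw1074 : List ℕ := [4, 6, 4, 7, 5, 7, 5, 6, 4, 6, 5, 7, 5, 4]
def rw1075 : List ℕ := [4, 2, 1, 3, 0, 3, 5, 1, 5, 1, 4, 2, 5, 0, 4, 0]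
def rw1076 : List ℕ := [4, 4, 4, 1, 5, 3, 1, 2, 0, 2, 4, 0, 5, 5, 5, 3]
def rw1077 : List ℕ := [4, 7, 2, 7, 4, 4, 7, 3, 2, 2, 6, 5, 5, 6, 3, 6, 5, 6, 4, 3, 5, 7]
def rw1078 : List ℕ := [4, 6, 3, 7, 5, 7, 5, 7, 5, 2, 4, 6, 4, 6]
def rw1079 : List ℕ := [4, 1, 5, 3, 1, 5, 0, 2, 4, 0, 5, 5, 5, 4, 4, 4]
def rw1080 : List ℕ := [4, 1, 5, 3, 1, 3, 0, 2, 4, 0, 5, 5, 5, 2, 4, 4]
def rw1081 : List ℕ := [4, 3, 2, 2, 5, 2, 5, 2, 5, 3, 4, 3, 4, 3]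
def rw1082 : List ℕ := [4, 2, 6, 5, 7, 3, 5, 1, 7, 3, 5, 1, 4, 0, 4, 2, 6, 0]
def rw1083 : List ℕ := [4, 4, 6, 5, 7, 5, 5, 7, 5, 5, 4, 4, 4, 6]
def rw1084 : List ℕ := [4, 7, 4, 7, 1, 6, 5, 6, 5, 6, 5, 6, 5, 0, 4, 7, 4, 7]
def rw1085 : List ℕ := [4, 4, 1, 5, 3, 1, 1, 0, 2, 4, 0, 5, 5, 5, 0, 4]
def rw1086 : List ℕ := [4, 7, 2, 6, 5, 6, 5, 6, 5, 6, 5, 3, 4, 7, 4, 7, 4, 7]
def rw1087 : List ℕ := [4, 3, 4, 4, 4, 3, 1, 2, 5, 5, 5, 2, 5, 5, 5, 0, 4, 4]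
def rw1088 : List ℕ := [4, 0, 4, 2, 1, 2, 0, 3, 5, 1, 5, 1, 4, 3, 5, 0]
def rw1089 : List ℕ := [4, 6, 4, 7, 5, 7, 5, 7, 5, 5, 4, 6, 4, 6]
def rw1090 : List ℕ := [4, 7, 4, 7, 3, 6, 5, 6, 5, 6, 5, 6, 5, 2, 4, 7, 4, 7]
def rw1091 : List ℕ := [4, 7, 5, 5, 4, 6, 5, 6, 4, 6, 6, 6, 4, 7, 7, 7, 5, 7]
def rw1092 : List ℕ := [4, 3, 5, 2, 2, 2, 5, 3, 3, 3, 3, 2, 2, 2, 2, 2, 4, 3, 3, 3]
def rw1093 : List ℕ := [4, 6, 4, 4, 6, 6, 7, 5, 5, 7, 5, 5, 7, 4]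
def rw1094 : List ℕ := [4, 4, 3, 5, 2, 5, 5, 7, 3, 7, 7, 5, 4, 4, 6, 6, 2, 6]
def rw1095 : List ℕ := [4, 6, 1, 7, 5, 5, 7, 5, 5, 0, 4, 4, 6, 4]
def rw1096 : List ℕ := [4, 2, 5, 6, 6, 2, 6, 3, 4, 3, 3, 2, 5, 2, 7, 3, 7, 7]
def rw1097 : List ℕ := [4, 6, 0, 7, 5, 7, 5, 7, 5, 1, 4, 6, 4, 6]
def rw1098 : List ℕ := [4, 6, 4, 7, 5, 7, 6, 6, 4, 6, 5, 7, 5, 7]
def rw1099 : List ℕ := [4, 0, 5, 5, 5, 7, 4, 4, 4, 1, 5, 3, 1, 6, 0, 2]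
def rw1100 : List ℕ := [4, 6, 3, 7, 5, 5, 7, 5, 5, 2, 4, 4, 6, 4]
def rw1101 : List ℕ := [4, 0, 4, 2, 1, 3, 0, 3, 5, 1, 5, 1, 4, 2, 5, 0]
def rw1102 : List ℕ := [4, 0, 3, 4, 2, 5, 2, 1, 5, 5, 1, 2, 1, 3, 0, 3, 0, 4]
def rw1103 : List ℕ := [4, 0, 3, 4, 4, 5, 2, 1, 5, 5, 1, 2, 1, 5, 0, 3, 0, 4]
def rw1104 : List ℕ := [4, 4, 4, 3, 0, 2, 5, 5, 5, 2, 5, 5, 5, 1, 4, 4, 4, 3]
def rw1105 : List ℕ := [4, 3, 0, 2, 5, 2, 5, 2, 5, 1, 4, 3, 4, 3]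
def rw1106 : List ℕ := [4, 3, 4, 4, 4, 3, 2, 2, 5, 5, 5, 2, 5, 5, 5, 3, 4, 4]
def rw1107 : List ℕ := [4, 6, 4, 6, 1, 7, 5, 7, 5, 7, 5, 0, 4, 6]
def rw1108 : List ℕ := [4, 7, 5, 7, 6, 6, 4, 6, 5, 7, 5, 7, 4, 6]
def rw1109 : List ℕ := [4, 7, 5, 6, 5, 6, 5, 6, 5, 6, 5, 4, 4, 7, 4, 7, 4, 7]
def rw1110 : List ℕ := [4, 6, 3, 7, 2, 4, 7, 7, 6, 5, 3, 6, 2, 7, 5, 3, 6, 2]
def rw1111 : List ℕ := [4, 6, 4, 7, 5, 7, 2, 6, 4, 6, 5, 7, 5, 3]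
def rw1112 : List ℕ := [4, 7, 3, 3, 2, 6, 5, 5, 6, 3, 6, 5, 6, 4, 2, 5, 7, 4, 7, 2, 7, 4]
def rw1113 : List ℕ := [4, 6, 4, 6, 4, 6, 2, 7, 5, 7, 5, 7, 5, 3]
def rw1114 : List ℕ := [4, 7, 2, 7, 4, 4, 7, 3, 1, 2, 6, 5, 5, 6, 3, 6, 5, 6, 4, 0, 5, 7]
def rw1115 : List ℕ := [4, 7, 2, 7, 4, 4, 7, 3, 5, 2, 6, 5, 5, 6, 3, 6, 5, 6, 4, 4, 5, 7]
def rw1116 : List ℕ := [4, 1, 5, 3, 1, 1, 0, 2, 4, 0, 5, 5, 5, 0, 4, 4]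
def rw1117 : List ℕ := [4, 3, 5, 0, 4, 0, 4, 2, 1, 2, 0, 3, 5, 1, 5, 1]
def rw1118 : List ℕ := [4, 0, 5, 2, 1, 5, 5, 1, 2, 1, 1, 0, 3, 0, 4, 4, 0, 3]
def rw1119 : List ℕ := [4, 6, 3, 7, 2, 4, 7, 4, 6, 5, 3, 6, 2, 7, 5, 3, 5, 2]
def rw1120 : List ℕ := [4, 2, 6, 7, 7, 3, 5, 1, 7, 3, 5, 1, 6, 0, 4, 2, 6, 0]
def rw1121 : List ℕ := [4, 4, 3, 4, 4, 4, 3, 7, 2, 5, 5, 5, 2, 5, 5, 5, 6, 4]
def rw1122 : List ℕ := [4, 7, 4, 7, 0, 6, 5, 6, 5, 6, 5, 6, 5, 1, 4, 7, 4, 7]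
def rw1123 : List ℕ := [4, 4, 7, 3, 5, 2, 6, 5, 5, 6, 3, 6, 5, 6, 4, 4, 5, 7, 4, 7, 2, 7]
def rw1124 : List ℕ := [4, 3, 6, 2, 5, 2, 5, 2, 5, 7, 4, 3, 4, 3]
def rw1125 : List ℕ := [4, 2, 5, 7, 4, 7, 2, 7, 4, 4, 7, 3, 3, 2, 6, 5, 5, 6, 3, 6, 5, 6]
def rw1126 : List ℕ := [4, 4, 4, 3, 7, 2, 5, 5, 5, 2, 5, 5, 5, 6, 4, 4, 4, 3]
def rw1127 : List ℕ := [4, 1, 5, 0, 4, 0, 4, 2, 1, 0, 0, 3, 5, 1, 5, 1]
def rw1128 : List ℕ := [4, 1, 5, 7, 4, 7, 2, 7, 4, 4, 7, 3, 0, 2, 6, 5, 5, 6, 3, 6, 5, 6]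
def rw1129 : List ℕ := [4, 6, 5, 6, 4, 6, 6, 6, 6, 7, 7, 7, 5, 7, 4, 7, 5, 7]
def rw1130 : List ℕ := [4, 3, 7, 2, 5, 2, 7, 3, 7, 7, 4, 6, 5, 6, 6, 2, 6, 3]
def rw1131 : List ℕ := [4, 7, 5, 4, 4, 6, 5, 6, 4, 6, 6, 6, 5, 7, 7, 7, 5, 7]
def rw1132 : List ℕ := [4, 7, 2, 7, 4, 4, 7, 3, 6, 2, 6, 5, 5, 6, 3, 6, 5, 6, 4, 7, 5, 7]
def rw1133 : List ℕ := [4, 6, 6, 2, 6, 4, 4, 3, 2, 2, 5, 5, 7, 3, 7, 7, 5, 3]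
def rw1134 : List ℕ := [4, 7, 4, 7, 5, 6, 5, 6, 5, 6, 5, 6, 5, 4, 4, 7, 4, 7]
def rw1135 : List ℕ := [4, 4, 3, 2, 2, 5, 5, 5, 2, 5, 5, 5, 3, 4, 4, 4, 3, 4]
def rw1136 : List ℕ := [4, 4, 4, 3, 4, 4, 4, 3, 6, 2, 5, 5, 5, 2, 5, 5, 5, 7]
def rw1137 : List ℕ := [4, 4, 4, 3, 4, 4, 4, 3, 1, 2, 5, 5, 5, 2, 5, 5, 5, 0]
def rw1138 : List ℕ := [4, 4, 4, 3, 1, 2, 5, 5, 5, 2, 5, 5, 5, 0, 4, 4, 4, 3]
def rw1139 : List ℕ := [4, 9, 6, 6, 9, 9, 4, 8, 8, 7, 7, 8, 5, 6, 6, 5, 5, 5, 4, 4, 7, 7]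
def rw1140 : List ℕ := [4, 6, 6, 6, 4, 7, 7, 7, 5, 7, 4, 7, 5, 5, 4, 6, 5, 6]
def rw1141 : List ℕ := [4, 2, 6, 0, 4, 2, 6, 2, 7, 3, 5, 1, 7, 3, 5, 1, 3, 0]
def rw1142 : List ℕ := [4, 6, 9, 6, 9, 6, 9, 6, 9, 5, 8, 7, 8, 7, 8, 7, 8, 7]
def rw1143 : List ℕ := [4, 6, 4, 6, 9, 7, 5, 7, 5, 7, 5, 8, 4, 6]
def rw1144 : List ℕ := [4, 2, 5, 8, 7, 2, 6, 9, 4, 3, 5, 3, 8, 4, 3, 3, 3, 2, 2, 5, 9, 2]
def rw1145 : List ℕ := [4, 2, 6, 0, 4, 2, 6, 4, 7, 3, 5, 1, 7, 3, 5, 1, 5, 0]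
def rw1146 : List ℕ := [4, 7, 2, 7, 4, 4, 7, 3, 4, 2, 6, 5, 5, 6, 3, 6, 5, 6, 4, 5, 5, 7]
def rw1147 : List ℕ := [4, 7, 2, 7, 4, 4, 7, 3, 7, 2, 6, 5, 5, 6, 3, 6, 5, 6, 4, 6, 5, 7]
def rw1148 : List ℕ := [4, 4, 0, 3, 4, 6, 5, 2, 1, 5, 5, 1, 2, 1, 7, 0, 3, 0]
def rw1149 : List ℕ := [4, 7, 3, 4, 2, 6, 5, 5, 6, 3, 6, 5, 6, 4, 5, 5, 7, 4, 7, 2, 7, 4]
def rw1150 : List ℕ := [4, 9, 2, 8, 5, 5, 8, 5, 5, 8, 5, 5, 3, 4, 4, 9, 4, 4, 9, 4]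
def rw1151 : List ℕ := [4, 4, 7, 7, 4, 9, 6, 6, 9, 9, 7, 8, 8, 7, 7, 8, 5, 6, 6, 5, 5, 6]
def rw1152 : List ℕ := [4, 2, 5, 0, 4, 0, 4, 2, 1, 3, 0, 3, 5, 1, 5, 1]
def rw1153 : List ℕ := [4, 7, 5, 6, 5, 3, 6, 2, 7, 5, 3, 4, 2, 4, 6, 3, 7, 2]
def rw1154 : List ℕ := [4, 4, 9, 4, 8, 5, 5, 8, 5, 5, 8, 5, 5, 5, 4, 4, 9, 4, 4, 9]
def rw1155 : List ℕ := [4, 3, 4, 4, 4, 3, 0, 2, 5, 5, 5, 2, 5, 5, 5, 1, 4, 4]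
def rw1156 : List ℕ := [4, 7, 5, 1, 4, 6, 5, 6, 4, 6, 6, 6, 0, 7, 7, 7, 5, 7]
def rw1157 : List ℕ := [4, 4, 9, 4, 4, 9, 2, 8, 5, 5, 8, 5, 5, 8, 5, 5, 3, 4, 4, 9]
def rw1158 : List ℕ := [4, 1, 5, 3, 1, 7, 0, 2, 4, 0, 5, 5, 5, 6, 4, 4]
def rw1159 : List ℕ := [4, 2, 5, 8, 7, 7, 6, 9, 4, 3, 5, 3, 8, 4, 3, 3, 6, 2, 2, 5, 9, 2]
def rw1160 : List ℕ := [4, 3, 3, 9, 2, 2, 5, 9, 2, 4, 2, 5, 8, 7, 8, 6, 9, 4, 3, 5, 3, 8]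
def rw1161 : List ℕ := [4, 7, 5, 2, 4, 6, 5, 6, 4, 6, 6, 6, 3, 7, 7, 7, 5, 7]
def rw1162 : List ℕ := [4, 4, 9, 2, 8, 5, 5, 8, 5, 5, 8, 5, 5, 3, 4, 4, 9, 4, 4, 9]
def rw1163 : List ℕ := [4, 6, 5, 6, 4, 6, 6, 6, 5, 7, 7, 7, 5, 7, 4, 7, 5, 4]
def rw1164 : List ℕ := [4, 9, 5, 8, 5, 5, 8, 5, 5, 8, 5, 5, 4, 4, 4, 9, 4, 4, 9, 4]
def rw1165 : List ℕ := [4, 7, 5, 3, 4, 6, 5, 6, 4, 6, 6, 6, 2, 7, 7, 7, 5, 7]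
def rw1166 : List ℕ := [4, 6, 5, 7, 4, 7, 2, 7, 4, 4, 7, 3, 7, 2, 6, 5, 5, 6, 3, 6, 5, 6]
def rw1167 : List ℕ := [4, 6, 4, 4, 6, 5, 7, 5, 5, 7, 5, 5, 4, 4]
def rw1168 : List ℕ := [4, 7, 2, 7, 4, 4, 7, 3, 3, 2, 6, 5, 5, 6, 3, 6, 5, 6, 4, 2, 5, 7]
def rw1169 : List ℕ := [4, 4, 7, 3, 3, 2, 6, 5, 5, 6, 3, 6, 5, 6, 4, 2, 5, 7, 4, 7, 2, 7]
def rw1170 : List ℕ := [4, 7, 4, 7, 4, 7, 4, 6, 5, 6, 5, 6, 5, 6, 5, 5, 4, 7]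
def rw1171 : List ℕ := [4, 4, 3, 9, 2, 5, 5, 5, 2, 5, 5, 5, 8, 4, 4, 4, 3, 4]
def rw1172 : List ℕ := [4, 1, 1, 7, 0, 0, 5, 2, 1, 3, 5, 6, 4, 2, 0, 3]
def rw1173 : List ℕ := [4, 0, 3, 4, 7, 5, 2, 1, 5, 5, 1, 2, 1, 6, 0, 3, 0, 4]
def rw1174 : List ℕ := [4, 4, 7, 7, 4, 9, 6, 6, 9, 9, 6, 8, 8, 7, 7, 8, 5, 6, 6, 5, 5, 7]
def rw1175 : List ℕ := [4, 6, 0, 7, 5, 5, 7, 5, 5, 1, 4, 4, 6, 4]
def rw1176 : List ℕ := [4, 4, 6, 4, 4, 6, 7, 7, 5, 5, 7, 5, 5, 6]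
def rw1177 : List ℕ := [4, 9, 4, 4, 9, 9, 8, 5, 5, 8, 5, 5, 8, 5, 5, 8, 4, 4, 9, 4]
def rw1178 : List ℕ := [4, 3, 3, 2, 5, 5, 7, 3, 7, 7, 5, 2, 4, 6, 6, 2, 6, 4]
def rw1179 : List ℕ := [4, 9, 4, 4, 9, 6, 8, 5, 5, 8, 5, 5, 8, 5, 5, 7, 4, 4, 9, 4]
def rw1180 : List ℕ := [4, 4, 3, 0, 2, 5, 5, 5, 2, 5, 5, 5, 1, 4, 4, 4, 3, 4]
def rw1181 : List ℕ := [4, 6, 4, 4, 6, 3, 7, 5, 5, 7, 5, 5, 2, 4]
def rw1182 : List ℕ := [4, 6, 4, 4, 6, 8, 7, 5, 5, 7, 5, 5, 9, 4]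
def rw1183 : List ℕ := [4, 3, 3, 3, 2, 2, 5, 9, 2, 4, 2, 5, 8, 7, 2, 6, 9, 4, 3, 5, 3, 8]
def rw1184 : List ℕ := [4, 3, 4, 3, 4, 3, 3, 2, 5, 2, 5, 2, 5, 2]
def rw1185 : List ℕ := [4, 4, 6, 4, 4, 6, 9, 7, 5, 5, 7, 5, 5, 8]
def rw1186 : List ℕ := [4, 3, 4, 3, 4, 3, 0, 2, 5, 2, 5, 2, 5, 1]
def rw1187 : List ℕ := [4, 4, 3, 3, 2, 5, 5, 7, 3, 7, 7, 5, 2, 4, 6, 6, 2, 6]
def rw1188 : List ℕ := [4, 0, 5, 5, 5, 8, 4, 4, 4, 1, 5, 3, 1, 9, 0, 2]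
def rw1189 : List ℕ := [4, 3, 4, 2, 5, 5, 7, 3, 7, 7, 5, 5, 4, 6, 6, 2, 6, 4]
def rw1190 : List ℕ := [4, 7, 4, 7, 2, 6, 5, 6, 5, 6, 5, 6, 5, 3, 4, 7, 4, 7]
def rw1191 : List ℕ := [4, 9, 4, 4, 9, 4, 4, 9, 9, 8, 5, 5, 8, 5, 5, 8, 5, 5, 8, 4]
def rw1192 : List ℕ := [4, 7, 2, 7, 4, 4, 7, 3, 9, 2, 6, 5, 5, 6, 3, 6, 5, 6, 4, 8, 5, 7]
def rw1193 : List ℕ := [4, 9, 4, 4, 9, 2, 8, 5, 5, 8, 5, 5, 8, 5, 5, 3, 4, 4, 9, 4]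
def rw1194 : List ℕ := [4, 3, 3, 4, 2, 2, 5, 9, 2, 4, 2, 5, 8, 7, 5, 6, 9, 4, 3, 5, 3, 8]
def rw1195 : List ℕ := [4, 2, 5, 8, 7, 4, 6, 9, 4, 3, 5, 3, 8, 4, 3, 3, 5, 2, 2, 5, 9, 2]
def rw1196 : List ℕ := [4, 9, 6, 6, 9, 9, 3, 8, 8, 7, 7, 8, 5, 6, 6, 5, 5, 2, 4, 4, 7, 7]
def rw1197 : List ℕ := [4, 6, 9, 7, 5, 7, 5, 7, 5, 8, 4, 6, 4, 6]
def rw1198 : List ℕ := [4, 7, 5, 7, 3, 6, 4, 6, 5, 7, 5, 2, 4, 6]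
def rw1199 : List ℕ := [4, 6, 6, 6, 2, 7, 7, 7, 5, 7, 4, 7, 5, 3, 4, 6, 5, 6]
def rw1200 : List ℕ := [4, 3, 5, 2, 5, 2, 7, 3, 7, 7, 4, 4, 5, 6, 6, 2, 6, 3]
def rw1201 : List ℕ := [4, 6, 6, 6, 5, 7, 7, 7, 5, 7, 4, 7, 5, 4, 4, 6, 5, 6]
def rw1202 : List ℕ := [4, 6, 4, 6, 4, 6, 8, 7, 5, 7, 5, 7, 5, 9]
def rw1203 : List ℕ := [4, 6, 8, 7, 5, 7, 5, 7, 5, 9, 4, 6, 4, 6]
def rw1204 : List ℕ := [4, 6, 4, 6, 2, 7, 5, 7, 5, 7, 5, 3, 4, 6]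
def rw1205 : List ℕ := [4, 9, 4, 4, 9, 5, 8, 5, 5, 8, 5, 5, 8, 5, 5, 4, 4, 4, 9, 4]
def rw1206 : List ℕ := [4, 8, 5, 5, 8, 5, 5, 8, 5, 5, 5, 4, 4, 9, 4, 4, 9, 4, 4, 9]
def rw1207 : List ℕ := [4, 3, 5, 3, 8, 4, 3, 3, 3, 2, 2, 5, 9, 2, 4, 2, 5, 8, 7, 2, 6, 9]
def rw1208 : List ℕ := [4, 7, 5, 7, 9, 6, 4, 6, 5, 7, 5, 8, 4, 6]
def rw1209 : List ℕ := [4, 9, 4, 4, 9, 4, 4, 9, 3, 8, 5, 5, 8, 5, 5, 8, 5, 5, 2, 4]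
def rw1210 : List ℕ := [4, 1, 1, 0, 0, 0, 5, 2, 1, 3, 5, 1, 4, 2, 0, 3]
def rw1211 : List ℕ := [4, 7, 1, 6, 5, 6, 5, 6, 5, 6, 5, 0, 4, 7, 4, 7, 4, 7]
def rw1212 : List ℕ := [4, 4, 1, 5, 3, 1, 2, 0, 2, 4, 0, 5, 5, 5, 3, 4]
def rw1213 : List ℕ := [4, 0, 5, 2, 2, 2, 5, 3, 3, 3, 3, 1, 2, 2, 2, 2, 4, 3, 3, 3]
def rw1214 : List ℕ := [4, 4, 3, 4, 4, 4, 3, 1, 2, 5, 5, 5, 2, 5, 5, 5, 0, 4]
def rw1215 : List ℕ := [4, 0, 4, 2, 1, 7, 0, 3, 5, 1, 5, 1, 4, 6, 5, 0]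
def rw1216 : List ℕ := [4, 4, 7, 3, 1, 2, 6, 5, 5, 6, 3, 6, 5, 6, 4, 0, 5, 7, 4, 7, 2, 7]
def rw1217 : List ℕ := [4, 2, 5, 2, 1, 5, 5, 1, 2, 1, 3, 0, 3, 0, 4, 4, 0, 3]
def rw1218 : List ℕ := [4, 4, 4, 1, 5, 3, 1, 1, 0, 2, 4, 0, 5, 5, 5, 0]
def rw1219 : List ℕ := [4, 3, 5, 3, 8, 4, 3, 3, 2, 2, 2, 5, 9, 2, 4, 2, 5, 8, 7, 3, 6, 9]
def rw1220 : List ℕ := [4, 4, 7, 3, 8, 2, 6, 5, 5, 6, 3, 6, 5, 6, 4, 9, 5, 7, 4, 7, 2, 7]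
def rw1221 : List ℕ := [4, 4, 3, 7, 2, 5, 5, 5, 2, 5, 5, 5, 6, 4, 4, 4, 3, 4]
def rw1222 : List ℕ := [4, 3, 3, 6, 2, 2, 5, 9, 2, 4, 2, 5, 8, 7, 7, 6, 9, 4, 3, 5, 3, 8]
def rw1223 : List ℕ := [4, 4, 9, 4, 4, 9, 3, 8, 5, 5, 8, 5, 5, 8, 5, 5, 2, 4, 4, 9]
def rw1224 : List ℕ := [4, 7, 9, 6, 5, 3, 6, 2, 7, 5, 3, 8, 2, 4, 6, 3, 7, 2]
def rw1225 : List ℕ := [4, 9, 3, 8, 5, 5, 8, 5, 5, 8, 5, 5, 2, 4, 4, 9, 4, 4, 9, 4]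
def rw1226 : List ℕ := [4, 9, 4, 4, 9, 7, 8, 5, 5, 8, 5, 5, 8, 5, 5, 6, 4, 4, 9, 4]
def rw1227 : List ℕ := [4, 0, 5, 5, 5, 9, 4, 4, 4, 1, 5, 3, 1, 8, 0, 2]
def rw1228 : List ℕ := [4, 7, 6, 6, 5, 3, 6, 2, 7, 5, 3, 7, 2, 4, 6, 3, 7, 2]
def rw1229 : List ℕ := [4, 3, 3, 7, 2, 2, 5, 9, 2, 4, 2, 5, 8, 7, 6, 6, 9, 4, 3, 5, 3, 8]
def rw1230 : List ℕ := [4, 9, 6, 6, 9, 9, 2, 8, 8, 7, 7, 8, 5, 6, 6, 5, 5, 3, 4, 4, 7, 7]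
def rw1231 : List ℕ := [4, 3, 5, 2, 1, 5, 5, 1, 2, 1, 2, 0, 3, 0, 4, 4, 0, 3]
def rw1232 : List ℕ := [4, 1, 1, 9, 0, 0, 5, 2, 1, 3, 5, 8, 4, 2, 0, 3]
def rw1233 : List ℕ := [4, 6, 4, 7, 5, 7, 9, 6, 4, 6, 5, 7, 5, 8]
def rw1234 : List ℕ := [4, 3, 3, 2, 5, 2, 7, 3, 7, 7, 4, 2, 5, 6, 6, 2, 6, 3]
def rw1235 : List ℕ := [4, 4, 6, 4, 7, 5, 5, 7, 5, 5, 5, 4, 4, 6]
def rw1236 : List ℕ := [4, 3, 3, 3, 4, 0, 5, 2, 2, 2, 5, 3, 3, 3, 3, 1, 2, 2, 2, 2]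
def rw1237 : List ℕ := [4, 0, 3, 4, 3, 5, 2, 1, 5, 5, 1, 2, 1, 2, 0, 3, 0, 4]
def rw1238 : List ℕ := [4, 4, 4, 3, 9, 2, 5, 5, 5, 2, 5, 5, 5, 8, 4, 4, 4, 3]
def rw1239 : List ℕ := [4, 4, 4, 3, 8, 2, 5, 5, 5, 2, 5, 5, 5, 9, 4, 4, 4, 3]
def rw1240 : List ℕ := [4, 6, 6, 6, 7, 7, 7, 7, 5, 7, 4, 7, 5, 6, 4, 6, 5, 6]
def rw1241 : List ℕ := [4, 2, 6, 0, 4, 2, 6, 6, 7, 3, 5, 1, 7, 3, 5, 1, 7, 0]
def rw1242 : List ℕ := [4, 3, 3, 5, 2, 2, 5, 9, 2, 4, 2, 5, 8, 7, 4, 6, 9, 4, 3, 5, 3, 8]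
def rw1243 : List ℕ := [4, 7, 5, 2, 2, 2, 5, 3, 3, 3, 3, 6, 2, 2, 2, 2, 4, 3, 3, 3]
def rw1244 : List ℕ := [4, 7, 5, 7, 2, 6, 4, 6, 5, 7, 5, 3, 4, 6]
def rw1245 : List ℕ := [4, 9, 5, 6, 6, 2, 6, 3, 4, 3, 8, 2, 5, 2, 7, 3, 7, 7]
def rw1246 : List ℕ := [4, 3, 4, 3, 4, 3, 6, 2, 5, 2, 5, 2, 5, 7]
def rw1247 : List ℕ := [4, 4, 7, 7, 4, 9, 6, 6, 9, 9, 9, 8, 8, 7, 7, 8, 5, 6, 6, 5, 5, 8]
def rw1248 : List ℕ := [4, 7, 5, 8, 4, 6, 5, 6, 4, 6, 6, 6, 9, 7, 7, 7, 5, 7]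
def rw1249 : List ℕ := [4, 2, 5, 8, 7, 3, 6, 9, 4, 3, 5, 3, 8, 4, 3, 3, 2, 2, 2, 5, 9, 2]
def rw1250 : List ℕ := [4, 2, 6, 2, 7, 3, 5, 1, 7, 3, 5, 1, 3, 0, 4, 2, 6, 0]
def rw1251 : List ℕ := [4, 7, 5, 7, 1, 6, 4, 6, 5, 7, 5, 0, 4, 6]
def rw1252 : List ℕ := [4, 6, 6, 6, 8, 7, 7, 7, 5, 7, 4, 7, 5, 9, 4, 6, 5, 6]
def rw1253 : List ℕ := [4, 3, 8, 2, 5, 2, 7, 3, 7, 7, 4, 9, 5, 6, 6, 2, 6, 3]
def rw1254 : List ℕ := [4, 6, 4, 6, 4, 6, 3, 7, 5, 7, 5, 7, 5, 2]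
def rw1255 : List ℕ := [4, 7, 4, 7, 4, 7, 9, 6, 5, 6, 5, 6, 5, 6, 5, 8, 4, 7]
def rw1256 : List ℕ := [4, 3, 8, 2, 5, 2, 5, 2, 5, 9, 4, 3, 4, 3]
def rw1257 : List ℕ := [4, 9, 4, 4, 9, 3, 8, 5, 5, 8, 5, 5, 8, 5, 5, 2, 4, 4, 9, 4]
def rw1258 : List ℕ := [4, 3, 7, 2, 5, 5, 7, 3, 7, 7, 5, 6, 4, 6, 6, 2, 6, 4]
def rw1259 : List ℕ := [4, 4, 0, 3, 4, 8, 5, 2, 1, 5, 5, 1, 2, 1, 9, 0, 3, 0]
def rw1260 : List ℕ := [4, 1, 1, 8, 0, 0, 5, 2, 1, 3, 5, 9, 4, 2, 0, 3]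
def rw1261 : List ℕ := [4, 4, 3, 8, 2, 5, 5, 7, 3, 7, 7, 5, 9, 4, 6, 6, 2, 6]
def rw1262 : List ℕ := [4, 4, 7, 3, 9, 2, 6, 5, 5, 6, 3, 6, 5, 6, 4, 8, 5, 7, 4, 7, 2, 7]
def rw1263 : List ℕ := [4, 6, 5, 7, 5, 9, 4, 6, 4, 7, 5, 7, 8, 6]
def rw1264 : List ℕ := [4, 4, 9, 7, 8, 5, 5, 8, 5, 5, 8, 5, 5, 6, 4, 4, 9, 4, 4, 9]
def rw1265 : List ℕ := [4, 4, 0, 3, 4, 2, 5, 2, 1, 5, 5, 1, 2, 1, 3, 0, 3, 0]
def rw1266 : List ℕ := [4, 3, 1, 2, 5, 5, 5, 2, 5, 5, 5, 0, 4, 4, 4, 3, 4, 4]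
def rw1267 : List ℕ := [4, 4, 7, 3, 0, 2, 6, 5, 5, 6, 3, 6, 5, 6, 4, 1, 5, 7, 4, 7, 2, 7]
def rw1268 : List ℕ := [4, 6, 6, 6, 6, 7, 7, 7, 5, 7, 4, 7, 5, 7, 4, 6, 5, 6]
def rw1269 : List ℕ := [4, 7, 4, 7, 4, 7, 4, 7, 3, 6, 5, 6, 5, 6, 5, 6, 5, 2]
def rw1270 : List ℕ := [4, 3, 9, 2, 5, 2, 5, 2, 5, 8, 4, 3, 4, 3]
def rw1271 : List ℕ := [4, 6, 5, 6, 4, 6, 6, 6, 8, 7, 7, 7, 5, 7, 4, 7, 5, 9]
def rw1272 : List ℕ := [4, 6, 4, 6, 5, 7, 5, 7, 5, 7, 5, 4, 4, 6]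
def rw1273 : List ℕ := [4, 4, 9, 8, 8, 5, 5, 8, 5, 5, 8, 5, 5, 9, 4, 4, 9, 4, 4, 9]
def rw1274 : List ℕ := [4, 3, 5, 3, 8, 4, 3, 3, 4, 2, 2, 5, 9, 2, 4, 2, 5, 8, 7, 5, 6, 9]
def rw1275 : List ℕ := [4, 3, 4, 3, 4, 3, 5, 2, 5, 2, 5, 2, 5, 4]
def rw1276 : List ℕ := [4, 4, 5, 7, 4, 7, 2, 7, 4, 4, 7, 3, 5, 2, 6, 5, 5, 6, 3, 6, 5, 6]
def rw1277 : List ℕ := [4, 3, 7, 2, 5, 5, 5, 2, 5, 5, 5, 6, 4, 4, 4, 3, 4, 4]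
def rw1278 : List ℕ := [4, 4, 4, 3, 2, 2, 5, 5, 5, 2, 5, 5, 5, 3, 4, 4, 4, 3]
def rw1279 : List ℕ := [4, 2, 6, 1, 7, 3, 5, 1, 7, 3, 5, 1, 0, 0, 4, 2, 6, 0]
def rw1280 : List ℕ := [4, 4, 6, 4, 4, 6, 8, 7, 5, 5, 7, 5, 5, 9]
def rw1281 : List ℕ := [4, 3, 3, 8, 2, 2, 5, 9, 2, 4, 2, 5, 8, 7, 9, 6, 9, 4, 3, 5, 3, 8]
def rw1282 : List ℕ := [4, 7, 3, 5, 2, 6, 5, 5, 6, 3, 6, 5, 6, 4, 4, 5, 7, 4, 7, 2, 7, 4]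
def rw1283 : List ℕ := [4, 7, 3, 6, 5, 3, 6, 2, 7, 5, 3, 2, 2, 4, 6, 3, 7, 2]
def rw1284 : List ℕ := [4, 4, 3, 4, 4, 4, 3, 3, 2, 5, 5, 5, 2, 5, 5, 5, 2, 4]
def rw1285 : List ℕ := [4, 6, 3, 7, 2, 4, 7, 8, 6, 5, 3, 6, 2, 7, 5, 3, 9, 2]
def rw1286 : List ℕ := [4, 6, 3, 7, 2, 4, 7, 5, 6, 5, 3, 6, 2, 7, 5, 3, 4, 2]
def rw1287 : List ℕ := [4, 4, 9, 4, 4, 9, 4, 4, 9, 9, 8, 5, 5, 8, 5, 5, 8, 5, 5, 8]
def rw1288 : List ℕ := [4, 0, 4, 2, 1, 8, 0, 3, 5, 1, 5, 1, 4, 9, 5, 0]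
def rw1289 : List ℕ := [4, 6, 6, 2, 6, 4, 4, 3, 7, 2, 5, 5, 7, 3, 7, 7, 5, 6]
def rw1290 : List ℕ := [4, 9, 4, 8, 5, 5, 8, 5, 5, 8, 5, 5, 5, 4, 4, 9, 4, 4, 9, 4]
def rw1291 : List ℕ := [4, 9, 4, 4, 9, 8, 8, 5, 5, 8, 5, 5, 8, 5, 5, 9, 4, 4, 9, 4]
def rw1292 : List ℕ := [4, 9, 6, 8, 5, 5, 8, 5, 5, 8, 5, 5, 7, 4, 4, 9, 4, 4, 9, 4]
def rw1293 : List ℕ := [4, 4, 7, 7, 4, 9, 6, 6, 9, 9, 8, 8, 8, 7, 7, 8, 5, 6, 6, 5, 5, 9]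
def rw1294 : List ℕ := [4, 7, 4, 7, 4, 7, 1, 6, 5, 6, 5, 6, 5, 6, 5, 0, 4, 7]
def rw1295 : List ℕ := [4, 7, 8, 6, 5, 3, 6, 2, 7, 5, 3, 9, 2, 4, 6, 3, 7, 2]
def rw1296 : List ℕ := [4, 3, 9, 2, 5, 2, 7, 3, 7, 7, 4, 8, 5, 6, 6, 2, 6, 3]
def rw1297 : List ℕ := [4, 4, 4, 3, 4, 4, 4, 3, 7, 2, 5, 5, 5, 2, 5, 5, 5, 6]
def rw1298 : List ℕ := [4, 4, 9, 4, 4, 9, 4, 4, 9, 8, 8, 5, 5, 8, 5, 5, 8, 5, 5, 9]
def rw1299 : List ℕ := [4, 4, 5, 6, 6, 2, 6, 3, 4, 3, 5, 2, 5, 2, 7, 3, 7, 7]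
def rw1300 : List ℕ := [4, 3, 5, 3, 8, 4, 3, 3, 8, 2, 2, 5, 9, 2, 4, 2, 5, 8, 7, 9, 6, 9]
def rw1301 : List ℕ := [4, 9, 4, 4, 9, 4, 4, 9, 6, 8, 5, 5, 8, 5, 5, 8, 5, 5, 7, 4]
def rw1302 : List ℕ := [4, 4, 9, 4, 4, 9, 4, 4, 9, 2, 8, 5, 5, 8, 5, 5, 8, 5, 5, 3]
def rw1303 : List ℕ := [4, 3, 5, 3, 8, 4, 3, 3, 6, 2, 2, 5, 9, 2, 4, 2, 5, 8, 7, 7, 6, 9]
def rw1304 : List ℕ := [4, 8, 5, 2, 2, 2, 5, 3, 3, 3, 3, 9, 2, 2, 2, 2, 4, 3, 3, 3]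
def rw1305 : List ℕ := [4, 2, 6, 4, 7, 3, 5, 1, 7, 3, 5, 1, 5, 0, 4, 2, 6, 0]
def rw1306 : List ℕ := [4, 2, 6, 0, 4, 2, 6, 5, 7, 3, 5, 1, 7, 3, 5, 1, 4, 0]
def rw1307 : List ℕ := [4, 3, 5, 3, 8, 4, 3, 3, 7, 2, 2, 5, 9, 2, 4, 2, 5, 8, 7, 6, 6, 9]
def rw1308 : List ℕ := [4, 2, 5, 8, 7, 8, 6, 9, 4, 3, 5, 3, 8, 4, 3, 3, 9, 2, 2, 5, 9, 2]
def rw1309 : List ℕ := [4, 6, 5, 7, 5, 3, 4, 6, 4, 7, 5, 7, 2, 6]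
def rw1310 : List ℕ := [4, 3, 4, 3, 4, 3, 8, 2, 5, 2, 5, 2, 5, 9]
def rw1311 : List ℕ := [4, 0, 3, 4, 6, 5, 2, 1, 5, 5, 1, 2, 1, 7, 0, 3, 0, 4]
def rw1312 : List ℕ := [4, 2, 5, 8, 7, 5, 6, 9, 4, 3, 5, 3, 8, 4, 3, 3, 4, 2, 2, 5, 9, 2]
def rw1313 : List ℕ := [4, 6, 6, 2, 6, 4, 4, 3, 8, 2, 5, 5, 7, 3, 7, 7, 5, 9]
def rw1314 : List ℕ := [4, 3, 8, 2, 5, 5, 5, 2, 5, 5, 5, 9, 4, 4, 4, 3, 4, 4]
def rw1315 : List ℕ := [4, 4, 3, 4, 4, 4, 3, 6, 2, 5, 5, 5, 2, 5, 5, 5, 7, 4]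
def rw1316 : List ℕ := [4, 3, 4, 3, 4, 3, 7, 2, 5, 2, 5, 2, 5, 6]
def rw1317 : List ℕ := [4, 6, 4, 4, 6, 0, 7, 5, 5, 7, 5, 5, 1, 4]
def rw1318 : List ℕ := [4, 3, 5, 7, 4, 7, 2, 7, 4, 4, 7, 3, 2, 2, 6, 5, 5, 6, 3, 6, 5, 6]
def rw1319 : List ℕ := [4, 7, 5, 7, 4, 6, 5, 6, 4, 6, 6, 6, 6, 7, 7, 7, 5, 7]
def rw1320 : List ℕ := [4, 7, 3, 2, 2, 6, 5, 5, 6, 3, 6, 5, 6, 4, 3, 5, 7, 4, 7, 2, 7, 4]
def rw1321 : List ℕ := [4, 6, 5, 7, 5, 2, 4, 6, 4, 7, 5, 7, 3, 6]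
def rw1322 : List ℕ := [4, 7, 5, 9, 4, 6, 5, 6, 4, 6, 6, 6, 8, 7, 7, 7, 5, 7]
def rw1323 : List ℕ := [4, 6, 2, 7, 5, 7, 5, 7, 5, 3, 4, 6, 4, 6]
def rw1324 : List ℕ := [4, 4, 3, 9, 2, 5, 5, 7, 3, 7, 7, 5, 8, 4, 6, 6, 2, 6]
def rw1325 : List ℕ := [4, 4, 9, 3, 8, 5, 5, 8, 5, 5, 8, 5, 5, 2, 4, 4, 9, 4, 4, 9]
def rw1326 : List ℕ := [4, 4, 0, 3, 4, 9, 5, 2, 1, 5, 5, 1, 2, 1, 8, 0, 3, 0]
def rw1327 : List ℕ := [4, 4, 3, 2, 2, 5, 5, 7, 3, 7, 7, 5, 3, 4, 6, 6, 2, 6]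
def rw1328 : List ℕ := [4, 2, 6, 0, 4, 2, 6, 9, 7, 3, 5, 1, 7, 3, 5, 1, 8, 0]
def rw1329 : List ℕ := [4, 2, 1, 6, 0, 3, 5, 1, 5, 1, 4, 7, 5, 0, 4, 0]
def rw1330 : List ℕ := [4, 7, 4, 7, 4, 7, 0, 6, 5, 6, 5, 6, 5, 6, 5, 1, 4, 7]
def rw1331 : List ℕ := [4, 3, 3, 3, 4, 7, 5, 2, 2, 2, 5, 3, 3, 3, 3, 6, 2, 2, 2, 2]
def rw1332 : List ℕ := [4, 2, 6, 0, 4, 2, 6, 1, 7, 3, 5, 1, 7, 3, 5, 1, 0, 0]
def rw1333 : List ℕ := [4, 7, 7, 4, 9, 6, 6, 9, 9, 8, 8, 8, 7, 7, 8, 5, 6, 6, 5, 5, 9, 4]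
def rw1334 : List ℕ := [4, 3, 5, 3, 8, 4, 3, 3, 0, 2, 2, 5, 9, 2, 4, 2, 5, 8, 7, 1, 6, 9]
def rw1335 : List ℕ := [4, 9, 4, 4, 9, 4, 4, 9, 5, 8, 5, 5, 8, 5, 5, 8, 5, 5, 4, 4]
def rw1336 : List ℕ := [4, 7, 5, 6, 6, 2, 6, 3, 4, 3, 6, 2, 5, 2, 7, 3, 7, 7]
def rw1337 : List ℕ := [4, 3, 4, 4, 4, 3, 6, 2, 5, 5, 5, 2, 5, 5, 5, 7, 4, 4]
def rw1338 : List ℕ := [4, 6, 5, 6, 6, 2, 6, 3, 4, 3, 7, 2, 5, 2, 7, 3, 7, 7]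
def rw1339 : List ℕ := [4, 4, 1, 5, 3, 1, 7, 0, 2, 4, 0, 5, 5, 5, 6, 4]
def rw1340 : List ℕ := [4, 4, 6, 4, 4, 6, 2, 7, 5, 5, 7, 5, 5, 3]
def rw1341 : List ℕ := [4, 7, 3, 6, 5, 6, 5, 6, 5, 6, 5, 2, 4, 7, 4, 7, 4, 7]
def rw1342 : List ℕ := [4, 7, 5, 7, 0, 6, 4, 6, 5, 7, 5, 1, 4, 6]
def rw1343 : List ℕ := [4, 7, 3, 0, 2, 6, 5, 5, 6, 3, 6, 5, 6, 4, 1, 5, 7, 4, 7, 2, 7, 4]
def rw1344 : List ℕ := [4, 4, 3, 1, 2, 5, 5, 7, 3, 7, 7, 5, 0, 4, 6, 6, 2, 6]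
def rw1345 : List ℕ := [4, 3, 4, 4, 4, 3, 8, 2, 5, 5, 5, 2, 5, 5, 5, 9, 4, 4]
def rw1346 : List ℕ := [4, 7, 2, 7, 4, 4, 7, 3, 8, 2, 6, 5, 5, 6, 3, 6, 5, 6, 4, 9, 5, 7]
def rw1347 : List ℕ := [4, 3, 2, 2, 5, 5, 5, 2, 5, 5, 5, 3, 4, 4, 4, 3, 4, 4]
def rw1348 : List ℕ := [4, 6, 5, 6, 4, 6, 6, 6, 3, 7, 7, 7, 5, 7, 4, 7, 5, 2]
def rw1349 : List ℕ := [4, 7, 5, 7, 4, 7, 2, 7, 4, 4, 7, 3, 6, 2, 6, 5, 5, 6, 3, 6, 5, 6]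
def rw1350 : List ℕ := [4, 6, 3, 7, 2, 4, 7, 9, 6, 5, 3, 6, 2, 7, 5, 3, 8, 2]
def rw1351 : List ℕ := [4, 6, 9, 7, 5, 5, 7, 5, 5, 8, 4, 4, 6, 4]
def rw1352 : List ℕ := [4, 7, 6, 6, 5, 6, 5, 6, 5, 6, 5, 7, 4, 7, 4, 7, 4, 7]
def rw1353 : List ℕ := [4, 0, 4, 2, 1, 5, 0, 3, 5, 1, 5, 1, 4, 4, 5, 0]
def rw1354 : List ℕ := [4, 4, 3, 6, 2, 5, 5, 5, 2, 5, 5, 5, 7, 4, 4, 4, 3, 4]
def rw1355 : List ℕ := [4, 7, 0, 6, 5, 6, 5, 6, 5, 6, 5, 1, 4, 7, 4, 7, 4, 7]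
def rw1356 : List ℕ := [4, 2, 1, 7, 0, 3, 5, 1, 5, 1, 4, 6, 5, 0, 4, 0]
def rw1357 : List ℕ := [4, 2, 0, 3, 4, 1, 1, 6, 0, 0, 5, 2, 1, 3, 5, 7]
def rw1358 : List ℕ := [4, 6, 1, 7, 5, 7, 5, 7, 5, 0, 4, 6, 4, 6]
def rw1359 : List ℕ := [4, 6, 5, 2, 2, 2, 5, 3, 3, 3, 3, 7, 2, 2, 2, 2, 4, 3, 3, 3]
def rw1360 : List ℕ := [4, 0, 4, 2, 1, 9, 0, 3, 5, 1, 5, 1, 4, 8, 5, 0]
def rw1361 : List ℕ := [4, 3, 3, 3, 4, 6, 5, 2, 2, 2, 5, 3, 3, 3, 3, 7, 2, 2, 2, 2]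
def rw1362 : List ℕ := [4, 8, 5, 7, 4, 7, 2, 7, 4, 4, 7, 3, 9, 2, 6, 5, 5, 6, 3, 6, 5, 6]
def rw1363 : List ℕ := [4, 7, 4, 7, 4, 7, 8, 6, 5, 6, 5, 6, 5, 6, 5, 9, 4, 7]
def rw1364 : List ℕ := [4, 3, 2, 2, 5, 5, 7, 3, 7, 7, 5, 3, 4, 6, 6, 2, 6, 4]
def rw1365 : List ℕ := [4, 9, 6, 6, 9, 9, 5, 8, 8, 7, 7, 8, 5, 6, 6, 5, 5, 4, 4, 4, 7, 7]
def rw1366 : List ℕ := [4, 2, 5, 8, 7, 6, 6, 9, 4, 3, 5, 3, 8, 4, 3, 3, 7, 2, 2, 5, 9, 2]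
def rw1367 : List ℕ := [4, 9, 4, 4, 9, 4, 8, 5, 5, 8, 5, 5, 8, 5, 5, 5, 4, 4, 9, 4]
def rw1368 : List ℕ := [4, 7, 4, 6, 5, 3, 6, 2, 7, 5, 3, 5, 2, 4, 6, 3, 7, 2]
def rw1369 : List ℕ := [4, 7, 8, 6, 5, 6, 5, 6, 5, 6, 5, 9, 4, 7, 4, 7, 4, 7]
def rw1370 : List ℕ := [4, 4, 3, 8, 2, 5, 5, 5, 2, 5, 5, 5, 9, 4, 4, 4, 3, 4]
def rw1371 : List ℕ := [4, 0, 3, 0, 4, 4, 0, 3, 4, 5, 5, 2, 1, 5, 5, 1, 2, 1]
def rw1372 : List ℕ := [4, 9, 7, 8, 5, 5, 8, 5, 5, 8, 5, 5, 6, 4, 4, 9, 4, 4, 9, 4]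
def rw1373 : List ℕ := [4, 6, 6, 2, 6, 4, 4, 3, 5, 2, 5, 5, 7, 3, 7, 7, 5, 4]
def rw1374 : List ℕ := [4, 9, 4, 4, 9, 4, 4, 9, 8, 8, 5, 5, 8, 5, 5, 8, 5, 5, 9, 4]
def rw1375 : List ℕ := [4, 3, 8, 2, 5, 5, 7, 3, 7, 7, 5, 9, 4, 6, 6, 2, 6, 4]
def rw1376 : List ℕ := [4, 3, 4, 3, 4, 3, 9, 2, 5, 2, 5, 2, 5, 8]
def rw1377 : List ℕ := [4, 8, 5, 6, 6, 2, 6, 3, 4, 3, 9, 2, 5, 2, 7, 3, 7, 7]
def rw1378 : List ℕ := [4, 1, 5, 2, 1, 5, 5, 1, 2, 1, 0, 0, 3, 0, 4, 4, 0, 3]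
def rw1379 : List ℕ := [4, 9, 4, 4, 9, 4, 4, 9, 2, 8, 5, 5, 8, 5, 5, 8, 5, 5, 3, 4]
def rw1380 : List ℕ := [4, 6, 7, 7, 5, 5, 7, 5, 5, 6, 4, 4, 6, 4]
def rw1381 : List ℕ := [4, 3, 4, 3, 8, 2, 5, 2, 5, 2, 5, 9, 4, 3]
def rw1382 : List ℕ := [4, 4, 4, 3, 4, 4, 4, 3, 3, 2, 5, 5, 5, 2, 5, 5, 5, 2]
def rw1383 : List ℕ := [4, 9, 6, 6, 9, 9, 7, 8, 8, 7, 7, 8, 5, 6, 6, 5, 5, 6, 4, 4, 7, 7]
def rw1384 : List ℕ := [4, 9, 9, 8, 5, 5, 8, 5, 5, 8, 5, 5, 8, 4, 4, 9, 4, 4, 9, 4]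
def rw1385 : List ℕ := [4, 2, 6, 6, 7, 3, 5, 1, 7, 3, 5, 1, 7, 0, 4, 2, 6, 0]
def rw1386 : List ℕ := [4, 3, 1, 2, 5, 5, 7, 3, 7, 7, 5, 0, 4, 6, 6, 2, 6, 4]
def rw1387 : List ℕ := [4, 6, 6, 6, 0, 7, 7, 7, 5, 7, 4, 7, 5, 1, 4, 6, 5, 6]
def rw1388 : List ℕ := [4, 2, 5, 8, 7, 1, 6, 9, 4, 3, 5, 3, 8, 4, 3, 3, 0, 2, 2, 5, 9, 2]
def rw1389 : List ℕ := [4, 1, 5, 3, 1, 6, 0, 2, 4, 0, 5, 5, 5, 7, 4, 4]
def rw1390 : List ℕ := [4, 6, 4, 4, 6, 1, 7, 5, 5, 7, 5, 5, 0, 4]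
def rw1391 : List ℕ := [4, 6, 4, 6, 4, 6, 0, 7, 5, 7, 5, 7, 5, 1]
def rw1392 : List ℕ := [4, 3, 5, 3, 8, 4, 3, 3, 1, 2, 2, 5, 9, 2, 4, 2, 5, 8, 7, 0, 6, 9]
def rw1393 : List ℕ := [4, 6, 6, 2, 6, 4, 4, 3, 3, 2, 5, 5, 7, 3, 7, 7, 5, 2]
def rw1394 : List ℕ := [4, 2, 5, 8, 7, 0, 6, 9, 4, 3, 5, 3, 8, 4, 3, 3, 1, 2, 2, 5, 9, 2]
def rw1395 : List ℕ := [4, 7, 3, 1, 2, 6, 5, 5, 6, 3, 6, 5, 6, 4, 0, 5, 7, 4, 7, 2, 7, 4]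
def rw1396 : List ℕ := [4, 7, 1, 6, 5, 3, 6, 2, 7, 5, 3, 0, 2, 4, 6, 3, 7, 2]
def rw1397 : List ℕ := [4, 2, 1, 8, 0, 3, 5, 1, 5, 1, 4, 9, 5, 0, 4, 0]
def rw1398 : List ℕ := [4, 7, 2, 7, 4, 4, 7, 3, 0, 2, 6, 5, 5, 6, 3, 6, 5, 6, 4, 1, 5, 7]
def rw1399 : List ℕ := [4, 7, 5, 0, 4, 6, 5, 6, 4, 6, 6, 6, 1, 7, 7, 7, 5, 7]
def rw1400 : List ℕ := [4, 4, 3, 4, 4, 4, 3, 8, 2, 5, 5, 5, 2, 5, 5, 5, 9, 4]
def rw1401 : List ℕ := [4, 3, 3, 2, 2, 2, 5, 9, 2, 4, 2, 5, 8, 7, 3, 6, 9, 4, 3, 5, 3, 8]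
def rw1402 : List ℕ := [4, 7, 4, 7, 4, 7, 4, 7, 9, 6, 5, 6, 5, 6, 5, 6, 5, 8]
def rw1403 : List ℕ := [4, 7, 0, 6, 5, 3, 6, 2, 7, 5, 3, 1, 2, 4, 6, 3, 7, 2]
def rw1404 : List ℕ := [4, 3, 9, 2, 5, 5, 5, 2, 5, 5, 5, 8, 4, 4, 4, 3, 4, 4]
def rw1405 : List ℕ := [4, 6, 4, 7, 5, 7, 8, 6, 4, 6, 5, 7, 5, 9]
def rw1406 : List ℕ := [4, 6, 6, 2, 6, 4, 4, 3, 9, 2, 5, 5, 7, 3, 7, 7, 5, 8]
def rw1407 : List ℕ := [4, 4, 9, 5, 8, 5, 5, 8, 5, 5, 8, 5, 5, 4, 4, 4, 9, 4, 4, 9]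
def rw1408 : List ℕ := [4, 3, 9, 2, 5, 5, 7, 3, 7, 7, 5, 8, 4, 6, 6, 2, 6, 4]
def rw1409 : List ℕ := [4, 7, 4, 7, 4, 7, 4, 7, 5, 6, 5, 6, 5, 6, 5, 6, 5, 4]
def rw1410 : List ℕ := [4, 4, 4, 3, 4, 4, 4, 3, 9, 2, 5, 5, 5, 2, 5, 5, 5, 8]
def rw1411 : List ℕ := [4, 3, 5, 9, 0, 3, 0, 9, 9, 9, 0, 3, 1, 2, 0, 2, 1, 8, 8, 8, 1, 2, 1, 8]
def rw1412 : List ℕ := [4, 3, 4, 4, 4, 3, 7, 2, 5, 5, 5, 2, 5, 5, 5, 6, 4, 4]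
def rw1413 : List ℕ := [4, 2, 1, 9, 0, 3, 5, 1, 5, 1, 4, 8, 5, 0, 4, 0]
def rw1414 : List ℕ := [4, 4, 9, 4, 4, 9, 4, 4, 9, 3, 8, 5, 5, 8, 5, 5, 8, 5, 5, 2]
def rw1415 : List ℕ := [5, 2, 5, 9, 4, 3, 4, 3, 4, 3, 8, 2, 5, 2]
def rw1416 : List ℕ := [5, 2, 1, 3, 5, 4, 4, 2, 0, 3, 4, 1, 1, 5, 0, 0]
def rw1417 : List ℕ := [5, 2, 2, 4, 2, 2, 5, 3, 3]
def rw1418 : List ℕ := [5, 5, 5, 5, 5, 5, 5]
def rw1419 : List ℕ := [5, 6, 4, 6, 5, 7]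
def rw1420 : List ℕ := [5, 7, 4, 6, 4, 7]
def rw1421 : List ℕ := [5, 2, 5, 2, 5, 3, 4, 3, 4, 3, 4, 3, 2, 2]
def rw1422 : List ℕ := [5, 5, 7, 3, 7, 7, 5, 4, 4, 6, 6, 2, 6, 4, 4, 3, 5, 2]
def rw1423 : List ℕ := [5, 5, 7, 3, 7, 7, 5, 7, 4, 6, 6, 2, 6, 4, 4, 3, 6, 2]
def rw1424 : List ℕ := [5, 2, 5, 8, 4, 3, 4, 3, 4, 3, 9, 2, 5, 2]
def rw1425 : List ℕ := [5, 7, 4, 7, 5, 4, 4, 6, 5, 6, 4, 6, 6, 6, 5, 7, 7, 7]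
def rw1426 : List ℕ := [5, 6, 6, 5, 5, 6, 4, 4, 7, 7, 4, 9, 6, 6, 9, 9, 7, 8, 8, 7, 7, 8]
def rw1427 : List ℕ := [5, 2, 5, 1, 4, 3, 4, 3, 4, 3, 0, 2, 5, 2]
def rw1428 : List ℕ := [5, 2, 5, 2, 4, 3, 4, 3, 4, 3, 3, 2, 5, 2]
def rw1429 : List ℕ := [5, 1, 5, 1, 4, 5, 5, 0, 4, 0, 4, 2, 1, 4, 0, 3]
def rw1430 : List ℕ := [5, 5, 3, 4, 4, 4, 1, 5, 3, 1, 2, 0, 2, 4, 0, 5]
def rw1431 : List ℕ := [5, 2, 5, 3, 4, 3, 4, 3, 4, 3, 2, 2, 5, 2]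
def rw1432 : List ℕ := [5, 1, 7, 3, 5, 1, 5, 0, 4, 2, 6, 0, 4, 2, 6, 4, 7, 3]
def rw1433 : List ℕ := [5, 5, 5, 0, 4, 4, 4, 1, 5, 3, 1, 1, 0, 2, 4, 0]
def rw1434 : List ℕ := [5, 2, 5, 0, 4, 3, 4, 3, 4, 3, 1, 2, 5, 2]
def rw1435 : List ℕ := [5, 5, 5, 5, 5, 5, 5]
def rw1436 : List ℕ := [5, 1, 5, 1, 4, 2, 5, 0, 4, 0, 4, 2, 1, 3, 0, 3]
def rw1437 : List ℕ := [5, 5, 5, 3, 4, 4, 4, 1, 5, 3, 1, 2, 0, 2, 4, 0]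
def rw1438 : List ℕ := [5, 1, 4, 0, 5, 0, 4, 0, 4, 2, 1, 1, 0, 3, 5, 1]
def rw1439 : List ℕ := [5, 5, 0, 4, 4, 4, 1, 5, 3, 1, 1, 0, 2, 4, 0, 5]
def rw1440 : List ℕ := [5, 1, 2, 1, 1, 0, 3, 0, 4, 4, 0, 3, 4, 0, 5, 2, 1, 5]
def rw1441 : List ℕ := [5, 5, 1, 2, 1, 0, 0, 3, 0, 4, 4, 0, 3, 4, 1, 5, 2, 1]
def rw1442 : List ℕ := [5, 2, 1, 3, 5, 3, 4, 2, 0, 3, 4, 1, 1, 2, 0, 0]
def rw1443 : List ℕ := [5, 1, 4, 3, 5, 0, 4, 0, 4, 2, 1, 2, 0, 3, 5, 1]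
def rw1444 : List ℕ := [5, 2, 5, 5, 5, 2, 4, 4, 4, 3, 4, 4, 4, 3, 3, 2, 5, 5]
def rw1445 : List ℕ := [5, 5, 5, 2, 4, 4, 4, 1, 5, 3, 1, 3, 0, 2, 4, 0]
def rw1446 : List ℕ := [5, 1, 2, 1, 2, 0, 3, 0, 4, 4, 0, 3, 4, 3, 5, 2, 1, 5]
def rw1447 : List ℕ := [5, 5, 5, 1, 4, 4, 4, 3, 4, 4, 4, 3, 0, 2, 5, 5, 5, 2]
def rw1448 : List ℕ := [5, 3, 1, 3, 0, 2, 4, 0, 5, 5, 5, 2, 4, 4, 4, 1]
def rw1449 : List ℕ := [5, 5, 5, 2, 5, 5, 5, 3, 4, 4, 4, 3, 4, 4, 4, 3, 2, 2]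
def rw1450 : List ℕ := [5, 5, 2, 4, 4, 4, 3, 4, 4, 4, 3, 3, 2, 5, 5, 5, 2, 5]
def rw1451 : List ℕ := [5, 1, 5, 1, 4, 4, 5, 0, 4, 0, 4, 2, 1, 5, 0, 3]
def rw1452 : List ℕ := [5, 5, 5, 5, 5, 5, 5]
def rw1453 : List ℕ := [5, 2, 1, 3, 5, 0, 4, 2, 0, 3, 4, 1, 1, 1, 0, 0]
def rw1454 : List ℕ := [5, 1, 5, 1, 4, 1, 5, 0, 4, 0, 4, 2, 1, 0, 0, 3]
def rw1455 : List ℕ := [5, 2, 5, 5, 5, 4, 4, 4, 4, 3, 4, 4, 4, 3, 5, 2, 5, 5]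
def rw1456 : List ℕ := [5, 2, 4, 3, 4, 3, 4, 3, 3, 2, 5, 2, 5, 2]
def rw1457 : List ℕ := [5, 6, 3, 6, 5, 6, 4, 7, 5, 7, 4, 7, 2, 7, 4, 4, 7, 3, 6, 2, 6, 5]
def rw1458 : List ℕ := [5, 9, 4, 7, 4, 7, 4, 7, 4, 7, 8, 6, 5, 6, 5, 6, 5, 6]
def rw1459 : List ℕ := [5, 5, 5, 5, 5, 5, 5]
def rw1460 : List ℕ := [5, 2, 1, 3, 5, 1, 4, 2, 0, 3, 4, 1, 1, 0, 0, 0]
def rw1461 : List ℕ := [5, 1, 2, 1, 4, 0, 3, 0, 4, 4, 0, 3, 4, 5, 5, 2, 1, 5]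
def rw1462 : List ℕ := [5, 3, 3, 4, 2, 2, 4, 3, 3]
def rw1463 : List ℕ := [5, 1, 2, 1, 0, 0, 3, 0, 4, 4, 0, 3, 4, 1, 5, 2, 1, 5]
def rw1464 : List ℕ := [5, 2, 1, 5, 5, 1, 2, 1, 0, 0, 3, 0, 4, 4, 0, 3, 4, 1]
def rw1465 : List ℕ := [5, 3, 4, 3, 4, 3, 4, 3, 2, 2, 5, 2, 5, 2]
def rw1466 : List ℕ := [5, 3, 1, 5, 0, 2, 4, 0, 5, 5, 5, 4, 4, 4, 4, 1]
def rw1467 : List ℕ := [5, 5, 7, 5, 5, 6, 4, 4, 6, 4, 4, 6, 7, 7]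
def rw1468 : List ℕ := [5, 1, 4, 2, 0, 3, 4, 1, 1, 0, 0, 0, 5, 2, 1, 3]
def rw1469 : List ℕ := [5, 2, 1, 3, 5, 5, 4, 2, 0, 3, 4, 1, 1, 4, 0, 0]
def rw1470 : List ℕ := [5, 7, 5, 6, 4, 6]
def rw1471 : List ℕ := [5, 0, 4, 4, 4, 1, 5, 3, 1, 1, 0, 2, 4, 0, 5, 5]
def rw1472 : List ℕ := [5, 7, 5, 5, 1, 4, 4, 6, 4, 4, 6, 0, 7, 5]
def rw1473 : List ℕ := [5, 0, 4, 2, 0, 3, 4, 1, 1, 1, 0, 0, 5, 2, 1, 3]
def rw1474 : List ℕ := [5, 1, 4, 4, 4, 1, 5, 3, 1, 0, 0, 2, 4, 0, 5, 5]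
def rw1475 : List ℕ := [5, 0, 4, 0, 4, 2, 1, 0, 0, 3, 5, 1, 5, 1, 4, 1]
def rw1476 : List ℕ := [5, 5, 5, 4, 4, 6, 4, 4, 6, 4, 7, 5, 5, 7]
def rw1477 : List ℕ := [5, 2, 2, 2, 5, 3, 3, 3, 3, 3, 2, 2, 2, 2, 4, 3, 3, 3, 4, 2]
def rw1478 : List ℕ := [5, 3, 1, 2, 0, 2, 4, 0, 5, 5, 5, 3, 4, 4, 4, 1]
def rw1479 : List ℕ := [5, 2, 5, 2, 5, 6, 4, 3, 4, 3, 4, 3, 7, 2]
def rw1480 : List ℕ := [5, 6, 5, 5, 4, 7, 4, 7, 4, 7, 4, 7, 4, 6, 5, 6, 5, 6]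
def rw1481 : List ℕ := [5, 6, 4, 3, 5, 7, 4, 7, 2, 7, 4, 4, 7, 3, 2, 2, 6, 5, 5, 6, 3, 6]
def rw1482 : List ℕ := [5, 6, 5, 6, 5, 4, 4, 7, 4, 7, 4, 7, 4, 7, 5, 6, 5, 6]
def rw1483 : List ℕ := [5, 8, 4, 4, 7, 7, 4, 9, 6, 6, 9, 9, 9, 8, 8, 7, 7, 8, 5, 6, 6, 5]
def rw1484 : List ℕ := [5, 6, 3, 6, 5, 6, 4, 3, 5, 7, 4, 7, 2, 7, 4, 4, 7, 3, 2, 2, 6, 5]
def rw1485 : List ℕ := [5, 3, 1, 7, 0, 2, 4, 0, 5, 5, 5, 6, 4, 4, 4, 1]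
def rw1486 : List ℕ := [5, 7, 7, 6, 4, 6, 5, 7, 5, 6, 4, 6, 4, 7]
def rw1487 : List ℕ := [5, 2, 5, 7, 4, 3, 4, 3, 4, 3, 6, 2, 5, 2]
def rw1488 : List ℕ := [5, 6, 3, 6, 5, 6, 4, 5, 5, 7, 4, 7, 2, 7, 4, 4, 7, 3, 4, 2, 6, 5]
def rw1489 : List ℕ := [5, 7, 4, 4, 6, 4, 4, 6, 6, 7, 5, 5, 7, 5]
def rw1490 : List ℕ := [5, 6, 4, 6, 6, 6, 2, 7, 7, 7, 5, 7, 4, 7, 5, 3, 4, 6]
def rw1491 : List ℕ := [5, 5, 7, 4, 4, 6, 4, 4, 6, 6, 7, 5, 5, 7]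
def rw1492 : List ℕ := [5, 3, 4, 2, 4, 6, 3, 7, 2, 4, 7, 5, 6, 5, 3, 6, 2, 7]
def rw1493 : List ℕ := [5, 3, 6, 2, 7, 5, 3, 2, 2, 4, 6, 3, 7, 2, 4, 7, 3, 6]
def rw1494 : List ℕ := [5, 6, 5, 6, 5, 5, 4, 7, 4, 7, 4, 7, 4, 7, 4, 6, 5, 6]
def rw1495 : List ℕ := [5, 5, 7, 5, 5, 7, 4, 4, 6, 4, 4, 6, 6, 7]
def rw1496 : List ℕ := [5, 2, 5, 6, 4, 3, 4, 3, 4, 3, 7, 2, 5, 2]
def rw1497 : List ℕ := [5, 2, 5, 5, 5, 3, 4, 4, 4, 3, 4, 4, 4, 3, 2, 2, 5, 5]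
def rw1498 : List ℕ := [5, 5, 3, 4, 4, 6, 4, 4, 6, 2, 7, 5, 5, 7]
def rw1499 : List ℕ := [5, 5, 7, 5, 5, 3, 4, 4, 6, 4, 4, 6, 2, 7]
def rw1500 : List ℕ := [5, 7, 4, 7, 2, 7, 4, 4, 7, 3, 2, 2, 6, 5, 5, 6, 3, 6, 5, 6, 4, 3]
def rw1501 : List ℕ := [5, 2, 7, 3, 7, 7, 4, 3, 5, 6, 6, 2, 6, 3, 4, 3, 2, 2]
def rw1502 : List ℕ := [5, 1, 4, 3, 4, 3, 4, 3, 0, 2, 5, 2, 5, 2]
def rw1503 : List ℕ := [5, 2, 5, 5, 5, 1, 4, 4, 4, 3, 4, 4, 4, 3, 0, 2, 5, 5]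
def rw1504 : List ℕ := [5, 6, 3, 6, 5, 6, 4, 9, 5, 7, 4, 7, 2, 7, 4, 4, 7, 3, 8, 2, 6, 5]
def rw1505 : List ℕ := [5, 2, 5, 5, 5, 6, 4, 4, 4, 3, 4, 4, 4, 3, 7, 2, 5, 5]
def rw1506 : List ℕ := [5, 7, 3, 7, 7, 5, 3, 4, 6, 6, 2, 6, 4, 4, 3, 2, 2, 5]
def rw1507 : List ℕ := [5, 5, 1, 4, 4, 4, 1, 5, 3, 1, 0, 0, 2, 4, 0, 5]
def rw1508 : List ℕ := [5, 2, 4, 4, 4, 3, 4, 4, 4, 3, 3, 2, 5, 5, 5, 2, 5, 5]
def rw1509 : List ℕ := [5, 6, 4, 6, 6, 6, 5, 7, 7, 7, 5, 7, 4, 7, 5, 4, 4, 6]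
def rw1510 : List ℕ := [5, 6, 4, 6, 4, 7, 5, 7, 7, 6, 4, 6, 5, 7]
def rw1511 : List ℕ := [5, 5, 0, 4, 4, 6, 4, 4, 6, 1, 7, 5, 5, 7]
def rw1512 : List ℕ := [5, 3, 3, 3, 3, 1, 2, 2, 2, 2, 4, 3, 3, 3, 4, 0, 5, 2, 2, 2]
def rw1513 : List ℕ := [5, 3, 3, 3, 3, 4, 2, 2, 2, 2, 4, 3, 3, 3, 4, 5, 5, 2, 2, 2]
def rw1514 : List ℕ := [5, 7, 5, 5, 4, 6, 4, 7, 5, 7, 4, 6, 4, 6]
def rw1515 : List ℕ := [5, 5, 7, 5, 5, 4, 4, 4, 6, 4, 4, 6, 5, 7]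
def rw1516 : List ℕ := [5, 5, 5, 5, 5, 5, 5]
def rw1517 : List ℕ := [5, 3, 1, 6, 0, 2, 4, 0, 5, 5, 5, 7, 4, 4, 4, 1]
def rw1518 : List ℕ := [5, 6, 6, 5, 5, 9, 4, 4, 7, 7, 4, 9, 6, 6, 9, 9, 8, 8, 8, 7, 7, 8]
def rw1519 : List ℕ := [5, 6, 5, 6, 5, 8, 4, 7, 4, 7, 4, 7, 4, 7, 9, 6, 5, 6]
def rw1520 : List ℕ := [5, 7, 5, 5, 6, 4, 4, 6, 4, 4, 6, 7, 7, 5]
def rw1521 : List ℕ := [5, 6, 9, 6, 9, 6, 9, 6, 9, 4, 8, 7, 8, 7, 8, 7, 8, 7]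
def rw1522 : List ℕ := [5, 6, 3, 6, 5, 6, 4, 6, 5, 7, 4, 7, 2, 7, 4, 4, 7, 3, 7, 2, 6, 5]
def rw1523 : List ℕ := [5, 7, 4, 6, 4, 6, 5, 7, 5, 5, 4, 6, 4, 7]
def rw1524 : List ℕ := [5, 5, 8, 4, 4, 7, 7, 4, 9, 6, 6, 9, 9, 9, 8, 8, 7, 7, 8, 5, 6, 6]
def rw1525 : List ℕ := [5, 5, 1, 2, 1, 3, 0, 3, 0, 4, 4, 0, 3, 4, 2, 5, 2, 1]
def rw1526 : List ℕ := [5, 2, 5, 2, 5, 7, 4, 3, 4, 3, 4, 3, 6, 2]
def rw1527 : List ℕ := [5, 6, 5, 6, 5, 6, 5, 3, 4, 7, 4, 7, 4, 7, 4, 7, 2, 6]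
def rw1528 : List ℕ := [5, 6, 5, 6, 5, 6, 5, 2, 4, 7, 4, 7, 4, 7, 4, 7, 3, 6]
def rw1529 : List ℕ := [5, 7, 5, 5, 3, 4, 4, 6, 4, 4, 6, 2, 7, 5]
def rw1530 : List ℕ := [5, 7, 4, 6, 5, 6, 4, 6, 6, 6, 6, 7, 7, 7, 5, 7, 4, 7]
def rw1531 : List ℕ := [5, 8, 7, 8, 7, 8, 7, 8, 7, 4, 6, 9, 6, 9, 6, 9, 6, 9]
def rw1532 : List ℕ := [5, 2, 5, 5, 5, 9, 4, 4, 4, 3, 4, 4, 4, 3, 8, 2, 5, 5]
def rw1533 : List ℕ := [5, 3, 8, 4, 3, 3, 7, 2, 2, 5, 9, 2, 4, 2, 5, 8, 7, 6, 6, 9, 4, 3]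
def rw1534 : List ℕ := [5, 3, 3, 3, 3, 8, 2, 2, 2, 2, 4, 3, 3, 3, 4, 9, 5, 2, 2, 2]
def rw1535 : List ℕ := [5, 1, 4, 4, 5, 0, 4, 0, 4, 2, 1, 5, 0, 3, 5, 1]
def rw1536 : List ℕ := [5, 5, 2, 5, 5, 5, 0, 4, 4, 4, 3, 4, 4, 4, 3, 1, 2, 5]
def rw1537 : List ℕ := [5, 5, 5, 1, 4, 4, 4, 1, 5, 3, 1, 0, 0, 2, 4, 0]
def rw1538 : List ℕ := [5, 5, 1, 2, 1, 1, 0, 3, 0, 4, 4, 0, 3, 4, 0, 5, 2, 1]
def rw1539 : List ℕ := [5, 0, 4, 4, 4, 3, 4, 4, 4, 3, 1, 2, 5, 5, 5, 2, 5, 5]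
def rw1540 : List ℕ := [5, 6, 5, 6, 5, 6, 5, 1, 4, 7, 4, 7, 4, 7, 4, 7, 0, 6]
def rw1541 : List ℕ := [5, 7, 5, 7, 5, 5, 4, 6, 4, 6, 4, 6, 4, 7]
def rw1542 : List ℕ := [5, 7, 4, 7, 5, 7, 4, 6, 5, 6, 4, 6, 6, 6, 6, 7, 7, 7]
def rw1543 : List ℕ := [5, 7, 5, 5, 4, 4, 4, 6, 4, 4, 6, 5, 7, 5]
def rw1544 : List ℕ := [5, 5, 5, 2, 5, 5, 5, 6, 4, 4, 4, 3, 4, 4, 4, 3, 7, 2]
def rw1545 : List ℕ := [5, 3, 1, 1, 0, 2, 4, 0, 5, 5, 5, 0, 4, 4, 4, 1]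
def rw1546 : List ℕ := [5, 2, 5, 5, 5, 7, 4, 4, 4, 3, 4, 4, 4, 3, 6, 2, 5, 5]
def rw1547 : List ℕ := [5, 5, 6, 4, 4, 7, 7, 4, 9, 6, 6, 9, 9, 7, 8, 8, 7, 7, 8, 5, 6, 6]
def rw1548 : List ℕ := [5, 6, 4, 6, 6, 2, 6, 4, 4, 3, 7, 2, 5, 5, 7, 3, 7, 7]
def rw1549 : List ℕ := [5, 5, 5, 2, 5, 5, 5, 4, 4, 4, 4, 3, 4, 4, 4, 3, 5, 2]
def rw1550 : List ℕ := [5, 6, 4, 6, 6, 6, 4, 7, 7, 7, 5, 7, 4, 7, 5, 5, 4, 6]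
def rw1551 : List ℕ := [5, 5, 5, 5, 5, 5, 5]
def rw1552 : List ℕ := [5, 1, 7, 3, 5, 1, 0, 0, 4, 2, 6, 0, 4, 2, 6, 1, 7, 3]
def rw1553 : List ℕ := [5, 6, 5, 6, 5, 6, 5, 4, 4, 7, 4, 7, 4, 7, 4, 7, 5, 6]
def rw1554 : List ℕ := [5, 5, 5, 7, 4, 4, 4, 1, 5, 3, 1, 6, 0, 2, 4, 0]
def rw1555 : List ℕ := [5, 5, 8, 5, 5, 8, 5, 5, 8, 4, 4, 9, 4, 4, 9, 4, 4, 9, 9, 8]
def rw1556 : List ℕ := [5, 1, 7, 0, 4, 2, 6, 0, 4, 2, 6, 6, 7, 3, 5, 1, 7, 3]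
def rw1557 : List ℕ := [5, 6, 6, 2, 6, 3, 4, 3, 2, 2, 5, 2, 7, 3, 7, 7, 4, 3]
def rw1558 : List ℕ := [5, 5, 8, 5, 5, 6, 4, 4, 9, 4, 4, 9, 4, 4, 9, 7, 8, 5, 5, 8]
def rw1559 : List ℕ := [5, 6, 6, 5, 5, 8, 4, 4, 7, 7, 4, 9, 6, 6, 9, 9, 9, 8, 8, 7, 7, 8]
def rw1560 : List ℕ := [5, 1, 2, 1, 3, 0, 3, 0, 4, 4, 0, 3, 4, 2, 5, 2, 1, 5]
def rw1561 : List ℕ := [5, 0, 4, 4, 6, 4, 4, 6, 1, 7, 5, 5, 7, 5]
def rw1562 : List ℕ := [5, 5, 4, 6, 4, 7, 5, 7, 4, 6, 4, 6, 5, 7]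
def rw1563 : List ℕ := [5, 5, 7, 5, 5, 1, 4, 4, 6, 4, 4, 6, 0, 7]
def rw1564 : List ℕ := [5, 5, 7, 5, 5, 8, 4, 4, 6, 4, 4, 6, 9, 7]
def rw1565 : List ℕ := [5, 3, 8, 4, 3, 3, 6, 2, 2, 5, 9, 2, 4, 2, 5, 8, 7, 7, 6, 9, 4, 3]
def rw1566 : List ℕ := [5, 3, 1, 9, 0, 2, 4, 0, 5, 5, 5, 8, 4, 4, 4, 1]
def rw1567 : List ℕ := [5, 6, 5, 6, 5, 3, 4, 7, 4, 7, 4, 7, 4, 7, 2, 6, 5, 6]
def rw1568 : List ℕ := [5, 5, 8, 5, 5, 5, 4, 4, 9, 4, 4, 9, 4, 4, 9, 4, 8, 5, 5, 8]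
def rw1569 : List ℕ := [5, 1, 5, 1, 4, 3, 5, 0, 4, 0, 4, 2, 1, 2, 0, 3]
def rw1570 : List ℕ := [5, 5, 8, 5, 5, 8, 5, 5, 9, 4, 4, 9, 4, 4, 9, 4, 4, 9, 8, 8]
def rw1571 : List ℕ := [5, 1, 2, 1, 5, 0, 3, 0, 4, 4, 0, 3, 4, 4, 5, 2, 1, 5]
def rw1572 : List ℕ := [5, 5, 0, 4, 4, 4, 3, 4, 4, 4, 3, 1, 2, 5, 5, 5, 2, 5]
def rw1573 : List ℕ := [5, 3, 4, 4, 4, 1, 5, 3, 1, 2, 0, 2, 4, 0, 5, 5]
def rw1574 : List ℕ := [5, 5, 1, 2, 1, 5, 0, 3, 0, 4, 4, 0, 3, 4, 4, 5, 2, 1]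
def rw1575 : List ℕ := [5, 3, 3, 5, 2, 2, 4, 2, 2]
def rw1576 : List ℕ := [5, 1, 7, 3, 5, 1, 3, 0, 4, 2, 6, 0, 4, 2, 6, 2, 7, 3]
def rw1577 : List ℕ := [5, 0, 4, 3, 4, 3, 4, 3, 1, 2, 5, 2, 5, 2]
def rw1578 : List ℕ := [5, 3, 4, 2, 0, 3, 4, 1, 1, 2, 0, 0, 5, 2, 1, 3]
def rw1579 : List ℕ := [5, 5, 3, 4, 4, 4, 3, 4, 4, 4, 3, 2, 2, 5, 5, 5, 2, 5]
def rw1580 : List ℕ := [5, 1, 4, 1, 5, 0, 4, 0, 4, 2, 1, 0, 0, 3, 5, 1]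
def rw1581 : List ℕ := [5, 2, 5, 2, 5, 1, 4, 3, 4, 3, 4, 3, 0, 2]
def rw1582 : List ℕ := [5, 2, 1, 3, 5, 7, 4, 2, 0, 3, 4, 1, 1, 6, 0, 0]
def rw1583 : List ℕ := [5, 2, 2, 2, 5, 3, 3, 3, 3, 1, 2, 2, 2, 2, 4, 3, 3, 3, 4, 0]
def rw1584 : List ℕ := [5, 6, 5, 4, 4, 7, 4, 7, 4, 7, 4, 7, 5, 6, 5, 6, 5, 6]
def rw1585 : List ℕ := [5, 6, 4, 4, 6, 4, 4, 6, 7, 7, 5, 5, 7, 5]
def rw1586 : List ℕ := [5, 2, 1, 3, 5, 2, 4, 2, 0, 3, 4, 1, 1, 3, 0, 0]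
def rw1587 : List ℕ := [5, 3, 1, 0, 0, 2, 4, 0, 5, 5, 5, 1, 4, 4, 4, 1]
def rw1588 : List ℕ := [5, 3, 3, 3, 3, 5, 2, 2, 2, 2, 4, 3, 3, 3, 4, 4, 5, 2, 2, 2]
def rw1589 : List ℕ := [5, 2, 7, 3, 7, 7, 4, 5, 5, 6, 6, 2, 6, 3, 4, 3, 4, 2]
def rw1590 : List ℕ := [5, 3, 1, 4, 0, 2, 4, 0, 5, 5, 5, 5, 4, 4, 4, 1]
def rw1591 : List ℕ := [5, 5, 7, 3, 7, 7, 5, 6, 4, 6, 6, 2, 6, 4, 4, 3, 7, 2]
def rw1592 : List ℕ := [5, 5, 1, 2, 1, 2, 0, 3, 0, 4, 4, 0, 3, 4, 3, 5, 2, 1]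
def rw1593 : List ℕ := [5, 3, 4, 4, 6, 4, 4, 6, 2, 7, 5, 5, 7, 5]
def rw1594 : List ℕ := [5, 7, 5, 6, 4, 6, 4, 7, 5, 7, 7, 6, 4, 6]
def rw1595 : List ℕ := [5, 7, 5, 5, 2, 4, 4, 6, 4, 4, 6, 3, 7, 5]
def rw1596 : List ℕ := [5, 6, 4, 4, 4, 3, 4, 4, 4, 3, 7, 2, 5, 5, 5, 2, 5, 5]
def rw1597 : List ℕ := [5, 3, 6, 2, 7, 5, 3, 7, 2, 4, 6, 3, 7, 2, 4, 7, 6, 6]
def rw1598 : List ℕ := [5, 7, 3, 7, 7, 5, 6, 4, 6, 6, 2, 6, 4, 4, 3, 7, 2, 5]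
def rw1599 : List ℕ := [5, 3, 6, 2, 7, 5, 3, 5, 2, 4, 6, 3, 7, 2, 4, 7, 4, 6]
def rw1600 : List ℕ := [5, 7, 5, 5, 5, 4, 4, 6, 4, 4, 6, 4, 7, 5]
def rw1601 : List ℕ := [5, 2, 4, 4, 4, 1, 5, 3, 1, 3, 0, 2, 4, 0, 5, 5]
def rw1602 : List ℕ := [5, 7, 0, 6, 4, 6, 5, 7, 5, 1, 4, 6, 4, 7]
def rw1603 : List ℕ := [5, 7, 5, 5, 0, 4, 4, 6, 4, 4, 6, 1, 7, 5]
def rw1604 : List ℕ := [5, 5, 7, 5, 5, 2, 4, 4, 6, 4, 4, 6, 3, 7]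
def rw1605 : List ℕ := [5, 5, 6, 3, 6, 5, 6, 4, 7, 5, 7, 4, 7, 2, 7, 4, 4, 7, 3, 6, 2, 6]
def rw1606 : List ℕ := [5, 3, 3, 3, 3, 6, 2, 2, 2, 2, 4, 3, 3, 3, 4, 7, 5, 2, 2, 2]
def rw1607 : List ℕ := [5, 6, 5, 3, 4, 7, 4, 7, 4, 7, 4, 7, 2, 6, 5, 6, 5, 6]
def rw1608 : List ℕ := [5, 5, 2, 5, 5, 5, 4, 4, 4, 4, 3, 4, 4, 4, 3, 5, 2, 5]
def rw1609 : List ℕ := [5, 5, 6, 3, 6, 5, 6, 4, 3, 5, 7, 4, 7, 2, 7, 4, 4, 7, 3, 2, 2, 6]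
def rw1610 : List ℕ := [5, 6, 4, 2, 5, 7, 4, 7, 2, 7, 4, 4, 7, 3, 3, 2, 6, 5, 5, 6, 3, 6]
def rw1611 : List ℕ := [5, 2, 4, 6, 6, 2, 6, 4, 4, 3, 3, 2, 5, 5, 7, 3, 7, 7]
def rw1612 : List ℕ := [5, 7, 3, 7, 7, 5, 7, 4, 6, 6, 2, 6, 4, 4, 3, 6, 2, 5]
def rw1613 : List ℕ := [5, 5, 2, 5, 5, 5, 6, 4, 4, 4, 3, 4, 4, 4, 3, 7, 2, 5]
def rw1614 : List ℕ := [5, 5, 2, 5, 5, 5, 3, 4, 4, 4, 3, 4, 4, 4, 3, 2, 2, 5]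
def rw1615 : List ℕ := [5, 7, 5, 7, 5, 3, 4, 6, 4, 6, 4, 6, 2, 7]
def rw1616 : List ℕ := [5, 3, 3, 3, 3, 3, 2, 2, 2, 2, 4, 3, 3, 3, 4, 2, 5, 2, 2, 2]
def rw1617 : List ℕ := [5, 2, 5, 2, 5, 0, 4, 3, 4, 3, 4, 3, 1, 2]
def rw1618 : List ℕ := [5, 1, 7, 3, 5, 1, 6, 0, 4, 2, 6, 0, 4, 2, 6, 7, 7, 3]
def rw1619 : List ℕ := [5, 1, 6, 0, 4, 2, 6, 0, 4, 2, 6, 7, 7, 3, 5, 1, 7, 3]
def rw1620 : List ℕ := [5, 2, 5, 5, 5, 5, 4, 4, 4, 3, 4, 4, 4, 3, 4, 2, 5, 5]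
def rw1621 : List ℕ := [5, 5, 7, 5, 5, 0, 4, 4, 6, 4, 4, 6, 1, 7]
def rw1622 : List ℕ := [5, 5, 5, 2, 4, 4, 4, 3, 4, 4, 4, 3, 3, 2, 5, 5, 5, 2]
def rw1623 : List ℕ := [5, 1, 5, 1, 4, 0, 5, 0, 4, 0, 4, 2, 1, 1, 0, 3]
def rw1624 : List ℕ := [5, 7, 5, 5, 7, 4, 4, 6, 4, 4, 6, 6, 7, 5]
def rw1625 : List ℕ := [5, 5, 7, 3, 7, 7, 5, 2, 4, 6, 6, 2, 6, 4, 4, 3, 3, 2]
def rw1626 : List ℕ := [5, 7, 4, 3, 4, 3, 4, 3, 6, 2, 5, 2, 5, 2]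
def rw1627 : List ℕ := [5, 5, 2, 5, 5, 5, 1, 4, 4, 4, 3, 4, 4, 4, 3, 0, 2, 5]
def rw1628 : List ℕ := [5, 5, 5, 2, 5, 5, 5, 0, 4, 4, 4, 3, 4, 4, 4, 3, 1, 2]
def rw1629 : List ℕ := [5, 6, 4, 4, 5, 7, 4, 7, 2, 7, 4, 4, 7, 3, 5, 2, 6, 5, 5, 6, 3, 6]
def rw1630 : List ℕ := [5, 5, 7, 3, 7, 7, 5, 3, 4, 6, 6, 2, 6, 4, 4, 3, 2, 2]
def rw1631 : List ℕ := [5, 1, 4, 2, 5, 0, 4, 0, 4, 2, 1, 3, 0, 3, 5, 1]
def rw1632 : List ℕ := [5, 6, 4, 6, 6, 6, 1, 7, 7, 7, 5, 7, 4, 7, 5, 0, 4, 6]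
def rw1633 : List ℕ := [5, 0, 4, 0, 4, 2, 1, 3, 0, 3, 5, 1, 5, 1, 4, 2]
def rw1634 : List ℕ := [5, 5, 6, 3, 6, 5, 6, 4, 5, 5, 7, 4, 7, 2, 7, 4, 4, 7, 3, 4, 2, 6]
def rw1635 : List ℕ := [5, 7, 4, 4, 4, 1, 5, 3, 1, 6, 0, 2, 4, 0, 5, 5]
def rw1636 : List ℕ := [5, 0, 4, 0, 4, 2, 1, 4, 0, 3, 5, 1, 5, 1, 4, 5]
def rw1637 : List ℕ := [5, 3, 6, 2, 4, 6, 3, 7, 2, 4, 7, 7, 6, 5, 3, 6, 2, 7]
def rw1638 : List ℕ := [5, 2, 2, 2, 5, 3, 3, 3, 3, 2, 2, 2, 2, 2, 4, 3, 3, 3, 4, 3]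
def rw1639 : List ℕ := [5, 7, 5, 1, 4, 6, 4, 7, 5, 7, 0, 6, 4, 6]
def rw1640 : List ℕ := [5, 6, 4, 1, 5, 7, 4, 7, 2, 7, 4, 4, 7, 3, 0, 2, 6, 5, 5, 6, 3, 6]
def rw1641 : List ℕ := [5, 5, 5, 2, 5, 5, 5, 2, 4, 4, 4, 3, 4, 4, 4, 3, 3, 2]
def rw1642 : List ℕ := [5, 5, 5, 2, 5, 5, 5, 5, 4, 4, 4, 3, 4, 4, 4, 3, 4, 2]
def rw1643 : List ℕ := [5, 5, 5, 2, 5, 5, 5, 9, 4, 4, 4, 3, 4, 4, 4, 3, 8, 2]
def rw1644 : List ℕ := [5, 5, 2, 5, 5, 5, 5, 4, 4, 4, 3, 4, 4, 4, 3, 4, 2, 5]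
def rw1645 : List ℕ := [5, 7, 5, 3, 4, 6, 4, 7, 5, 7, 2, 6, 4, 6]
def rw1646 : List ℕ := [5, 8, 5, 5, 8, 5, 5, 4, 4, 4, 9, 4, 4, 9, 4, 4, 9, 5, 8, 5]
def rw1647 : List ℕ := [5, 2, 7, 3, 7, 7, 4, 7, 5, 6, 6, 2, 6, 3, 4, 3, 6, 2]
def rw1648 : List ℕ := [5, 5, 6, 4, 4, 6, 4, 4, 6, 7, 7, 5, 5, 7]
def rw1649 : List ℕ := [5, 3, 8, 4, 3, 3, 4, 2, 2, 5, 9, 2, 4, 2, 5, 8, 7, 5, 6, 9, 4, 3]
def rw1650 : List ℕ := [5, 2, 5, 5, 5, 8, 4, 4, 4, 3, 4, 4, 4, 3, 9, 2, 5, 5]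
def rw1651 : List ℕ := [5, 1, 4, 5, 5, 0, 4, 0, 4, 2, 1, 4, 0, 3, 5, 1]
def rw1652 : List ℕ := [5, 6, 4, 6, 5, 6, 4, 6, 6, 6, 7, 7, 7, 7, 5, 7, 4, 7]
def rw1653 : List ℕ := [5, 5, 1, 2, 1, 4, 0, 3, 0, 4, 4, 0, 3, 4, 5, 5, 2, 1]
def rw1654 : List ℕ := [5, 5, 5, 5, 4, 4, 4, 1, 5, 3, 1, 4, 0, 2, 4, 0]
def rw1655 : List ℕ := [5, 7, 5, 7, 5, 2, 4, 6, 4, 6, 4, 6, 3, 7]
def rw1656 : List ℕ := [5, 3, 3, 2, 4, 6, 3, 7, 2, 4, 7, 2, 6, 5, 3, 6, 2, 7]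
def rw1657 : List ℕ := [5, 5, 8, 5, 5, 8, 5, 5, 2, 4, 4, 9, 4, 4, 9, 4, 4, 9, 3, 8]
def rw1658 : List ℕ := [5, 9, 4, 4, 7, 7, 4, 9, 6, 6, 9, 9, 8, 8, 8, 7, 7, 8, 5, 6, 6, 5]
def rw1659 : List ℕ := [5, 3, 4, 6, 6, 2, 6, 4, 4, 3, 2, 2, 5, 5, 7, 3, 7, 7]
def rw1660 : List ℕ := [5, 6, 4, 6, 6, 6, 8, 7, 7, 7, 5, 7, 4, 7, 5, 9, 4, 6]
def rw1661 : List ℕ := [5, 1, 7, 3, 5, 1, 1, 0, 4, 2, 6, 0, 4, 2, 6, 0, 7, 3]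
def rw1662 : List ℕ := [5, 0, 4, 0, 4, 2, 1, 1, 0, 3, 5, 1, 5, 1, 4, 0]
def rw1663 : List ℕ := [5, 5, 5, 5, 4, 4, 4, 3, 4, 4, 4, 3, 4, 2, 5, 5, 5, 2]
def rw1664 : List ℕ := [5, 6, 5, 7, 4, 7, 4, 7, 4, 7, 4, 7, 6, 6, 5, 6, 5, 6]
def rw1665 : List ℕ := [5, 2, 7, 3, 7, 7, 4, 6, 5, 6, 6, 2, 6, 3, 4, 3, 7, 2]
def rw1666 : List ℕ := [5, 2, 4, 2, 0, 3, 4, 1, 1, 3, 0, 0, 5, 2, 1, 3]
def rw1667 : List ℕ := [5, 3, 9, 2, 4, 6, 3, 7, 2, 4, 7, 8, 6, 5, 3, 6, 2, 7]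
def rw1668 : List ℕ := [5, 5, 6, 3, 6, 5, 6, 4, 4, 5, 7, 4, 7, 2, 7, 4, 4, 7, 3, 5, 2, 6]
def rw1669 : List ℕ := [5, 6, 5, 1, 4, 7, 4, 7, 4, 7, 4, 7, 0, 6, 5, 6, 5, 6]
def rw1670 : List ℕ := [5, 2, 4, 6, 5, 6, 4, 6, 6, 6, 3, 7, 7, 7, 5, 7, 4, 7]
def rw1671 : List ℕ := [5, 2, 7, 3, 7, 7, 4, 9, 5, 6, 6, 2, 6, 3, 4, 3, 8, 2]
def rw1672 : List ℕ := [5, 7, 5, 2, 4, 6, 4, 7, 5, 7, 3, 6, 4, 6]
def rw1673 : List ℕ := [5, 0, 4, 0, 4, 2, 1, 2, 0, 3, 5, 1, 5, 1, 4, 3]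
def rw1674 : List ℕ := [5, 8, 7, 3, 6, 9, 4, 3, 5, 3, 8, 4, 3, 3, 2, 2, 2, 5, 9, 2, 4, 2]
def rw1675 : List ℕ := [5, 1, 4, 0, 4, 2, 6, 0, 4, 2, 6, 5, 7, 3, 5, 1, 7, 3]
def rw1676 : List ℕ := [5, 7, 5, 3, 4, 6, 4, 6, 4, 6, 2, 7, 5, 7]
def rw1677 : List ℕ := [5, 6, 4, 6, 6, 6, 3, 7, 7, 7, 5, 7, 4, 7, 5, 2, 4, 6]
def rw1678 : List ℕ := [5, 3, 8, 4, 3, 3, 8, 2, 2, 5, 9, 2, 4, 2, 5, 8, 7, 9, 6, 9, 4, 3]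
def rw1679 : List ℕ := [5, 5, 8, 5, 5, 8, 5, 5, 5, 4, 4, 9, 4, 4, 9, 4, 4, 9, 4, 8]
def rw1680 : List ℕ := [5, 1, 4, 7, 5, 0, 4, 0, 4, 2, 1, 6, 0, 3, 5, 1]
def rw1681 : List ℕ := [5, 7, 3, 7, 7, 5, 2, 4, 6, 6, 2, 6, 4, 4, 3, 3, 2, 5]
def rw1682 : List ℕ := [5, 5, 1, 2, 1, 7, 0, 3, 0, 4, 4, 0, 3, 4, 6, 5, 2, 1]
def rw1683 : List ℕ := [5, 9, 2, 4, 2, 5, 8, 7, 4, 6, 9, 4, 3, 5, 3, 8, 4, 3, 3, 5, 2, 2]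
def rw1684 : List ℕ := [5, 5, 6, 4, 4, 4, 3, 4, 4, 4, 3, 7, 2, 5, 5, 5, 2, 5]
def rw1685 : List ℕ := [5, 3, 8, 4, 3, 3, 3, 2, 2, 5, 9, 2, 4, 2, 5, 8, 7, 2, 6, 9, 4, 3]
def rw1686 : List ℕ := [5, 1, 2, 1, 7, 0, 3, 0, 4, 4, 0, 3, 4, 6, 5, 2, 1, 5]
def rw1687 : List ℕ := [5, 5, 7, 5, 5, 9, 4, 4, 6, 4, 4, 6, 8, 7]
def rw1688 : List ℕ := [5, 0, 4, 0, 4, 2, 1, 7, 0, 3, 5, 1, 5, 1, 4, 6]
def rw1689 : List ℕ := [5, 8, 5, 5, 8, 5, 5, 3, 4, 4, 9, 4, 4, 9, 4, 4, 9, 2, 8, 5]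
def rw1690 : List ℕ := [5, 6, 6, 5, 5, 5, 4, 4, 7, 7, 4, 9, 6, 6, 9, 9, 4, 8, 8, 7, 7, 8]
def rw1691 : List ℕ := [5, 5, 8, 5, 5, 8, 5, 5, 7, 4, 4, 9, 4, 4, 9, 4, 4, 9, 6, 8]
def rw1692 : List ℕ := [5, 3, 6, 2, 7, 5, 3, 3, 2, 4, 6, 3, 7, 2, 4, 7, 2, 6]
def rw1693 : List ℕ := [5, 5, 9, 4, 4, 6, 4, 4, 6, 8, 7, 5, 5, 7]
def rw1694 : List ℕ := [5, 6, 6, 2, 6, 3, 4, 3, 7, 2, 5, 2, 7, 3, 7, 7, 4, 6]
def rw1695 : List ℕ := [5, 7, 5, 7, 4, 6, 4, 7, 5, 7, 6, 6, 4, 6]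
def rw1696 : List ℕ := [5, 8, 5, 5, 7, 4, 4, 9, 4, 4, 9, 4, 4, 9, 6, 8, 5, 5, 8, 5]
def rw1697 : List ℕ := [5, 7, 3, 6, 4, 6, 5, 7, 5, 2, 4, 6, 4, 7]
def rw1698 : List ℕ := [5, 6, 6, 2, 6, 3, 4, 3, 4, 2, 5, 2, 7, 3, 7, 7, 4, 5]
def rw1699 : List ℕ := [5, 7, 5, 7, 5, 9, 4, 6, 4, 6, 4, 6, 8, 7]
def rw1700 : List ℕ := [5, 9, 4, 6, 4, 7, 5, 7, 8, 6, 4, 6, 5, 7]
def rw1701 : List ℕ := [5, 8, 7, 4, 6, 9, 4, 3, 5, 3, 8, 4, 3, 3, 5, 2, 2, 5, 9, 2, 4, 2]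
def rw1702 : List ℕ := [5, 5, 2, 5, 5, 5, 2, 4, 4, 4, 3, 4, 4, 4, 3, 3, 2, 5]
def rw1703 : List ℕ := [5, 3, 1, 8, 0, 2, 4, 0, 5, 5, 5, 9, 4, 4, 4, 1]
def rw1704 : List ℕ := [5, 7, 3, 7, 7, 5, 8, 4, 6, 6, 2, 6, 4, 4, 3, 9, 2, 5]
def rw1705 : List ℕ := [5, 5, 2, 4, 4, 9, 4, 4, 9, 4, 4, 9, 3, 8, 5, 5, 8, 5, 5, 8]
def rw1706 : List ℕ := [5, 8, 5, 5, 3, 4, 4, 9, 4, 4, 9, 4, 4, 9, 2, 8, 5, 5, 8, 5]
def rw1707 : List ℕ := [5, 2, 4, 4, 6, 4, 4, 6, 3, 7, 5, 5, 7, 5]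
def rw1708 : List ℕ := [5, 9, 4, 4, 6, 4, 4, 6, 8, 7, 5, 5, 7, 5]
def rw1709 : List ℕ := [5, 3, 6, 2, 7, 5, 3, 6, 2, 4, 6, 3, 7, 2, 4, 7, 7, 6]
def rw1710 : List ℕ := [5, 5, 8, 5, 5, 7, 4, 4, 9, 4, 4, 9, 4, 4, 9, 6, 8, 5, 5, 8]
def rw1711 : List ℕ := [5, 5, 6, 3, 6, 5, 6, 4, 6, 5, 7, 4, 7, 2, 7, 4, 4, 7, 3, 7, 2, 6]
def rw1712 : List ℕ := [5, 9, 2, 4, 2, 5, 8, 7, 2, 6, 9, 4, 3, 5, 3, 8, 4, 3, 3, 3, 2, 2]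
def rw1713 : List ℕ := [5, 9, 2, 4, 2, 5, 8, 7, 6, 6, 9, 4, 3, 5, 3, 8, 4, 3, 3, 7, 2, 2]
def rw1714 : List ℕ := [5, 6, 5, 6, 5, 6, 5, 9, 4, 7, 4, 7, 4, 7, 4, 7, 8, 6]
def rw1715 : List ℕ := [5, 5, 6, 3, 6, 5, 6, 4, 0, 5, 7, 4, 7, 2, 7, 4, 4, 7, 3, 1, 2, 6]
def rw1716 : List ℕ := [5, 7, 2, 6, 4, 6, 5, 7, 5, 3, 4, 6, 4, 7]
def rw1717 : List ℕ := [5, 5, 9, 4, 4, 9, 4, 4, 9, 4, 4, 9, 8, 8, 5, 5, 8, 5, 5, 8]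
def rw1718 : List ℕ := [5, 7, 3, 7, 7, 5, 4, 4, 6, 6, 2, 6, 4, 4, 3, 5, 2, 5]
def rw1719 : List ℕ := [5, 6, 4, 3, 4, 3, 4, 3, 7, 2, 5, 2, 5, 2]
def rw1720 : List ℕ := [5, 8, 8, 7, 7, 8, 5, 6, 6, 5, 5, 4, 4, 4, 7, 7, 4, 9, 6, 6, 9, 9]
def rw1721 : List ℕ := [5, 8, 5, 5, 8, 5, 5, 8, 5, 5, 4, 4, 4, 9, 4, 4, 9, 4, 4, 9]
def rw1722 : List ℕ := [5, 9, 2, 4, 2, 5, 8, 7, 7, 6, 9, 4, 3, 5, 3, 8, 4, 3, 3, 6, 2, 2]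
def rw1723 : List ℕ := [5, 6, 4, 6, 6, 6, 9, 7, 7, 7, 5, 7, 4, 7, 5, 8, 4, 6]
def rw1724 : List ℕ := [5, 3, 2, 2, 4, 6, 3, 7, 2, 4, 7, 3, 6, 5, 3, 6, 2, 7]
def rw1725 : List ℕ := [5, 5, 4, 6, 6, 2, 6, 4, 4, 3, 4, 2, 5, 5, 7, 3, 7, 7]
def rw1726 : List ℕ := [5, 5, 8, 4, 4, 6, 4, 4, 6, 9, 7, 5, 5, 7]
def rw1727 : List ℕ := [5, 8, 5, 5, 8, 5, 5, 2, 4, 4, 9, 4, 4, 9, 4, 4, 9, 3, 8, 5]
def rw1728 : List ℕ := [5, 5, 4, 2, 0, 3, 4, 1, 1, 4, 0, 0, 5, 2, 1, 3]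
def rw1729 : List ℕ := [5, 6, 4, 6, 6, 6, 6, 7, 7, 7, 5, 7, 4, 7, 5, 7, 4, 6]
def rw1730 : List ℕ := [5, 5, 4, 6, 4, 6, 4, 6, 4, 7, 5, 7, 5, 7]
def rw1731 : List ℕ := [5, 3, 4, 6, 4, 7, 5, 7, 2, 6, 4, 6, 5, 7]
def rw1732 : List ℕ := [5, 6, 4, 5, 5, 7, 4, 7, 2, 7, 4, 4, 7, 3, 4, 2, 6, 5, 5, 6, 3, 6]
def rw1733 : List ℕ := [5, 5, 5, 2, 5, 5, 5, 7, 4, 4, 4, 3, 4, 4, 4, 3, 6, 2]
def rw1734 : List ℕ := [5, 5, 5, 2, 5, 5, 5, 8, 4, 4, 4, 3, 4, 4, 4, 3, 9, 2]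
def rw1735 : List ℕ := [5, 7, 9, 6, 4, 6, 5, 7, 5, 8, 4, 6, 4, 7]
def rw1736 : List ℕ := [5, 8, 5, 5, 8, 5, 5, 7, 4, 4, 9, 4, 4, 9, 4, 4, 9, 6, 8, 5]
def rw1737 : List ℕ := [5, 5, 5, 4, 4, 9, 4, 4, 9, 4, 4, 9, 4, 8, 5, 5, 8, 5, 5, 8]
def rw1738 : List ℕ := [5, 7, 3, 7, 7, 5, 5, 4, 6, 6, 2, 6, 4, 4, 3, 4, 2, 5]
def rw1739 : List ℕ := [5, 7, 5, 5, 8, 4, 4, 6, 4, 4, 6, 9, 7, 5]
def rw1740 : List ℕ := [5, 7, 4, 7, 2, 7, 4, 4, 7, 3, 4, 2, 6, 5, 5, 6, 3, 6, 5, 6, 4, 5]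
def rw1741 : List ℕ := [5, 6, 4, 6, 6, 6, 0, 7, 7, 7, 5, 7, 4, 7, 5, 1, 4, 6]
def rw1742 : List ℕ := [5, 2, 1, 3, 5, 6, 4, 2, 0, 3, 4, 1, 1, 7, 0, 0]
def rw1743 : List ℕ := [5, 1, 4, 6, 5, 0, 4, 0, 4, 2, 1, 7, 0, 3, 5, 1]
def rw1744 : List ℕ := [5, 2, 1, 3, 5, 8, 4, 2, 0, 3, 4, 1, 1, 9, 0, 0]
def rw1745 : List ℕ := [5, 5, 7, 5, 5, 5, 4, 4, 6, 4, 4, 6, 4, 7]
def rw1746 : List ℕ := [5, 5, 8, 5, 5, 8, 5, 5, 6, 4, 4, 9, 4, 4, 9, 4, 4, 9, 7, 8]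
def rw1747 : List ℕ := [5, 7, 4, 7, 5, 5, 4, 6, 5, 6, 4, 6, 6, 6, 4, 7, 7, 7]
def rw1748 : List ℕ := [5, 5, 2, 5, 5, 5, 8, 4, 4, 4, 3, 4, 4, 4, 3, 9, 2, 5]
def rw1749 : List ℕ := [5, 5, 6, 3, 6, 5, 6, 4, 9, 5, 7, 4, 7, 2, 7, 4, 4, 7, 3, 8, 2, 6]
def rw1750 : List ℕ := [5, 2, 7, 3, 7, 7, 4, 4, 5, 6, 6, 2, 6, 3, 4, 3, 5, 2]
def rw1751 : List ℕ := [5, 3, 3, 3, 3, 2, 2, 2, 2, 2, 4, 3, 3, 3, 4, 3, 5, 2, 2, 2]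
def rw1752 : List ℕ := [5, 7, 5, 5, 9, 4, 4, 6, 4, 4, 6, 8, 7, 5]
def rw1753 : List ℕ := [5, 5, 8, 5, 5, 3, 4, 4, 9, 4, 4, 9, 4, 4, 9, 2, 8, 5, 5, 8]
def rw1754 : List ℕ := [5, 7, 5, 8, 4, 6, 4, 6, 4, 6, 9, 7, 5, 7]
def rw1755 : List ℕ := [5, 8, 5, 5, 9, 4, 4, 9, 4, 4, 9, 4, 4, 9, 8, 8, 5, 5, 8, 5]
def rw1756 : List ℕ := [5, 3, 8, 4, 3, 3, 2, 2, 2, 5, 9, 2, 4, 2, 5, 8, 7, 3, 6, 9, 4, 3]
def rw1757 : List ℕ := [5, 7, 3, 7, 7, 5, 9, 4, 6, 6, 2, 6, 4, 4, 3, 8, 2, 5]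
def rw1758 : List ℕ := [5, 7, 4, 7, 5, 9, 4, 6, 5, 6, 4, 6, 6, 6, 8, 7, 7, 7]
def rw1759 : List ℕ := [5, 6, 3, 6, 5, 6, 4, 1, 5, 7, 4, 7, 2, 7, 4, 4, 7, 3, 0, 2, 6, 5]
def rw1760 : List ℕ := [5, 2, 5, 2, 5, 2, 4, 3, 4, 3, 4, 3, 3, 2]
def rw1761 : List ℕ := [5, 6, 5, 6, 5, 0, 4, 7, 4, 7, 4, 7, 4, 7, 1, 6, 5, 6]
def rw1762 : List ℕ := [5, 5, 5, 0, 4, 4, 4, 3, 4, 4, 4, 3, 1, 2, 5, 5, 5, 2]
def rw1763 : List ℕ := [5, 9, 2, 4, 2, 5, 8, 7, 3, 6, 9, 4, 3, 5, 3, 8, 4, 3, 3, 2, 2, 2]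
def rw1764 : List ℕ := [5, 6, 5, 6, 5, 2, 4, 7, 4, 7, 4, 7, 4, 7, 3, 6, 5, 6]
def rw1765 : List ℕ := [5, 2, 2, 2, 5, 3, 3, 3, 3, 7, 2, 2, 2, 2, 4, 3, 3, 3, 4, 6]
def rw1766 : List ℕ := [5, 3, 3, 3, 3, 7, 2, 2, 2, 2, 4, 3, 3, 3, 4, 6, 5, 2, 2, 2]
def rw1767 : List ℕ := [5, 5, 8, 5, 5, 9, 4, 4, 9, 4, 4, 9, 4, 4, 9, 8, 8, 5, 5, 8]
def rw1768 : List ℕ := [5, 9, 2, 4, 2, 5, 8, 7, 8, 6, 9, 4, 3, 5, 3, 8, 4, 3, 3, 9, 2, 2]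
def rw1769 : List ℕ := [5, 3, 8, 4, 3, 3, 9, 2, 2, 5, 9, 2, 4, 2, 5, 8, 7, 8, 6, 9, 4, 3]
def rw1770 : List ℕ := [5, 5, 5, 4, 4, 7, 7, 4, 9, 6, 6, 9, 9, 4, 8, 8, 7, 7, 8, 5, 6, 6]
def rw1771 : List ℕ := [5, 8, 5, 5, 6, 4, 4, 9, 4, 4, 9, 4, 4, 9, 7, 8, 5, 5, 8, 5]
def rw1772 : List ℕ := [5, 2, 5, 5, 5, 0, 4, 4, 4, 3, 4, 4, 4, 3, 1, 2, 5, 5]
def rw1773 : List ℕ := [5, 6, 3, 6, 5, 6, 4, 2, 5, 7, 4, 7, 2, 7, 4, 4, 7, 3, 3, 2, 6, 5]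
def rw1774 : List ℕ := [5, 1, 5, 1, 4, 7, 5, 0, 4, 0, 4, 2, 1, 6, 0, 3]
def rw1775 : List ℕ := [5, 2, 7, 3, 7, 7, 4, 8, 5, 6, 6, 2, 6, 3, 4, 3, 9, 2]
def rw1776 : List ℕ := [5, 5, 8, 5, 5, 8, 5, 5, 4, 4, 4, 9, 4, 4, 9, 4, 4, 9, 5, 8]
def rw1777 : List ℕ := [5, 6, 3, 6, 5, 6, 4, 4, 5, 7, 4, 7, 2, 7, 4, 4, 7, 3, 5, 2, 6, 5]
def rw1778 : List ℕ := [5, 6, 5, 6, 5, 6, 5, 5, 4, 7, 4, 7, 4, 7, 4, 7, 4, 6]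
def rw1779 : List ℕ := [5, 9, 4, 3, 4, 3, 4, 3, 8, 2, 5, 2, 5, 2]
def rw1780 : List ℕ := [5, 3, 7, 2, 4, 6, 3, 7, 2, 4, 7, 6, 6, 5, 3, 6, 2, 7]
def rw1781 : List ℕ := [5, 8, 5, 5, 8, 5, 5, 8, 4, 4, 9, 4, 4, 9, 4, 4, 9, 9, 8, 5]
def rw1782 : List ℕ := [5, 2, 5, 2, 5, 8, 4, 3, 4, 3, 4, 3, 9, 2]
def rw1783 : List ℕ := [5, 8, 5, 5, 5, 4, 4, 9, 4, 4, 9, 4, 4, 9, 4, 8, 5, 5, 8, 5]
def rw1784 : List ℕ := [5, 3, 6, 2, 7, 5, 3, 9, 2, 4, 6, 3, 7, 2, 4, 7, 8, 6]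
def rw1785 : List ℕ := [5, 1, 3, 0, 4, 2, 6, 0, 4, 2, 6, 2, 7, 3, 5, 1, 7, 3]
def rw1786 : List ℕ := [5, 1, 5, 1, 4, 6, 5, 0, 4, 0, 4, 2, 1, 7, 0, 3]
def rw1787 : List ℕ := [5, 9, 4, 6, 5, 6, 4, 6, 6, 6, 8, 7, 7, 7, 5, 7, 4, 7]
def rw1788 : List ℕ := [5, 5, 1, 2, 1, 6, 0, 3, 0, 4, 4, 0, 3, 4, 7, 5, 2, 1]
def rw1789 : List ℕ := [5, 5, 9, 4, 4, 4, 3, 4, 4, 4, 3, 8, 2, 5, 5, 5, 2, 5]
def rw1790 : List ℕ := [5, 6, 5, 6, 5, 6, 5, 6, 4, 7, 4, 7, 4, 7, 4, 7, 7, 6]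
def rw1791 : List ℕ := [5, 6, 5, 6, 5, 6, 5, 0, 4, 7, 4, 7, 4, 7, 4, 7, 1, 6]
def rw1792 : List ℕ := [5, 5, 8, 5, 5, 4, 4, 4, 9, 4, 4, 9, 4, 4, 9, 5, 8, 5, 5, 8]
def rw1793 : List ℕ := [5, 8, 4, 4, 4, 3, 4, 4, 4, 3, 9, 2, 5, 5, 5, 2, 5, 5]
def rw1794 : List ℕ := [5, 3, 8, 4, 3, 3, 5, 2, 2, 5, 9, 2, 4, 2, 5, 8, 7, 4, 6, 9, 4, 3]
def rw1795 : List ℕ := [5, 3, 8, 2, 4, 6, 3, 7, 2, 4, 7, 9, 6, 5, 3, 6, 2, 7]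
def rw1796 : List ℕ := [5, 5, 7, 3, 7, 7, 5, 9, 4, 6, 6, 2, 6, 4, 4, 3, 8, 2]
def rw1797 : List ℕ := [5, 7, 5, 9, 4, 6, 4, 6, 4, 6, 8, 7, 5, 7]
def rw1798 : List ℕ := [5, 2, 2, 2, 5, 3, 3, 3, 3, 4, 2, 2, 2, 2, 4, 3, 3, 3, 4, 5]
def rw1799 : List ℕ := [5, 7, 4, 4, 4, 3, 4, 4, 4, 3, 6, 2, 5, 5, 5, 2, 5, 5]
def rw1800 : List ℕ := [5, 9, 4, 6, 4, 6, 4, 6, 8, 7, 5, 7, 5, 7]
def rw1801 : List ℕ := [5, 1, 2, 1, 9, 0, 3, 0, 4, 4, 0, 3, 4, 8, 5, 2, 1, 5]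
def rw1802 : List ℕ := [5, 7, 4, 4, 7, 7, 4, 9, 6, 6, 9, 9, 6, 8, 8, 7, 7, 8, 5, 6, 6, 5]
def rw1803 : List ℕ := [5, 6, 5, 2, 4, 7, 4, 7, 4, 7, 4, 7, 3, 6, 5, 6, 5, 6]
def rw1804 : List ℕ := [5, 8, 5, 5, 8, 5, 5, 9, 4, 4, 9, 4, 4, 9, 4, 4, 9, 8, 8, 5]
def rw1805 : List ℕ := [5, 5, 7, 3, 7, 7, 5, 8, 4, 6, 6, 2, 6, 4, 4, 3, 9, 2]
def rw1806 : List ℕ := [5, 5, 2, 5, 5, 5, 7, 4, 4, 4, 3, 4, 4, 4, 3, 6, 2, 5]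
def rw1807 : List ℕ := [5, 1, 4, 4, 4, 3, 4, 4, 4, 3, 0, 2, 5, 5, 5, 2, 5, 5]
def rw1808 : List ℕ := [5, 5, 7, 3, 7, 7, 5, 0, 4, 6, 6, 2, 6, 4, 4, 3, 1, 2]
def rw1809 : List ℕ := [5, 5, 2, 4, 4, 4, 1, 5, 3, 1, 3, 0, 2, 4, 0, 5]
def rw1810 : List ℕ := [5, 5, 5, 3, 4, 4, 4, 3, 4, 4, 4, 3, 2, 2, 5, 5, 5, 2]
def rw1811 : List ℕ := [5, 8, 7, 6, 6, 9, 4, 3, 5, 3, 8, 4, 3, 3, 7, 2, 2, 5, 9, 2, 4, 2]
def rw1812 : List ℕ := [5, 5, 8, 4, 4, 9, 4, 4, 9, 4, 4, 9, 9, 8, 5, 5, 8, 5, 5, 8]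
def rw1813 : List ℕ := [5, 8, 5, 5, 4, 4, 4, 9, 4, 4, 9, 4, 4, 9, 5, 8, 5, 5, 8, 5]
def rw1814 : List ℕ := [5, 3, 3, 3, 3, 9, 2, 2, 2, 2, 4, 3, 3, 3, 4, 8, 5, 2, 2, 2]
def rw1815 : List ℕ := [5, 1, 5, 0, 4, 2, 6, 0, 4, 2, 6, 4, 7, 3, 5, 1, 7, 3]
def rw1816 : List ℕ := [5, 7, 4, 7, 5, 0, 4, 6, 5, 6, 4, 6, 6, 6, 1, 7, 7, 7]
def rw1817 : List ℕ := [5, 2, 7, 3, 7, 7, 4, 1, 5, 6, 6, 2, 6, 3, 4, 3, 0, 2]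
def rw1818 : List ℕ := [5, 5, 2, 4, 4, 6, 4, 4, 6, 3, 7, 5, 5, 7]
def rw1819 : List ℕ := [5, 5, 6, 3, 6, 5, 6, 4, 8, 5, 7, 4, 7, 2, 7, 4, 4, 7, 3, 9, 2, 6]
def rw1820 : List ℕ := [5, 8, 5, 5, 8, 5, 5, 6, 4, 4, 9, 4, 4, 9, 4, 4, 9, 7, 8, 5]
def rw1821 : List ℕ := [5, 3, 4, 4, 9, 4, 4, 9, 4, 4, 9, 2, 8, 5, 5, 8, 5, 5, 8, 5]
def rw1822 : List ℕ := [5, 6, 6, 5, 5, 7, 4, 4, 7, 7, 4, 9, 6, 6, 9, 9, 6, 8, 8, 7, 7, 8]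
def rw1823 : List ℕ := [5, 8, 4, 6, 6, 2, 6, 4, 4, 3, 9, 2, 5, 5, 7, 3, 7, 7]
def rw1824 : List ℕ := [5, 3, 4, 6, 5, 6, 4, 6, 6, 6, 2, 7, 7, 7, 5, 7, 4, 7]
def rw1825 : List ℕ := [5, 1, 1, 0, 4, 2, 6, 0, 4, 2, 6, 0, 7, 3, 5, 1, 7, 3]
def rw1826 : List ℕ := [5, 7, 4, 4, 9, 4, 4, 9, 4, 4, 9, 6, 8, 5, 5, 8, 5, 5, 8, 5]
def rw1827 : List ℕ := [5, 7, 5, 7, 5, 1, 4, 6, 4, 6, 4, 6, 0, 7]
def rw1828 : List ℕ := [5, 6, 4, 0, 5, 7, 4, 7, 2, 7, 4, 4, 7, 3, 1, 2, 6, 5, 5, 6, 3, 6]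
def rw1829 : List ℕ := [5, 1, 4, 4, 6, 4, 4, 6, 0, 7, 5, 5, 7, 5]
def rw1830 : List ℕ := [5, 8, 5, 5, 8, 5, 5, 5, 4, 4, 9, 4, 4, 9, 4, 4, 9, 4, 8, 5]
def rw1831 : List ℕ := [5, 5, 7, 4, 4, 4, 3, 4, 4, 4, 3, 6, 2, 5, 5, 5, 2, 5]
def rw1832 : List ℕ := [5, 8, 4, 3, 4, 3, 4, 3, 9, 2, 5, 2, 5, 2]
def rw1833 : List ℕ := [5, 5, 1, 4, 4, 4, 3, 4, 4, 4, 3, 0, 2, 5, 5, 5, 2, 5]
def rw1834 : List ℕ := [5, 9, 2, 4, 2, 5, 8, 7, 5, 6, 9, 4, 3, 5, 3, 8, 4, 3, 3, 4, 2, 2]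
def rw1835 : List ℕ := [5, 3, 6, 2, 7, 5, 3, 4, 2, 4, 6, 3, 7, 2, 4, 7, 5, 6]
def rw1836 : List ℕ := [5, 8, 5, 5, 8, 4, 4, 9, 4, 4, 9, 4, 4, 9, 9, 8, 5, 5, 8, 5]
def rw1837 : List ℕ := [5, 7, 4, 6, 6, 2, 6, 4, 4, 3, 6, 2, 5, 5, 7, 3, 7, 7]
def rw1838 : List ℕ := [5, 5, 4, 6, 5, 6, 4, 6, 6, 6, 4, 7, 7, 7, 5, 7, 4, 7]
def rw1839 : List ℕ := [5, 6, 3, 6, 5, 6, 4, 0, 5, 7, 4, 7, 2, 7, 4, 4, 7, 3, 1, 2, 6, 5]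
def rw1840 : List ℕ := [5, 5, 5, 2, 5, 5, 5, 1, 4, 4, 4, 3, 4, 4, 4, 3, 0, 2]
def rw1841 : List ℕ := [5, 3, 6, 2, 7, 5, 3, 1, 2, 4, 6, 3, 7, 2, 4, 7, 0, 6]
def rw1842 : List ℕ := [5, 0, 4, 6, 4, 6, 4, 6, 1, 7, 5, 7, 5, 7]
def rw1843 : List ℕ := [5, 6, 5, 6, 5, 1, 4, 7, 4, 7, 4, 7, 4, 7, 0, 6, 5, 6]
def rw1844 : List ℕ := [5, 8, 5, 5, 2, 4, 4, 9, 4, 4, 9, 4, 4, 9, 3, 8, 5, 5, 8, 5]
def rw1845 : List ℕ := [5, 8, 4, 4, 6, 4, 4, 6, 9, 7, 5, 5, 7, 5]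
def rw1846 : List ℕ := [5, 9, 2, 4, 2, 5, 8, 7, 9, 6, 9, 4, 3, 5, 3, 8, 4, 3, 3, 8, 2, 2]
def rw1847 : List ℕ := [5, 6, 3, 6, 5, 6, 4, 8, 5, 7, 4, 7, 2, 7, 4, 4, 7, 3, 9, 2, 6, 5]
def rw1848 : List ℕ := [5, 7, 8, 6, 4, 6, 5, 7, 5, 9, 4, 6, 4, 7]
def rw1849 : List ℕ := [5, 3, 4, 7, 4, 7, 4, 7, 4, 7, 2, 6, 5, 6, 5, 6, 5, 6]
def rw1850 : List ℕ := [5, 6, 6, 5, 5, 2, 4, 4, 7, 7, 4, 9, 6, 6, 9, 9, 3, 8, 8, 7, 7, 8]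
def rw1851 : List ℕ := [5, 6, 5, 0, 4, 7, 4, 7, 4, 7, 4, 7, 1, 6, 5, 6, 5, 6]
def rw1852 : List ℕ := [5, 5, 7, 3, 7, 7, 5, 5, 4, 6, 6, 2, 6, 4, 4, 3, 4, 2]
def rw1853 : List ℕ := [5, 6, 4, 4, 9, 4, 4, 9, 4, 4, 9, 7, 8, 5, 5, 8, 5, 5, 8, 5]
def rw1854 : List ℕ := [5, 5, 9, 4, 4, 7, 7, 4, 9, 6, 6, 9, 9, 8, 8, 8, 7, 7, 8, 5, 6, 6]
def rw1855 : List ℕ := [5, 5, 8, 5, 5, 8, 5, 5, 3, 4, 4, 9, 4, 4, 9, 4, 4, 9, 2, 8]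
def rw1856 : List ℕ := [5, 2, 1, 3, 5, 9, 4, 2, 0, 3, 4, 1, 1, 8, 0, 0]
def rw1857 : List ℕ := [5, 5, 7, 4, 4, 7, 7, 4, 9, 6, 6, 9, 9, 6, 8, 8, 7, 7, 8, 5, 6, 6]
def rw1858 : List ℕ := [5, 8, 7, 2, 6, 9, 4, 3, 5, 3, 8, 4, 3, 3, 3, 2, 2, 5, 9, 2, 4, 2]
def rw1859 : List ℕ := [5, 2, 1, 5, 5, 1, 2, 1, 1, 0, 3, 0, 4, 4, 0, 3, 4, 0]
def rw1860 : List ℕ := [5, 0, 4, 0, 4, 2, 1, 6, 0, 3, 5, 1, 5, 1, 4, 7]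
def rw1861 : List ℕ := [5, 5, 6, 3, 6, 5, 6, 4, 2, 5, 7, 4, 7, 2, 7, 4, 4, 7, 3, 3, 2, 6]
def rw1862 : List ℕ := [5, 6, 4, 2, 0, 3, 4, 1, 1, 7, 0, 0, 5, 2, 1, 3]
def rw1863 : List ℕ := [5, 8, 7, 9, 6, 9, 4, 3, 5, 3, 8, 4, 3, 3, 8, 2, 2, 5, 9, 2, 4, 2]
def rw1864 : List ℕ := [5, 5, 8, 5, 5, 2, 4, 4, 9, 4, 4, 9, 4, 4, 9, 3, 8, 5, 5, 8]
def rw1865 : List ℕ := [5, 9, 4, 4, 9, 4, 4, 9, 4, 4, 9, 8, 8, 5, 5, 8, 5, 5, 8, 5]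
def rw1866 : List ℕ := [5, 3, 4, 6, 4, 6, 4, 6, 2, 7, 5, 7, 5, 7]
def rw1867 : List ℕ := [5, 7, 5, 8, 4, 6, 4, 7, 5, 7, 9, 6, 4, 6]
def rw1868 : List ℕ := [5, 7, 4, 7, 5, 6, 4, 6, 5, 6, 4, 6, 6, 6, 7, 7, 7, 7]
def rw1869 : List ℕ := [5, 6, 4, 6, 6, 6, 7, 7, 7, 7, 5, 7, 4, 7, 5, 6, 4, 6]
def rw1870 : List ℕ := [5, 1, 7, 3, 5, 1, 2, 0, 4, 2, 6, 0, 4, 2, 6, 3, 7, 3]
def rw1871 : List ℕ := [5, 5, 5, 6, 4, 4, 4, 1, 5, 3, 1, 7, 0, 2, 4, 0]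
def rw1872 : List ℕ := [5, 7, 4, 7, 5, 2, 4, 6, 5, 6, 4, 6, 6, 6, 3, 7, 7, 7]
def rw1873 : List ℕ := [5, 7, 5, 2, 4, 6, 4, 6, 4, 6, 3, 7, 5, 7]
def rw1874 : List ℕ := [5, 5, 2, 5, 5, 5, 9, 4, 4, 4, 3, 4, 4, 4, 3, 8, 2, 5]
def rw1875 : List ℕ := [5, 2, 2, 2, 5, 3, 3, 3, 3, 8, 2, 2, 2, 2, 4, 3, 3, 3, 4, 9]
def rw1876 : List ℕ := [5, 7, 4, 7, 5, 3, 4, 6, 5, 6, 4, 6, 6, 6, 2, 7, 7, 7]
def rw1877 : List ℕ := [5, 2, 5, 2, 5, 4, 4, 3, 4, 3, 4, 3, 5, 2]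
def rw1878 : List ℕ := [5, 2, 4, 4, 9, 4, 4, 9, 4, 4, 9, 3, 8, 5, 5, 8, 5, 5, 8, 5]
def rw1879 : List ℕ := [5, 2, 4, 6, 4, 6, 4, 6, 3, 7, 5, 7, 5, 7]
def rw1880 : List ℕ := [5, 1, 2, 1, 8, 0, 3, 0, 4, 4, 0, 3, 4, 9, 5, 2, 1, 5]
def rw1881 : List ℕ := [5, 7, 5, 7, 5, 0, 4, 6, 4, 6, 4, 6, 1, 7]
def rw1882 : List ℕ := [5, 5, 3, 4, 4, 9, 4, 4, 9, 4, 4, 9, 2, 8, 5, 5, 8, 5, 5, 8]
def rw1883 : List ℕ := [5, 2, 1, 5, 5, 1, 2, 1, 4, 0, 3, 0, 4, 4, 0, 3, 4, 5]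
def rw1884 : List ℕ := [5, 2, 1, 5, 5, 1, 2, 1, 3, 0, 3, 0, 4, 4, 0, 3, 4, 2]
def rw1885 : List ℕ := [5, 7, 5, 7, 5, 8, 4, 6, 4, 6, 4, 6, 9, 7]
def rw1886 : List ℕ := [5, 6, 4, 4, 7, 7, 4, 9, 6, 6, 9, 9, 7, 8, 8, 7, 7, 8, 5, 6, 6, 5]
def rw1887 : List ℕ := [5, 6, 5, 6, 5, 6, 5, 7, 4, 7, 4, 7, 4, 7, 4, 7, 6, 6]
def rw1888 : List ℕ := [5, 7, 4, 7, 2, 7, 4, 4, 7, 3, 1, 2, 6, 5, 5, 6, 3, 6, 5, 6, 4, 0]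
def rw1889 : List ℕ := [5, 1, 7, 3, 5, 1, 4, 0, 4, 2, 6, 0, 4, 2, 6, 5, 7, 3]
def rw1890 : List ℕ := [5, 5, 7, 4, 4, 4, 1, 5, 3, 1, 6, 0, 2, 4, 0, 5]
def rw1891 : List ℕ := [5, 6, 6, 5, 5, 1, 4, 4, 7, 7, 4, 9, 6, 6, 9, 9, 0, 8, 8, 7, 7, 8]
def rw1892 : List ℕ := [5, 7, 5, 1, 4, 6, 4, 6, 4, 6, 0, 7, 5, 7]
def rw1893 : List ℕ := [5, 5, 5, 6, 4, 4, 4, 3, 4, 4, 4, 3, 7, 2, 5, 5, 5, 2]
def rw1894 : List ℕ := [5, 7, 4, 2, 0, 3, 4, 1, 1, 6, 0, 0, 5, 2, 1, 3]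
def rw1895 : List ℕ := [5, 3, 1, 2, 4, 6, 3, 7, 2, 4, 7, 0, 6, 5, 3, 6, 2, 7]
def rw1896 : List ℕ := [5, 7, 4, 7, 5, 1, 4, 6, 5, 6, 4, 6, 6, 6, 0, 7, 7, 7]
def rw1897 : List ℕ := [5, 7, 4, 7, 2, 7, 4, 4, 7, 3, 7, 2, 6, 5, 5, 6, 3, 6, 5, 6, 4, 6]
def rw1898 : List ℕ := [5, 3, 6, 2, 7, 5, 3, 0, 2, 4, 6, 3, 7, 2, 4, 7, 1, 6]
def rw1899 : List ℕ := [5, 2, 4, 7, 4, 7, 4, 7, 4, 7, 3, 6, 5, 6, 5, 6, 5, 6]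
def rw1900 : List ℕ := [5, 1, 5, 1, 4, 8, 5, 0, 4, 0, 4, 2, 1, 9, 0, 3]
def rw1901 : List ℕ := [5, 1, 4, 8, 5, 0, 4, 0, 4, 2, 1, 9, 0, 3, 5, 1]
def rw1902 : List ℕ := [5, 5, 1, 4, 4, 6, 4, 4, 6, 0, 7, 5, 5, 7]
def rw1903 : List ℕ := [5, 5, 6, 3, 6, 5, 6, 4, 1, 5, 7, 4, 7, 2, 7, 4, 4, 7, 3, 0, 2, 6]
def rw1904 : List ℕ := [5, 3, 8, 4, 3, 3, 1, 2, 2, 5, 9, 2, 4, 2, 5, 8, 7, 0, 6, 9, 4, 3]
def rw1905 : List ℕ := [5, 7, 3, 7, 7, 5, 1, 4, 6, 6, 2, 6, 4, 4, 3, 0, 2, 5]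
def rw1906 : List ℕ := [5, 2, 2, 2, 5, 3, 3, 3, 3, 9, 2, 2, 2, 2, 4, 3, 3, 3, 4, 8]
def rw1907 : List ℕ := [5, 6, 5, 9, 4, 7, 4, 7, 4, 7, 4, 7, 8, 6, 5, 6, 5, 6]
def rw1908 : List ℕ := [5, 6, 5, 8, 4, 7, 4, 7, 4, 7, 4, 7, 9, 6, 5, 6, 5, 6]
def rw1909 : List ℕ := [5, 3, 5, 2, 4, 6, 3, 7, 2, 4, 7, 4, 6, 5, 3, 6, 2, 7]
def rw1910 : List ℕ := [5, 3, 4, 4, 7, 7, 4, 9, 6, 6, 9, 9, 2, 8, 8, 7, 7, 8, 5, 6, 6, 5]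
def rw1911 : List ℕ := [5, 6, 6, 2, 6, 3, 4, 3, 9, 2, 5, 2, 7, 3, 7, 7, 4, 8]
def rw1912 : List ℕ := [5, 6, 6, 5, 5, 3, 4, 4, 7, 7, 4, 9, 6, 6, 9, 9, 2, 8, 8, 7, 7, 8]
def rw1913 : List ℕ := [5, 5, 8, 5, 5, 8, 4, 4, 9, 4, 4, 9, 4, 4, 9, 9, 8, 5, 5, 8]
def rw1914 : List ℕ := [5, 1, 5, 1, 4, 9, 5, 0, 4, 0, 4, 2, 1, 8, 0, 3]
def rw1915 : List ℕ := [5, 7, 4, 7, 2, 7, 4, 4, 7, 3, 9, 2, 6, 5, 5, 6, 3, 6, 5, 6, 4, 8]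
def rw1916 : List ℕ := [5, 8, 4, 6, 4, 7, 5, 7, 9, 6, 4, 6, 5, 7]
def rw1917 : List ℕ := [5, 6, 6, 5, 5, 4, 4, 4, 7, 7, 4, 9, 6, 6, 9, 9, 5, 8, 8, 7, 7, 8]
def rw1918 : List ℕ := [5, 9, 0, 3, 0, 9, 9, 9, 0, 3, 1, 4, 0, 2, 1, 8, 8, 8, 1, 2, 1, 8, 4, 5]
def rw1919 : List ℕ := [5, 5, 2, 4, 4, 7, 7, 4, 9, 6, 6, 9, 9, 3, 8, 8, 7, 7, 8, 5, 6, 6]
def rw1920 : List ℕ := [5, 5, 7, 3, 7, 7, 5, 1, 4, 6, 6, 2, 6, 4, 4, 3, 0, 2]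
def rw1921 : List ℕ := [5, 6, 6, 2, 6, 3, 4, 3, 1, 2, 5, 2, 7, 3, 7, 7, 4, 0]
def rw1922 : List ℕ := [5, 2, 7, 3, 7, 7, 4, 0, 5, 6, 6, 2, 6, 3, 4, 3, 1, 2]
def rw1923 : List ℕ := [5, 3, 6, 2, 7, 5, 3, 8, 2, 4, 6, 3, 7, 2, 4, 7, 9, 6]
def rw1924 : List ℕ := [6, 6, 2, 6, 3, 4, 3, 2, 2, 5, 2, 7, 3, 7, 7, 4, 3, 5]
def rw1925 : List ℕ := [6, 5, 7, 5, 6, 4]
def rw1926 : List ℕ := [6, 4, 7, 5, 7, 4]
def rw1927 : List ℕ := [6, 5, 4, 4, 7, 4, 7, 4, 7, 4, 7, 5, 6, 5, 6, 5, 6, 5]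
def rw1928 : List ℕ := [6, 5, 5, 6, 4, 4, 7, 7, 4, 9, 6, 6, 9, 9, 7, 8, 8, 7, 7, 8, 5, 6]
def rw1929 : List ℕ := [6, 6, 5, 5, 7, 4, 4, 7, 7, 4, 9, 6, 6, 9, 9, 6, 8, 8, 7, 7, 8, 5]
def rw1930 : List ℕ := [6, 2, 6, 3, 4, 3, 2, 2, 5, 2, 7, 3, 7, 7, 4, 3, 5, 6]
def rw1931 : List ℕ := [6, 6, 6, 2, 6, 6, 6, 6, 7, 7, 7, 3, 7, 7, 7, 3, 7, 2]
def rw1932 : List ℕ := [6, 5, 6, 4, 6, 6, 6, 2, 7, 7, 7, 5, 7, 4, 7, 5, 3, 4]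
def rw1933 : List ℕ := [6, 6, 2, 6, 6, 6, 6, 7, 7, 7, 3, 7, 7, 7, 3, 7, 2, 6]
def rw1934 : List ℕ := [6, 2, 7, 5, 3, 2, 2, 4, 6, 3, 7, 2, 4, 7, 3, 6, 5, 3]
def rw1935 : List ℕ := [6, 3, 6, 5, 6, 4, 8, 5, 7, 4, 7, 2, 7, 4, 4, 7, 3, 9, 2, 6, 5, 5]
def rw1936 : List ℕ := [6, 3, 4, 3, 5, 2, 5, 2, 7, 3, 7, 7, 4, 4, 5, 6, 6, 2]
def rw1937 : List ℕ := [6, 6, 6, 2, 6, 6, 6, 3, 7, 7, 7, 3, 7, 7, 7, 3, 2, 2]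
def rw1938 : List ℕ := [6, 6, 2, 6, 6, 6, 3, 7, 7, 7, 3, 7, 7, 7, 3, 2, 2, 6]
def rw1939 : List ℕ := [6, 5, 5, 6, 3, 6, 5, 6, 4, 3, 5, 7, 4, 7, 2, 7, 4, 4, 7, 3, 2, 2]
def rw1940 : List ℕ := [6, 4, 4, 3, 7, 2, 5, 5, 7, 3, 7, 7, 5, 6, 4, 6, 6, 2]
def rw1941 : List ℕ := [6, 5, 6, 4, 6, 6, 6, 6, 7, 7, 7, 5, 7, 4, 7, 5, 7, 4]
def rw1942 : List ℕ := [6, 5, 3, 6, 2, 7, 5, 3, 2, 2, 4, 6, 3, 7, 2, 4, 7, 3]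
def rw1943 : List ℕ := [6, 6, 6, 2, 6, 6, 6, 7, 7, 7, 7, 3, 7, 7, 7, 3, 6, 2]
def rw1944 : List ℕ := [6, 4, 4, 6, 5, 7, 5, 5, 7, 5, 5, 4, 4, 4]
def rw1945 : List ℕ := [6, 5, 7, 5, 4, 4, 6, 4, 7, 5, 7, 5, 6, 4]
def rw1946 : List ℕ := [6, 4, 4, 3, 2, 2, 5, 5, 7, 3, 7, 7, 5, 3, 4, 6, 6, 2]
def rw1947 : List ℕ := [6, 2, 6, 6, 6, 6, 7, 7, 7, 3, 7, 7, 7, 3, 7, 2, 6, 6]
def rw1948 : List ℕ := [6, 9, 9, 3, 8, 8, 7, 7, 8, 5, 6, 6, 5, 5, 2, 4, 4, 7, 7, 4, 9, 6]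
def rw1949 : List ℕ := [6, 2, 6, 6, 6, 2, 7, 7, 7, 3, 7, 7, 7, 3, 3, 2, 6, 6]
def rw1950 : List ℕ := [6, 4, 6, 6, 6, 5, 7, 7, 7, 5, 7, 4, 7, 5, 4, 4, 6, 5]
def rw1951 : List ℕ := [6, 5, 6, 5, 5, 4, 7, 4, 7, 4, 7, 4, 7, 4, 6, 5, 6, 5]
def rw1952 : List ℕ := [6, 3, 6, 5, 6, 4, 3, 5, 7, 4, 7, 2, 7, 4, 4, 7, 3, 2, 2, 6, 5, 5]
def rw1953 : List ℕ := [6, 6, 6, 3, 7, 7, 7, 3, 7, 7, 7, 3, 2, 2, 6, 6, 6, 2]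
def rw1954 : List ℕ := [6, 5, 5, 4, 7, 4, 7, 4, 7, 4, 7, 4, 6, 5, 6, 5, 6, 5]
def rw1955 : List ℕ := [6, 6, 6, 6, 7, 7, 7, 3, 7, 7, 7, 3, 7, 2, 6, 6, 6, 2]
def rw1956 : List ℕ := [6, 2, 7, 7, 7, 3, 7, 7, 7, 3, 3, 2, 6, 6, 6, 2, 6, 6]
def rw1957 : List ℕ := [6, 4, 6, 5, 7, 5, 7, 4, 6, 4, 7, 5, 7, 6]
def rw1958 : List ℕ := [6, 4, 6, 5, 7, 5]
def rw1959 : List ℕ := [6, 5, 2, 4, 7, 4, 7, 4, 7, 4, 7, 3, 6, 5, 6, 5, 6, 5]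
def rw1960 : List ℕ := [6, 6, 6, 6, 6, 6, 6]
def rw1961 : List ℕ := [6, 3, 4, 3, 4, 2, 5, 2, 7, 3, 7, 7, 4, 5, 5, 6, 6, 2]
def rw1962 : List ℕ := [6, 5, 6, 4, 6, 6, 6, 7, 7, 7, 7, 5, 7, 4, 7, 5, 6, 4]
def rw1963 : List ℕ := [6, 2, 7, 5, 3, 5, 2, 4, 6, 3, 7, 2, 4, 7, 4, 6, 5, 3]
def rw1964 : List ℕ := [6, 6, 2, 6, 3, 4, 3, 3, 2, 5, 2, 7, 3, 7, 7, 4, 2, 5]
def rw1965 : List ℕ := [6, 6, 2, 7, 7, 7, 3, 7, 7, 7, 3, 3, 2, 6, 6, 6, 2, 6]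
def rw1966 : List ℕ := [6, 3, 4, 3, 2, 2, 5, 2, 7, 3, 7, 7, 4, 3, 5, 6, 6, 2]
def rw1967 : List ℕ := [6, 6, 6, 2, 7, 7, 7, 3, 7, 7, 7, 3, 3, 2, 6, 6, 6, 2]
def rw1968 : List ℕ := [6, 9, 7, 9, 6, 8]
def rw1969 : List ℕ := [6, 8, 8, 7, 7, 8, 5, 6, 6, 5, 5, 7, 4, 4, 7, 7, 4, 9, 6, 6, 9, 9]
def rw1970 : List ℕ := [6, 6, 2, 6, 3, 4, 3, 1, 2, 5, 2, 7, 3, 7, 7, 4, 0, 5]
def rw1971 : List ℕ := [6, 0, 4, 2, 6, 2, 7, 3, 5, 1, 7, 3, 5, 1, 3, 0, 4, 2]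
def rw1972 : List ℕ := [6, 6, 6, 4, 7, 7, 7, 5, 7, 4, 7, 5, 5, 4, 6, 5, 6, 4]
def rw1973 : List ℕ := [6, 2, 6, 3, 4, 3, 6, 2, 5, 2, 7, 3, 7, 7, 4, 7, 5, 6]
def rw1974 : List ℕ := [6, 5, 6, 5, 6, 5, 5, 4, 7, 4, 7, 4, 7, 4, 7, 4, 6, 5]
def rw1975 : List ℕ := [6, 3, 4, 3, 6, 2, 5, 2, 7, 3, 7, 7, 4, 7, 5, 6, 6, 2]
def rw1976 : List ℕ := [6, 5, 6, 4, 2, 5, 7, 4, 7, 2, 7, 4, 4, 7, 3, 3, 2, 6, 5, 5, 6, 3]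
def rw1977 : List ℕ := [6, 6, 6, 6, 6, 6, 6]
def rw1978 : List ℕ := [6, 5, 5, 6, 3, 6, 5, 6, 4, 6, 5, 7, 4, 7, 2, 7, 4, 4, 7, 3, 7, 2]
def rw1979 : List ℕ := [6, 3, 6, 5, 6, 4, 7, 5, 7, 4, 7, 2, 7, 4, 4, 7, 3, 6, 2, 6, 5, 5]
def rw1980 : List ℕ := [6, 4, 6, 5, 7, 5, 3, 4, 6, 4, 7, 5, 7, 2]
def rw1981 : List ℕ := [6, 6, 6, 6, 6, 6, 6]
def rw1982 : List ℕ := [6, 5, 6, 5, 4, 4, 7, 4, 7, 4, 7, 4, 7, 5, 6, 5, 6, 5]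
def rw1983 : List ℕ := [6, 4, 2, 5, 7, 4, 7, 2, 7, 4, 4, 7, 3, 3, 2, 6, 5, 5, 6, 3, 6, 5]
def rw1984 : List ℕ := [6, 6, 6, 6, 6, 6, 6]
def rw1985 : List ℕ := [6, 6, 6, 6, 6, 6, 6]
def rw1986 : List ℕ := [6, 9, 6, 9, 6, 9, 8, 8, 7, 8, 7, 8, 7, 8, 7, 9, 6, 9]
def rw1987 : List ℕ := [6, 9, 9, 5, 8, 8, 7, 7, 8, 5, 6, 6, 5, 5, 4, 4, 4, 7, 7, 4, 9, 6]
def rw1988 : List ℕ := [6, 6, 2, 6, 3, 4, 3, 5, 2, 5, 2, 7, 3, 7, 7, 4, 4, 5]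
def rw1989 : List ℕ := [6, 5, 7, 5, 3, 4, 6, 4, 7, 5, 7, 2, 6, 4]
def rw1990 : List ℕ := [6, 8, 6, 9, 7, 9]
def rw1991 : List ℕ := [6, 5, 7, 5, 7, 4, 6, 4, 7, 5, 7, 6, 6, 4]
def rw1992 : List ℕ := [6, 3, 7, 2, 4, 7, 3, 6, 5, 3, 6, 2, 7, 5, 3, 2, 2, 4]
def rw1993 : List ℕ := [6, 6, 9, 9, 6, 8, 8, 7, 7, 8, 5, 6, 6, 5, 5, 7, 4, 4, 7, 7, 4, 9]
def rw1994 : List ℕ := [6, 6, 2, 6, 6, 6, 8, 7, 7, 7, 3, 7, 7, 7, 3, 9, 2, 6]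
def rw1995 : List ℕ := [6, 9, 6, 9, 2, 8, 7, 8, 7, 8, 7, 8, 7, 3, 6, 9, 6, 9]
def rw1996 : List ℕ := [6, 6, 4, 7, 7, 7, 5, 7, 4, 7, 5, 5, 4, 6, 5, 6, 4, 6]
def rw1997 : List ℕ := [6, 4, 6, 5, 7, 4, 7, 2, 7, 4, 4, 7, 3, 7, 2, 6, 5, 5, 6, 3, 6, 5]
def rw1998 : List ℕ := [6, 4, 6, 5, 7, 5, 4, 4, 6, 4, 7, 5, 7, 5]
def rw1999 : List ℕ := [6, 9, 6, 9, 8, 8, 7, 8, 7, 8, 7, 8, 7, 9, 6, 9, 6, 9]
def rw2000 : List ℕ := [6, 3, 7, 2, 4, 7, 6, 6, 5, 3, 6, 2, 7, 5, 3, 7, 2, 4]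
def rw2001 : List ℕ := [6, 8, 7, 9, 7, 8]
def rw2002 : List ℕ := [6, 3, 6, 5, 6, 4, 4, 5, 7, 4, 7, 2, 7, 4, 4, 7, 3, 5, 2, 6, 5, 5]
def rw2003 : List ℕ := [6, 4, 4, 6, 6, 7, 5, 5, 7, 5, 5, 7, 4, 4]
def rw2004 : List ℕ := [6, 3, 6, 5, 6, 4, 5, 5, 7, 4, 7, 2, 7, 4, 4, 7, 3, 4, 2, 6, 5, 5]
def rw2005 : List ℕ := [6, 6, 6, 6, 6, 6, 6]
def rw2006 : List ℕ := [6, 9, 6, 9, 6, 9, 5, 8, 7, 8, 7, 8, 7, 8, 7, 4, 6, 9]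
def rw2007 : List ℕ := [6, 2, 6, 3, 4, 3, 1, 2, 5, 2, 7, 3, 7, 7, 4, 0, 5, 6]
def rw2008 : List ℕ := [6, 5, 6, 5, 6, 5, 8, 4, 7, 4, 7, 4, 7, 4, 7, 9, 6, 5]
def rw2009 : List ℕ := [6, 5, 7, 7, 7, 5, 7, 4, 7, 5, 4, 4, 6, 5, 6, 4, 6, 6]
def rw2010 : List ℕ := [6, 6, 6, 2, 6, 6, 6, 4, 7, 7, 7, 3, 7, 7, 7, 3, 5, 2]
def rw2011 : List ℕ := [6, 9, 6, 9, 6, 9, 7, 8, 7, 8, 7, 8, 7, 8, 7, 6, 6, 9]
def rw2012 : List ℕ := [6, 6, 9, 9, 4, 8, 8, 7, 7, 8, 5, 6, 6, 5, 5, 5, 4, 4, 7, 7, 4, 9]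
def rw2013 : List ℕ := [6, 6, 9, 9, 3, 8, 8, 7, 7, 8, 5, 6, 6, 5, 5, 2, 4, 4, 7, 7, 4, 9]
def rw2014 : List ℕ := [6, 8, 7, 8, 7, 8, 7, 8, 7, 7, 6, 9, 6, 9, 6, 9, 6, 9]
def rw2015 : List ℕ := [6, 9, 9, 6, 8, 8, 7, 7, 8, 5, 6, 6, 5, 5, 7, 4, 4, 7, 7, 4, 9, 6]
def rw2016 : List ℕ := [6, 6, 7, 5, 5, 7, 5, 5, 7, 4, 4, 6, 4, 4]
def rw2017 : List ℕ := [6, 4, 4, 6, 4, 7, 5, 5, 7, 5, 5, 5, 4, 4]
def rw2018 : List ℕ := [6, 2, 6, 6, 6, 8, 7, 7, 7, 3, 7, 7, 7, 3, 9, 2, 6, 6]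
def rw2019 : List ℕ := [6, 9, 5, 8, 7, 8, 7, 8, 7, 8, 7, 4, 6, 9, 6, 9, 6, 9]
def rw2020 : List ℕ := [6, 0, 4, 2, 6, 4, 7, 3, 5, 1, 7, 3, 5, 1, 5, 0, 4, 2]
def rw2021 : List ℕ := [6, 2, 6, 3, 4, 3, 3, 2, 5, 2, 7, 3, 7, 7, 4, 2, 5, 6]
def rw2022 : List ℕ := [6, 6, 9, 9, 7, 8, 8, 7, 7, 8, 5, 6, 6, 5, 5, 6, 4, 4, 7, 7, 4, 9]
def rw2023 : List ℕ := [6, 6, 5, 5, 8, 4, 4, 7, 7, 4, 9, 6, 6, 9, 9, 9, 8, 8, 7, 7, 8, 5]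
def rw2024 : List ℕ := [6, 9, 9, 4, 8, 8, 7, 7, 8, 5, 6, 6, 5, 5, 5, 4, 4, 7, 7, 4, 9, 6]
def rw2025 : List ℕ := [6, 5, 6, 5, 9, 4, 7, 4, 7, 4, 7, 4, 7, 8, 6, 5, 6, 5]
def rw2026 : List ℕ := [6, 4, 6, 3, 7, 5, 7, 5, 7, 5, 2, 4, 6, 4]
def rw2027 : List ℕ := [6, 0, 4, 2, 6, 3, 7, 3, 5, 1, 7, 3, 5, 1, 2, 0, 4, 2]
def rw2028 : List ℕ := [6, 5, 7, 5, 5, 4, 6, 4, 7, 5, 7, 4, 6, 4]
def rw2029 : List ℕ := [6, 4, 4, 3, 5, 2, 5, 5, 7, 3, 7, 7, 5, 4, 4, 6, 6, 2]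
def rw2030 : List ℕ := [6, 5, 6, 4, 3, 5, 7, 4, 7, 2, 7, 4, 4, 7, 3, 2, 2, 6, 5, 5, 6, 3]
def rw2031 : List ℕ := [6, 6, 5, 7, 7, 7, 5, 7, 4, 7, 5, 4, 4, 6, 5, 6, 4, 6]
def rw2032 : List ℕ := [6, 5, 5, 6, 3, 6, 5, 6, 4, 5, 5, 7, 4, 7, 2, 7, 4, 4, 7, 3, 4, 2]
def rw2033 : List ℕ := [6, 0, 4, 2, 6, 6, 7, 3, 5, 1, 7, 3, 5, 1, 7, 0, 4, 2]
def rw2034 : List ℕ := [6, 2, 6, 4, 4, 3, 0, 2, 5, 5, 7, 3, 7, 7, 5, 1, 4, 6]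
def rw2035 : List ℕ := [6, 5, 5, 7, 4, 4, 7, 7, 4, 9, 6, 6, 9, 9, 6, 8, 8, 7, 7, 8, 5, 6]
def rw2036 : List ℕ := [6, 6, 2, 6, 3, 4, 3, 0, 2, 5, 2, 7, 3, 7, 7, 4, 1, 5]
def rw2037 : List ℕ := [6, 0, 4, 2, 6, 7, 7, 3, 5, 1, 7, 3, 5, 1, 6, 0, 4, 2]
def rw2038 : List ℕ := [6, 2, 6, 3, 4, 3, 0, 2, 5, 2, 7, 3, 7, 7, 4, 1, 5, 6]
def rw2039 : List ℕ := [6, 3, 4, 3, 1, 2, 5, 2, 7, 3, 7, 7, 4, 0, 5, 6, 6, 2]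
def rw2040 : List ℕ := [6, 4, 7, 7, 7, 5, 7, 4, 7, 5, 5, 4, 6, 5, 6, 4, 6, 6]
def rw2041 : List ℕ := [6, 6, 1, 7, 7, 7, 3, 7, 7, 7, 3, 0, 2, 6, 6, 6, 2, 6]
def rw2042 : List ℕ := [6, 0, 4, 2, 6, 5, 7, 3, 5, 1, 7, 3, 5, 1, 4, 0, 4, 2]
def rw2043 : List ℕ := [6, 3, 4, 3, 3, 2, 5, 2, 7, 3, 7, 7, 4, 2, 5, 6, 6, 2]
def rw2044 : List ℕ := [6, 4, 4, 3, 3, 2, 5, 5, 7, 3, 7, 7, 5, 2, 4, 6, 6, 2]
def rw2045 : List ℕ := [6, 2, 7, 5, 3, 7, 2, 4, 6, 3, 7, 2, 4, 7, 6, 6, 5, 3]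
def rw2046 : List ℕ := [6, 4, 6, 4, 6, 3, 7, 5, 7, 5, 7, 5, 2, 4]
def rw2047 : List ℕ := [6, 2, 7, 5, 5, 7, 5, 5, 3, 4, 4, 6, 4, 4]
def rw2048 : List ℕ := [6, 4, 7, 7, 7, 3, 7, 7, 7, 3, 5, 2, 6, 6, 6, 2, 6, 6]
def rw2049 : List ℕ := [6, 0, 4, 2, 6, 1, 7, 3, 5, 1, 7, 3, 5, 1, 0, 0, 4, 2]
def rw2050 : List ℕ := [6, 2, 6, 4, 4, 3, 2, 2, 5, 5, 7, 3, 7, 7, 5, 3, 4, 6]
def rw2051 : List ℕ := [6, 4, 6, 2, 7, 5, 7, 5, 7, 5, 3, 4, 6, 4]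
def rw2052 : List ℕ := [6, 3, 7, 2, 4, 7, 4, 6, 5, 3, 6, 2, 7, 5, 3, 5, 2, 4]
def rw2053 : List ℕ := [6, 2, 6, 4, 4, 3, 3, 2, 5, 5, 7, 3, 7, 7, 5, 2, 4, 6]
def rw2054 : List ℕ := [6, 3, 7, 5, 5, 7, 5, 5, 2, 4, 4, 6, 4, 4]
def rw2055 : List ℕ := [6, 5, 6, 4, 6, 5, 7, 4, 7, 2, 7, 4, 4, 7, 3, 7, 2, 6, 5, 5, 6, 3]
def rw2056 : List ℕ := [6, 4, 6, 4, 7, 5, 7, 5, 7, 5, 5, 4, 6, 4]
def rw2057 : List ℕ := [6, 4, 6, 6, 6, 6, 7, 7, 7, 5, 7, 4, 7, 5, 7, 4, 6, 5]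
def rw2058 : List ℕ := [6, 4, 6, 4, 6, 4, 7, 5, 7, 5, 7, 5, 5, 4]
def rw2059 : List ℕ := [6, 2, 7, 5, 7, 5, 7, 5, 3, 4, 6, 4, 6, 4]
def rw2060 : List ℕ := [6, 4, 4, 6, 7, 7, 5, 5, 7, 5, 5, 6, 4, 4]
def rw2061 : List ℕ := [6, 6, 2, 6, 3, 4, 3, 4, 2, 5, 2, 7, 3, 7, 7, 4, 5, 5]
def rw2062 : List ℕ := [6, 3, 6, 5, 6, 4, 2, 5, 7, 4, 7, 2, 7, 4, 4, 7, 3, 3, 2, 6, 5, 5]
def rw2063 : List ℕ := [6, 9, 6, 9, 6, 8, 7, 8, 7, 8, 7, 8, 7, 7, 6, 9, 6, 9]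
def rw2064 : List ℕ := [6, 0, 7, 3, 5, 1, 7, 3, 5, 1, 1, 0, 4, 2, 6, 0, 4, 2]
def rw2065 : List ℕ := [6, 3, 4, 3, 0, 2, 5, 2, 7, 3, 7, 7, 4, 1, 5, 6, 6, 2]
def rw2066 : List ℕ := [6, 4, 6, 6, 6, 4, 7, 7, 7, 5, 7, 4, 7, 5, 5, 4, 6, 5]
def rw2067 : List ℕ := [6, 3, 7, 2, 4, 7, 1, 6, 5, 3, 6, 2, 7, 5, 3, 0, 2, 4]
def rw2068 : List ℕ := [6, 3, 7, 2, 4, 7, 2, 6, 5, 3, 6, 2, 7, 5, 3, 3, 2, 4]
def rw2069 : List ℕ := [6, 5, 3, 6, 2, 7, 5, 3, 3, 2, 4, 6, 3, 7, 2, 4, 7, 2]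
def rw2070 : List ℕ := [6, 9, 6, 9, 6, 9, 6, 8, 7, 8, 7, 8, 7, 8, 7, 7, 6, 9]
def rw2071 : List ℕ := [6, 2, 7, 5, 3, 1, 2, 4, 6, 3, 7, 2, 4, 7, 0, 6, 5, 3]
def rw2072 : List ℕ := [6, 2, 6, 6, 6, 7, 7, 7, 7, 3, 7, 7, 7, 3, 6, 2, 6, 6]
def rw2073 : List ℕ := [6, 6, 6, 0, 7, 7, 7, 5, 7, 4, 7, 5, 1, 4, 6, 5, 6, 4]
def rw2074 : List ℕ := [6, 2, 6, 3, 4, 3, 4, 2, 5, 2, 7, 3, 7, 7, 4, 5, 5, 6]
def rw2075 : List ℕ := [6, 5, 6, 4, 1, 5, 7, 4, 7, 2, 7, 4, 4, 7, 3, 0, 2, 6, 5, 5, 6, 3]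
def rw2076 : List ℕ := [6, 2, 6, 4, 4, 3, 1, 2, 5, 5, 7, 3, 7, 7, 5, 0, 4, 6]
def rw2077 : List ℕ := [6, 1, 7, 7, 7, 3, 7, 7, 7, 3, 0, 2, 6, 6, 6, 2, 6, 6]
def rw2078 : List ℕ := [6, 6, 6, 4, 7, 7, 7, 3, 7, 7, 7, 3, 5, 2, 6, 6, 6, 2]
def rw2079 : List ℕ := [6, 3, 4, 3, 7, 2, 5, 2, 7, 3, 7, 7, 4, 6, 5, 6, 6, 2]
def rw2080 : List ℕ := [6, 4, 7, 5, 7, 4, 7, 2, 7, 4, 4, 7, 3, 6, 2, 6, 5, 5, 6, 3, 6, 5]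
def rw2081 : List ℕ := [6, 4, 4, 3, 1, 2, 5, 5, 7, 3, 7, 7, 5, 0, 4, 6, 6, 2]
def rw2082 : List ℕ := [6, 2, 7, 5, 3, 3, 2, 4, 6, 3, 7, 2, 4, 7, 2, 6, 5, 3]
def rw2083 : List ℕ := [6, 6, 6, 2, 6, 6, 6, 0, 7, 7, 7, 3, 7, 7, 7, 3, 1, 2]
def rw2084 : List ℕ := [6, 4, 4, 6, 1, 7, 5, 5, 7, 5, 5, 0, 4, 4]
def rw2085 : List ℕ := [6, 5, 3, 4, 7, 4, 7, 4, 7, 4, 7, 2, 6, 5, 6, 5, 6, 5]
def rw2086 : List ℕ := [6, 6, 5, 7, 7, 7, 3, 7, 7, 7, 3, 4, 2, 6, 6, 6, 2, 6]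
def rw2087 : List ℕ := [6, 3, 6, 5, 6, 4, 0, 5, 7, 4, 7, 2, 7, 4, 4, 7, 3, 1, 2, 6, 5, 5]
def rw2088 : List ℕ := [6, 6, 6, 2, 7, 7, 7, 5, 7, 4, 7, 5, 3, 4, 6, 5, 6, 4]
def rw2089 : List ℕ := [6, 3, 7, 2, 4, 7, 0, 6, 5, 3, 6, 2, 7, 5, 3, 1, 2, 4]
def rw2090 : List ℕ := [6, 4, 4, 6, 2, 7, 5, 5, 7, 5, 5, 3, 4, 4]
def rw2091 : List ℕ := [6, 4, 4, 6, 9, 7, 5, 5, 7, 5, 5, 8, 4, 4]
def rw2092 : List ℕ := [6, 0, 4, 2, 6, 0, 7, 3, 5, 1, 7, 3, 5, 1, 1, 0, 4, 2]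
def rw2093 : List ℕ := [6, 6, 0, 7, 7, 7, 5, 7, 4, 7, 5, 1, 4, 6, 5, 6, 4, 6]
def rw2094 : List ℕ := [6, 6, 9, 9, 2, 8, 8, 7, 7, 8, 5, 6, 6, 5, 5, 3, 4, 4, 7, 7, 4, 9]
def rw2095 : List ℕ := [6, 5, 6, 5, 6, 5, 3, 4, 7, 4, 7, 4, 7, 4, 7, 2, 6, 5]
def rw2096 : List ℕ := [6, 5, 6, 4, 6, 6, 6, 4, 7, 7, 7, 5, 7, 4, 7, 5, 5, 4]
def rw2097 : List ℕ := [6, 2, 7, 5, 3, 9, 2, 4, 6, 3, 7, 2, 4, 7, 8, 6, 5, 3]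
def rw2098 : List ℕ := [6, 2, 6, 6, 6, 5, 7, 7, 7, 3, 7, 7, 7, 3, 4, 2, 6, 6]
def rw2099 : List ℕ := [6, 3, 7, 2, 4, 7, 7, 6, 5, 3, 6, 2, 7, 5, 3, 6, 2, 4]
def rw2100 : List ℕ := [6, 0, 7, 5, 5, 7, 5, 5, 1, 4, 4, 6, 4, 4]
def rw2101 : List ℕ := [6, 6, 2, 6, 6, 6, 5, 7, 7, 7, 3, 7, 7, 7, 3, 4, 2, 6]
def rw2102 : List ℕ := [6, 3, 7, 5, 7, 5, 7, 5, 2, 4, 6, 4, 6, 4]
def rw2103 : List ℕ := [6, 6, 2, 6, 4, 4, 3, 5, 2, 5, 5, 7, 3, 7, 7, 5, 4, 4]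
def rw2104 : List ℕ := [6, 2, 6, 6, 6, 3, 7, 7, 7, 3, 7, 7, 7, 3, 2, 2, 6, 6]
def rw2105 : List ℕ := [6, 6, 2, 6, 6, 6, 7, 7, 7, 7, 3, 7, 7, 7, 3, 6, 2, 6]
def rw2106 : List ℕ := [6, 5, 6, 4, 4, 5, 7, 4, 7, 2, 7, 4, 4, 7, 3, 5, 2, 6, 5, 5, 6, 3]
def rw2107 : List ℕ := [6, 6, 6, 3, 7, 7, 7, 5, 7, 4, 7, 5, 2, 4, 6, 5, 6, 4]
def rw2108 : List ℕ := [6, 5, 6, 5, 6, 5, 6, 5, 4, 4, 7, 4, 7, 4, 7, 4, 7, 5]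
def rw2109 : List ℕ := [6, 9, 2, 8, 7, 8, 7, 8, 7, 8, 7, 3, 6, 9, 6, 9, 6, 9]
def rw2110 : List ℕ := [6, 2, 6, 4, 4, 3, 4, 2, 5, 5, 7, 3, 7, 7, 5, 5, 4, 6]
def rw2111 : List ℕ := [6, 5, 7, 5, 5, 7, 5, 5, 4, 4, 4, 6, 4, 4]
def rw2112 : List ℕ := [6, 9, 9, 2, 8, 8, 7, 7, 8, 5, 6, 6, 5, 5, 3, 4, 4, 7, 7, 4, 9, 6]
def rw2113 : List ℕ := [6, 5, 6, 4, 6, 6, 6, 9, 7, 7, 7, 5, 7, 4, 7, 5, 8, 4]
def rw2114 : List ℕ := [6, 9, 6, 8, 7, 8, 7, 8, 7, 8, 7, 7, 6, 9, 6, 9, 6, 9]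
def rw2115 : List ℕ := [6, 4, 6, 1, 7, 5, 7, 5, 7, 5, 0, 4, 6, 4]
def rw2116 : List ℕ := [6, 9, 9, 9, 8, 8, 7, 7, 8, 5, 6, 6, 5, 5, 8, 4, 4, 7, 7, 4, 9, 6]
def rw2117 : List ℕ := [6, 9, 6, 9, 4, 8, 7, 8, 7, 8, 7, 8, 7, 5, 6, 9, 6, 9]
def rw2118 : List ℕ := [6, 6, 9, 9, 8, 8, 8, 7, 7, 8, 5, 6, 6, 5, 5, 9, 4, 4, 7, 7, 4, 9]
def rw2119 : List ℕ := [6, 2, 6, 4, 4, 3, 6, 2, 5, 5, 7, 3, 7, 7, 5, 7, 4, 6]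
def rw2120 : List ℕ := [6, 4, 3, 5, 7, 4, 7, 2, 7, 4, 4, 7, 3, 2, 2, 6, 5, 5, 6, 3, 6, 5]
def rw2121 : List ℕ := [6, 6, 4, 7, 7, 7, 3, 7, 7, 7, 3, 5, 2, 6, 6, 6, 2, 6]
def rw2122 : List ℕ := [6, 2, 7, 5, 3, 0, 2, 4, 6, 3, 7, 2, 4, 7, 1, 6, 5, 3]
def rw2123 : List ℕ := [6, 6, 2, 6, 4, 4, 3, 2, 2, 5, 5, 7, 3, 7, 7, 5, 3, 4]
def rw2124 : List ℕ := [6, 2, 6, 6, 6, 4, 7, 7, 7, 3, 7, 7, 7, 3, 5, 2, 6, 6]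
def rw2125 : List ℕ := [6, 9, 9, 7, 8, 8, 7, 7, 8, 5, 6, 6, 5, 5, 6, 4, 4, 7, 7, 4, 9, 6]
def rw2126 : List ℕ := [6, 4, 6, 6, 6, 2, 7, 7, 7, 5, 7, 4, 7, 5, 3, 4, 6, 5]
def rw2127 : List ℕ := [6, 8, 7, 7, 7, 5, 7, 4, 7, 5, 9, 4, 6, 5, 6, 4, 6, 6]
def rw2128 : List ℕ := [6, 2, 7, 5, 3, 6, 2, 4, 6, 3, 7, 2, 4, 7, 7, 6, 5, 3]
def rw2129 : List ℕ := [6, 5, 3, 6, 2, 7, 5, 3, 5, 2, 4, 6, 3, 7, 2, 4, 7, 4]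
def rw2130 : List ℕ := [6, 3, 7, 2, 4, 7, 8, 6, 5, 3, 6, 2, 7, 5, 3, 9, 2, 4]
def rw2131 : List ℕ := [6, 5, 7, 5, 2, 4, 6, 4, 7, 5, 7, 3, 6, 4]
def rw2132 : List ℕ := [6, 2, 6, 3, 4, 3, 5, 2, 5, 2, 7, 3, 7, 7, 4, 4, 5, 6]
def rw2133 : List ℕ := [6, 9, 7, 8, 7, 8, 7, 8, 7, 8, 7, 6, 6, 9, 6, 9, 6, 9]
def rw2134 : List ℕ := [6, 4, 6, 6, 6, 9, 7, 7, 7, 5, 7, 4, 7, 5, 8, 4, 6, 5]
def rw2135 : List ℕ := [6, 9, 6, 9, 5, 8, 7, 8, 7, 8, 7, 8, 7, 4, 6, 9, 6, 9]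
def rw2136 : List ℕ := [6, 4, 7, 5, 7, 6, 6, 4, 6, 5, 7, 5, 7, 4]
def rw2137 : List ℕ := [6, 4, 4, 6, 3, 7, 5, 5, 7, 5, 5, 2, 4, 4]
def rw2138 : List ℕ := [6, 5, 6, 5, 3, 4, 7, 4, 7, 4, 7, 4, 7, 2, 6, 5, 6, 5]
def rw2139 : List ℕ := [6, 4, 7, 5, 7, 5, 6, 4, 6, 5, 7, 5, 4, 4]
def rw2140 : List ℕ := [6, 6, 5, 5, 2, 4, 4, 7, 7, 4, 9, 6, 6, 9, 9, 3, 8, 8, 7, 7, 8, 5]
def rw2141 : List ℕ := [6, 4, 4, 3, 6, 2, 5, 5, 7, 3, 7, 7, 5, 7, 4, 6, 6, 2]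
def rw2142 : List ℕ := [6, 6, 5, 5, 6, 4, 4, 7, 7, 4, 9, 6, 6, 9, 9, 7, 8, 8, 7, 7, 8, 5]
def rw2143 : List ℕ := [6, 4, 4, 6, 8, 7, 5, 5, 7, 5, 5, 9, 4, 4]
def rw2144 : List ℕ := [6, 9, 4, 3, 5, 3, 8, 4, 3, 3, 4, 2, 2, 5, 9, 2, 4, 2, 5, 8, 7, 5]
def rw2145 : List ℕ := [6, 3, 7, 7, 7, 5, 7, 4, 7, 5, 2, 4, 6, 5, 6, 4, 6, 6]
def rw2146 : List ℕ := [6, 3, 7, 2, 4, 7, 9, 6, 5, 3, 6, 2, 7, 5, 3, 8, 2, 4]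
def rw2147 : List ℕ := [6, 5, 6, 5, 1, 4, 7, 4, 7, 4, 7, 4, 7, 0, 6, 5, 6, 5]
def rw2148 : List ℕ := [6, 4, 6, 4, 6, 0, 7, 5, 7, 5, 7, 5, 1, 4]
def rw2149 : List ℕ := [6, 5, 5, 6, 3, 6, 5, 6, 4, 0, 5, 7, 4, 7, 2, 7, 4, 4, 7, 3, 1, 2]
def rw2150 : List ℕ := [6, 4, 7, 5, 7, 5, 7, 5, 5, 4, 6, 4, 6, 4]
def rw2151 : List ℕ := [6, 4, 6, 6, 6, 3, 7, 7, 7, 5, 7, 4, 7, 5, 2, 4, 6, 5]
def rw2152 : List ℕ := [6, 9, 9, 8, 8, 8, 7, 7, 8, 5, 6, 6, 5, 5, 9, 4, 4, 7, 7, 4, 9, 6]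
def rw2153 : List ℕ := [6, 6, 9, 9, 9, 8, 8, 7, 7, 8, 5, 6, 6, 5, 5, 8, 4, 4, 7, 7, 4, 9]
def rw2154 : List ℕ := [6, 5, 6, 4, 9, 5, 7, 4, 7, 2, 7, 4, 4, 7, 3, 8, 2, 6, 5, 5, 6, 3]
def rw2155 : List ℕ := [6, 6, 6, 9, 7, 7, 7, 3, 7, 7, 7, 3, 8, 2, 6, 6, 6, 2]
def rw2156 : List ℕ := [6, 4, 4, 6, 0, 7, 5, 5, 7, 5, 5, 1, 4, 4]
def rw2157 : List ℕ := [6, 6, 2, 6, 4, 4, 3, 7, 2, 5, 5, 7, 3, 7, 7, 5, 6, 4]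
def rw2158 : List ℕ := [6, 6, 2, 6, 4, 4, 3, 3, 2, 5, 5, 7, 3, 7, 7, 5, 2, 4]
def rw2159 : List ℕ := [6, 5, 6, 5, 6, 5, 6, 5, 2, 4, 7, 4, 7, 4, 7, 4, 7, 3]
def rw2160 : List ℕ := [6, 4, 6, 6, 6, 7, 7, 7, 7, 5, 7, 4, 7, 5, 6, 4, 6, 5]
def rw2161 : List ℕ := [6, 9, 3, 8, 7, 8, 7, 8, 7, 8, 7, 2, 6, 9, 6, 9, 6, 9]
def rw2162 : List ℕ := [6, 6, 6, 1, 7, 7, 7, 5, 7, 4, 7, 5, 0, 4, 6, 5, 6, 4]
def rw2163 : List ℕ := [6, 4, 4, 3, 4, 2, 5, 5, 7, 3, 7, 7, 5, 5, 4, 6, 6, 2]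
def rw2164 : List ℕ := [6, 3, 4, 3, 9, 2, 5, 2, 7, 3, 7, 7, 4, 8, 5, 6, 6, 2]
def rw2165 : List ℕ := [6, 5, 6, 4, 8, 5, 7, 4, 7, 2, 7, 4, 4, 7, 3, 9, 2, 6, 5, 5, 6, 3]
def rw2166 : List ℕ := [6, 5, 5, 6, 3, 6, 5, 6, 4, 7, 5, 7, 4, 7, 2, 7, 4, 4, 7, 3, 6, 2]
def rw2167 : List ℕ := [6, 9, 6, 9, 7, 8, 7, 8, 7, 8, 7, 8, 7, 6, 6, 9, 6, 9]
def rw2168 : List ℕ := [6, 9, 6, 9, 6, 9, 2, 8, 7, 8, 7, 8, 7, 8, 7, 3, 6, 9]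
def rw2169 : List ℕ := [6, 6, 9, 9, 5, 8, 8, 7, 7, 8, 5, 6, 6, 5, 5, 4, 4, 4, 7, 7, 4, 9]
def rw2170 : List ℕ := [6, 4, 6, 4, 6, 2, 7, 5, 7, 5, 7, 5, 3, 4]
def rw2171 : List ℕ := [6, 5, 5, 5, 4, 4, 7, 7, 4, 9, 6, 6, 9, 9, 4, 8, 8, 7, 7, 8, 5, 6]
def rw2172 : List ℕ := [6, 5, 6, 5, 2, 4, 7, 4, 7, 4, 7, 4, 7, 3, 6, 5, 6, 5]
def rw2173 : List ℕ := [6, 9, 6, 9, 6, 9, 6, 9, 7, 8, 7, 8, 7, 8, 7, 8, 7, 6]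
def rw2174 : List ℕ := [6, 9, 4, 3, 5, 3, 8, 4, 3, 3, 3, 2, 2, 5, 9, 2, 4, 2, 5, 8, 7, 2]
def rw2175 : List ℕ := [6, 4, 6, 6, 6, 0, 7, 7, 7, 5, 7, 4, 7, 5, 1, 4, 6, 5]
def rw2176 : List ℕ := [6, 3, 6, 5, 6, 4, 6, 5, 7, 4, 7, 2, 7, 4, 4, 7, 3, 7, 2, 6, 5, 5]
def rw2177 : List ℕ := [6, 5, 9, 4, 7, 4, 7, 4, 7, 4, 7, 8, 6, 5, 6, 5, 6, 5]
def rw2178 : List ℕ := [6, 5, 6, 4, 5, 5, 7, 4, 7, 2, 7, 4, 4, 7, 3, 4, 2, 6, 5, 5, 6, 3]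
def rw2179 : List ℕ := [6, 4, 6, 6, 6, 8, 7, 7, 7, 5, 7, 4, 7, 5, 9, 4, 6, 5]
def rw2180 : List ℕ := [6, 4, 4, 3, 9, 2, 5, 5, 7, 3, 7, 7, 5, 8, 4, 6, 6, 2]
def rw2181 : List ℕ := [6, 6, 6, 8, 7, 7, 7, 3, 7, 7, 7, 3, 9, 2, 6, 6, 6, 2]
def rw2182 : List ℕ := [6, 9, 6, 9, 3, 8, 7, 8, 7, 8, 7, 8, 7, 2, 6, 9, 6, 9]
def rw2183 : List ℕ := [6, 5, 6, 4, 6, 6, 6, 8, 7, 7, 7, 5, 7, 4, 7, 5, 9, 4]
def rw2184 : List ℕ := [6, 5, 3, 6, 2, 7, 5, 3, 4, 2, 4, 6, 3, 7, 2, 4, 7, 5]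
def rw2185 : List ℕ := [6, 4, 7, 5, 7, 2, 6, 4, 6, 5, 7, 5, 3, 4]
def rw2186 : List ℕ := [6, 5, 5, 6, 3, 6, 5, 6, 4, 4, 5, 7, 4, 7, 2, 7, 4, 4, 7, 3, 5, 2]
def rw2187 : List ℕ := [6, 6, 6, 5, 7, 7, 7, 3, 7, 7, 7, 3, 4, 2, 6, 6, 6, 2]
def rw2188 : List ℕ := [6, 6, 2, 6, 6, 6, 9, 7, 7, 7, 3, 7, 7, 7, 3, 8, 2, 6]
def rw2189 : List ℕ := [6, 2, 6, 3, 4, 3, 9, 2, 5, 2, 7, 3, 7, 7, 4, 8, 5, 6]
def rw2190 : List ℕ := [6, 3, 6, 5, 6, 4, 9, 5, 7, 4, 7, 2, 7, 4, 4, 7, 3, 8, 2, 6, 5, 5]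
def rw2191 : List ℕ := [6, 3, 7, 2, 4, 7, 5, 6, 5, 3, 6, 2, 7, 5, 3, 4, 2, 4]
def rw2192 : List ℕ := [6, 2, 7, 5, 3, 8, 2, 4, 6, 3, 7, 2, 4, 7, 9, 6, 5, 3]
def rw2193 : List ℕ := [6, 4, 6, 9, 7, 5, 7, 5, 7, 5, 8, 4, 6, 4]
def rw2194 : List ℕ := [6, 5, 5, 6, 3, 6, 5, 6, 4, 1, 5, 7, 4, 7, 2, 7, 4, 4, 7, 3, 0, 2]
def rw2195 : List ℕ := [6, 2, 6, 4, 4, 3, 5, 2, 5, 5, 7, 3, 7, 7, 5, 4, 4, 6]
def rw2196 : List ℕ := [6, 5, 6, 5, 6, 5, 0, 4, 7, 4, 7, 4, 7, 4, 7, 1, 6, 5]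
def rw2197 : List ℕ := [6, 5, 0, 4, 7, 4, 7, 4, 7, 4, 7, 1, 6, 5, 6, 5, 6, 5]
def rw2198 : List ℕ := [6, 4, 4, 7, 7, 4, 9, 6, 6, 9, 9, 7, 8, 8, 7, 7, 8, 5, 6, 6, 5, 5]
def rw2199 : List ℕ := [6, 4, 4, 5, 7, 4, 7, 2, 7, 4, 4, 7, 3, 5, 2, 6, 5, 5, 6, 3, 6, 5]
def rw2200 : List ℕ := [6, 5, 3, 6, 2, 7, 5, 3, 7, 2, 4, 6, 3, 7, 2, 4, 7, 6]
def rw2201 : List ℕ := [6, 2, 6, 3, 4, 3, 7, 2, 5, 2, 7, 3, 7, 7, 4, 6, 5, 6]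
def rw2202 : List ℕ := [6, 9, 6, 9, 6, 9, 6, 9, 9, 8, 7, 8, 7, 8, 7, 8, 7, 8]
def rw2203 : List ℕ := [6, 5, 6, 5, 6, 5, 1, 4, 7, 4, 7, 4, 7, 4, 7, 0, 6, 5]
def rw2204 : List ℕ := [6, 9, 8, 8, 7, 8, 7, 8, 7, 8, 7, 9, 6, 9, 6, 9, 6, 9]
def rw2205 : List ℕ := [6, 6, 2, 6, 4, 4, 3, 1, 2, 5, 5, 7, 3, 7, 7, 5, 0, 4]
def rw2206 : List ℕ := [6, 6, 5, 5, 9, 4, 4, 7, 7, 4, 9, 6, 6, 9, 9, 8, 8, 8, 7, 7, 8, 5]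
def rw2207 : List ℕ := [6, 6, 2, 6, 6, 6, 4, 7, 7, 7, 3, 7, 7, 7, 3, 5, 2, 6]
def rw2208 : List ℕ := [6, 5, 8, 4, 7, 4, 7, 4, 7, 4, 7, 9, 6, 5, 6, 5, 6, 5]
def rw2209 : List ℕ := [6, 8, 7, 5, 5, 7, 5, 5, 9, 4, 4, 6, 4, 4]
def rw2210 : List ℕ := [6, 9, 7, 7, 7, 3, 7, 7, 7, 3, 8, 2, 6, 6, 6, 2, 6, 6]
def rw2211 : List ℕ := [6, 4, 6, 8, 7, 5, 7, 5, 7, 5, 9, 4, 6, 4]
def rw2212 : List ℕ := [6, 9, 4, 8, 7, 8, 7, 8, 7, 8, 7, 5, 6, 9, 6, 9, 6, 9]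
def rw2213 : List ℕ := [6, 2, 6, 6, 6, 9, 7, 7, 7, 3, 7, 7, 7, 3, 8, 2, 6, 6]
def rw2214 : List ℕ := [6, 9, 4, 3, 5, 3, 8, 4, 3, 3, 2, 2, 2, 5, 9, 2, 4, 2, 5, 8, 7, 3]
def rw2215 : List ℕ := [6, 5, 6, 5, 0, 4, 7, 4, 7, 4, 7, 4, 7, 1, 6, 5, 6, 5]
def rw2216 : List ℕ := [6, 6, 1, 7, 7, 7, 5, 7, 4, 7, 5, 0, 4, 6, 5, 6, 4, 6]
def rw2217 : List ℕ := [6, 6, 2, 6, 4, 4, 3, 9, 2, 5, 5, 7, 3, 7, 7, 5, 8, 4]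
def rw2218 : List ℕ := [6, 4, 7, 5, 5, 7, 5, 5, 5, 4, 4, 6, 4, 4]
def rw2219 : List ℕ := [6, 6, 5, 5, 3, 4, 4, 7, 7, 4, 9, 6, 6, 9, 9, 2, 8, 8, 7, 7, 8, 5]
def rw2220 : List ℕ := [6, 4, 4, 3, 8, 2, 5, 5, 7, 3, 7, 7, 5, 9, 4, 6, 6, 2]
def rw2221 : List ℕ := [6, 2, 7, 5, 3, 4, 2, 4, 6, 3, 7, 2, 4, 7, 5, 6, 5, 3]
def rw2222 : List ℕ := [6, 0, 4, 2, 6, 9, 7, 3, 5, 1, 7, 3, 5, 1, 8, 0, 4, 2]
def rw2223 : List ℕ := [6, 6, 6, 2, 6, 6, 6, 9, 7, 7, 7, 3, 7, 7, 7, 3, 8, 2]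
def rw2224 : List ℕ := [6, 5, 7, 5, 0, 4, 6, 4, 7, 5, 7, 1, 6, 4]
def rw2225 : List ℕ := [6, 6, 6, 6, 7, 7, 7, 5, 7, 4, 7, 5, 7, 4, 6, 5, 6, 4]
def rw2226 : List ℕ := [6, 2, 6, 4, 4, 3, 9, 2, 5, 5, 7, 3, 7, 7, 5, 8, 4, 6]
def rw2227 : List ℕ := [6, 5, 6, 5, 6, 5, 9, 4, 7, 4, 7, 4, 7, 4, 7, 8, 6, 5]
def rw2228 : List ℕ := [6, 8, 5, 5, 8, 5, 5, 8, 5, 5, 7, 4, 4, 9, 4, 4, 9, 4, 4, 9]
def rw2229 : List ℕ := [6, 2, 7, 7, 7, 5, 7, 4, 7, 5, 3, 4, 6, 5, 6, 4, 6, 6]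
def rw2230 : List ℕ := [6, 6, 2, 6, 6, 6, 2, 7, 7, 7, 3, 7, 7, 7, 3, 3, 2, 6]
def rw2231 : List ℕ := [6, 5, 6, 5, 6, 5, 4, 4, 7, 4, 7, 4, 7, 4, 7, 5, 6, 5]
def rw2232 : List ℕ := [6, 4, 6, 4, 6, 9, 7, 5, 7, 5, 7, 5, 8, 4]
def rw2233 : List ℕ := [6, 5, 5, 6, 3, 6, 5, 6, 4, 2, 5, 7, 4, 7, 2, 7, 4, 4, 7, 3, 3, 2]
def rw2234 : List ℕ := [6, 4, 6, 6, 6, 1, 7, 7, 7, 5, 7, 4, 7, 5, 0, 4, 6, 5]
def rw2235 : List ℕ := [6, 5, 6, 4, 6, 6, 6, 3, 7, 7, 7, 5, 7, 4, 7, 5, 2, 4]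
def rw2236 : List ℕ := [6, 5, 6, 4, 6, 6, 6, 5, 7, 7, 7, 5, 7, 4, 7, 5, 4, 4]
def rw2237 : List ℕ := [6, 5, 7, 5, 9, 4, 6, 4, 7, 5, 7, 8, 6, 4]
def rw2238 : List ℕ := [6, 6, 6, 0, 7, 7, 7, 3, 7, 7, 7, 3, 1, 2, 6, 6, 6, 2]
def rw2239 : List ℕ := [6, 5, 6, 4, 0, 5, 7, 4, 7, 2, 7, 4, 4, 7, 3, 1, 2, 6, 5, 5, 6, 3]
def rw2240 : List ℕ := [6, 9, 7, 5, 7, 5, 7, 5, 8, 4, 6, 4, 6, 4]
def rw2241 : List ℕ := [6, 5, 5, 2, 4, 4, 7, 7, 4, 9, 6, 6, 9, 9, 3, 8, 8, 7, 7, 8, 5, 6]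
def rw2242 : List ℕ := [6, 4, 5, 5, 7, 4, 7, 2, 7, 4, 4, 7, 3, 4, 2, 6, 5, 5, 6, 3, 6, 5]
def rw2243 : List ℕ := [6, 8, 7, 5, 7, 5, 7, 5, 9, 4, 6, 4, 6, 4]
def rw2244 : List ℕ := [6, 6, 6, 2, 6, 6, 6, 5, 7, 7, 7, 3, 7, 7, 7, 3, 4, 2]
def rw2245 : List ℕ := [6, 4, 6, 0, 7, 5, 7, 5, 7, 5, 1, 4, 6, 4]
def rw2246 : List ℕ := [6, 2, 6, 6, 6, 0, 7, 7, 7, 3, 7, 7, 7, 3, 1, 2, 6, 6]
def rw2247 : List ℕ := [6, 5, 7, 5, 1, 4, 6, 4, 7, 5, 7, 0, 6, 4]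
def rw2248 : List ℕ := [6, 1, 7, 7, 7, 5, 7, 4, 7, 5, 0, 4, 6, 5, 6, 4, 6, 6]
def rw2249 : List ℕ := [6, 6, 9, 9, 0, 8, 8, 7, 7, 8, 5, 6, 6, 5, 5, 1, 4, 4, 7, 7, 4, 9]
def rw2250 : List ℕ := [6, 6, 7, 3, 5, 1, 7, 3, 5, 1, 7, 0, 4, 2, 6, 0, 4, 2]
def rw2251 : List ℕ := [6, 6, 2, 7, 7, 7, 5, 7, 4, 7, 5, 3, 4, 6, 5, 6, 4, 6]
def rw2252 : List ℕ := [6, 4, 4, 3, 0, 2, 5, 5, 7, 3, 7, 7, 5, 1, 4, 6, 6, 2]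
def rw2253 : List ℕ := [6, 5, 6, 5, 6, 5, 6, 5, 3, 4, 7, 4, 7, 4, 7, 4, 7, 2]
def rw2254 : List ℕ := [6, 5, 5, 9, 4, 4, 7, 7, 4, 9, 6, 6, 9, 9, 8, 8, 8, 7, 7, 8, 5, 6]
def rw2255 : List ℕ := [6, 4, 8, 5, 7, 4, 7, 2, 7, 4, 4, 7, 3, 9, 2, 6, 5, 5, 6, 3, 6, 5]
def rw2256 : List ℕ := [6, 6, 2, 6, 3, 4, 3, 6, 2, 5, 2, 7, 3, 7, 7, 4, 7, 5]
def rw2257 : List ℕ := [6, 2, 6, 3, 4, 3, 8, 2, 5, 2, 7, 3, 7, 7, 4, 9, 5, 6]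
def rw2258 : List ℕ := [6, 3, 4, 3, 8, 2, 5, 2, 7, 3, 7, 7, 4, 9, 5, 6, 6, 2]
def rw2259 : List ℕ := [6, 6, 8, 7, 7, 7, 3, 7, 7, 7, 3, 9, 2, 6, 6, 6, 2, 6]
def rw2260 : List ℕ := [6, 5, 6, 4, 7, 5, 7, 4, 7, 2, 7, 4, 4, 7, 3, 6, 2, 6, 5, 5, 6, 3]
def rw2261 : List ℕ := [6, 6, 3, 7, 7, 7, 5, 7, 4, 7, 5, 2, 4, 6, 5, 6, 4, 6]
def rw2262 : List ℕ := [6, 4, 6, 5, 7, 5, 2, 4, 6, 4, 7, 5, 7, 3]
def rw2263 : List ℕ := [6, 2, 6, 4, 4, 3, 8, 2, 5, 5, 7, 3, 7, 7, 5, 9, 4, 6]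
def rw2264 : List ℕ := [6, 9, 4, 3, 5, 3, 8, 4, 3, 3, 1, 2, 2, 5, 9, 2, 4, 2, 5, 8, 7, 0]
def rw2265 : List ℕ := [6, 6, 5, 5, 5, 4, 4, 7, 7, 4, 9, 6, 6, 9, 9, 4, 8, 8, 7, 7, 8, 5]
def rw2266 : List ℕ := [6, 6, 2, 6, 3, 4, 3, 7, 2, 5, 2, 7, 3, 7, 7, 4, 6, 5]
def rw2267 : List ℕ := [6, 6, 2, 6, 3, 4, 3, 8, 2, 5, 2, 7, 3, 7, 7, 4, 9, 5]
def rw2268 : List ℕ := [6, 5, 5, 6, 3, 6, 5, 6, 4, 9, 5, 7, 4, 7, 2, 7, 4, 4, 7, 3, 8, 2]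
def rw2269 : List ℕ := [6, 9, 6, 9, 6, 9, 6, 9, 3, 8, 7, 8, 7, 8, 7, 8, 7, 2]
def rw2270 : List ℕ := [6, 6, 2, 6, 4, 4, 3, 4, 2, 5, 5, 7, 3, 7, 7, 5, 5, 4]
def rw2271 : List ℕ := [6, 6, 6, 5, 7, 7, 7, 5, 7, 4, 7, 5, 4, 4, 6, 5, 6, 4]
def rw2272 : List ℕ := [6, 4, 6, 4, 6, 8, 7, 5, 7, 5, 7, 5, 9, 4]
def rw2273 : List ℕ := [6, 0, 4, 2, 6, 8, 7, 3, 5, 1, 7, 3, 5, 1, 9, 0, 4, 2]
def rw2274 : List ℕ := [6, 6, 2, 6, 4, 4, 3, 6, 2, 5, 5, 7, 3, 7, 7, 5, 7, 4]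
def rw2275 : List ℕ := [6, 9, 9, 1, 8, 8, 7, 7, 8, 5, 6, 6, 5, 5, 0, 4, 4, 7, 7, 4, 9, 6]
def rw2276 : List ℕ := [6, 5, 6, 5, 6, 5, 6, 5, 1, 4, 7, 4, 7, 4, 7, 4, 7, 0]
def rw2277 : List ℕ := [6, 2, 6, 6, 6, 1, 7, 7, 7, 3, 7, 7, 7, 3, 0, 2, 6, 6]
def rw2278 : List ℕ := [6, 6, 2, 6, 6, 6, 0, 7, 7, 7, 3, 7, 7, 7, 3, 1, 2, 6]
def rw2279 : List ℕ := [6, 5, 6, 4, 6, 6, 6, 1, 7, 7, 7, 5, 7, 4, 7, 5, 0, 4]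
def rw2280 : List ℕ := [6, 6, 5, 5, 0, 4, 4, 7, 7, 4, 9, 6, 6, 9, 9, 1, 8, 8, 7, 7, 8, 5]
def rw2281 : List ℕ := [6, 4, 1, 5, 7, 4, 7, 2, 7, 4, 4, 7, 3, 0, 2, 6, 5, 5, 6, 3, 6, 5]
def rw2282 : List ℕ := [6, 5, 9, 0, 3, 0, 9, 9, 9, 0, 3, 1, 7, 0, 2, 1, 8, 8, 8, 1, 2, 1, 8, 4]
def rw2283 : List ℕ := [6, 2, 6, 4, 4, 3, 7, 2, 5, 5, 7, 3, 7, 7, 5, 6, 4, 6]
def rw2284 : List ℕ := [6, 5, 7, 3, 5, 1, 7, 3, 5, 1, 4, 0, 4, 2, 6, 0, 4, 2]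
def rw2285 : List ℕ := [6, 6, 6, 2, 6, 6, 6, 2, 7, 7, 7, 3, 7, 7, 7, 3, 3, 2]
def rw2286 : List ℕ := [6, 6, 2, 6, 6, 6, 1, 7, 7, 7, 3, 7, 7, 7, 3, 0, 2, 6]
def rw2287 : List ℕ := [6, 9, 9, 0, 8, 8, 7, 7, 8, 5, 6, 6, 5, 5, 1, 4, 4, 7, 7, 4, 9, 6]
def rw2288 : List ℕ := [6, 6, 9, 9, 1, 8, 8, 7, 7, 8, 5, 6, 6, 5, 5, 0, 4, 4, 7, 7, 4, 9]
def rw2289 : List ℕ := [6, 9, 6, 9, 1, 8, 7, 8, 7, 8, 7, 8, 7, 0, 6, 9, 6, 9]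
def rw2290 : List ℕ := [6, 5, 6, 5, 6, 5, 2, 4, 7, 4, 7, 4, 7, 4, 7, 3, 6, 5]
def rw2291 : List ℕ := [6, 9, 6, 9, 0, 8, 7, 8, 7, 8, 7, 8, 7, 1, 6, 9, 6, 9]
def rw2292 : List ℕ := [6, 5, 5, 3, 4, 4, 7, 7, 4, 9, 6, 6, 9, 9, 2, 8, 8, 7, 7, 8, 5, 6]
def rw2293 : List ℕ := [6, 5, 5, 6, 3, 6, 5, 6, 4, 8, 5, 7, 4, 7, 2, 7, 4, 4, 7, 3, 9, 2]
def rw2294 : List ℕ := [6, 5, 5, 8, 4, 4, 7, 7, 4, 9, 6, 6, 9, 9, 9, 8, 8, 7, 7, 8, 5, 6]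
def rw2295 : List ℕ := [6, 4, 6, 5, 7, 5, 9, 4, 6, 4, 7, 5, 7, 8]
def rw2296 : List ℕ := [6, 6, 8, 7, 7, 7, 5, 7, 4, 7, 5, 9, 4, 6, 5, 6, 4, 6]
def rw2297 : List ℕ := [6, 4, 4, 9, 4, 4, 9, 4, 4, 9, 7, 8, 5, 5, 8, 5, 5, 8, 5, 5]
def rw2298 : List ℕ := [6, 5, 7, 5, 8, 4, 6, 4, 7, 5, 7, 9, 6, 4]
def rw2299 : List ℕ := [6, 9, 6, 9, 6, 9, 6, 9, 4, 8, 7, 8, 7, 8, 7, 8, 7, 5]
def rw2300 : List ℕ := [6, 9, 4, 3, 5, 3, 8, 4, 3, 3, 8, 2, 2, 5, 9, 2, 4, 2, 5, 8, 7, 9]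
def rw2301 : List ℕ := [6, 6, 6, 1, 7, 7, 7, 3, 7, 7, 7, 3, 0, 2, 6, 6, 6, 2]
def rw2302 : List ℕ := [6, 9, 6, 9, 6, 9, 6, 9, 2, 8, 7, 8, 7, 8, 7, 8, 7, 3]
def rw2303 : List ℕ := [7, 5, 7, 4, 6, 4]
def rw2304 : List ℕ := [7, 5, 6, 4, 6, 5]
def rw2305 : List ℕ := [7, 4, 6, 4, 7, 5]
def rw2306 : List ℕ := [7, 9, 7, 8, 6, 8]
def rw2307 : List ℕ := [7, 7, 7, 7, 7, 7, 7]
def rw2308 : List ℕ := [7, 8, 6, 8, 7, 9]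
def rw2309 : List ℕ := [7, 7, 5, 2, 4, 6, 6, 2, 6, 4, 4, 3, 3, 2, 5, 5, 7, 3]
def rw2310 : List ℕ := [7, 2, 4, 7, 9, 6, 5, 3, 6, 2, 7, 5, 3, 8, 2, 4, 6, 3]
def rw2311 : List ℕ := [7, 7, 4, 4, 5, 6, 6, 2, 6, 3, 4, 3, 5, 2, 5, 2, 7, 3]
def rw2312 : List ℕ := [7, 4, 4, 7, 3, 2, 2, 6, 5, 5, 6, 3, 6, 5, 6, 4, 3, 5, 7, 4, 7, 2]
def rw2313 : List ℕ := [7, 7, 3, 7, 7, 7, 3, 5, 2, 6, 6, 6, 2, 6, 6, 6, 4, 7]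
def rw2314 : List ℕ := [7, 3, 7, 7, 5, 4, 4, 6, 6, 2, 6, 4, 4, 3, 5, 2, 5, 5]
def rw2315 : List ℕ := [7, 4, 7, 4, 7, 5, 6, 5, 6, 5, 6, 5, 6, 5, 4, 4, 7, 4]
def rw2316 : List ℕ := [7, 5, 7, 4, 7, 5, 4, 4, 6, 5, 6, 4, 6, 6, 6, 5, 7, 7]
def rw2317 : List ℕ := [7, 5, 6, 5, 6, 5, 6, 5, 6, 5, 4, 4, 7, 4, 7, 4, 7, 4]
def rw2318 : List ℕ := [7, 5, 3, 6, 2, 4, 6, 3, 7, 2, 4, 7, 7, 6, 5, 3, 6, 2]
def rw2319 : List ℕ := [7, 3, 7, 2, 6, 6, 6, 2, 6, 6, 6, 6, 7, 7, 7, 3, 7, 7]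
def rw2320 : List ℕ := [7, 4, 2, 5, 6, 6, 2, 6, 3, 4, 3, 3, 2, 5, 2, 7, 3, 7]
def rw2321 : List ℕ := [7, 7, 7, 7, 7, 7, 7]
def rw2322 : List ℕ := [7, 2, 4, 7, 7, 6, 5, 3, 6, 2, 7, 5, 3, 6, 2, 4, 6, 3]
def rw2323 : List ℕ := [7, 4, 7, 2, 6, 5, 6, 5, 6, 5, 6, 5, 3, 4, 7, 4, 7, 4]
def rw2324 : List ℕ := [7, 3, 7, 7, 5, 7, 4, 6, 6, 2, 6, 4, 4, 3, 6, 2, 5, 5]
def rw2325 : List ℕ := [7, 3, 7, 7, 4, 4, 5, 6, 6, 2, 6, 3, 4, 3, 5, 2, 5, 2]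
def rw2326 : List ℕ := [7, 5, 7, 7, 6, 4, 6, 5, 7, 5, 6, 4, 6, 4]
def rw2327 : List ℕ := [7, 4, 7, 4, 7, 4, 7, 4, 6, 5, 6, 5, 6, 5, 6, 5, 5, 4]
def rw2328 : List ℕ := [7, 7, 3, 7, 7, 7, 3, 2, 2, 6, 6, 6, 2, 6, 6, 6, 3, 7]
def rw2329 : List ℕ := [7, 7, 4, 3, 5, 6, 6, 2, 6, 3, 4, 3, 2, 2, 5, 2, 7, 3]
def rw2330 : List ℕ := [7, 3, 7, 7, 4, 2, 5, 6, 6, 2, 6, 3, 4, 3, 3, 2, 5, 2]
def rw2331 : List ℕ := [7, 5, 7, 5, 3, 4, 6, 4, 6, 4, 6, 2, 7, 5]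
def rw2332 : List ℕ := [7, 7, 7, 7, 7, 7, 7]
def rw2333 : List ℕ := [7, 5, 3, 7, 2, 4, 6, 3, 7, 2, 4, 7, 6, 6, 5, 3, 6, 2]
def rw2334 : List ℕ := [7, 7, 7, 7, 7, 7, 7]
def rw2335 : List ℕ := [7, 4, 6, 5, 6, 5, 6, 5, 6, 5, 5, 4, 7, 4, 7, 4, 7, 4]
def rw2336 : List ℕ := [7, 5, 2, 4, 6, 6, 2, 6, 4, 4, 3, 3, 2, 5, 5, 7, 3, 7]
def rw2337 : List ℕ := [7, 5, 5, 4, 6, 5, 6, 4, 6, 6, 6, 4, 7, 7, 7, 5, 7, 4]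
def rw2338 : List ℕ := [7, 2, 6, 4, 6, 5, 7, 5, 3, 4, 6, 4, 7, 5]
def rw2339 : List ℕ := [7, 3, 7, 7, 5, 5, 4, 6, 6, 2, 6, 4, 4, 3, 4, 2, 5, 5]
def rw2340 : List ℕ := [7, 3, 6, 2, 6, 6, 6, 2, 6, 6, 6, 7, 7, 7, 7, 3, 7, 7]
def rw2341 : List ℕ := [7, 7, 4, 2, 5, 6, 6, 2, 6, 3, 4, 3, 3, 2, 5, 2, 7, 3]
def rw2342 : List ℕ := [7, 5, 7, 4, 6, 5, 6, 4, 6, 6, 6, 6, 7, 7, 7, 5, 7, 4]
def rw2343 : List ℕ := [7, 5, 7, 4, 7, 5, 3, 4, 6, 5, 6, 4, 6, 6, 6, 2, 7, 7]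
def rw2344 : List ℕ := [7, 4, 4, 7, 3, 3, 2, 6, 5, 5, 6, 3, 6, 5, 6, 4, 2, 5, 7, 4, 7, 2]
def rw2345 : List ℕ := [7, 5, 3, 3, 2, 4, 6, 3, 7, 2, 4, 7, 2, 6, 5, 3, 6, 2]
def rw2346 : List ℕ := [7, 2, 6, 5, 3, 6, 2, 7, 5, 3, 3, 2, 4, 6, 3, 7, 2, 4]
def rw2347 : List ℕ := [7, 4, 7, 4, 7, 4, 7, 6, 6, 5, 6, 5, 6, 5, 6, 5, 7, 4]
def rw2348 : List ℕ := [7, 4, 7, 4, 7, 4, 7, 3, 6, 5, 6, 5, 6, 5, 6, 5, 2, 4]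
def rw2349 : List ℕ := [7, 7, 7, 7, 7, 7, 7]
def rw2350 : List ℕ := [7, 5, 9, 4, 6, 5, 6, 4, 6, 6, 6, 8, 7, 7, 7, 5, 7, 4]
def rw2351 : List ℕ := [7, 4, 4, 7, 3, 5, 2, 6, 5, 5, 6, 3, 6, 5, 6, 4, 4, 5, 7, 4, 7, 2]
def rw2352 : List ℕ := [7, 7, 3, 3, 2, 6, 6, 6, 2, 6, 6, 6, 2, 7, 7, 7, 3, 7]
def rw2353 : List ℕ := [7, 7, 6, 4, 6, 5, 7, 5, 6, 4, 6, 4, 7, 5]
def rw2354 : List ℕ := [7, 3, 5, 1, 4, 0, 4, 2, 6, 0, 4, 2, 6, 5, 7, 3, 5, 1]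
def rw2355 : List ℕ := [7, 8, 7, 8, 7, 7, 6, 9, 6, 9, 6, 9, 6, 9, 6, 8, 7, 8]
def rw2356 : List ℕ := [7, 2, 4, 7, 8, 6, 5, 3, 6, 2, 7, 5, 3, 9, 2, 4, 6, 3]
def rw2357 : List ℕ := [7, 7, 3, 4, 2, 6, 6, 6, 2, 6, 6, 6, 5, 7, 7, 7, 3, 7]
def rw2358 : List ℕ := [7, 7, 7, 3, 3, 2, 6, 6, 6, 2, 6, 6, 6, 2, 7, 7, 7, 3]
def rw2359 : List ℕ := [7, 5, 5, 6, 4, 4, 6, 4, 4, 6, 7, 7, 5, 5]
def rw2360 : List ℕ := [7, 5, 7, 4, 6, 4, 6, 5, 7, 5, 5, 4, 6, 4]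
def rw2361 : List ℕ := [7, 8, 7, 7, 6, 9, 6, 9, 6, 9, 6, 9, 6, 8, 7, 8, 7, 8]
def rw2362 : List ℕ := [7, 2, 4, 7, 5, 6, 5, 3, 6, 2, 7, 5, 3, 4, 2, 4, 6, 3]
def rw2363 : List ℕ := [7, 8, 7, 8, 7, 6, 6, 9, 6, 9, 6, 9, 6, 9, 7, 8, 7, 8]
def rw2364 : List ℕ := [7, 2, 7, 4, 4, 7, 3, 3, 2, 6, 5, 5, 6, 3, 6, 5, 6, 4, 2, 5, 7, 4]
def rw2365 : List ℕ := [7, 3, 5, 1, 1, 0, 4, 2, 6, 0, 4, 2, 6, 0, 7, 3, 5, 1]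
def rw2366 : List ℕ := [7, 7, 7, 7, 7, 7, 7]
def rw2367 : List ℕ := [7, 8, 7, 8, 7, 8, 7, 8, 7, 6, 6, 9, 6, 9, 6, 9, 6, 9]
def rw2368 : List ℕ := [7, 3, 7, 7, 4, 9, 5, 6, 6, 2, 6, 3, 4, 3, 8, 2, 5, 2]
def rw2369 : List ℕ := [7, 5, 3, 2, 2, 4, 6, 3, 7, 2, 4, 7, 3, 6, 5, 3, 6, 2]
def rw2370 : List ℕ := [7, 5, 7, 4, 7, 5, 9, 4, 6, 5, 6, 4, 6, 6, 6, 8, 7, 7]
def rw2371 : List ℕ := [7, 3, 9, 2, 6, 6, 6, 2, 6, 6, 6, 8, 7, 7, 7, 3, 7, 7]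
def rw2372 : List ℕ := [7, 5, 7, 5, 7, 5, 5, 4, 6, 4, 6, 4, 6, 4]
def rw2373 : List ℕ := [7, 5, 7, 9, 6, 4, 6, 5, 7, 5, 8, 4, 6, 4]
def rw2374 : List ℕ := [7, 4, 4, 7, 3, 4, 2, 6, 5, 5, 6, 3, 6, 5, 6, 4, 5, 5, 7, 4, 7, 2]
def rw2375 : List ℕ := [7, 4, 1, 5, 6, 6, 2, 6, 3, 4, 3, 0, 2, 5, 2, 7, 3, 7]
def rw2376 : List ℕ := [7, 8, 5, 6, 6, 5, 5, 2, 4, 4, 7, 7, 4, 9, 6, 6, 9, 9, 3, 8, 8, 7]
def rw2377 : List ℕ := [7, 9, 6, 8, 6, 9]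
def rw2378 : List ℕ := [7, 7, 5, 7, 4, 6, 6, 2, 6, 4, 4, 3, 6, 2, 5, 5, 7, 3]
def rw2379 : List ℕ := [7, 4, 7, 5, 3, 4, 6, 5, 6, 4, 6, 6, 6, 2, 7, 7, 7, 5]
def rw2380 : List ℕ := [7, 5, 6, 4, 6, 4, 7, 5, 7, 7, 6, 4, 6, 5]
def rw2381 : List ℕ := [7, 7, 8, 5, 6, 6, 5, 5, 4, 4, 4, 7, 7, 4, 9, 6, 6, 9, 9, 5, 8, 8]
def rw2382 : List ℕ := [7, 8, 7, 8, 7, 8, 7, 3, 6, 9, 6, 9, 6, 9, 6, 9, 2, 8]
def rw2383 : List ℕ := [7, 3, 5, 1, 5, 0, 4, 2, 6, 0, 4, 2, 6, 4, 7, 3, 5, 1]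
def rw2384 : List ℕ := [7, 7, 4, 9, 6, 6, 9, 9, 6, 8, 8, 7, 7, 8, 5, 6, 6, 5, 5, 7, 4, 4]
def rw2385 : List ℕ := [7, 5, 7, 4, 7, 5, 5, 4, 6, 5, 6, 4, 6, 6, 6, 4, 7, 7]
def rw2386 : List ℕ := [7, 3, 7, 7, 7, 3, 2, 2, 6, 6, 6, 2, 6, 6, 6, 3, 7, 7]
def rw2387 : List ℕ := [7, 7, 5, 7, 4, 7, 5, 4, 4, 6, 5, 6, 4, 6, 6, 6, 5, 7]
def rw2388 : List ℕ := [7, 7, 8, 5, 6, 6, 5, 5, 6, 4, 4, 7, 7, 4, 9, 6, 6, 9, 9, 7, 8, 8]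
def rw2389 : List ℕ := [7, 7, 8, 5, 6, 6, 5, 5, 8, 4, 4, 7, 7, 4, 9, 6, 6, 9, 9, 9, 8, 8]
def rw2390 : List ℕ := [7, 3, 7, 7, 4, 3, 5, 6, 6, 2, 6, 3, 4, 3, 2, 2, 5, 2]
def rw2391 : List ℕ := [7, 4, 7, 4, 7, 4, 7, 5, 6, 5, 6, 5, 6, 5, 6, 5, 4, 4]
def rw2392 : List ℕ := [7, 3, 7, 7, 7, 3, 6, 2, 6, 6, 6, 2, 6, 6, 6, 7, 7, 7]
def rw2393 : List ℕ := [7, 8, 7, 8, 7, 8, 7, 7, 6, 9, 6, 9, 6, 9, 6, 9, 6, 8]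
def rw2394 : List ℕ := [7, 8, 5, 6, 6, 5, 5, 8, 4, 4, 7, 7, 4, 9, 6, 6, 9, 9, 9, 8, 8, 7]
def rw2395 : List ℕ := [7, 5, 5, 7, 5, 5, 2, 4, 4, 6, 4, 4, 6, 3]
def rw2396 : List ℕ := [7, 4, 4, 7, 3, 6, 2, 6, 5, 5, 6, 3, 6, 5, 6, 4, 7, 5, 7, 4, 7, 2]
def rw2397 : List ℕ := [7, 5, 7, 5, 6, 4, 6, 5, 7, 5, 4, 4, 6, 4]
def rw2398 : List ℕ := [7, 4, 7, 4, 6, 5, 6, 5, 6, 5, 6, 5, 5, 4, 7, 4, 7, 4]
def rw2399 : List ℕ := [7, 8, 7, 8, 7, 8, 7, 5, 6, 9, 6, 9, 6, 9, 6, 9, 4, 8]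
def rw2400 : List ℕ := [7, 5, 5, 0, 4, 4, 6, 4, 4, 6, 1, 7, 5, 5]
def rw2401 : List ℕ := [7, 3, 7, 7, 4, 8, 5, 6, 6, 2, 6, 3, 4, 3, 9, 2, 5, 2]
def rw2402 : List ℕ := [7, 3, 5, 1, 7, 3, 5, 1, 0, 0, 4, 2, 6, 0, 4, 2, 6, 1]
def rw2403 : List ℕ := [7, 4, 9, 6, 6, 9, 9, 7, 8, 8, 7, 7, 8, 5, 6, 6, 5, 5, 6, 4, 4, 7]
def rw2404 : List ℕ := [7, 8, 6, 5, 6, 5, 6, 5, 6, 5, 9, 4, 7, 4, 7, 4, 7, 4]
def rw2405 : List ℕ := [7, 2, 4, 7, 4, 6, 5, 3, 6, 2, 7, 5, 3, 5, 2, 4, 6, 3]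
def rw2406 : List ℕ := [7, 5, 5, 5, 4, 4, 6, 4, 4, 6, 4, 7, 5, 5]
def rw2407 : List ℕ := [7, 5, 3, 4, 6, 6, 2, 6, 4, 4, 3, 2, 2, 5, 5, 7, 3, 7]
def rw2408 : List ℕ := [7, 3, 7, 7, 4, 5, 5, 6, 6, 2, 6, 3, 4, 3, 4, 2, 5, 2]
def rw2409 : List ℕ := [7, 4, 4, 7, 3, 9, 2, 6, 5, 5, 6, 3, 6, 5, 6, 4, 8, 5, 7, 4, 7, 2]
def rw2410 : List ℕ := [7, 7, 4, 1, 5, 6, 6, 2, 6, 3, 4, 3, 0, 2, 5, 2, 7, 3]
def rw2411 : List ℕ := [7, 4, 7, 5, 4, 4, 6, 5, 6, 4, 6, 6, 6, 5, 7, 7, 7, 5]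
def rw2412 : List ℕ := [7, 8, 7, 8, 7, 8, 7, 2, 6, 9, 6, 9, 6, 9, 6, 9, 3, 8]
def rw2413 : List ℕ := [7, 3, 7, 7, 5, 2, 4, 6, 6, 2, 6, 4, 4, 3, 3, 2, 5, 5]
def rw2414 : List ℕ := [7, 5, 5, 7, 4, 4, 6, 4, 4, 6, 6, 7, 5, 5]
def rw2415 : List ℕ := [7, 7, 5, 0, 4, 6, 6, 2, 6, 4, 4, 3, 1, 2, 5, 5, 7, 3]
def rw2416 : List ℕ := [7, 5, 0, 4, 6, 6, 2, 6, 4, 4, 3, 1, 2, 5, 5, 7, 3, 7]
def rw2417 : List ℕ := [7, 5, 5, 7, 5, 5, 6, 4, 4, 6, 4, 4, 6, 7]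
def rw2418 : List ℕ := [7, 2, 4, 7, 1, 6, 5, 3, 6, 2, 7, 5, 3, 0, 2, 4, 6, 3]
def rw2419 : List ℕ := [7, 7, 5, 1, 4, 6, 6, 2, 6, 4, 4, 3, 0, 2, 5, 5, 7, 3]
def rw2420 : List ℕ := [7, 7, 7, 5, 7, 4, 7, 5, 2, 4, 6, 5, 6, 4, 6, 6, 6, 3]
def rw2421 : List ℕ := [7, 3, 7, 7, 4, 1, 5, 6, 6, 2, 6, 3, 4, 3, 0, 2, 5, 2]
def rw2422 : List ℕ := [7, 3, 7, 7, 4, 0, 5, 6, 6, 2, 6, 3, 4, 3, 1, 2, 5, 2]
def rw2423 : List ℕ := [7, 4, 3, 5, 6, 6, 2, 6, 3, 4, 3, 2, 2, 5, 2, 7, 3, 7]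
def rw2424 : List ℕ := [7, 7, 7, 3, 7, 7, 7, 3, 2, 2, 6, 6, 6, 2, 6, 6, 6, 3]
def rw2425 : List ℕ := [7, 3, 7, 7, 4, 7, 5, 6, 6, 2, 6, 3, 4, 3, 6, 2, 5, 2]
def rw2426 : List ℕ := [7, 7, 5, 7, 4, 7, 5, 2, 4, 6, 5, 6, 4, 6, 6, 6, 3, 7]
def rw2427 : List ℕ := [7, 3, 7, 7, 5, 6, 4, 6, 6, 2, 6, 4, 4, 3, 7, 2, 5, 5]
def rw2428 : List ℕ := [7, 5, 7, 3, 6, 4, 6, 5, 7, 5, 2, 4, 6, 4]
def rw2429 : List ℕ := [7, 3, 5, 1, 2, 0, 4, 2, 6, 0, 4, 2, 6, 3, 7, 3, 5, 1]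
def rw2430 : List ℕ := [7, 4, 7, 3, 6, 5, 6, 5, 6, 5, 6, 5, 2, 4, 7, 4, 7, 4]
def rw2431 : List ℕ := [7, 3, 5, 2, 6, 5, 5, 6, 3, 6, 5, 6, 4, 4, 5, 7, 4, 7, 2, 7, 4, 4]
def rw2432 : List ℕ := [7, 7, 3, 7, 7, 7, 3, 3, 2, 6, 6, 6, 2, 6, 6, 6, 2, 7]
def rw2433 : List ℕ := [7, 5, 7, 5, 5, 4, 6, 4, 6, 4, 6, 4, 7, 5]
def rw2434 : List ℕ := [7, 4, 7, 1, 6, 5, 6, 5, 6, 5, 6, 5, 0, 4, 7, 4, 7, 4]
def rw2435 : List ℕ := [7, 4, 7, 5, 7, 4, 6, 5, 6, 4, 6, 6, 6, 6, 7, 7, 7, 5]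
def rw2436 : List ℕ := [7, 3, 5, 1, 3, 0, 4, 2, 6, 0, 4, 2, 6, 2, 7, 3, 5, 1]
def rw2437 : List ℕ := [7, 3, 7, 7, 5, 3, 4, 6, 6, 2, 6, 4, 4, 3, 2, 2, 5, 5]
def rw2438 : List ℕ := [7, 5, 7, 4, 7, 5, 6, 4, 6, 5, 6, 4, 6, 6, 6, 7, 7, 7]
def rw2439 : List ℕ := [7, 3, 7, 7, 4, 6, 5, 6, 6, 2, 6, 3, 4, 3, 7, 2, 5, 2]
def rw2440 : List ℕ := [7, 5, 4, 4, 6, 6, 2, 6, 4, 4, 3, 5, 2, 5, 5, 7, 3, 7]
def rw2441 : List ℕ := [7, 4, 4, 7, 3, 1, 2, 6, 5, 5, 6, 3, 6, 5, 6, 4, 0, 5, 7, 4, 7, 2]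
def rw2442 : List ℕ := [7, 7, 5, 3, 4, 6, 6, 2, 6, 4, 4, 3, 2, 2, 5, 5, 7, 3]
def rw2443 : List ℕ := [7, 2, 4, 7, 0, 6, 5, 3, 6, 2, 7, 5, 3, 1, 2, 4, 6, 3]
def rw2444 : List ℕ := [7, 5, 2, 4, 6, 5, 6, 4, 6, 6, 6, 3, 7, 7, 7, 5, 7, 4]
def rw2445 : List ℕ := [7, 7, 7, 5, 7, 4, 7, 5, 5, 4, 6, 5, 6, 4, 6, 6, 6, 4]
def rw2446 : List ℕ := [7, 7, 7, 5, 7, 4, 7, 5, 4, 4, 6, 5, 6, 4, 6, 6, 6, 5]
def rw2447 : List ℕ := [7, 7, 3, 7, 2, 6, 6, 6, 2, 6, 6, 6, 6, 7, 7, 7, 3, 7]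
def rw2448 : List ℕ := [7, 7, 5, 6, 4, 6, 6, 2, 6, 4, 4, 3, 7, 2, 5, 5, 7, 3]
def rw2449 : List ℕ := [7, 5, 5, 7, 5, 5, 5, 4, 4, 6, 4, 4, 6, 4]
def rw2450 : List ℕ := [7, 7, 4, 5, 5, 6, 6, 2, 6, 3, 4, 3, 4, 2, 5, 2, 7, 3]
def rw2451 : List ℕ := [7, 8, 5, 6, 6, 5, 5, 4, 4, 4, 7, 7, 4, 9, 6, 6, 9, 9, 5, 8, 8, 7]
def rw2452 : List ℕ := [7, 5, 3, 5, 2, 4, 6, 3, 7, 2, 4, 7, 4, 6, 5, 3, 6, 2]
def rw2453 : List ℕ := [7, 4, 7, 2, 7, 4, 4, 7, 3, 7, 2, 6, 5, 5, 6, 3, 6, 5, 6, 4, 6, 5]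
def rw2454 : List ℕ := [7, 7, 7, 5, 7, 4, 7, 5, 1, 4, 6, 5, 6, 4, 6, 6, 6, 0]
def rw2455 : List ℕ := [7, 4, 7, 0, 6, 5, 6, 5, 6, 5, 6, 5, 1, 4, 7, 4, 7, 4]
def rw2456 : List ℕ := [7, 5, 5, 2, 4, 4, 6, 4, 4, 6, 3, 7, 5, 5]
def rw2457 : List ℕ := [7, 5, 5, 4, 4, 4, 6, 4, 4, 6, 5, 7, 5, 5]
def rw2458 : List ℕ := [7, 4, 7, 4, 7, 3, 6, 5, 6, 5, 6, 5, 6, 5, 2, 4, 7, 4]
def rw2459 : List ℕ := [7, 7, 4, 0, 5, 6, 6, 2, 6, 3, 4, 3, 1, 2, 5, 2, 7, 3]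
def rw2460 : List ℕ := [7, 2, 7, 4, 4, 7, 3, 2, 2, 6, 5, 5, 6, 3, 6, 5, 6, 4, 3, 5, 7, 4]
def rw2461 : List ℕ := [7, 4, 4, 5, 6, 6, 2, 6, 3, 4, 3, 5, 2, 5, 2, 7, 3, 7]
def rw2462 : List ℕ := [7, 4, 7, 4, 7, 4, 6, 5, 6, 5, 6, 5, 6, 5, 5, 4, 7, 4]
def rw2463 : List ℕ := [7, 7, 7, 3, 7, 7, 7, 3, 5, 2, 6, 6, 6, 2, 6, 6, 6, 4]
def rw2464 : List ℕ := [7, 5, 7, 4, 7, 5, 1, 4, 6, 5, 6, 4, 6, 6, 6, 0, 7, 7]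
def rw2465 : List ℕ := [7, 7, 3, 1, 2, 6, 6, 6, 2, 6, 6, 6, 0, 7, 7, 7, 3, 7]
def rw2466 : List ℕ := [7, 3, 3, 2, 6, 5, 5, 6, 3, 6, 5, 6, 4, 2, 5, 7, 4, 7, 2, 7, 4, 4]
def rw2467 : List ℕ := [7, 2, 4, 7, 3, 6, 5, 3, 6, 2, 7, 5, 3, 2, 2, 4, 6, 3]
def rw2468 : List ℕ := [7, 3, 5, 1, 7, 0, 4, 2, 6, 0, 4, 2, 6, 6, 7, 3, 5, 1]
def rw2469 : List ℕ := [7, 7, 7, 3, 4, 2, 6, 6, 6, 2, 6, 6, 6, 5, 7, 7, 7, 3]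
def rw2470 : List ℕ := [7, 8, 7, 6, 6, 9, 6, 9, 6, 9, 6, 9, 7, 8, 7, 8, 7, 8]
def rw2471 : List ℕ := [7, 7, 6, 9, 6, 9, 6, 9, 6, 9, 6, 8, 7, 8, 7, 8, 7, 8]
def rw2472 : List ℕ := [7, 7, 4, 9, 6, 6, 9, 9, 4, 8, 8, 7, 7, 8, 5, 6, 6, 5, 5, 5, 4, 4]
def rw2473 : List ℕ := [7, 3, 6, 2, 6, 5, 5, 6, 3, 6, 5, 6, 4, 7, 5, 7, 4, 7, 2, 7, 4, 4]
def rw2474 : List ℕ := [7, 5, 3, 4, 2, 4, 6, 3, 7, 2, 4, 7, 5, 6, 5, 3, 6, 2]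
def rw2475 : List ℕ := [7, 4, 6, 4, 6, 5, 7, 5, 5, 4, 6, 4, 7, 5]
def rw2476 : List ℕ := [7, 8, 5, 6, 6, 5, 5, 3, 4, 4, 7, 7, 4, 9, 6, 6, 9, 9, 2, 8, 8, 7]
def rw2477 : List ℕ := [7, 5, 5, 7, 5, 5, 4, 4, 4, 6, 4, 4, 6, 5]
def rw2478 : List ℕ := [7, 8, 7, 8, 7, 4, 6, 9, 6, 9, 6, 9, 6, 9, 5, 8, 7, 8]
def rw2479 : List ℕ := [7, 5, 3, 9, 2, 4, 6, 3, 7, 2, 4, 7, 8, 6, 5, 3, 6, 2]
def rw2480 : List ℕ := [7, 7, 7, 5, 7, 4, 7, 5, 3, 4, 6, 5, 6, 4, 6, 6, 6, 2]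
def rw2481 : List ℕ := [7, 7, 5, 4, 4, 6, 6, 2, 6, 4, 4, 3, 5, 2, 5, 5, 7, 3]
def rw2482 : List ℕ := [7, 5, 2, 4, 6, 4, 7, 5, 7, 3, 6, 4, 6, 5]
def rw2483 : List ℕ := [7, 7, 8, 5, 6, 6, 5, 5, 9, 4, 4, 7, 7, 4, 9, 6, 6, 9, 9, 8, 8, 8]
def rw2484 : List ℕ := [7, 3, 3, 2, 6, 6, 6, 2, 6, 6, 6, 2, 7, 7, 7, 3, 7, 7]
def rw2485 : List ℕ := [7, 4, 7, 2, 7, 4, 4, 7, 3, 1, 2, 6, 5, 5, 6, 3, 6, 5, 6, 4, 0, 5]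
def rw2486 : List ℕ := [7, 4, 7, 4, 7, 2, 6, 5, 6, 5, 6, 5, 6, 5, 3, 4, 7, 4]
def rw2487 : List ℕ := [7, 5, 5, 3, 4, 4, 6, 4, 4, 6, 2, 7, 5, 5]
def rw2488 : List ℕ := [7, 8, 7, 8, 7, 3, 6, 9, 6, 9, 6, 9, 6, 9, 2, 8, 7, 8]
def rw2489 : List ℕ := [7, 7, 8, 5, 6, 6, 5, 5, 7, 4, 4, 7, 7, 4, 9, 6, 6, 9, 9, 6, 8, 8]
def rw2490 : List ℕ := [7, 7, 8, 5, 6, 6, 5, 5, 2, 4, 4, 7, 7, 4, 9, 6, 6, 9, 9, 3, 8, 8]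
def rw2491 : List ℕ := [7, 5, 8, 4, 6, 4, 6, 4, 6, 9, 7, 5, 7, 5]
def rw2492 : List ℕ := [7, 5, 2, 4, 6, 4, 6, 4, 6, 3, 7, 5, 7, 5]
def rw2493 : List ℕ := [7, 3, 7, 7, 7, 3, 4, 2, 6, 6, 6, 2, 6, 6, 6, 5, 7, 7]
def rw2494 : List ℕ := [7, 2, 4, 7, 6, 6, 5, 3, 6, 2, 7, 5, 3, 7, 2, 4, 6, 3]
def rw2495 : List ℕ := [7, 4, 9, 6, 6, 9, 9, 8, 8, 8, 7, 7, 8, 5, 6, 6, 5, 5, 9, 4, 4, 7]
def rw2496 : List ℕ := [7, 5, 5, 7, 5, 5, 3, 4, 4, 6, 4, 4, 6, 2]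
def rw2497 : List ℕ := [7, 7, 7, 3, 1, 2, 6, 6, 6, 2, 6, 6, 6, 0, 7, 7, 7, 3]
def rw2498 : List ℕ := [7, 4, 7, 2, 7, 4, 4, 7, 3, 2, 2, 6, 5, 5, 6, 3, 6, 5, 6, 4, 3, 5]
def rw2499 : List ℕ := [7, 4, 7, 5, 9, 4, 6, 5, 6, 4, 6, 6, 6, 8, 7, 7, 7, 5]
def rw2500 : List ℕ := [7, 7, 8, 5, 6, 6, 5, 5, 5, 4, 4, 7, 7, 4, 9, 6, 6, 9, 9, 4, 8, 8]
def rw2501 : List ℕ := [7, 4, 9, 6, 6, 9, 9, 6, 8, 8, 7, 7, 8, 5, 6, 6, 5, 5, 7, 4, 4, 7]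
def rw2502 : List ℕ := [7, 7, 4, 9, 5, 6, 6, 2, 6, 3, 4, 3, 8, 2, 5, 2, 7, 3]
def rw2503 : List ℕ := [7, 4, 7, 4, 7, 4, 7, 0, 6, 5, 6, 5, 6, 5, 6, 5, 1, 4]
def rw2504 : List ℕ := [7, 8, 7, 4, 6, 9, 6, 9, 6, 9, 6, 9, 5, 8, 7, 8, 7, 8]
def rw2505 : List ℕ := [7, 8, 5, 6, 6, 5, 5, 6, 4, 4, 7, 7, 4, 9, 6, 6, 9, 9, 7, 8, 8, 7]
def rw2506 : List ℕ := [7, 5, 3, 4, 6, 5, 6, 4, 6, 6, 6, 2, 7, 7, 7, 5, 7, 4]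
def rw2507 : List ℕ := [7, 8, 5, 5, 8, 5, 5, 8, 5, 5, 6, 4, 4, 9, 4, 4, 9, 4, 4, 9]
def rw2508 : List ℕ := [7, 5, 3, 8, 2, 4, 6, 3, 7, 2, 4, 7, 9, 6, 5, 3, 6, 2]
def rw2509 : List ℕ := [7, 7, 3, 6, 2, 6, 6, 6, 2, 6, 6, 6, 7, 7, 7, 7, 3, 7]
def rw2510 : List ℕ := [7, 7, 7, 3, 2, 2, 6, 6, 6, 2, 6, 6, 6, 3, 7, 7, 7, 3]
def rw2511 : List ℕ := [7, 7, 7, 3, 7, 7, 7, 3, 4, 2, 6, 6, 6, 2, 6, 6, 6, 5]
def rw2512 : List ℕ := [7, 5, 9, 4, 6, 4, 7, 5, 7, 8, 6, 4, 6, 5]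
def rw2513 : List ℕ := [7, 2, 6, 9, 4, 3, 5, 3, 8, 4, 3, 3, 3, 2, 2, 5, 9, 2, 4, 2, 5, 8]
def rw2514 : List ℕ := [7, 4, 9, 5, 6, 6, 2, 6, 3, 4, 3, 8, 2, 5, 2, 7, 3, 7]
def rw2515 : List ℕ := [7, 7, 4, 9, 6, 6, 9, 9, 7, 8, 8, 7, 7, 8, 5, 6, 6, 5, 5, 6, 4, 4]
def rw2516 : List ℕ := [7, 8, 7, 3, 6, 9, 6, 9, 6, 9, 6, 9, 2, 8, 7, 8, 7, 8]
def rw2517 : List ℕ := [7, 4, 7, 4, 7, 9, 6, 5, 6, 5, 6, 5, 6, 5, 8, 4, 7, 4]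
def rw2518 : List ℕ := [7, 7, 4, 9, 6, 6, 9, 9, 2, 8, 8, 7, 7, 8, 5, 6, 6, 5, 5, 3, 4, 4]
def rw2519 : List ℕ := [7, 5, 6, 9, 4, 3, 5, 3, 8, 4, 3, 3, 4, 2, 2, 5, 9, 2, 4, 2, 5, 8]
def rw2520 : List ℕ := [7, 7, 7, 5, 7, 4, 7, 5, 8, 4, 6, 5, 6, 4, 6, 6, 6, 9]
def rw2521 : List ℕ := [7, 4, 4, 7, 3, 7, 2, 6, 5, 5, 6, 3, 6, 5, 6, 4, 6, 5, 7, 4, 7, 2]
def rw2522 : List ℕ := [7, 5, 7, 2, 6, 4, 6, 5, 7, 5, 3, 4, 6, 4]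
def rw2523 : List ℕ := [7, 2, 6, 5, 6, 5, 6, 5, 6, 5, 3, 4, 7, 4, 7, 4, 7, 4]
def rw2524 : List ℕ := [7, 7, 5, 7, 4, 7, 5, 9, 4, 6, 5, 6, 4, 6, 6, 6, 8, 7]
def rw2525 : List ℕ := [7, 7, 3, 5, 2, 6, 6, 6, 2, 6, 6, 6, 4, 7, 7, 7, 3, 7]
def rw2526 : List ℕ := [7, 8, 6, 5, 3, 6, 2, 7, 5, 3, 9, 2, 4, 6, 3, 7, 2, 4]
def rw2527 : List ℕ := [7, 3, 6, 9, 4, 3, 5, 3, 8, 4, 3, 3, 2, 2, 2, 5, 9, 2, 4, 2, 5, 8]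
def rw2528 : List ℕ := [7, 2, 7, 4, 4, 7, 3, 1, 2, 6, 5, 5, 6, 3, 6, 5, 6, 4, 0, 5, 7, 4]
def rw2529 : List ℕ := [7, 7, 5, 7, 4, 7, 5, 1, 4, 6, 5, 6, 4, 6, 6, 6, 0, 7]
def rw2530 : List ℕ := [7, 2, 4, 7, 2, 6, 5, 3, 6, 2, 7, 5, 3, 3, 2, 4, 6, 3]
def rw2531 : List ℕ := [7, 5, 5, 7, 5, 5, 0, 4, 4, 6, 4, 4, 6, 1]
def rw2532 : List ℕ := [7, 7, 7, 3, 5, 2, 6, 6, 6, 2, 6, 6, 6, 4, 7, 7, 7, 3]
def rw2533 : List ℕ := [7, 4, 5, 5, 6, 6, 2, 6, 3, 4, 3, 4, 2, 5, 2, 7, 3, 7]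
def rw2534 : List ℕ := [7, 8, 6, 4, 6, 5, 7, 5, 9, 4, 6, 4, 7, 5]
def rw2535 : List ℕ := [7, 5, 9, 4, 6, 4, 6, 4, 6, 8, 7, 5, 7, 5]
def rw2536 : List ℕ := [7, 8, 7, 8, 7, 5, 6, 9, 6, 9, 6, 9, 6, 9, 4, 8, 7, 8]
def rw2537 : List ℕ := [7, 7, 8, 5, 6, 6, 5, 5, 3, 4, 4, 7, 7, 4, 9, 6, 6, 9, 9, 2, 8, 8]
def rw2538 : List ℕ := [7, 7, 5, 5, 4, 6, 6, 2, 6, 4, 4, 3, 4, 2, 5, 5, 7, 3]
def rw2539 : List ℕ := [7, 8, 5, 6, 6, 5, 5, 7, 4, 4, 7, 7, 4, 9, 6, 6, 9, 9, 6, 8, 8, 7]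
def rw2540 : List ℕ := [7, 3, 7, 7, 7, 3, 5, 2, 6, 6, 6, 2, 6, 6, 6, 4, 7, 7]
def rw2541 : List ℕ := [7, 4, 4, 7, 3, 8, 2, 6, 5, 5, 6, 3, 6, 5, 6, 4, 9, 5, 7, 4, 7, 2]
def rw2542 : List ℕ := [7, 7, 7, 3, 7, 7, 7, 3, 1, 2, 6, 6, 6, 2, 6, 6, 6, 0]
def rw2543 : List ℕ := [7, 8, 7, 9, 6, 9, 6, 9, 6, 9, 6, 9, 8, 8, 7, 8, 7, 8]
def rw2544 : List ℕ := [7, 0, 6, 5, 3, 6, 2, 7, 5, 3, 1, 2, 4, 6, 3, 7, 2, 4]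
def rw2545 : List ℕ := [7, 5, 7, 4, 6, 6, 2, 6, 4, 4, 3, 6, 2, 5, 5, 7, 3, 7]
def rw2546 : List ℕ := [7, 4, 7, 8, 6, 5, 6, 5, 6, 5, 6, 5, 9, 4, 7, 4, 7, 4]
def rw2547 : List ℕ := [7, 4, 7, 5, 5, 4, 6, 5, 6, 4, 6, 6, 6, 4, 7, 7, 7, 5]
def rw2548 : List ℕ := [7, 7, 7, 3, 7, 2, 6, 6, 6, 2, 6, 6, 6, 6, 7, 7, 7, 3]
def rw2549 : List ℕ := [7, 3, 6, 4, 6, 5, 7, 5, 2, 4, 6, 4, 7, 5]
def rw2550 : List ℕ := [7, 3, 7, 7, 5, 8, 4, 6, 6, 2, 6, 4, 4, 3, 9, 2, 5, 5]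
def rw2551 : List ℕ := [7, 8, 5, 6, 6, 5, 5, 5, 4, 4, 7, 7, 4, 9, 6, 6, 9, 9, 4, 8, 8, 7]
def rw2552 : List ℕ := [7, 4, 7, 4, 7, 4, 7, 8, 6, 5, 6, 5, 6, 5, 6, 5, 9, 4]
def rw2553 : List ℕ := [7, 7, 3, 8, 2, 6, 6, 6, 2, 6, 6, 6, 9, 7, 7, 7, 3, 7]
def rw2554 : List ℕ := [7, 5, 5, 9, 4, 4, 6, 4, 4, 6, 8, 7, 5, 5]
def rw2555 : List ℕ := [7, 7, 4, 9, 6, 6, 9, 9, 8, 8, 8, 7, 7, 8, 5, 6, 6, 5, 5, 9, 4, 4]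
def rw2556 : List ℕ := [7, 5, 6, 9, 6, 9, 6, 9, 6, 9, 4, 8, 7, 8, 7, 8, 7, 8]
def rw2557 : List ℕ := [7, 8, 7, 8, 7, 2, 6, 9, 6, 9, 6, 9, 6, 9, 3, 8, 7, 8]
def rw2558 : List ℕ := [7, 4, 9, 6, 6, 9, 9, 9, 8, 8, 7, 7, 8, 5, 6, 6, 5, 5, 8, 4, 4, 7]
def rw2559 : List ℕ := [7, 7, 7, 3, 8, 2, 6, 6, 6, 2, 6, 6, 6, 9, 7, 7, 7, 3]
def rw2560 : List ℕ := [7, 7, 4, 7, 5, 6, 6, 2, 6, 3, 4, 3, 6, 2, 5, 2, 7, 3]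
def rw2561 : List ℕ := [7, 3, 6, 5, 3, 6, 2, 7, 5, 3, 2, 2, 4, 6, 3, 7, 2, 4]
def rw2562 : List ℕ := [7, 5, 7, 5, 9, 4, 6, 4, 6, 4, 6, 8, 7, 5]
def rw2563 : List ℕ := [7, 5, 5, 7, 5, 5, 1, 4, 4, 6, 4, 4, 6, 0]
def rw2564 : List ℕ := [7, 4, 0, 5, 6, 6, 2, 6, 3, 4, 3, 1, 2, 5, 2, 7, 3, 7]
def rw2565 : List ℕ := [7, 4, 7, 2, 7, 4, 4, 7, 3, 3, 2, 6, 5, 5, 6, 3, 6, 5, 6, 4, 2, 5]
def rw2566 : List ℕ := [7, 4, 4, 7, 7, 4, 9, 6, 6, 9, 9, 6, 8, 8, 7, 7, 8, 5, 6, 6, 5, 5]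
def rw2567 : List ℕ := [7, 7, 7, 3, 6, 2, 6, 6, 6, 2, 6, 6, 6, 7, 7, 7, 7, 3]
def rw2568 : List ℕ := [7, 4, 6, 5, 3, 6, 2, 7, 5, 3, 5, 2, 4, 6, 3, 7, 2, 4]
def rw2569 : List ℕ := [7, 2, 7, 4, 4, 7, 3, 6, 2, 6, 5, 5, 6, 3, 6, 5, 6, 4, 7, 5, 7, 4]
def rw2570 : List ℕ := [7, 7, 4, 6, 5, 6, 6, 2, 6, 3, 4, 3, 7, 2, 5, 2, 7, 3]
def rw2571 : List ℕ := [7, 5, 7, 4, 7, 5, 0, 4, 6, 5, 6, 4, 6, 6, 6, 1, 7, 7]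
def rw2572 : List ℕ := [7, 5, 5, 7, 5, 5, 8, 4, 4, 6, 4, 4, 6, 9]
def rw2573 : List ℕ := [7, 5, 5, 8, 4, 4, 6, 4, 4, 6, 9, 7, 5, 5]
def rw2574 : List ℕ := [7, 5, 7, 8, 6, 4, 6, 5, 7, 5, 9, 4, 6, 4]
def rw2575 : List ℕ := [7, 3, 5, 1, 6, 0, 4, 2, 6, 0, 4, 2, 6, 7, 7, 3, 5, 1]
def rw2576 : List ℕ := [7, 8, 7, 8, 7, 8, 7, 9, 6, 9, 6, 9, 6, 9, 6, 9, 8, 8]
def rw2577 : List ℕ := [7, 5, 3, 1, 2, 4, 6, 3, 7, 2, 4, 7, 0, 6, 5, 3, 6, 2]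
def rw2578 : List ℕ := [7, 4, 7, 4, 7, 0, 6, 5, 6, 5, 6, 5, 6, 5, 1, 4, 7, 4]
def rw2579 : List ℕ := [7, 2, 7, 4, 4, 7, 3, 4, 2, 6, 5, 5, 6, 3, 6, 5, 6, 4, 5, 5, 7, 4]
def rw2580 : List ℕ := [7, 7, 7, 3, 7, 7, 7, 3, 8, 2, 6, 6, 6, 2, 6, 6, 6, 9]
def rw2581 : List ℕ := [7, 4, 7, 4, 7, 8, 6, 5, 6, 5, 6, 5, 6, 5, 9, 4, 7, 4]
def rw2582 : List ℕ := [7, 3, 9, 2, 6, 5, 5, 6, 3, 6, 5, 6, 4, 8, 5, 7, 4, 7, 2, 7, 4, 4]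
def rw2583 : List ℕ := [7, 7, 3, 9, 2, 6, 6, 6, 2, 6, 6, 6, 8, 7, 7, 7, 3, 7]
def rw2584 : List ℕ := [7, 3, 7, 7, 5, 9, 4, 6, 6, 2, 6, 4, 4, 3, 8, 2, 5, 5]
def rw2585 : List ℕ := [7, 2, 7, 4, 4, 7, 3, 5, 2, 6, 5, 5, 6, 3, 6, 5, 6, 4, 4, 5, 7, 4]
def rw2586 : List ℕ := [7, 3, 5, 2, 6, 6, 6, 2, 6, 6, 6, 4, 7, 7, 7, 3, 7, 7]
def rw2587 : List ℕ := [7, 8, 7, 5, 6, 9, 6, 9, 6, 9, 6, 9, 4, 8, 7, 8, 7, 8]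
def rw2588 : List ℕ := [7, 5, 5, 4, 6, 4, 7, 5, 7, 4, 6, 4, 6, 5]
def rw2589 : List ℕ := [7, 4, 7, 2, 7, 4, 4, 7, 3, 6, 2, 6, 5, 5, 6, 3, 6, 5, 6, 4, 7, 5]
def rw2590 : List ℕ := [7, 5, 7, 5, 7, 5, 3, 4, 6, 4, 6, 4, 6, 2]
def rw2591 : List ℕ := [7, 3, 5, 1, 7, 3, 5, 1, 4, 0, 4, 2, 6, 0, 4, 2, 6, 5]
def rw2592 : List ℕ := [7, 5, 3, 4, 6, 4, 7, 5, 7, 2, 6, 4, 6, 5]
def rw2593 : List ℕ := [7, 3, 7, 2, 6, 5, 5, 6, 3, 6, 5, 6, 4, 6, 5, 7, 4, 7, 2, 7, 4, 4]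
def rw2594 : List ℕ := [7, 4, 7, 5, 2, 4, 6, 5, 6, 4, 6, 6, 6, 3, 7, 7, 7, 5]
def rw2595 : List ℕ := [7, 8, 8, 7, 7, 8, 5, 6, 6, 5, 5, 6, 4, 4, 7, 7, 4, 9, 6, 6, 9, 9]
def rw2596 : List ℕ := [7, 0, 6, 9, 4, 3, 5, 3, 8, 4, 3, 3, 1, 2, 2, 5, 9, 2, 4, 2, 5, 8]
def rw2597 : List ℕ := [7, 5, 8, 4, 6, 4, 7, 5, 7, 9, 6, 4, 6, 5]
def rw2598 : List ℕ := [7, 3, 6, 9, 6, 9, 6, 9, 6, 9, 2, 8, 7, 8, 7, 8, 7, 8]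
def rw2599 : List ℕ := [7, 5, 9, 4, 6, 6, 2, 6, 4, 4, 3, 8, 2, 5, 5, 7, 3, 7]
def rw2600 : List ℕ := [7, 7, 7, 3, 9, 2, 6, 6, 6, 2, 6, 6, 6, 8, 7, 7, 7, 3]
def rw2601 : List ℕ := [7, 3, 0, 2, 6, 5, 5, 6, 3, 6, 5, 6, 4, 1, 5, 7, 4, 7, 2, 7, 4, 4]
def rw2602 : List ℕ := [7, 5, 7, 5, 1, 4, 6, 4, 6, 4, 6, 0, 7, 5]
def rw2603 : List ℕ := [7, 3, 6, 5, 6, 5, 6, 5, 6, 5, 2, 4, 7, 4, 7, 4, 7, 4]
def rw2604 : List ℕ := [7, 3, 4, 2, 6, 5, 5, 6, 3, 6, 5, 6, 4, 5, 5, 7, 4, 7, 2, 7, 4, 4]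
def rw2605 : List ℕ := [7, 8, 7, 8, 7, 8, 7, 4, 6, 9, 6, 9, 6, 9, 6, 9, 5, 8]
def rw2606 : List ℕ := [7, 5, 8, 4, 6, 5, 6, 4, 6, 6, 6, 9, 7, 7, 7, 5, 7, 4]
def rw2607 : List ℕ := [7, 3, 7, 7, 7, 3, 9, 2, 6, 6, 6, 2, 6, 6, 6, 8, 7, 7]
def rw2608 : List ℕ := [7, 5, 4, 4, 6, 5, 6, 4, 6, 6, 6, 5, 7, 7, 7, 5, 7, 4]
def rw2609 : List ℕ := [7, 5, 3, 4, 6, 4, 6, 4, 6, 2, 7, 5, 7, 5]
def rw2610 : List ℕ := [7, 5, 5, 1, 4, 4, 6, 4, 4, 6, 0, 7, 5, 5]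
def rw2611 : List ℕ := [7, 3, 5, 1, 0, 0, 4, 2, 6, 0, 4, 2, 6, 1, 7, 3, 5, 1]
def rw2612 : List ℕ := [7, 8, 7, 8, 7, 8, 7, 8, 6, 9, 6, 9, 6, 9, 6, 9, 9, 8]
def rw2613 : List ℕ := [7, 7, 3, 7, 7, 7, 3, 4, 2, 6, 6, 6, 2, 6, 6, 6, 5, 7]
def rw2614 : List ℕ := [7, 4, 4, 9, 4, 4, 9, 4, 4, 9, 6, 8, 5, 5, 8, 5, 5, 8, 5, 5]
def rw2615 : List ℕ := [7, 5, 6, 4, 6, 5, 6, 4, 6, 6, 6, 7, 7, 7, 7, 5, 7, 4]
def rw2616 : List ℕ := [7, 5, 7, 5, 2, 4, 6, 4, 6, 4, 6, 3, 7, 5]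
def rw2617 : List ℕ := [7, 4, 7, 5, 6, 5, 6, 5, 6, 5, 6, 5, 4, 4, 7, 4, 7, 4]
def rw2618 : List ℕ := [7, 5, 5, 4, 6, 6, 2, 6, 4, 4, 3, 4, 2, 5, 5, 7, 3, 7]
def rw2619 : List ℕ := [7, 8, 7, 8, 7, 8, 7, 6, 6, 9, 6, 9, 6, 9, 6, 9, 7, 8]
def rw2620 : List ℕ := [7, 4, 7, 5, 6, 6, 2, 6, 3, 4, 3, 6, 2, 5, 2, 7, 3, 7]
def rw2621 : List ℕ := [7, 5, 7, 4, 7, 5, 8, 4, 6, 5, 6, 4, 6, 6, 6, 9, 7, 7]
def rw2622 : List ℕ := [7, 7, 8, 5, 6, 6, 5, 5, 0, 4, 4, 7, 7, 4, 9, 6, 6, 9, 9, 1, 8, 8]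
def rw2623 : List ℕ := [7, 4, 7, 4, 7, 4, 7, 2, 6, 5, 6, 5, 6, 5, 6, 5, 3, 4]
def rw2624 : List ℕ := [7, 4, 7, 4, 7, 1, 6, 5, 6, 5, 6, 5, 6, 5, 0, 4, 7, 4]
def rw2625 : List ℕ := [7, 5, 6, 4, 6, 6, 2, 6, 4, 4, 3, 7, 2, 5, 5, 7, 3, 7]
def rw2626 : List ℕ := [7, 7, 7, 3, 7, 7, 7, 3, 3, 2, 6, 6, 6, 2, 6, 6, 6, 2]
def rw2627 : List ℕ := [7, 5, 1, 4, 6, 5, 6, 4, 6, 6, 6, 0, 7, 7, 7, 5, 7, 4]
def rw2628 : List ℕ := [7, 7, 5, 7, 4, 7, 5, 5, 4, 6, 5, 6, 4, 6, 6, 6, 4, 7]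
def rw2629 : List ℕ := [7, 3, 7, 7, 5, 0, 4, 6, 6, 2, 6, 4, 4, 3, 1, 2, 5, 5]
def rw2630 : List ℕ := [7, 3, 5, 1, 7, 3, 5, 1, 5, 0, 4, 2, 6, 0, 4, 2, 6, 4]
def rw2631 : List ℕ := [7, 4, 7, 2, 7, 4, 4, 7, 3, 4, 2, 6, 5, 5, 6, 3, 6, 5, 6, 4, 5, 5]
def rw2632 : List ℕ := [7, 5, 0, 4, 6, 4, 6, 4, 6, 1, 7, 5, 7, 5]
def rw2633 : List ℕ := [7, 3, 7, 7, 5, 1, 4, 6, 6, 2, 6, 4, 4, 3, 0, 2, 5, 5]
def rw2634 : List ℕ := [7, 7, 4, 9, 6, 6, 9, 9, 9, 8, 8, 7, 7, 8, 5, 6, 6, 5, 5, 8, 4, 4]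
def rw2635 : List ℕ := [7, 5, 5, 4, 6, 4, 6, 4, 6, 4, 7, 5, 7, 5]
def rw2636 : List ℕ := [7, 4, 4, 7, 3, 0, 2, 6, 5, 5, 6, 3, 6, 5, 6, 4, 1, 5, 7, 4, 7, 2]
def rw2637 : List ℕ := [7, 3, 7, 7, 7, 3, 3, 2, 6, 6, 6, 2, 6, 6, 6, 2, 7, 7]
def rw2638 : List ℕ := [7, 3, 8, 2, 6, 6, 6, 2, 6, 6, 6, 9, 7, 7, 7, 3, 7, 7]
def rw2639 : List ℕ := [7, 3, 4, 2, 6, 6, 6, 2, 6, 6, 6, 5, 7, 7, 7, 3, 7, 7]
def rw2640 : List ℕ := [7, 4, 6, 9, 6, 9, 6, 9, 6, 9, 5, 8, 7, 8, 7, 8, 7, 8]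
def rw2641 : List ℕ := [7, 7, 5, 8, 4, 6, 6, 2, 6, 4, 4, 3, 9, 2, 5, 5, 7, 3]
def rw2642 : List ℕ := [7, 8, 6, 9, 6, 9, 6, 9, 6, 9, 9, 8, 7, 8, 7, 8, 7, 8]
def rw2643 : List ℕ := [7, 3, 8, 2, 6, 5, 5, 6, 3, 6, 5, 6, 4, 9, 5, 7, 4, 7, 2, 7, 4, 4]
def rw2644 : List ℕ := [7, 4, 7, 5, 8, 4, 6, 5, 6, 4, 6, 6, 6, 9, 7, 7, 7, 5]
def rw2645 : List ℕ := [7, 7, 3, 7, 7, 7, 3, 9, 2, 6, 6, 6, 2, 6, 6, 6, 8, 7]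
def rw2646 : List ℕ := [7, 3, 5, 1, 7, 3, 5, 1, 2, 0, 4, 2, 6, 0, 4, 2, 6, 3]
def rw2647 : List ℕ := [7, 5, 7, 5, 7, 5, 9, 4, 6, 4, 6, 4, 6, 8]
def rw2648 : List ℕ := [7, 2, 7, 4, 4, 7, 3, 0, 2, 6, 5, 5, 6, 3, 6, 5, 6, 4, 1, 5, 7, 4]
def rw2649 : List ℕ := [7, 2, 7, 4, 4, 7, 3, 7, 2, 6, 5, 5, 6, 3, 6, 5, 6, 4, 6, 5, 7, 4]
def rw2650 : List ℕ := [7, 4, 7, 5, 6, 4, 6, 5, 6, 4, 6, 6, 6, 7, 7, 7, 7, 5]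
def rw2651 : List ℕ := [7, 3, 5, 1, 8, 0, 4, 2, 6, 0, 4, 2, 6, 9, 7, 3, 5, 1]
def rw2652 : List ℕ := [7, 5, 7, 5, 8, 4, 6, 4, 6, 4, 6, 9, 7, 5]
def rw2653 : List ℕ := [7, 7, 4, 9, 6, 6, 9, 9, 3, 8, 8, 7, 7, 8, 5, 6, 6, 5, 5, 2, 4, 4]
def rw2654 : List ℕ := [7, 4, 6, 9, 4, 3, 5, 3, 8, 4, 3, 3, 5, 2, 2, 5, 9, 2, 4, 2, 5, 8]
def rw2655 : List ℕ := [7, 5, 6, 5, 3, 6, 2, 7, 5, 3, 4, 2, 4, 6, 3, 7, 2, 4]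
def rw2656 : List ℕ := [7, 8, 7, 8, 7, 0, 6, 9, 6, 9, 6, 9, 6, 9, 1, 8, 7, 8]
def rw2657 : List ℕ := [7, 5, 1, 4, 6, 6, 2, 6, 4, 4, 3, 0, 2, 5, 5, 7, 3, 7]
def rw2658 : List ℕ := [7, 3, 7, 7, 7, 3, 0, 2, 6, 6, 6, 2, 6, 6, 6, 1, 7, 7]
def rw2659 : List ℕ := [7, 7, 7, 3, 0, 2, 6, 6, 6, 2, 6, 6, 6, 1, 7, 7, 7, 3]
def rw2660 : List ℕ := [7, 1, 6, 5, 6, 5, 6, 5, 6, 5, 0, 4, 7, 4, 7, 4, 7, 4]
def rw2661 : List ℕ := [7, 7, 5, 7, 4, 7, 5, 3, 4, 6, 5, 6, 4, 6, 6, 6, 2, 7]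
def rw2662 : List ℕ := [7, 7, 3, 7, 7, 7, 3, 1, 2, 6, 6, 6, 2, 6, 6, 6, 0, 7]
def rw2663 : List ℕ := [7, 8, 5, 6, 6, 5, 5, 1, 4, 4, 7, 7, 4, 9, 6, 6, 9, 9, 0, 8, 8, 7]
def rw2664 : List ℕ := [7, 1, 6, 5, 3, 6, 2, 7, 5, 3, 0, 2, 4, 6, 3, 7, 2, 4]
def rw2665 : List ℕ := [7, 4, 7, 5, 0, 4, 6, 5, 6, 4, 6, 6, 6, 1, 7, 7, 7, 5]
def rw2666 : List ℕ := [7, 5, 3, 0, 2, 4, 6, 3, 7, 2, 4, 7, 1, 6, 5, 3, 6, 2]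
def rw2667 : List ℕ := [7, 3, 1, 2, 6, 6, 6, 2, 6, 6, 6, 0, 7, 7, 7, 3, 7, 7]
def rw2668 : List ℕ := [7, 8, 5, 6, 6, 5, 5, 0, 4, 4, 7, 7, 4, 9, 6, 6, 9, 9, 1, 8, 8, 7]
def rw2669 : List ℕ := [7, 8, 7, 8, 7, 8, 7, 1, 6, 9, 6, 9, 6, 9, 6, 9, 0, 8]
def rw2670 : List ℕ := [7, 3, 5, 1, 9, 0, 4, 2, 6, 0, 4, 2, 6, 8, 7, 3, 5, 1]
def rw2671 : List ℕ := [7, 7, 3, 0, 2, 6, 6, 6, 2, 6, 6, 6, 1, 7, 7, 7, 3, 7]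
def rw2672 : List ℕ := [7, 7, 5, 7, 4, 7, 5, 0, 4, 6, 5, 6, 4, 6, 6, 6, 1, 7]
def rw2673 : List ℕ := [7, 7, 3, 7, 7, 7, 3, 0, 2, 6, 6, 6, 2, 6, 6, 6, 1, 7]
def rw2674 : List ℕ := [7, 7, 5, 9, 4, 6, 6, 2, 6, 4, 4, 3, 8, 2, 5, 5, 7, 3]
def rw2675 : List ℕ := [7, 5, 5, 7, 5, 5, 9, 4, 4, 6, 4, 4, 6, 8]
def rw2676 : List ℕ := [7, 3, 7, 7, 7, 3, 1, 2, 6, 6, 6, 2, 6, 6, 6, 0, 7, 7]
def rw2677 : List ℕ := [7, 2, 7, 4, 4, 7, 3, 8, 2, 6, 5, 5, 6, 3, 6, 5, 6, 4, 9, 5, 7, 4]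
def rw2678 : List ℕ := [7, 4, 9, 6, 6, 9, 9, 3, 8, 8, 7, 7, 8, 5, 6, 6, 5, 5, 2, 4, 4, 7]
def rw2679 : List ℕ := [8, 7, 9, 7, 8, 6]
def rw2680 : List ℕ := [8, 6, 9, 7, 9, 6]
def rw2681 : List ℕ := [8, 6, 8, 7, 9, 7]
def rw2682 : List ℕ := [8, 7, 8, 7, 8, 7, 8, 7, 7, 6, 9, 6, 9, 6, 9, 6, 9, 6]
def rw2683 : List ℕ := [8, 8, 8, 8, 8, 8, 8]
def rw2684 : List ℕ := [8, 7, 8, 7, 8, 7, 9, 6, 9, 6, 9, 6, 9, 6, 9, 8, 8, 7]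
def rw2685 : List ℕ := [8, 8, 8, 8, 8, 8, 8]
def rw2686 : List ℕ := [8, 7, 6, 6, 9, 6, 9, 6, 9, 6, 9, 7, 8, 7, 8, 7, 8, 7]
def rw2687 : List ℕ := [8, 8, 7, 7, 8, 5, 6, 6, 5, 5, 6, 4, 4, 7, 7, 4, 9, 6, 6, 9, 9, 7]
def rw2688 : List ℕ := [8, 8, 7, 7, 8, 5, 6, 6, 5, 5, 3, 4, 4, 7, 7, 4, 9, 6, 6, 9, 9, 2]
def rw2689 : List ℕ := [8, 7, 7, 8, 5, 6, 6, 5, 5, 9, 4, 4, 7, 7, 4, 9, 6, 6, 9, 9, 8, 8]
def rw2690 : List ℕ := [8, 7, 7, 6, 9, 6, 9, 6, 9, 6, 9, 6, 8, 7, 8, 7, 8, 7]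
def rw2691 : List ℕ := [8, 4, 3, 3, 5, 2, 2, 5, 9, 2, 4, 2, 5, 8, 7, 4, 6, 9, 4, 3, 5, 3]
def rw2692 : List ℕ := [8, 7, 8, 7, 8, 7, 8, 7, 4, 6, 9, 6, 9, 6, 9, 6, 9, 5]
def rw2693 : List ℕ := [8, 8, 8, 8, 8, 8, 8]
def rw2694 : List ℕ := [8, 5, 6, 6, 5, 5, 4, 4, 4, 7, 7, 4, 9, 6, 6, 9, 9, 5, 8, 8, 7, 7]
def rw2695 : List ℕ := [8, 7, 7, 8, 5, 6, 6, 5, 5, 6, 4, 4, 7, 7, 4, 9, 6, 6, 9, 9, 7, 8]
def rw2696 : List ℕ := [8, 7, 7, 8, 5, 6, 6, 5, 5, 4, 4, 4, 7, 7, 4, 9, 6, 6, 9, 9, 5, 8]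
def rw2697 : List ℕ := [8, 7, 8, 7, 8, 7, 8, 7, 6, 6, 9, 6, 9, 6, 9, 6, 9, 7]
def rw2698 : List ℕ := [8, 7, 7, 8, 5, 6, 6, 5, 5, 7, 4, 4, 7, 7, 4, 9, 6, 6, 9, 9, 6, 8]
def rw2699 : List ℕ := [8, 8, 8, 8, 8, 8, 8]
def rw2700 : List ℕ := [8, 7, 7, 8, 5, 6, 6, 5, 5, 3, 4, 4, 7, 7, 4, 9, 6, 6, 9, 9, 2, 8]
def rw2701 : List ℕ := [8, 4, 3, 3, 2, 2, 2, 5, 9, 2, 4, 2, 5, 8, 7, 3, 6, 9, 4, 3, 5, 3]
def rw2702 : List ℕ := [8, 4, 3, 3, 8, 2, 2, 5, 9, 2, 4, 2, 5, 8, 7, 9, 6, 9, 4, 3, 5, 3]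
def rw2703 : List ℕ := [8, 7, 8, 7, 8, 7, 6, 6, 9, 6, 9, 6, 9, 6, 9, 7, 8, 7]
def rw2704 : List ℕ := [8, 8, 7, 7, 8, 5, 6, 6, 5, 5, 4, 4, 4, 7, 7, 4, 9, 6, 6, 9, 9, 5]
def rw2705 : List ℕ := [8, 8, 8, 8, 8, 8, 8]
def rw2706 : List ℕ := [8, 7, 7, 8, 5, 6, 6, 5, 5, 5, 4, 4, 7, 7, 4, 9, 6, 6, 9, 9, 4, 8]
def rw2707 : List ℕ := [8, 5, 5, 7, 4, 4, 9, 4, 4, 9, 4, 4, 9, 6, 8, 5, 5, 8, 5, 5]
def rw2708 : List ℕ := [8, 5, 5, 5, 4, 4, 9, 4, 4, 9, 4, 4, 9, 4, 8, 5, 5, 8, 5, 5]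
def rw2709 : List ℕ := [8, 7, 8, 7, 8, 7, 7, 6, 9, 6, 9, 6, 9, 6, 9, 6, 8, 7]
def rw2710 : List ℕ := [8, 7, 4, 6, 9, 4, 3, 5, 3, 8, 4, 3, 3, 5, 2, 2, 5, 9, 2, 4, 2, 5]
def rw2711 : List ℕ := [8, 7, 8, 7, 5, 6, 9, 6, 9, 6, 9, 6, 9, 4, 8, 7, 8, 7]
def rw2712 : List ℕ := [8, 7, 8, 7, 8, 7, 8, 7, 3, 6, 9, 6, 9, 6, 9, 6, 9, 2]
def rw2713 : List ℕ := [8, 5, 5, 8, 5, 5, 2, 4, 4, 9, 4, 4, 9, 4, 4, 9, 3, 8, 5, 5]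
def rw2714 : List ℕ := [8, 5, 5, 8, 5, 5, 6, 4, 4, 9, 4, 4, 9, 4, 4, 9, 7, 8, 5, 5]
def rw2715 : List ℕ := [8, 7, 3, 6, 9, 4, 3, 5, 3, 8, 4, 3, 3, 2, 2, 2, 5, 9, 2, 4, 2, 5]
def rw2716 : List ℕ := [8, 5, 5, 8, 5, 5, 8, 4, 4, 9, 4, 4, 9, 4, 4, 9, 9, 8, 5, 5]
def rw2717 : List ℕ := [8, 5, 5, 8, 5, 5, 3, 4, 4, 9, 4, 4, 9, 4, 4, 9, 2, 8, 5, 5]
def rw2718 : List ℕ := [8, 8, 7, 7, 8, 5, 6, 6, 5, 5, 5, 4, 4, 7, 7, 4, 9, 6, 6, 9, 9, 4]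
def rw2719 : List ℕ := [8, 5, 6, 6, 5, 5, 2, 4, 4, 7, 7, 4, 9, 6, 6, 9, 9, 3, 8, 8, 7, 7]
def rw2720 : List ℕ := [8, 5, 5, 8, 5, 5, 8, 5, 5, 5, 4, 4, 9, 4, 4, 9, 4, 4, 9, 4]
def rw2721 : List ℕ := [8, 5, 5, 8, 5, 5, 5, 4, 4, 9, 4, 4, 9, 4, 4, 9, 4, 8, 5, 5]
def rw2722 : List ℕ := [8, 7, 8, 7, 8, 7, 2, 6, 9, 6, 9, 6, 9, 6, 9, 3, 8, 7]
def rw2723 : List ℕ := [8, 5, 5, 2, 4, 4, 9, 4, 4, 9, 4, 4, 9, 3, 8, 5, 5, 8, 5, 5]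
def rw2724 : List ℕ := [8, 7, 7, 8, 5, 6, 6, 5, 5, 2, 4, 4, 7, 7, 4, 9, 6, 6, 9, 9, 3, 8]
def rw2725 : List ℕ := [8, 4, 3, 3, 3, 2, 2, 5, 9, 2, 4, 2, 5, 8, 7, 2, 6, 9, 4, 3, 5, 3]
def rw2726 : List ℕ := [8, 7, 8, 7, 7, 6, 9, 6, 9, 6, 9, 6, 9, 6, 8, 7, 8, 7]
def rw2727 : List ℕ := [8, 7, 5, 6, 9, 6, 9, 6, 9, 6, 9, 4, 8, 7, 8, 7, 8, 7]
def rw2728 : List ℕ := [8, 7, 3, 6, 9, 6, 9, 6, 9, 6, 9, 2, 8, 7, 8, 7, 8, 7]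
def rw2729 : List ℕ := [8, 7, 8, 7, 8, 7, 4, 6, 9, 6, 9, 6, 9, 6, 9, 5, 8, 7]
def rw2730 : List ℕ := [8, 8, 7, 7, 8, 5, 6, 6, 5, 5, 2, 4, 4, 7, 7, 4, 9, 6, 6, 9, 9, 3]
def rw2731 : List ℕ := [8, 7, 8, 7, 6, 6, 9, 6, 9, 6, 9, 6, 9, 7, 8, 7, 8, 7]
def rw2732 : List ℕ := [8, 4, 3, 3, 7, 2, 2, 5, 9, 2, 4, 2, 5, 8, 7, 6, 6, 9, 4, 3, 5, 3]
def rw2733 : List ℕ := [8, 7, 2, 6, 9, 4, 3, 5, 3, 8, 4, 3, 3, 3, 2, 2, 5, 9, 2, 4, 2, 5]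
def rw2734 : List ℕ := [8, 5, 5, 4, 4, 4, 9, 4, 4, 9, 4, 4, 9, 5, 8, 5, 5, 8, 5, 5]
def rw2735 : List ℕ := [8, 7, 8, 7, 8, 7, 8, 7, 5, 6, 9, 6, 9, 6, 9, 6, 9, 4]
def rw2736 : List ℕ := [8, 5, 5, 8, 4, 4, 9, 4, 4, 9, 4, 4, 9, 9, 8, 5, 5, 8, 5, 5]
def rw2737 : List ℕ := [8, 5, 6, 6, 5, 5, 5, 4, 4, 7, 7, 4, 9, 6, 6, 9, 9, 4, 8, 8, 7, 7]
def rw2738 : List ℕ := [8, 5, 5, 8, 5, 5, 8, 5, 5, 3, 4, 4, 9, 4, 4, 9, 4, 4, 9, 2]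
def rw2739 : List ℕ := [8, 5, 5, 8, 5, 5, 8, 5, 5, 4, 4, 4, 9, 4, 4, 9, 4, 4, 9, 5]
def rw2740 : List ℕ := [8, 4, 4, 9, 4, 4, 9, 4, 4, 9, 9, 8, 5, 5, 8, 5, 5, 8, 5, 5]
def rw2741 : List ℕ := [8, 7, 8, 7, 3, 6, 9, 6, 9, 6, 9, 6, 9, 2, 8, 7, 8, 7]
def rw2742 : List ℕ := [8, 4, 3, 3, 6, 2, 2, 5, 9, 2, 4, 2, 5, 8, 7, 7, 6, 9, 4, 3, 5, 3]
def rw2743 : List ℕ := [8, 4, 4, 7, 7, 4, 9, 6, 6, 9, 9, 9, 8, 8, 7, 7, 8, 5, 6, 6, 5, 5]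
def rw2744 : List ℕ := [8, 5, 6, 6, 5, 5, 3, 4, 4, 7, 7, 4, 9, 6, 6, 9, 9, 2, 8, 8, 7, 7]
def rw2745 : List ℕ := [8, 5, 5, 8, 5, 5, 8, 5, 5, 9, 4, 4, 9, 4, 4, 9, 4, 4, 9, 8]
def rw2746 : List ℕ := [8, 7, 8, 7, 8, 7, 3, 6, 9, 6, 9, 6, 9, 6, 9, 2, 8, 7]
def rw2747 : List ℕ := [8, 8, 8, 8, 8, 8, 8]
def rw2748 : List ℕ := [8, 4, 3, 3, 9, 2, 2, 5, 9, 2, 4, 2, 5, 8, 7, 8, 6, 9, 4, 3, 5, 3]
def rw2749 : List ℕ := [8, 7, 8, 7, 8, 7, 8, 7, 2, 6, 9, 6, 9, 6, 9, 6, 9, 3]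
def rw2750 : List ℕ := [8, 6, 9, 6, 9, 6, 9, 6, 9, 9, 8, 7, 8, 7, 8, 7, 8, 7]
def rw2751 : List ℕ := [8, 8, 7, 7, 8, 5, 6, 6, 5, 5, 7, 4, 4, 7, 7, 4, 9, 6, 6, 9, 9, 6]
def rw2752 : List ℕ := [8, 5, 6, 6, 5, 5, 8, 4, 4, 7, 7, 4, 9, 6, 6, 9, 9, 9, 8, 8, 7, 7]
def rw2753 : List ℕ := [8, 5, 5, 8, 5, 5, 8, 5, 5, 2, 4, 4, 9, 4, 4, 9, 4, 4, 9, 3]
def rw2754 : List ℕ := [8, 7, 8, 7, 8, 7, 8, 7, 9, 6, 9, 6, 9, 6, 9, 6, 9, 8]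
def rw2755 : List ℕ := [8, 5, 5, 6, 4, 4, 9, 4, 4, 9, 4, 4, 9, 7, 8, 5, 5, 8, 5, 5]
def rw2756 : List ℕ := [8, 5, 6, 6, 5, 5, 7, 4, 4, 7, 7, 4, 9, 6, 6, 9, 9, 6, 8, 8, 7, 7]
def rw2757 : List ℕ := [8, 8, 1, 2, 1, 8, 4, 8, 5, 9, 0, 3, 0, 9, 9, 9, 0, 3, 1, 9, 0, 2, 1, 8]
def rw2758 : List ℕ := [8, 4, 6, 5, 9, 0, 3, 0, 9, 9, 9, 0, 3, 1, 7, 0, 2, 1, 8, 8, 8, 1, 2, 1]
def rw2759 : List ℕ := [8, 5, 5, 8, 5, 5, 9, 4, 4, 9, 4, 4, 9, 4, 4, 9, 8, 8, 5, 5]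
def rw2760 : List ℕ := [8, 5, 5, 8, 5, 5, 8, 5, 5, 7, 4, 4, 9, 4, 4, 9, 4, 4, 9, 6]
def rw2761 : List ℕ := [8, 7, 4, 6, 9, 6, 9, 6, 9, 6, 9, 5, 8, 7, 8, 7, 8, 7]
def rw2762 : List ℕ := [8, 5, 5, 3, 4, 4, 9, 4, 4, 9, 4, 4, 9, 2, 8, 5, 5, 8, 5, 5]
def rw2763 : List ℕ := [8, 7, 6, 6, 9, 4, 3, 5, 3, 8, 4, 3, 3, 7, 2, 2, 5, 9, 2, 4, 2, 5]
def rw2764 : List ℕ := [8, 8, 8, 1, 2, 1, 8, 4, 7, 5, 9, 0, 3, 0, 9, 9, 9, 0, 3, 1, 6, 0, 2, 1]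
def rw2765 : List ℕ := [8, 4, 3, 3, 4, 2, 2, 5, 9, 2, 4, 2, 5, 8, 7, 5, 6, 9, 4, 3, 5, 3]
def rw2766 : List ℕ := [8, 7, 8, 7, 2, 6, 9, 6, 9, 6, 9, 6, 9, 3, 8, 7, 8, 7]
def rw2767 : List ℕ := [8, 5, 5, 8, 5, 5, 7, 4, 4, 9, 4, 4, 9, 4, 4, 9, 6, 8, 5, 5]
def rw2768 : List ℕ := [8, 5, 5, 8, 5, 5, 4, 4, 4, 9, 4, 4, 9, 4, 4, 9, 5, 8, 5, 5]
def rw2769 : List ℕ := [8, 5, 6, 6, 5, 5, 9, 4, 4, 7, 7, 4, 9, 6, 6, 9, 9, 8, 8, 8, 7, 7]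
def rw2770 : List ℕ := [8, 4, 5, 5, 9, 0, 3, 0, 9, 9, 9, 0, 3, 1, 4, 0, 2, 1, 8, 8, 8, 1, 2, 1]
def rw2771 : List ℕ := [8, 5, 5, 9, 4, 4, 9, 4, 4, 9, 4, 4, 9, 8, 8, 5, 5, 8, 5, 5]
def rw2772 : List ℕ := [8, 4, 3, 5, 9, 0, 3, 0, 9, 9, 9, 0, 3, 1, 2, 0, 2, 1, 8, 8, 8, 1, 2, 1]
def rw2773 : List ℕ := [8, 8, 1, 2, 1, 8, 4, 4, 5, 9, 0, 3, 0, 9, 9, 9, 0, 3, 1, 5, 0, 2, 1, 8]
def rw2774 : List ℕ := [8, 8, 8, 1, 2, 1, 8, 4, 6, 5, 9, 0, 3, 0, 9, 9, 9, 0, 3, 1, 7, 0, 2, 1]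
def rw2775 : List ℕ := [8, 4, 9, 5, 9, 0, 3, 0, 9, 9, 9, 0, 3, 1, 8, 0, 2, 1, 8, 8, 8, 1, 2, 1]
def rw2776 : List ℕ := [8, 4, 4, 5, 9, 0, 3, 0, 9, 9, 9, 0, 3, 1, 5, 0, 2, 1, 8, 8, 8, 1, 2, 1]
def rw2777 : List ℕ := [8, 8, 1, 2, 1, 8, 4, 7, 5, 9, 0, 3, 0, 9, 9, 9, 0, 3, 1, 6, 0, 2, 1, 8]
def rw2778 : List ℕ := [8, 7, 7, 6, 9, 4, 3, 5, 3, 8, 4, 3, 3, 6, 2, 2, 5, 9, 2, 4, 2, 5]
def rw2779 : List ℕ := [8, 5, 5, 8, 5, 5, 8, 5, 5, 6, 4, 4, 9, 4, 4, 9, 4, 4, 9, 7]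
def rw2780 : List ℕ := [8, 8, 1, 2, 1, 8, 4, 3, 5, 9, 0, 3, 0, 9, 9, 9, 0, 3, 1, 2, 0, 2, 1, 8]
def rw2781 : List ℕ := [8, 7, 7, 8, 5, 6, 6, 5, 5, 1, 4, 4, 7, 7, 4, 9, 6, 6, 9, 9, 0, 8]
def rw2782 : List ℕ := [8, 8, 1, 2, 1, 8, 4, 6, 5, 9, 0, 3, 0, 9, 9, 9, 0, 3, 1, 7, 0, 2, 1, 8]
def rw2783 : List ℕ := [8, 5, 6, 6, 5, 5, 6, 4, 4, 7, 7, 4, 9, 6, 6, 9, 9, 7, 8, 8, 7, 7]
def rw2784 : List ℕ := [8, 7, 8, 7, 8, 7, 5, 6, 9, 6, 9, 6, 9, 6, 9, 4, 8, 7]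
def rw2785 : List ℕ := [8, 7, 8, 6, 9, 4, 3, 5, 3, 8, 4, 3, 3, 9, 2, 2, 5, 9, 2, 4, 2, 5]
def rw2786 : List ℕ := [8, 7, 8, 7, 4, 6, 9, 6, 9, 6, 9, 6, 9, 5, 8, 7, 8, 7]
def rw2787 : List ℕ := [8, 4, 2, 5, 9, 0, 3, 0, 9, 9, 9, 0, 3, 1, 3, 0, 2, 1, 8, 8, 8, 1, 2, 1]
def rw2788 : List ℕ := [8, 1, 2, 1, 8, 4, 0, 5, 9, 0, 3, 0, 9, 9, 9, 0, 3, 1, 1, 0, 2, 1, 8, 8]
def rw2789 : List ℕ := [8, 8, 1, 2, 1, 8, 4, 5, 5, 9, 0, 3, 0, 9, 9, 9, 0, 3, 1, 4, 0, 2, 1, 8]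
def rw2790 : List ℕ := [8, 7, 7, 8, 5, 6, 6, 5, 5, 0, 4, 4, 7, 7, 4, 9, 6, 6, 9, 9, 1, 8]
def rw2791 : List ℕ := [8, 4, 0, 5, 9, 0, 3, 0, 9, 9, 9, 0, 3, 1, 1, 0, 2, 1, 8, 8, 8, 1, 2, 1]
def rw2792 : List ℕ := [8, 8, 1, 2, 1, 8, 4, 9, 5, 9, 0, 3, 0, 9, 9, 9, 0, 3, 1, 8, 0, 2, 1, 8]
def rw2793 : List ℕ := [8, 1, 2, 1, 8, 4, 9, 5, 9, 0, 3, 0, 9, 9, 9, 0, 3, 1, 8, 0, 2, 1, 8, 8]
def rw2794 : List ℕ := [8, 5, 6, 6, 5, 5, 0, 4, 4, 7, 7, 4, 9, 6, 6, 9, 9, 1, 8, 8, 7, 7]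
def rw2795 : List ℕ := [8, 8, 1, 2, 1, 8, 4, 2, 5, 9, 0, 3, 0, 9, 9, 9, 0, 3, 1, 3, 0, 2, 1, 8]
def rw2796 : List ℕ := [8, 1, 2, 1, 8, 4, 5, 5, 9, 0, 3, 0, 9, 9, 9, 0, 3, 1, 4, 0, 2, 1, 8, 8]
def rw2797 : List ℕ := [8, 8, 1, 2, 1, 8, 4, 1, 5, 9, 0, 3, 0, 9, 9, 9, 0, 3, 1, 0, 0, 2, 1, 8]
def rw2798 : List ℕ := [8, 5, 6, 6, 5, 5, 1, 4, 4, 7, 7, 4, 9, 6, 6, 9, 9, 0, 8, 8, 7, 7]
def rw2799 : List ℕ := [8, 7, 5, 6, 9, 4, 3, 5, 3, 8, 4, 3, 3, 4, 2, 2, 5, 9, 2, 4, 2, 5]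
def rw2800 : List ℕ := [8, 7, 2, 6, 9, 6, 9, 6, 9, 6, 9, 3, 8, 7, 8, 7, 8, 7]
def rw2801 : List ℕ := [9, 6, 8, 6, 9, 7]
def rw2802 : List ℕ := [9, 9, 9, 9, 9, 9, 9]
def rw2803 : List ℕ := [9, 7, 8, 6, 8, 7]
def rw2804 : List ℕ := [9, 7, 9, 6, 8, 6]
def rw2805 : List ℕ := [9, 6, 9, 6, 9, 6, 9, 6, 9, 8, 8, 7, 8, 7, 8, 7, 8, 7]
def rw2806 : List ℕ := [9, 7, 8, 7, 8, 7, 8, 7, 8, 7, 6, 6, 9, 6, 9, 6, 9, 6]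
def rw2807 : List ℕ := [9, 9, 9, 9, 9, 9, 9]
def rw2808 : List ℕ := [9, 2, 4, 2, 5, 8, 7, 4, 6, 9, 4, 3, 5, 3, 8, 4, 3, 3, 5, 2, 2, 5]
def rw2809 : List ℕ := [9, 9, 4, 8, 8, 7, 7, 8, 5, 6, 6, 5, 5, 5, 4, 4, 7, 7, 4, 9, 6, 6]
def rw2810 : List ℕ := [9, 6, 9, 6, 9, 6, 9, 6, 8, 7, 8, 7, 8, 7, 8, 7, 7, 6]
def rw2811 : List ℕ := [9, 2, 4, 2, 5, 8, 7, 6, 6, 9, 4, 3, 5, 3, 8, 4, 3, 3, 7, 2, 2, 5]
def rw2812 : List ℕ := [9, 2, 4, 2, 5, 8, 7, 2, 6, 9, 4, 3, 5, 3, 8, 4, 3, 3, 3, 2, 2, 5]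
def rw2813 : List ℕ := [9, 6, 9, 6, 9, 4, 8, 7, 8, 7, 8, 7, 8, 7, 5, 6, 9, 6]
def rw2814 : List ℕ := [9, 9, 9, 9, 9, 9, 9]
def rw2815 : List ℕ := [9, 4, 4, 9, 4, 4, 9, 2, 8, 5, 5, 8, 5, 5, 8, 5, 5, 3, 4, 4]
def rw2816 : List ℕ := [9, 6, 9, 6, 9, 6, 8, 7, 8, 7, 8, 7, 8, 7, 7, 6, 9, 6]
def rw2817 : List ℕ := [9, 6, 6, 9, 9, 6, 8, 8, 7, 7, 8, 5, 6, 6, 5, 5, 7, 4, 4, 7, 7, 4]
def rw2818 : List ℕ := [9, 9, 7, 8, 8, 7, 7, 8, 5, 6, 6, 5, 5, 6, 4, 4, 7, 7, 4, 9, 6, 6]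
def rw2819 : List ℕ := [9, 3, 8, 8, 7, 7, 8, 5, 6, 6, 5, 5, 2, 4, 4, 7, 7, 4, 9, 6, 6, 9]
def rw2820 : List ℕ := [9, 9, 9, 9, 9, 9, 9]
def rw2821 : List ℕ := [9, 6, 9, 8, 8, 7, 8, 7, 8, 7, 8, 7, 9, 6, 9, 6, 9, 6]
def rw2822 : List ℕ := [9, 9, 5, 8, 8, 7, 7, 8, 5, 6, 6, 5, 5, 4, 4, 4, 7, 7, 4, 9, 6, 6]
def rw2823 : List ℕ := [9, 6, 8, 7, 8, 7, 8, 7, 8, 7, 7, 6, 9, 6, 9, 6, 9, 6]
def rw2824 : List ℕ := [9, 4, 4, 9, 4, 4, 9, 8, 8, 5, 5, 8, 5, 5, 8, 5, 5, 9, 4, 4]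
def rw2825 : List ℕ := [9, 5, 8, 5, 5, 8, 5, 5, 8, 5, 5, 4, 4, 4, 9, 4, 4, 9, 4, 4]
def rw2826 : List ℕ := [9, 2, 2, 5, 9, 2, 4, 2, 5, 8, 7, 8, 6, 9, 4, 3, 5, 3, 8, 4, 3, 3]
def rw2827 : List ℕ := [9, 6, 9, 6, 9, 3, 8, 7, 8, 7, 8, 7, 8, 7, 2, 6, 9, 6]
def rw2828 : List ℕ := [9, 4, 3, 5, 3, 8, 4, 3, 3, 5, 2, 2, 5, 9, 2, 4, 2, 5, 8, 7, 4, 6]
def rw2829 : List ℕ := [9, 4, 3, 5, 3, 8, 4, 3, 3, 2, 2, 2, 5, 9, 2, 4, 2, 5, 8, 7, 3, 6]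
def rw2830 : List ℕ := [9, 4, 8, 8, 7, 7, 8, 5, 6, 6, 5, 5, 5, 4, 4, 7, 7, 4, 9, 6, 6, 9]
def rw2831 : List ℕ := [9, 6, 9, 2, 8, 7, 8, 7, 8, 7, 8, 7, 3, 6, 9, 6, 9, 6]
def rw2832 : List ℕ := [9, 9, 9, 9, 9, 9, 9]
def rw2833 : List ℕ := [9, 6, 6, 9, 9, 2, 8, 8, 7, 7, 8, 5, 6, 6, 5, 5, 3, 4, 4, 7, 7, 4]
def rw2834 : List ℕ := [9, 6, 9, 6, 9, 5, 8, 7, 8, 7, 8, 7, 8, 7, 4, 6, 9, 6]
def rw2835 : List ℕ := [9, 2, 8, 8, 7, 7, 8, 5, 6, 6, 5, 5, 3, 4, 4, 7, 7, 4, 9, 6, 6, 9]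
def rw2836 : List ℕ := [9, 6, 9, 6, 9, 6, 9, 7, 8, 7, 8, 7, 8, 7, 8, 7, 6, 6]
def rw2837 : List ℕ := [9, 9, 2, 8, 8, 7, 7, 8, 5, 6, 6, 5, 5, 3, 4, 4, 7, 7, 4, 9, 6, 6]
def rw2838 : List ℕ := [9, 4, 4, 9, 4, 4, 9, 9, 8, 5, 5, 8, 5, 5, 8, 5, 5, 8, 4, 4]
def rw2839 : List ℕ := [9, 6, 9, 6, 9, 7, 8, 7, 8, 7, 8, 7, 8, 7, 6, 6, 9, 6]
def rw2840 : List ℕ := [9, 6, 9, 3, 8, 7, 8, 7, 8, 7, 8, 7, 2, 6, 9, 6, 9, 6]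
def rw2841 : List ℕ := [9, 2, 8, 5, 5, 8, 5, 5, 8, 5, 5, 3, 4, 4, 9, 4, 4, 9, 4, 4]
def rw2842 : List ℕ := [9, 6, 8, 8, 7, 7, 8, 5, 6, 6, 5, 5, 7, 4, 4, 7, 7, 4, 9, 6, 6, 9]
def rw2843 : List ℕ := [9, 6, 9, 4, 8, 7, 8, 7, 8, 7, 8, 7, 5, 6, 9, 6, 9, 6]
def rw2844 : List ℕ := [9, 6, 9, 6, 9, 2, 8, 7, 8, 7, 8, 7, 8, 7, 3, 6, 9, 6]
def rw2845 : List ℕ := [9, 2, 4, 2, 5, 8, 7, 3, 6, 9, 4, 3, 5, 3, 8, 4, 3, 3, 2, 2, 2, 5]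
def rw2846 : List ℕ := [9, 2, 4, 2, 5, 8, 7, 5, 6, 9, 4, 3, 5, 3, 8, 4, 3, 3, 4, 2, 2, 5]
def rw2847 : List ℕ := [9, 4, 3, 5, 3, 8, 4, 3, 3, 3, 2, 2, 5, 9, 2, 4, 2, 5, 8, 7, 2, 6]
def rw2848 : List ℕ := [9, 4, 4, 9, 4, 4, 9, 6, 8, 5, 5, 8, 5, 5, 8, 5, 5, 7, 4, 4]
def rw2849 : List ℕ := [9, 2, 4, 2, 5, 8, 7, 8, 6, 9, 4, 3, 5, 3, 8, 4, 3, 3, 9, 2, 2, 5]
def rw2850 : List ℕ := [9, 4, 4, 9, 4, 4, 9, 4, 4, 9, 8, 8, 5, 5, 8, 5, 5, 8, 5, 5]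
def rw2851 : List ℕ := [9, 4, 4, 9, 2, 8, 5, 5, 8, 5, 5, 8, 5, 5, 3, 4, 4, 9, 4, 4]
def rw2852 : List ℕ := [9, 6, 9, 7, 8, 7, 8, 7, 8, 7, 8, 7, 6, 6, 9, 6, 9, 6]
def rw2853 : List ℕ := [9, 4, 8, 7, 8, 7, 8, 7, 8, 7, 5, 6, 9, 6, 9, 6, 9, 6]
def rw2854 : List ℕ := [9, 9, 6, 8, 8, 7, 7, 8, 5, 6, 6, 5, 5, 7, 4, 4, 7, 7, 4, 9, 6, 6]
def rw2855 : List ℕ := [9, 4, 4, 9, 3, 8, 5, 5, 8, 5, 5, 8, 5, 5, 2, 4, 4, 9, 4, 4]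
def rw2856 : List ℕ := [9, 4, 4, 9, 4, 4, 9, 3, 8, 5, 5, 8, 5, 5, 8, 5, 5, 2, 4, 4]
def rw2857 : List ℕ := [9, 4, 4, 9, 5, 8, 5, 5, 8, 5, 5, 8, 5, 5, 4, 4, 4, 9, 4, 4]
def rw2858 : List ℕ := [9, 4, 3, 5, 3, 8, 4, 3, 3, 4, 2, 2, 5, 9, 2, 4, 2, 5, 8, 7, 5, 6]
def rw2859 : List ℕ := [9, 4, 4, 7, 7, 4, 9, 6, 6, 9, 9, 8, 8, 8, 7, 7, 8, 5, 6, 6, 5, 5]
def rw2860 : List ℕ := [9, 6, 6, 9, 9, 8, 8, 8, 7, 7, 8, 5, 6, 6, 5, 5, 9, 4, 4, 7, 7, 4]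
def rw2861 : List ℕ := [9, 5, 8, 8, 7, 7, 8, 5, 6, 6, 5, 5, 4, 4, 4, 7, 7, 4, 9, 6, 6, 9]
def rw2862 : List ℕ := [9, 3, 8, 7, 8, 7, 8, 7, 8, 7, 2, 6, 9, 6, 9, 6, 9, 6]
def rw2863 : List ℕ := [9, 4, 4, 9, 7, 8, 5, 5, 8, 5, 5, 8, 5, 5, 6, 4, 4, 9, 4, 4]
def rw2864 : List ℕ := [9, 2, 8, 7, 8, 7, 8, 7, 8, 7, 3, 6, 9, 6, 9, 6, 9, 6]
def rw2865 : List ℕ := [9, 9, 9, 9, 9, 9, 9]
def rw2866 : List ℕ := [9, 6, 6, 9, 9, 4, 8, 8, 7, 7, 8, 5, 6, 6, 5, 5, 5, 4, 4, 7, 7, 4]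
def rw2867 : List ℕ := [9, 2, 4, 2, 5, 8, 7, 7, 6, 9, 4, 3, 5, 3, 8, 4, 3, 3, 6, 2, 2, 5]
def rw2868 : List ℕ := [9, 6, 6, 9, 9, 5, 8, 8, 7, 7, 8, 5, 6, 6, 5, 5, 4, 4, 4, 7, 7, 4]
def rw2869 : List ℕ := [9, 6, 9, 6, 9, 6, 9, 2, 8, 7, 8, 7, 8, 7, 8, 7, 3, 6]
def rw2870 : List ℕ := [9, 9, 9, 8, 8, 7, 7, 8, 5, 6, 6, 5, 5, 8, 4, 4, 7, 7, 4, 9, 6, 6]
def rw2871 : List ℕ := [9, 9, 3, 8, 8, 7, 7, 8, 5, 6, 6, 5, 5, 2, 4, 4, 7, 7, 4, 9, 6, 6]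
def rw2872 : List ℕ := [9, 6, 9, 6, 8, 7, 8, 7, 8, 7, 8, 7, 7, 6, 9, 6, 9, 6]
def rw2873 : List ℕ := [9, 4, 8, 5, 5, 8, 5, 5, 8, 5, 5, 5, 4, 4, 9, 4, 4, 9, 4, 4]
def rw2874 : List ℕ := [9, 4, 4, 9, 4, 4, 9, 4, 8, 5, 5, 8, 5, 5, 8, 5, 5, 5, 4, 4]
def rw2875 : List ℕ := [9, 4, 4, 9, 6, 8, 5, 5, 8, 5, 5, 8, 5, 5, 7, 4, 4, 9, 4, 4]
def rw2876 : List ℕ := [9, 4, 3, 5, 3, 8, 4, 3, 3, 6, 2, 2, 5, 9, 2, 4, 2, 5, 8, 7, 7, 6]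
def rw2877 : List ℕ := [9, 9, 0, 3, 1, 7, 0, 2, 1, 8, 8, 8, 1, 2, 1, 8, 4, 6, 5, 9, 0, 3, 0, 9]
def rw2878 : List ℕ := [9, 9, 0, 3, 1, 8, 0, 2, 1, 8, 8, 8, 1, 2, 1, 8, 4, 9, 5, 9, 0, 3, 0, 9]
def rw2879 : List ℕ := [9, 6, 9, 6, 9, 6, 9, 3, 8, 7, 8, 7, 8, 7, 8, 7, 2, 6]
def rw2880 : List ℕ := [9, 7, 8, 5, 5, 8, 5, 5, 8, 5, 5, 6, 4, 4, 9, 4, 4, 9, 4, 4]
def rw2881 : List ℕ := [9, 6, 6, 9, 9, 9, 8, 8, 7, 7, 8, 5, 6, 6, 5, 5, 8, 4, 4, 7, 7, 4]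
def rw2882 : List ℕ := [9, 0, 3, 1, 8, 0, 2, 1, 8, 8, 8, 1, 2, 1, 8, 4, 9, 5, 9, 0, 3, 0, 9, 9]
def rw2883 : List ℕ := [9, 9, 0, 3, 1, 2, 0, 2, 1, 8, 8, 8, 1, 2, 1, 8, 4, 3, 5, 9, 0, 3, 0, 9]
def rw2884 : List ℕ := [9, 4, 4, 9, 8, 8, 5, 5, 8, 5, 5, 8, 5, 5, 9, 4, 4, 9, 4, 4]
def rw2885 : List ℕ := [9, 4, 4, 9, 4, 4, 9, 7, 8, 5, 5, 8, 5, 5, 8, 5, 5, 6, 4, 4]
def rw2886 : List ℕ := [9, 6, 6, 9, 9, 7, 8, 8, 7, 7, 8, 5, 6, 6, 5, 5, 6, 4, 4, 7, 7, 4]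
def rw2887 : List ℕ := [9, 4, 3, 5, 3, 8, 4, 3, 3, 7, 2, 2, 5, 9, 2, 4, 2, 5, 8, 7, 6, 6]
def rw2888 : List ℕ := [9, 3, 8, 5, 5, 8, 5, 5, 8, 5, 5, 2, 4, 4, 9, 4, 4, 9, 4, 4]
def rw2889 : List ℕ := [9, 4, 4, 9, 9, 8, 5, 5, 8, 5, 5, 8, 5, 5, 8, 4, 4, 9, 4, 4]
def rw2890 : List ℕ := [9, 2, 4, 2, 5, 8, 7, 9, 6, 9, 4, 3, 5, 3, 8, 4, 3, 3, 8, 2, 2, 5]
def rw2891 : List ℕ := [9, 6, 8, 5, 5, 8, 5, 5, 8, 5, 5, 7, 4, 4, 9, 4, 4, 9, 4, 4]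
def rw2892 : List ℕ := [9, 4, 4, 9, 4, 4, 9, 5, 8, 5, 5, 8, 5, 5, 8, 5, 5, 4, 4, 4]
def rw2893 : List ℕ := [9, 7, 8, 8, 7, 7, 8, 5, 6, 6, 5, 5, 6, 4, 4, 7, 7, 4, 9, 6, 6, 9]
def rw2894 : List ℕ := [9, 6, 6, 9, 9, 3, 8, 8, 7, 7, 8, 5, 6, 6, 5, 5, 2, 4, 4, 7, 7, 4]
def rw2895 : List ℕ := [9, 9, 0, 3, 1, 6, 0, 2, 1, 8, 8, 8, 1, 2, 1, 8, 4, 7, 5, 9, 0, 3, 0, 9]
def rw2896 : List ℕ := [9, 9, 0, 3, 1, 5, 0, 2, 1, 8, 8, 8, 1, 2, 1, 8, 4, 4, 5, 9, 0, 3, 0, 9]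
def rw2897 : List ℕ := [9, 6, 9, 6, 9, 8, 8, 7, 8, 7, 8, 7, 8, 7, 9, 6, 9, 6]
def rw2898 : List ℕ := [9, 9, 0, 8, 8, 7, 7, 8, 5, 6, 6, 5, 5, 1, 4, 4, 7, 7, 4, 9, 6, 6]
def rw2899 : List ℕ := [9, 9, 0, 3, 1, 3, 0, 2, 1, 8, 8, 8, 1, 2, 1, 8, 4, 2, 5, 9, 0, 3, 0, 9]
def rw2900 : List ℕ := [9, 0, 3, 0, 9, 9, 9, 0, 3, 1, 0, 0, 2, 1, 8, 8, 8, 1, 2, 1, 8, 4, 1, 5]
def rw2901 : List ℕ := [9, 0, 3, 0, 9, 9, 9, 0, 3, 1, 2, 0, 2, 1, 8, 8, 8, 1, 2, 1, 8, 4, 3, 5]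
def rw2902 : List ℕ := [9, 6, 6, 9, 9, 1, 8, 8, 7, 7, 8, 5, 6, 6, 5, 5, 0, 4, 4, 7, 7, 4]
def rw2903 : List ℕ := [9, 9, 8, 5, 5, 8, 5, 5, 8, 5, 5, 8, 4, 4, 9, 4, 4, 9, 4, 4]
def rw2904 : List ℕ := [9, 4, 3, 5, 3, 8, 4, 3, 3, 9, 2, 2, 5, 9, 2, 4, 2, 5, 8, 7, 8, 6]
def rw2905 : List ℕ := [9, 6, 9, 5, 8, 7, 8, 7, 8, 7, 8, 7, 4, 6, 9, 6, 9, 6]
def rw2906 : List ℕ := [9, 4, 4, 9, 4, 8, 5, 5, 8, 5, 5, 8, 5, 5, 5, 4, 4, 9, 4, 4]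
def rw2907 : List ℕ := [9, 9, 0, 3, 1, 0, 0, 2, 1, 8, 8, 8, 1, 2, 1, 8, 4, 1, 5, 9, 0, 3, 0, 9]
def rw2908 : List ℕ := [9, 0, 3, 1, 3, 0, 2, 1, 8, 8, 8, 1, 2, 1, 8, 4, 2, 5, 9, 0, 3, 0, 9, 9]
def rw2909 : List ℕ := [9, 0, 3, 1, 6, 0, 2, 1, 8, 8, 8, 1, 2, 1, 8, 4, 7, 5, 9, 0, 3, 0, 9, 9]
def rw2910 : List ℕ := [9, 0, 3, 1, 2, 0, 2, 1, 8, 8, 8, 1, 2, 1, 8, 4, 3, 5, 9, 0, 3, 0, 9, 9]
def rw2911 : List ℕ := [9, 4, 4, 9, 1, 8, 5, 5, 8, 5, 5, 8, 5, 5, 0, 4, 4, 9, 4, 4]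
def rw2912 : List ℕ := [9, 0, 3, 1, 7, 0, 2, 1, 8, 8, 8, 1, 2, 1, 8, 4, 6, 5, 9, 0, 3, 0, 9, 9]
def rw2913 : List ℕ := [9, 6, 9, 6, 9, 0, 8, 7, 8, 7, 8, 7, 8, 7, 1, 6, 9, 6]
def rw2914 : List ℕ := [9, 4, 3, 5, 3, 8, 4, 3, 3, 8, 2, 2, 5, 9, 2, 4, 2, 5, 8, 7, 9, 6]
def rw2915 : List ℕ := [9, 0, 3, 0, 9, 9, 9, 0, 3, 1, 8, 0, 2, 1, 8, 8, 8, 1, 2, 1, 8, 4, 9, 5]
def rw2916 : List ℕ := [9, 6, 9, 6, 9, 6, 9, 4, 8, 7, 8, 7, 8, 7, 8, 7, 5, 6]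
def rw2917 : List ℕ := [9, 0, 3, 0, 9, 9, 9, 0, 3, 1, 4, 0, 2, 1, 8, 8, 8, 1, 2, 1, 8, 4, 5, 5]
def rw2918 : List ℕ := [9, 9, 0, 3, 1, 9, 0, 2, 1, 8, 8, 8, 1, 2, 1, 8, 4, 8, 5, 9, 0, 3, 0, 9]
def rw2919 : List ℕ := [9, 0, 3, 1, 5, 0, 2, 1, 8, 8, 8, 1, 2, 1, 8, 4, 4, 5, 9, 0, 3, 0, 9, 9]
def rw2920 : List ℕ := [9, 9, 9, 0, 3, 1, 3, 0, 2, 1, 8, 8, 8, 1, 2, 1, 8, 4, 2, 5, 9, 0, 3, 0]
def rw2921 : List ℕ := [0, 4, 2, 0, 3, 4, 1, 1, 1, 0, 0, 5, 2, 1, 3, 5]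
def rw2922 : List ℕ := [3, 2, 5, 5, 5, 2, 5, 5, 5, 2, 4, 4, 4, 3, 4, 4, 4, 3]
def rw2923 : List ℕ := [3, 2, 5, 2, 5, 2, 5, 2, 4, 3, 4, 3, 4, 3]
def rw2924 : List ℕ := [4, 2, 5, 8, 7, 9, 6, 9, 4, 3, 5, 3, 8, 4, 3, 3, 8, 2, 2, 5, 9, 2]
def rw2925 : List ℕ := [8, 7, 8, 6, 9, 6, 9, 6, 9, 6, 9, 9, 8, 7, 8, 7, 8, 7]
def rw2926 : List ℕ := [1, 2, 5, 2, 5, 2, 5, 0, 4, 3, 4, 3, 4, 3]
def rw2927 : List ℕ := [6, 2, 6, 6, 6, 2, 6, 6, 6, 7, 7, 7, 7, 3, 7, 7, 7, 3]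
def rw2928 : List ℕ := [3, 4, 7, 4, 7, 4, 7, 4, 7, 2, 6, 5, 6, 5, 6, 5, 6, 5]
def rw2929 : List ℕ := [2, 4, 6, 6, 2, 6, 4, 4, 3, 3, 2, 5, 5, 7, 3, 7, 7, 5]
def rw2930 : List ℕ := [2, 7, 7, 7, 3, 7, 7, 7, 3, 3, 2, 6, 6, 6, 2, 6, 6, 6]
def rw2931 : List ℕ := [6, 6, 6, 7, 7, 7, 7, 3, 7, 7, 7, 3, 6, 2, 6, 6, 6, 2]
def rw2932 : List ℕ := [3, 5, 1, 0, 0, 4, 2, 6, 0, 4, 2, 6, 1, 7, 3, 5, 1, 7]
def rw2933 : List ℕ := [6, 4, 6, 4, 7, 5, 7, 7, 6, 4, 6, 5, 7, 5]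
def rw2934 : List ℕ := [3, 4, 2, 0, 3, 4, 1, 1, 2, 0, 0, 5, 2, 1, 3, 5]
def rw2935 : List ℕ := [3, 5, 2, 5, 2, 5, 2, 5, 4, 4, 3, 4, 3, 4]
def rw2936 : List ℕ := [9, 1, 8, 7, 8, 7, 8, 7, 8, 7, 0, 6, 9, 6, 9, 6, 9, 6]
def rw2937 : List ℕ := [2, 6, 5, 3, 6, 2, 7, 5, 3, 3, 2, 4, 6, 3, 7, 2, 4, 7]
def rw2938 : List ℕ := [7, 0, 4, 2, 6, 0, 4, 2, 6, 6, 7, 3, 5, 1, 7, 3, 5, 1]
def rw2939 : List ℕ := [5, 5, 5, 4, 4, 4, 4, 3, 4, 4, 4, 3, 5, 2, 5, 5, 5, 2]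
def rw2940 : List ℕ := [6, 5, 7, 7, 7, 3, 7, 7, 7, 3, 4, 2, 6, 6, 6, 2, 6, 6]
def rw2941 : List ℕ := [7, 4, 6, 5, 6, 4, 6, 6, 6, 6, 7, 7, 7, 5, 7, 4, 7, 5]
def rw2942 : List ℕ := [1, 4, 4, 4, 3, 4, 4, 4, 3, 0, 2, 5, 5, 5, 2, 5, 5, 5]
def rw2943 : List ℕ := [5, 0, 3, 5, 1, 5, 1, 4, 4, 5, 0, 4, 0, 4, 2, 1]
def rw2944 : List ℕ := [7, 5, 2, 2, 2, 5, 3, 3, 3, 3, 6, 2, 2, 2, 2, 4, 3, 3, 3, 4]
def rw2945 : List ℕ := [4, 7, 5, 5, 7, 5, 5, 5, 4, 4, 6, 4, 4, 6]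
def rw2946 : List ℕ := [4, 6, 5, 0, 4, 0, 4, 2, 1, 7, 0, 3, 5, 1, 5, 1]
def rw2947 : List ℕ := [3, 2, 6, 6, 6, 2, 6, 6, 6, 2, 7, 7, 7, 3, 7, 7, 7, 3]
def rw2948 : List ℕ := [5, 2, 5, 5, 5, 2, 5, 5, 5, 4, 4, 4, 4, 3, 4, 4, 4, 3]
def rw2949 : List ℕ := [5, 5, 5, 8, 4, 4, 4, 3, 4, 4, 4, 3, 9, 2, 5, 5, 5, 2]
def rw2950 : List ℕ := [2, 5, 7, 4, 7, 2, 7, 4, 4, 7, 3, 3, 2, 6, 5, 5, 6, 3, 6, 5, 6, 4]
def rw2951 : List ℕ := [7, 9, 6, 4, 6, 5, 7, 5, 8, 4, 6, 4, 7, 5]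
def rw2952 : List ℕ := [7, 2, 2, 5, 9, 2, 4, 2, 5, 8, 7, 6, 6, 9, 4, 3, 5, 3, 8, 4, 3, 3]
def rw2953 : List ℕ := [4, 6, 5, 6, 5, 6, 5, 6, 5, 5, 4, 7, 4, 7, 4, 7, 4, 7]
def rw2954 : List ℕ := [5, 2, 6, 5, 5, 6, 3, 6, 5, 6, 4, 4, 5, 7, 4, 7, 2, 7, 4, 4, 7, 3]
def rw2955 : List ℕ := [4, 2, 4, 6, 3, 7, 2, 4, 7, 5, 6, 5, 3, 6, 2, 7, 5, 3]
def rw2956 : List ℕ := [8, 7, 8, 7, 9, 6, 9, 6, 9, 6, 9, 6, 9, 8, 8, 7, 8, 7]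
def rw2957 : List ℕ := [2, 0, 3, 5, 1, 5, 1, 4, 3, 5, 0, 4, 0, 4, 2, 1]
def rw2958 : List ℕ := [7, 7, 7, 7, 7, 7, 7]
def rw2959 : List ℕ := [6, 5, 6, 5, 6, 5, 6, 5, 9, 4, 7, 4, 7, 4, 7, 4, 7, 8]
def rw2960 : List ℕ := [2, 5, 2, 5, 4, 4, 3, 4, 3, 4, 3, 5, 2, 5]
def rw2961 : List ℕ := [4, 0, 2, 4, 0, 5, 5, 5, 5, 4, 4, 4, 1, 5, 3, 1]
def rw2962 : List ℕ := [7, 6, 5, 3, 6, 2, 7, 5, 3, 6, 2, 4, 6, 3, 7, 2, 4, 7]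
def rw2963 : List ℕ := [6, 6, 6, 7, 7, 7, 5, 7, 4, 7, 5, 7, 4, 6, 5, 6, 4, 6]
def rw2964 : List ℕ := [6, 6, 6, 8, 7, 7, 7, 5, 7, 4, 7, 5, 9, 4, 6, 5, 6, 4]
def rw2965 : List ℕ := [2, 4, 4, 4, 3, 4, 4, 4, 3, 3, 2, 5, 5, 5, 2, 5, 5, 5]
def rw2966 : List ℕ := [4, 4, 7, 7, 4, 9, 6, 6, 9, 9, 2, 8, 8, 7, 7, 8, 5, 6, 6, 5, 5, 3]
def rw2967 : List ℕ := [4, 3, 4, 3, 5, 2, 5, 2, 5, 2, 5, 4, 4, 3]
def rw2968 : List ℕ := [5, 4, 4, 4, 9, 4, 4, 9, 4, 4, 9, 5, 8, 5, 5, 8, 5, 5, 8, 5]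
def rw2969 : List ℕ := [3, 7, 7, 7, 3, 9, 2, 6, 6, 6, 2, 6, 6, 6, 8, 7, 7, 7]
def rw2970 : List ℕ := [4, 2, 5, 5, 5, 2, 5, 5, 5, 5, 4, 4, 4, 3, 4, 4, 4, 3]
def rw2971 : List ℕ := [9, 8, 8, 8, 7, 7, 8, 5, 6, 6, 5, 5, 9, 4, 4, 7, 7, 4, 9, 6, 6, 9]
def rw2972 : List ℕ := [6, 2, 2, 5, 9, 2, 4, 2, 5, 8, 7, 7, 6, 9, 4, 3, 5, 3, 8, 4, 3, 3]
def rw2973 : List ℕ := [5, 5, 6, 4, 4, 9, 4, 4, 9, 4, 4, 9, 7, 8, 5, 5, 8, 5, 5, 8]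
def rw2974 : List ℕ := [5, 5, 5, 9, 4, 4, 4, 1, 5, 3, 1, 8, 0, 2, 4, 0]
def rw2975 : List ℕ := [5, 5, 5, 4, 4, 4, 3, 4, 4, 4, 3, 4, 2, 5, 5, 5, 2, 5]
def rw2976 : List ℕ := [0, 3, 1, 2, 0, 2, 1, 8, 8, 8, 1, 2, 1, 8, 4, 3, 5, 9, 0, 3, 0, 9, 9, 9]
def rw2977 : List ℕ := [8, 5, 5, 8, 5, 5, 1, 4, 4, 9, 4, 4, 9, 4, 4, 9, 0, 8, 5, 5]
def rw2978 : List ℕ := [1, 0, 3, 0, 4, 4, 0, 3, 4, 0, 5, 2, 1, 5, 5, 1, 2, 1]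
def rw2979 : List ℕ := [2, 5, 5, 5, 9, 4, 4, 4, 3, 4, 4, 4, 3, 8, 2, 5, 5, 5]
def rw2980 : List ℕ := [3, 7, 3, 5, 1, 7, 3, 5, 1, 2, 0, 4, 2, 6, 0, 4, 2, 6]
def rw2981 : List ℕ := [4, 4, 9, 4, 4, 9, 4, 8, 5, 5, 8, 5, 5, 8, 5, 5, 5, 4, 4, 9]
def rw2982 : List ℕ := [0, 8, 5, 5, 8, 5, 5, 8, 5, 5, 1, 4, 4, 9, 4, 4, 9, 4, 4, 9]
def rw2983 : List ℕ := [2, 2, 2, 5, 3, 3, 3, 3, 8, 2, 2, 2, 2, 4, 3, 3, 3, 4, 9, 5]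
def rw2984 : List ℕ := [2, 4, 6, 5, 6, 4, 6, 6, 6, 3, 7, 7, 7, 5, 7, 4, 7, 5]
def rw2985 : List ℕ := [3, 8, 7, 8, 7, 8, 7, 8, 7, 2, 6, 9, 6, 9, 6, 9, 6, 9]
def rw2986 : List ℕ := [0, 3, 1, 8, 0, 2, 1, 8, 8, 8, 1, 2, 1, 8, 4, 9, 5, 9, 0, 3, 0, 9, 9, 9]
def rw2987 : List ℕ := [2, 1, 8, 4, 8, 5, 9, 0, 3, 0, 9, 9, 9, 0, 3, 1, 9, 0, 2, 1, 8, 8, 8, 1]
def rw2988 : List ℕ := [7, 2, 5, 5, 7, 3, 7, 7, 5, 6, 4, 6, 6, 2, 6, 4, 4, 3]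
def rw2989 : List ℕ := [3, 3, 2, 2, 5, 9, 2, 4, 2, 5, 8, 7, 2, 6, 9, 4, 3, 5, 3, 8, 4, 3]
def rw2990 : List ℕ := [6, 0, 7, 5, 7, 5, 7, 5, 1, 4, 6, 4, 6, 4]
def rw2991 : List ℕ := [4, 6, 6, 6, 9, 7, 7, 7, 5, 7, 4, 7, 5, 8, 4, 6, 5, 6]
def rw2992 : List ℕ := [3, 4, 4, 6, 4, 4, 6, 2, 7, 5, 5, 7, 5, 5]
def rw2993 : List ℕ := [6, 4, 7, 5, 7, 9, 6, 4, 6, 5, 7, 5, 8, 4]
def rw2994 : List ℕ := [4, 7, 9, 6, 5, 6, 5, 6, 5, 6, 5, 8, 4, 7, 4, 7, 4, 7]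
def rw2995 : List ℕ := [6, 9, 4, 3, 5, 3, 8, 4, 3, 3, 5, 2, 2, 5, 9, 2, 4, 2, 5, 8, 7, 4]
def rw2996 : List ℕ := [0, 7, 5, 5, 7, 5, 5, 1, 4, 4, 6, 4, 4, 6]
def rw2997 : List ℕ := [4, 9, 8, 8, 5, 5, 8, 5, 5, 8, 5, 5, 9, 4, 4, 9, 4, 4, 9, 4]
def rw2998 : List ℕ := [7, 6, 9, 6, 9, 6, 9, 6, 9, 6, 8, 7, 8, 7, 8, 7, 8, 7]
def rw2999 : List ℕ := [7, 7, 6, 5, 3, 6, 2, 7, 5, 3, 6, 2, 4, 6, 3, 7, 2, 4]
def rw3000 : List ℕ := [2, 5, 6, 6, 2, 6, 3, 4, 3, 3, 2, 5, 2, 7, 3, 7, 7, 4]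
def rw3001 : List ℕ := [8, 8, 8, 8, 8, 8, 8]
def rw3002 : List ℕ := [8, 2, 4, 6, 3, 7, 2, 4, 7, 9, 6, 5, 3, 6, 2, 7, 5, 3]
def rw3003 : List ℕ := [8, 8, 8, 1, 2, 1, 8, 4, 8, 5, 9, 0, 3, 0, 9, 9, 9, 0, 3, 1, 9, 0, 2, 1]
def rw3004 : List ℕ := [3, 1, 4, 0, 2, 1, 8, 8, 8, 1, 2, 1, 8, 4, 5, 5, 9, 0, 3, 0, 9, 9, 9, 0]
def rw3005 : List ℕ := [0, 3, 1, 0, 0, 2, 1, 8, 8, 8, 1, 2, 1, 8, 4, 1, 5, 9, 0, 3, 0, 9, 9, 9]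
def rw3006 : List ℕ := [8, 2, 5, 5, 7, 3, 7, 7, 5, 9, 4, 6, 6, 2, 6, 4, 4, 3]
def rw3007 : List ℕ := [4, 6, 5, 7, 5, 8, 4, 6, 4, 7, 5, 7, 9, 6]
def rw3008 : List ℕ := [6, 6, 5, 5, 4, 4, 4, 7, 7, 4, 9, 6, 6, 9, 9, 5, 8, 8, 7, 7, 8, 5]
def rw3009 : List ℕ := [9, 0, 3, 0, 9, 9, 9, 0, 3, 1, 1, 0, 2, 1, 8, 8, 8, 1, 2, 1, 8, 4, 0, 5]
def rw3010 : List ℕ := [7, 6, 6, 9, 4, 3, 5, 3, 8, 4, 3, 3, 7, 2, 2, 5, 9, 2, 4, 2, 5, 8]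
def rw3011 : List ℕ := [3, 0, 9, 9, 9, 0, 3, 1, 7, 0, 2, 1, 8, 8, 8, 1, 2, 1, 8, 4, 6, 5, 9, 0]
def rw3012 : List ℕ := [3, 3, 3, 4, 5, 5, 2, 2, 2, 5, 3, 3, 3, 3, 4, 2, 2, 2, 2, 4]
def rw3013 : List ℕ := [5, 8, 4, 6, 5, 6, 4, 6, 6, 6, 9, 7, 7, 7, 5, 7, 4, 7]
def rw3014 : List ℕ := [7, 3, 5, 1, 7, 3, 5, 1, 3, 0, 4, 2, 6, 0, 4, 2, 6, 2]
def rw3015 : List ℕ := [0, 3, 0, 9, 9, 9, 0, 3, 1, 2, 0, 2, 1, 8, 8, 8, 1, 2, 1, 8, 4, 3, 5, 9]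
def rw3016 : List ℕ := [4, 7, 7, 4, 9, 6, 6, 9, 9, 3, 8, 8, 7, 7, 8, 5, 6, 6, 5, 5, 2, 4]
def rw3017 : List ℕ := [9, 4, 6, 5, 6, 4, 6, 6, 6, 8, 7, 7, 7, 5, 7, 4, 7, 5]
def rw3018 : List ℕ := [4, 5, 5, 9, 0, 3, 0, 9, 9, 9, 0, 3, 1, 4, 0, 2, 1, 8, 8, 8, 1, 2, 1, 8]
def rw3019 : List ℕ := [0, 3, 0, 9, 9, 9, 0, 3, 1, 9, 0, 2, 1, 8, 8, 8, 1, 2, 1, 8, 4, 8, 5, 9]
def rw3020 : List ℕ := [7, 3, 5, 1, 7, 3, 5, 1, 1, 0, 4, 2, 6, 0, 4, 2, 6, 0]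
def rw3021 : List ℕ := [9, 0, 3, 0, 9, 9, 9, 0, 3, 1, 3, 0, 2, 1, 8, 8, 8, 1, 2, 1, 8, 4, 2, 5]
def rw3022 : List ℕ := [8, 5, 5, 8, 5, 5, 8, 5, 5, 1, 4, 4, 9, 4, 4, 9, 4, 4, 9, 0]
def rw3023 : List ℕ := [8, 2, 6, 5, 5, 6, 3, 6, 5, 6, 4, 9, 5, 7, 4, 7, 2, 7, 4, 4, 7, 3]
def rw3024 : List ℕ := [8, 8, 8, 1, 2, 1, 8, 4, 2, 5, 9, 0, 3, 0, 9, 9, 9, 0, 3, 1, 3, 0, 2, 1]
def rw3025 : List ℕ := [7, 5, 7, 4, 7, 5, 2, 4, 6, 5, 6, 4, 6, 6, 6, 3, 7, 7]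
def rw3026 : List ℕ := [4, 9, 5, 2, 2, 2, 5, 3, 3, 3, 3, 8, 2, 2, 2, 2, 4, 3, 3, 3]
def rw3027 : List ℕ := [6, 9, 6, 9, 6, 9, 6, 9, 5, 8, 7, 8, 7, 8, 7, 8, 7, 4]
def rw3028 : List ℕ := [5, 2, 2, 2, 2, 4, 3, 3, 3, 4, 4, 5, 2, 2, 2, 5, 3, 3, 3, 3]
def rw3029 : List ℕ := [8, 4, 6, 4, 6, 4, 6, 9, 7, 5, 7, 5, 7, 5]
def rw3030 : List ℕ := [6, 6, 6, 2, 6, 6, 6, 8, 7, 7, 7, 3, 7, 7, 7, 3, 9, 2]
def rw3031 : List ℕ := [8, 7, 5, 7, 5, 7, 5, 9, 4, 6, 4, 6, 4, 6]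
def rw3032 : List ℕ := [5, 8, 4, 7, 4, 7, 4, 7, 4, 7, 9, 6, 5, 6, 5, 6, 5, 6]
def rw3033 : List ℕ := [4, 7, 5, 7, 8, 6, 4, 6, 5, 7, 5, 9, 4, 6]
def rw3034 : List ℕ := [8, 2, 2, 5, 9, 2, 4, 2, 5, 8, 7, 9, 6, 9, 4, 3, 5, 3, 8, 4, 3, 3]
def rw3035 : List ℕ := [0, 5, 5, 5, 8, 4, 4, 4, 1, 5, 3, 1, 9, 0, 2, 4]
def rw3036 : List ℕ := [8, 4, 6, 6, 2, 6, 4, 4, 3, 9, 2, 5, 5, 7, 3, 7, 7, 5]
def rw3037 : List ℕ := [4, 4, 4, 4, 4, 4, 4]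
def rw3038 : List ℕ := [2, 6, 9, 4, 3, 5, 3, 8, 4, 3, 3, 3, 2, 2, 5, 9, 2, 4, 2, 5, 8, 7]
def rw3039 : List ℕ := [2, 1, 9, 0, 3, 5, 1, 5, 1, 4, 8, 5, 0, 4, 0, 4]
def rw3040 : List ℕ := [6, 3, 7, 3, 5, 1, 7, 3, 5, 1, 2, 0, 4, 2, 6, 0, 4, 2]
def rw3041 : List ℕ := [5, 8, 7, 5, 6, 9, 4, 3, 5, 3, 8, 4, 3, 3, 4, 2, 2, 5, 9, 2, 4, 2]
def rw3042 : List ℕ := [3, 4, 9, 5, 2, 1, 5, 5, 1, 2, 1, 8, 0, 3, 0, 4, 4, 0]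
def rw3043 : List ℕ := [4, 4, 9, 9, 8, 5, 5, 8, 5, 5, 8, 5, 5, 8, 4, 4, 9, 4, 4, 9]
def rw3044 : List ℕ := [4, 7, 4, 7, 4, 7, 4, 7, 8, 6, 5, 6, 5, 6, 5, 6, 5, 9]
def rw3045 : List ℕ := [1, 2, 1, 8, 4, 4, 5, 9, 0, 3, 0, 9, 9, 9, 0, 3, 1, 5, 0, 2, 1, 8, 8, 8]
def rw3046 : List ℕ := [7, 4, 8, 5, 6, 6, 2, 6, 3, 4, 3, 9, 2, 5, 2, 7, 3, 7]
def rw3047 : List ℕ := [3, 4, 8, 5, 2, 1, 5, 5, 1, 2, 1, 9, 0, 3, 0, 4, 4, 0]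
def rw3048 : List ℕ := [6, 6, 0, 7, 7, 7, 3, 7, 7, 7, 3, 1, 2, 6, 6, 6, 2, 6]
def rw3049 : List ℕ := [6, 9, 6, 9, 6, 9, 3, 8, 7, 8, 7, 8, 7, 8, 7, 2, 6, 9]
def rw3050 : List ℕ := [8, 7, 9, 6, 9, 6, 9, 6, 9, 6, 9, 8, 8, 7, 8, 7, 8, 7]
def rw3051 : List ℕ := [4, 4, 5, 9, 0, 3, 0, 9, 9, 9, 0, 3, 1, 5, 0, 2, 1, 8, 8, 8, 1, 2, 1, 8]
def rw3052 : List ℕ := [9, 9, 0, 3, 1, 1, 0, 2, 1, 8, 8, 8, 1, 2, 1, 8, 4, 0, 5, 9, 0, 3, 0, 9]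
def rw3053 : List ℕ := [0, 9, 9, 9, 0, 3, 1, 6, 0, 2, 1, 8, 8, 8, 1, 2, 1, 8, 4, 7, 5, 9, 0, 3]
def rw3054 : List ℕ := [4, 6, 4, 7, 5, 7, 7, 6, 4, 6, 5, 7, 5, 6]
def rw3055 : List ℕ := [6, 2, 5, 2, 7, 3, 7, 7, 4, 7, 5, 6, 6, 2, 6, 3, 4, 3]
def rw3056 : List ℕ := [5, 5, 5, 5, 5, 5, 5]
def rw3057 : List ℕ := [5, 5, 5, 4, 4, 4, 1, 5, 3, 1, 4, 0, 2, 4, 0, 5]
def rw3058 : List ℕ := [7, 9, 6, 9, 6, 9, 6, 9, 6, 9, 8, 8, 7, 8, 7, 8, 7, 8]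
def rw3059 : List ℕ := [1, 7, 7, 7, 5, 7, 4, 7, 5, 0, 4, 6, 5, 6, 4, 6, 6, 6]
def rw3060 : List ℕ := [9, 9, 9, 9, 9, 9, 9]
def rw3061 : List ℕ := [0, 3, 5, 1, 5, 1, 4, 4, 5, 0, 4, 0, 4, 2, 1, 5]
def rw3062 : List ℕ := [7, 4, 7, 2, 7, 4, 4, 7, 3, 9, 2, 6, 5, 5, 6, 3, 6, 5, 6, 4, 8, 5]
def rw3063 : List ℕ := [8, 8, 8, 1, 2, 1, 8, 4, 1, 5, 9, 0, 3, 0, 9, 9, 9, 0, 3, 1, 0, 0, 2, 1]
def rw3064 : List ℕ := [6, 9, 6, 9, 6, 9, 4, 8, 7, 8, 7, 8, 7, 8, 7, 5, 6, 9]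
def rw3065 : List ℕ := [5, 5, 7, 4, 4, 9, 4, 4, 9, 4, 4, 9, 6, 8, 5, 5, 8, 5, 5, 8]
def rw3066 : List ℕ := [9, 2, 4, 6, 3, 7, 2, 4, 7, 8, 6, 5, 3, 6, 2, 7, 5, 3]
def rw3067 : List ℕ := [4, 6, 4, 6, 4, 6, 9, 7, 5, 7, 5, 7, 5, 8]
def rw3068 : List ℕ := [5, 8, 4, 4, 9, 4, 4, 9, 4, 4, 9, 9, 8, 5, 5, 8, 5, 5, 8, 5]
def rw3069 : List ℕ := [6, 5, 6, 5, 8, 4, 7, 4, 7, 4, 7, 4, 7, 9, 6, 5, 6, 5]
def rw3070 : List ℕ := [7, 4, 7, 4, 7, 4, 7, 9, 6, 5, 6, 5, 6, 5, 6, 5, 8, 4]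
def rw3071 : List ℕ := [3, 3, 4, 9, 5, 2, 2, 2, 5, 3, 3, 3, 3, 8, 2, 2, 2, 2, 4, 3]
def rw3072 : List ℕ := [5, 5, 4, 4, 7, 7, 4, 9, 6, 6, 9, 9, 4, 8, 8, 7, 7, 8, 5, 6, 6, 5]
def rw3073 : List ℕ := [5, 5, 5, 4, 4, 4, 4, 1, 5, 3, 1, 5, 0, 2, 4, 0]
def rw3074 : List ℕ := [3, 7, 5, 5, 7, 5, 5, 2, 4, 4, 6, 4, 4, 6]
def rw3075 : List ℕ := [8, 7, 8, 7, 8, 6, 9, 6, 9, 6, 9, 6, 9, 9, 8, 7, 8, 7]
def rw3076 : List ℕ := [6, 4, 7, 5, 7, 3, 6, 4, 6, 5, 7, 5, 2, 4]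
def rw3077 : List ℕ := [2, 7, 3, 5, 1, 7, 3, 5, 1, 3, 0, 4, 2, 6, 0, 4, 2, 6]
def rw3078 : List ℕ := [8, 1, 2, 1, 8, 4, 7, 5, 9, 0, 3, 0, 9, 9, 9, 0, 3, 1, 6, 0, 2, 1, 8, 8]
def rw3079 : List ℕ := [9, 9, 9, 0, 3, 1, 5, 0, 2, 1, 8, 8, 8, 1, 2, 1, 8, 4, 4, 5, 9, 0, 3, 0]
def rw3080 : List ℕ := [1, 7, 7, 7, 3, 7, 7, 7, 3, 0, 2, 6, 6, 6, 2, 6, 6, 6]
def rw3081 : List ℕ := [1, 5, 0, 2, 1, 8, 8, 8, 1, 2, 1, 8, 4, 4, 5, 9, 0, 3, 0, 9, 9, 9, 0, 3]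
def rw3082 : List ℕ := [8, 1, 2, 1, 8, 4, 1, 5, 9, 0, 3, 0, 9, 9, 9, 0, 3, 1, 0, 0, 2, 1, 8, 8]
def rw3083 : List ℕ := [7, 8, 7, 8, 7, 8, 6, 9, 6, 9, 6, 9, 6, 9, 9, 8, 7, 8]
def rw3084 : List ℕ := [5, 7, 5, 9, 4, 6, 4, 7, 5, 7, 8, 6, 4, 6]
def rw3085 : List ℕ := [4, 2, 5, 5, 7, 3, 7, 7, 5, 5, 4, 6, 6, 2, 6, 4, 4, 3]
def rw3086 : List ℕ := [5, 6, 6, 2, 6, 3, 4, 3, 8, 2, 5, 2, 7, 3, 7, 7, 4, 9]
def rw3087 : List ℕ := [9, 2, 6, 6, 6, 2, 6, 6, 6, 8, 7, 7, 7, 3, 7, 7, 7, 3]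
def rw3088 : List ℕ := [4, 6, 5, 3, 6, 2, 7, 5, 3, 5, 2, 4, 6, 3, 7, 2, 4, 7]
def rw3089 : List ℕ := [7, 7, 3, 2, 2, 6, 6, 6, 2, 6, 6, 6, 3, 7, 7, 7, 3, 7]
def rw3090 : List ℕ := [7, 4, 4, 6, 4, 4, 6, 6, 7, 5, 5, 7, 5, 5]
def rw3091 : List ℕ := [7, 5, 7, 4, 6, 4, 7, 5, 7, 6, 6, 4, 6, 5]
def rw3092 : List ℕ := [7, 0, 6, 5, 6, 5, 6, 5, 6, 5, 1, 4, 7, 4, 7, 4, 7, 4]
def rw3093 : List ℕ := [5, 6, 5, 6, 5, 6, 5, 8, 4, 7, 4, 7, 4, 7, 4, 7, 9, 6]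
def rw3094 : List ℕ := [7, 7, 4, 9, 6, 6, 9, 9, 5, 8, 8, 7, 7, 8, 5, 6, 6, 5, 5, 4, 4, 4]
def rw3095 : List ℕ := [5, 7, 5, 4, 4, 6, 4, 7, 5, 7, 5, 6, 4, 6]
def rw3096 : List ℕ := [2, 1, 8, 4, 1, 5, 9, 0, 3, 0, 9, 9, 9, 0, 3, 1, 0, 0, 2, 1, 8, 8, 8, 1]
def rw3097 : List ℕ := [4, 1, 5, 6, 6, 2, 6, 3, 4, 3, 0, 2, 5, 2, 7, 3, 7, 7]
def rw3098 : List ℕ := [9, 9, 9, 0, 3, 1, 1, 0, 2, 1, 8, 8, 8, 1, 2, 1, 8, 4, 0, 5, 9, 0, 3, 0]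
def rw3099 : List ℕ := [4, 7, 5, 9, 0, 3, 0, 9, 9, 9, 0, 3, 1, 6, 0, 2, 1, 8, 8, 8, 1, 2, 1, 8]
def rw3100 : List ℕ := [8, 7, 8, 7, 8, 7, 1, 6, 9, 6, 9, 6, 9, 6, 9, 0, 8, 7]
def rw3101 : List ℕ := [1, 4, 6, 5, 0, 4, 0, 4, 2, 1, 7, 0, 3, 5, 1, 5]
def rw3102 : List ℕ := [8, 8, 8, 1, 2, 1, 8, 4, 4, 5, 9, 0, 3, 0, 9, 9, 9, 0, 3, 1, 5, 0, 2, 1]
def rw3103 : List ℕ := [0, 3, 0, 9, 9, 9, 0, 3, 1, 0, 0, 2, 1, 8, 8, 8, 1, 2, 1, 8, 4, 1, 5, 9]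
def rw3104 : List ℕ := [3, 0, 9, 9, 9, 0, 3, 1, 1, 0, 2, 1, 8, 8, 8, 1, 2, 1, 8, 4, 0, 5, 9, 0]
def rw3105 : List ℕ := [3, 5, 1, 7, 3, 5, 1, 6, 0, 4, 2, 6, 0, 4, 2, 6, 7, 7]
def rw3106 : List ℕ := [6, 6, 6, 6, 6, 6, 6]
def rw3107 : List ℕ := [7, 2, 6, 6, 6, 2, 6, 6, 6, 6, 7, 7, 7, 3, 7, 7, 7, 3]
def rw3108 : List ℕ := [1, 6, 5, 6, 5, 6, 5, 6, 5, 0, 4, 7, 4, 7, 4, 7, 4, 7]
def rw3109 : List ℕ := [9, 0, 8, 8, 7, 7, 8, 5, 6, 6, 5, 5, 1, 4, 4, 7, 7, 4, 9, 6, 6, 9]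
def rw3110 : List ℕ := [0, 2, 1, 8, 8, 8, 1, 2, 1, 8, 4, 6, 5, 9, 0, 3, 0, 9, 9, 9, 0, 3, 1, 7]
def rw3111 : List ℕ := [9, 8, 8, 7, 7, 8, 5, 6, 6, 5, 5, 8, 4, 4, 7, 7, 4, 9, 6, 6, 9, 9]
def rw3112 : List ℕ := [3, 2, 2, 6, 6, 6, 2, 6, 6, 6, 3, 7, 7, 7, 3, 7, 7, 7]
def rw3113 : List ℕ := [6, 9, 1, 8, 7, 8, 7, 8, 7, 8, 7, 0, 6, 9, 6, 9, 6, 9]
def rw3114 : List ℕ := [1, 8, 0, 2, 1, 8, 8, 8, 1, 2, 1, 8, 4, 9, 5, 9, 0, 3, 0, 9, 9, 9, 0, 3]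
def rw3115 : List ℕ := [5, 5, 8, 5, 5, 0, 4, 4, 9, 4, 4, 9, 4, 4, 9, 1, 8, 5, 5, 8]
def rw3116 : List ℕ := [5, 7, 1, 6, 4, 6, 5, 7, 5, 0, 4, 6, 4, 7]
def rw3117 : List ℕ := [8, 1, 2, 1, 8, 4, 4, 5, 9, 0, 3, 0, 9, 9, 9, 0, 3, 1, 5, 0, 2, 1, 8, 8]
def rw3118 : List ℕ := [3, 1, 6, 0, 2, 1, 8, 8, 8, 1, 2, 1, 8, 4, 7, 5, 9, 0, 3, 0, 9, 9, 9, 0]
def rw3119 : List ℕ := [1, 9, 0, 0, 5, 2, 1, 3, 5, 8, 4, 2, 0, 3, 4, 1]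
def rw3120 : List ℕ := [5, 2, 2, 2, 5, 3, 3, 3, 3, 0, 2, 2, 2, 2, 4, 3, 3, 3, 4, 1]
def rw3121 : List ℕ := [5, 7, 5, 5, 7, 5, 5, 4, 4, 4, 6, 4, 4, 6]
def rw3122 : List ℕ := [8, 8, 7, 7, 8, 5, 6, 6, 5, 5, 0, 4, 4, 7, 7, 4, 9, 6, 6, 9, 9, 1]
def rw3123 : List ℕ := [6, 4, 7, 3, 5, 1, 7, 3, 5, 1, 5, 0, 4, 2, 6, 0, 4, 2]
def rw3124 : List ℕ := [1, 7, 5, 7, 5, 7, 5, 0, 4, 6, 4, 6, 4, 6]
def rw3125 : List ℕ := [4, 3, 3, 0, 2, 2, 5, 9, 2, 4, 2, 5, 8, 7, 1, 6, 9, 4, 3, 5, 3, 8]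
def rw3126 : List ℕ := [3, 5, 9, 0, 3, 0, 9, 9, 9, 0, 3, 1, 2, 0, 2, 1, 8, 8, 8, 1, 2, 1, 8, 4]
def rw3127 : List ℕ := [3, 4, 3, 4, 3, 4, 3, 2, 2, 5, 2, 5, 2, 5]
def rw3128 : List ℕ := [1, 4, 7, 4, 7, 4, 7, 4, 7, 0, 6, 5, 6, 5, 6, 5, 6, 5]
def rw3129 : List ℕ := [3, 0, 9, 9, 9, 0, 3, 1, 4, 0, 2, 1, 8, 8, 8, 1, 2, 1, 8, 4, 5, 5, 9, 0]
def rw3130 : List ℕ := [5, 5, 4, 7, 4, 7, 4, 7, 4, 7, 4, 6, 5, 6, 5, 6, 5, 6]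
def rw3131 : List ℕ := [6, 0, 3, 0, 4, 4, 0, 3, 4, 7, 5, 2, 1, 5, 5, 1, 2, 1]
def rw3132 : List ℕ := [3, 2, 5, 2, 7, 3, 7, 7, 4, 2, 5, 6, 6, 2, 6, 3, 4, 3]
def rw3133 : List ℕ := [3, 5, 2, 2, 2, 5, 3, 3, 3, 3, 2, 2, 2, 2, 2, 4, 3, 3, 3, 4]
def rw3134 : List ℕ := [3, 1, 1, 0, 2, 1, 8, 8, 8, 1, 2, 1, 8, 4, 0, 5, 9, 0, 3, 0, 9, 9, 9, 0]
def rw3135 : List ℕ := [2, 5, 5, 7, 3, 7, 7, 5, 1, 4, 6, 6, 2, 6, 4, 4, 3, 0]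
def rw3136 : List ℕ := [4, 3, 5, 6, 6, 2, 6, 3, 4, 3, 2, 2, 5, 2, 7, 3, 7, 7]
def rw3137 : List ℕ := [7, 5, 8, 4, 6, 6, 2, 6, 4, 4, 3, 9, 2, 5, 5, 7, 3, 7]
def rw3138 : List ℕ := [2, 4, 2, 5, 8, 7, 0, 6, 9, 4, 3, 5, 3, 8, 4, 3, 3, 1, 2, 2, 5, 9]
def rw3139 : List ℕ := [2, 7, 5, 5, 7, 5, 5, 3, 4, 4, 6, 4, 4, 6]
def rw3140 : List ℕ := [7, 8, 5, 6, 6, 5, 5, 9, 4, 4, 7, 7, 4, 9, 6, 6, 9, 9, 8, 8, 8, 7]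
def rw3141 : List ℕ := [3, 3, 3, 3, 2, 2, 2, 2, 2, 4, 3, 3, 3, 4, 3, 5, 2, 2, 2, 5]
def rw3142 : List ℕ := [6, 6, 2, 6, 3, 4, 3, 9, 2, 5, 2, 7, 3, 7, 7, 4, 8, 5]
def rw3143 : List ℕ := [2, 4, 7, 8, 6, 5, 3, 6, 2, 7, 5, 3, 9, 2, 4, 6, 3, 7]
def rw3144 : List ℕ := [4, 9, 6, 6, 9, 9, 6, 8, 8, 7, 7, 8, 5, 6, 6, 5, 5, 7, 4, 4, 7, 7]
def rw3145 : List ℕ := [4, 6, 4, 6, 3, 7, 5, 7, 5, 7, 5, 2, 4, 6]
def rw3146 : List ℕ := [4, 7, 5, 0, 4, 0, 4, 2, 1, 6, 0, 3, 5, 1, 5, 1]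
def rw3147 : List ℕ := [5, 8, 7, 7, 6, 9, 4, 3, 5, 3, 8, 4, 3, 3, 6, 2, 2, 5, 9, 2, 4, 2]
def rw3148 : List ℕ := [8, 4, 3, 4, 3, 4, 3, 9, 2, 5, 2, 5, 2, 5]
def rw3149 : List ℕ := [3, 2, 6, 5, 5, 6, 3, 6, 5, 6, 4, 2, 5, 7, 4, 7, 2, 7, 4, 4, 7, 3]
def rw3150 : List ℕ := [6, 2, 4, 6, 3, 7, 2, 4, 7, 7, 6, 5, 3, 6, 2, 7, 5, 3]
def rw3151 : List ℕ := [2, 1, 8, 8, 8, 1, 2, 1, 8, 4, 6, 5, 9, 0, 3, 0, 9, 9, 9, 0, 3, 1, 7, 0]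
def rw3152 : List ℕ := [7, 0, 3, 5, 1, 5, 1, 4, 6, 5, 0, 4, 0, 4, 2, 1]
def rw3153 : List ℕ := [8, 8, 1, 2, 1, 8, 4, 0, 5, 9, 0, 3, 0, 9, 9, 9, 0, 3, 1, 1, 0, 2, 1, 8]
def rw3154 : List ℕ := [7, 0, 3, 0, 4, 4, 0, 3, 4, 6, 5, 2, 1, 5, 5, 1, 2, 1]
def rw3155 : List ℕ := [3, 2, 5, 5, 7, 3, 7, 7, 5, 2, 4, 6, 6, 2, 6, 4, 4, 3]
def rw3156 : List ℕ := [7, 7, 4, 8, 5, 6, 6, 2, 6, 3, 4, 3, 9, 2, 5, 2, 7, 3]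
def rw3157 : List ℕ := [8, 2, 5, 2, 7, 3, 7, 7, 4, 9, 5, 6, 6, 2, 6, 3, 4, 3]
def rw3158 : List ℕ := [7, 5, 7, 0, 6, 4, 6, 5, 7, 5, 1, 4, 6, 4]
def rw3159 : List ℕ := [6, 2, 5, 2, 5, 2, 5, 7, 4, 3, 4, 3, 4, 3]
def rw3160 : List ℕ := [7, 2, 6, 5, 5, 6, 3, 6, 5, 6, 4, 6, 5, 7, 4, 7, 2, 7, 4, 4, 7, 3]
def rw3161 : List ℕ := [3, 6, 4, 6, 5, 7, 5, 2, 4, 6, 4, 7, 5, 7]
def rw3162 : List ℕ := [3, 8, 2, 5, 5, 7, 3, 7, 7, 5, 9, 4, 6, 6, 2, 6, 4, 4]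
def rw3163 : List ℕ := [3, 7, 5, 7, 5, 7, 5, 2, 4, 6, 4, 6, 4, 6]
def rw3164 : List ℕ := [4, 5, 2, 2, 2, 5, 3, 3, 3, 3, 5, 2, 2, 2, 2, 4, 3, 3, 3, 4]
def rw3165 : List ℕ := [8, 4, 7, 5, 9, 0, 3, 0, 9, 9, 9, 0, 3, 1, 6, 0, 2, 1, 8, 8, 8, 1, 2, 1]
def rw3166 : List ℕ := [4, 2, 5, 9, 0, 3, 0, 9, 9, 9, 0, 3, 1, 3, 0, 2, 1, 8, 8, 8, 1, 2, 1, 8]
def rw3167 : List ℕ := [0, 0, 0, 0, 0, 0, 0]
def rw3168 : List ℕ := [0, 9, 9, 9, 0, 3, 1, 3, 0, 2, 1, 8, 8, 8, 1, 2, 1, 8, 4, 2, 5, 9, 0, 3]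
def rw3169 : List ℕ := [0, 3, 0, 9, 9, 9, 0, 3, 1, 1, 0, 2, 1, 8, 8, 8, 1, 2, 1, 8, 4, 0, 5, 9]
def rw3170 : List ℕ := [7, 4, 6, 5, 6, 6, 2, 6, 3, 4, 3, 7, 2, 5, 2, 7, 3, 7]
def rw3171 : List ℕ := [4, 0, 0, 5, 2, 1, 3, 5, 5, 4, 2, 0, 3, 4, 1, 1]
def rw3172 : List ℕ := [6, 9, 9, 8, 7, 8, 7, 8, 7, 8, 7, 8, 6, 9, 6, 9, 6, 9]
def rw3173 : List ℕ := [3, 8, 2, 6, 6, 6, 2, 6, 6, 6, 9, 7, 7, 7, 3, 7, 7, 7]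
def rw3174 : List ℕ := [8, 5, 7, 4, 7, 2, 7, 4, 4, 7, 3, 9, 2, 6, 5, 5, 6, 3, 6, 5, 6, 4]
def rw3175 : List ℕ := [5, 5, 5, 9, 4, 4, 4, 3, 4, 4, 4, 3, 8, 2, 5, 5, 5, 2]
def rw3176 : List ℕ := [7, 5, 7, 6, 6, 4, 6, 5, 7, 5, 7, 4, 6, 4]
def rw3177 : List ℕ := [4, 6, 5, 6, 4, 6, 6, 6, 9, 7, 7, 7, 5, 7, 4, 7, 5, 8]
def rw3178 : List ℕ := [5, 2, 6, 6, 6, 2, 6, 6, 6, 4, 7, 7, 7, 3, 7, 7, 7, 3]
def rw3179 : List ℕ := [1, 8, 0, 3, 5, 1, 5, 1, 4, 9, 5, 0, 4, 0, 4, 2]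
def rw3180 : List ℕ := [9, 4, 4, 6, 4, 4, 6, 8, 7, 5, 5, 7, 5, 5]
def rw3181 : List ℕ := [6, 5, 6, 6, 2, 6, 3, 4, 3, 7, 2, 5, 2, 7, 3, 7, 7, 4]
def rw3182 : List ℕ := [2, 1, 8, 8, 8, 1, 2, 1, 8, 4, 7, 5, 9, 0, 3, 0, 9, 9, 9, 0, 3, 1, 6, 0]
def rw3183 : List ℕ := [5, 5, 1, 2, 1, 8, 0, 3, 0, 4, 4, 0, 3, 4, 9, 5, 2, 1]
def rw3184 : List ℕ := [2, 2, 2, 2, 4, 3, 3, 3, 4, 4, 5, 2, 2, 2, 5, 3, 3, 3, 3, 5]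
def rw3185 : List ℕ := [7, 4, 7, 9, 6, 5, 6, 5, 6, 5, 6, 5, 8, 4, 7, 4, 7, 4]
def rw3186 : List ℕ := [6, 5, 5, 4, 4, 4, 7, 7, 4, 9, 6, 6, 9, 9, 5, 8, 8, 7, 7, 8, 5, 6]
def rw3187 : List ℕ := [5, 6, 5, 6, 5, 9, 4, 7, 4, 7, 4, 7, 4, 7, 8, 6, 5, 6]
def rw3188 : List ℕ := [0, 5, 2, 1, 5, 5, 1, 2, 1, 1, 0, 3, 0, 4, 4, 0, 3, 4]
def rw3189 : List ℕ := [2, 4, 3, 4, 3, 4, 3, 3, 2, 5, 2, 5, 2, 5]
def rw3190 : List ℕ := [9, 8, 8, 5, 5, 8, 5, 5, 8, 5, 5, 9, 4, 4, 9, 4, 4, 9, 4, 4]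
def rw3191 : List ℕ := [4, 6, 4, 6, 5, 7, 5, 5, 4, 6, 4, 7, 5, 7]
def rw3192 : List ℕ := [5, 5, 4, 4, 4, 7, 7, 4, 9, 6, 6, 9, 9, 5, 8, 8, 7, 7, 8, 5, 6, 6]
def rw3193 : List ℕ := [6, 3, 7, 7, 7, 3, 7, 7, 7, 3, 2, 2, 6, 6, 6, 2, 6, 6]
def rw3194 : List ℕ := [0, 3, 0, 9, 9, 9, 0, 3, 1, 3, 0, 2, 1, 8, 8, 8, 1, 2, 1, 8, 4, 2, 5, 9]
def rw3195 : List ℕ := [8, 8, 8, 1, 2, 1, 8, 4, 5, 5, 9, 0, 3, 0, 9, 9, 9, 0, 3, 1, 4, 0, 2, 1]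
def rw3196 : List ℕ := [6, 8, 7, 7, 7, 3, 7, 7, 7, 3, 9, 2, 6, 6, 6, 2, 6, 6]
def rw3197 : List ℕ := [1, 6, 9, 4, 3, 5, 3, 8, 4, 3, 3, 0, 2, 2, 5, 9, 2, 4, 2, 5, 8, 7]
def rw3198 : List ℕ := [5, 5, 8, 5, 5, 8, 5, 5, 1, 4, 4, 9, 4, 4, 9, 4, 4, 9, 0, 8]
def rw3199 : List ℕ := [4, 3, 5, 3, 8, 4, 3, 3, 5, 2, 2, 5, 9, 2, 4, 2, 5, 8, 7, 4, 6, 9]
def rw3200 : List ℕ := [6, 2, 5, 5, 7, 3, 7, 7, 5, 7, 4, 6, 6, 2, 6, 4, 4, 3]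
def rw3201 : List ℕ := [2, 0, 4, 2, 6, 0, 4, 2, 6, 3, 7, 3, 5, 1, 7, 3, 5, 1]
def rw3202 : List ℕ := [4, 4, 7, 7, 4, 9, 6, 6, 9, 9, 3, 8, 8, 7, 7, 8, 5, 6, 6, 5, 5, 2]
def rw3203 : List ℕ := [7, 7, 8, 5, 6, 6, 5, 5, 1, 4, 4, 7, 7, 4, 9, 6, 6, 9, 9, 0, 8, 8]
def rw3204 : List ℕ := [6, 2, 6, 5, 5, 6, 3, 6, 5, 6, 4, 7, 5, 7, 4, 7, 2, 7, 4, 4, 7, 3]
def rw3205 : List ℕ := [2, 6, 5, 6, 5, 6, 5, 6, 5, 3, 4, 7, 4, 7, 4, 7, 4, 7]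
def rw3206 : List ℕ := [3, 6, 5, 3, 6, 2, 7, 5, 3, 2, 2, 4, 6, 3, 7, 2, 4, 7]
def rw3207 : List ℕ := [0, 6, 5, 3, 6, 2, 7, 5, 3, 1, 2, 4, 6, 3, 7, 2, 4, 7]
def rw3208 : List ℕ := [7, 3, 1, 2, 6, 5, 5, 6, 3, 6, 5, 6, 4, 0, 5, 7, 4, 7, 2, 7, 4, 4]
def rw3209 : List ℕ := [5, 5, 5, 7, 4, 4, 4, 3, 4, 4, 4, 3, 6, 2, 5, 5, 5, 2]
def rw3210 : List ℕ := [1, 2, 1, 8, 4, 8, 5, 9, 0, 3, 0, 9, 9, 9, 0, 3, 1, 9, 0, 2, 1, 8, 8, 8]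
def rw3211 : List ℕ := [5, 5, 8, 5, 5, 8, 5, 5, 0, 4, 4, 9, 4, 4, 9, 4, 4, 9, 1, 8]
def rw3212 : List ℕ := [0, 3, 0, 9, 9, 9, 0, 3, 1, 4, 0, 2, 1, 8, 8, 8, 1, 2, 1, 8, 4, 5, 5, 9]
def rw3213 : List ℕ := [0, 7, 3, 5, 1, 7, 3, 5, 1, 1, 0, 4, 2, 6, 0, 4, 2, 6]
def rw3214 : List ℕ := [7, 2, 2, 2, 2, 4, 3, 3, 3, 4, 6, 5, 2, 2, 2, 5, 3, 3, 3, 3]
def rw3215 : List ℕ := [2, 5, 2, 2, 2, 5, 3, 3, 3, 3, 3, 2, 2, 2, 2, 4, 3, 3, 3, 4]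
def rw3216 : List ℕ := [9, 4, 3, 5, 3, 8, 4, 3, 3, 1, 2, 2, 5, 9, 2, 4, 2, 5, 8, 7, 0, 6]
def rw3217 : List ℕ := [4, 4, 9, 4, 4, 9, 0, 8, 5, 5, 8, 5, 5, 8, 5, 5, 1, 4, 4, 9]
def rw3218 : List ℕ := [0, 2, 2, 2, 2, 4, 3, 3, 3, 4, 1, 5, 2, 2, 2, 5, 3, 3, 3, 3]
def rw3219 : List ℕ := [4, 8, 5, 9, 0, 3, 0, 9, 9, 9, 0, 3, 1, 9, 0, 2, 1, 8, 8, 8, 1, 2, 1, 8]
def rw3220 : List ℕ := [5, 1, 4, 9, 5, 0, 4, 0, 4, 2, 1, 8, 0, 3, 5, 1]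
def rw3221 : List ℕ := [6, 6, 6, 2, 6, 6, 6, 1, 7, 7, 7, 3, 7, 7, 7, 3, 0, 2]
def rw3222 : List ℕ := [9, 9, 9, 0, 3, 1, 4, 0, 2, 1, 8, 8, 8, 1, 2, 1, 8, 4, 5, 5, 9, 0, 3, 0]
def rw3223 : List ℕ := [7, 7, 6, 9, 4, 3, 5, 3, 8, 4, 3, 3, 6, 2, 2, 5, 9, 2, 4, 2, 5, 8]
def rw3224 : List ℕ := [4, 1, 5, 9, 0, 3, 0, 9, 9, 9, 0, 3, 1, 0, 0, 2, 1, 8, 8, 8, 1, 2, 1, 8]
def rw3225 : List ℕ := [8, 6, 5, 3, 6, 2, 7, 5, 3, 9, 2, 4, 6, 3, 7, 2, 4, 7]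
def rw3226 : List ℕ := [7, 7, 7, 3, 7, 7, 7, 3, 0, 2, 6, 6, 6, 2, 6, 6, 6, 1]
def rw3227 : List ℕ := [2, 0, 0, 5, 2, 1, 3, 5, 3, 4, 2, 0, 3, 4, 1, 1]
def rw3228 : List ℕ := [9, 9, 9, 0, 3, 1, 8, 0, 2, 1, 8, 8, 8, 1, 2, 1, 8, 4, 9, 5, 9, 0, 3, 0]
def rw3229 : List ℕ := [4, 4, 9, 4, 4, 9, 5, 8, 5, 5, 8, 5, 5, 8, 5, 5, 4, 4, 4, 9]
def rw3230 : List ℕ := [9, 0, 2, 4, 0, 5, 5, 5, 8, 4, 4, 4, 1, 5, 3, 1]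
def rw3231 : List ℕ := [2, 2, 2, 4, 3, 3, 3, 4, 0, 5, 2, 2, 2, 5, 3, 3, 3, 3, 1, 2]
def rw3232 : List ℕ := [7, 4, 7, 5, 1, 4, 6, 5, 6, 4, 6, 6, 6, 0, 7, 7, 7, 5]
def rw3233 : List ℕ := [9, 0, 3, 1, 9, 0, 2, 1, 8, 8, 8, 1, 2, 1, 8, 4, 8, 5, 9, 0, 3, 0, 9, 9]
def rw3234 : List ℕ := [5, 5, 1, 4, 4, 9, 4, 4, 9, 4, 4, 9, 0, 8, 5, 5, 8, 5, 5, 8]
def rw3235 : List ℕ := [9, 6, 9, 1, 8, 7, 8, 7, 8, 7, 8, 7, 0, 6, 9, 6, 9, 6]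
def rw3236 : List ℕ := [1, 3, 5, 4, 4, 2, 0, 3, 4, 1, 1, 5, 0, 0, 5, 2]
def rw3237 : List ℕ := [4, 5, 9, 0, 3, 0, 9, 9, 9, 0, 3, 1, 5, 0, 2, 1, 8, 8, 8, 1, 2, 1, 8, 4]
def rw3238 : List ℕ := [4, 6, 5, 9, 0, 3, 0, 9, 9, 9, 0, 3, 1, 7, 0, 2, 1, 8, 8, 8, 1, 2, 1, 8]
def rw3239 : List ℕ := [4, 3, 0, 2, 5, 2, 7, 3, 7, 7, 4, 1, 5, 6, 6, 2, 6, 3]
def rw3240 : List ℕ := [7, 8, 6, 9, 4, 3, 5, 3, 8, 4, 3, 3, 9, 2, 2, 5, 9, 2, 4, 2, 5, 8]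
def rw3241 : List ℕ := [5, 6, 4, 9, 5, 7, 4, 7, 2, 7, 4, 4, 7, 3, 8, 2, 6, 5, 5, 6, 3, 6]
def rw3242 : List ℕ := [5, 9, 0, 3, 0, 9, 9, 9, 0, 3, 1, 1, 0, 2, 1, 8, 8, 8, 1, 2, 1, 8, 4, 0]
def rw3243 : List ℕ := [0, 3, 1, 6, 0, 2, 1, 8, 8, 8, 1, 2, 1, 8, 4, 7, 5, 9, 0, 3, 0, 9, 9, 9]
def rw3244 : List ℕ := [5, 1, 4, 6, 6, 2, 6, 4, 4, 3, 0, 2, 5, 5, 7, 3, 7, 7]
def rw3245 : List ℕ := [0, 5, 9, 0, 3, 0, 9, 9, 9, 0, 3, 1, 1, 0, 2, 1, 8, 8, 8, 1, 2, 1, 8, 4]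
def rw3246 : List ℕ := [4, 4, 9, 4, 4, 9, 1, 8, 5, 5, 8, 5, 5, 8, 5, 5, 0, 4, 4, 9]
def rw3247 : List ℕ := [7, 1, 6, 4, 6, 5, 7, 5, 0, 4, 6, 4, 7, 5]
def rw3248 : List ℕ := [5, 5, 0, 4, 4, 9, 4, 4, 9, 4, 4, 9, 1, 8, 5, 5, 8, 5, 5, 8]
def rw3249 : List ℕ := [4, 0, 5, 9, 0, 3, 0, 9, 9, 9, 0, 3, 1, 1, 0, 2, 1, 8, 8, 8, 1, 2, 1, 8]
def rw3250 : List ℕ := [7, 1, 6, 9, 6, 9, 6, 9, 6, 9, 0, 8, 7, 8, 7, 8, 7, 8]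
def rw3251 : List ℕ := [9, 1, 8, 8, 7, 7, 8, 5, 6, 6, 5, 5, 0, 4, 4, 7, 7, 4, 9, 6, 6, 9]
def rw3252 : List ℕ := [3, 5, 3, 8, 4, 3, 3, 1, 2, 2, 5, 9, 2, 4, 2, 5, 8, 7, 0, 6, 9, 4]
def rw3253 : List ℕ := [0, 3, 0, 9, 9, 9, 0, 3, 1, 7, 0, 2, 1, 8, 8, 8, 1, 2, 1, 8, 4, 6, 5, 9]
def rw3254 : List ℕ := [8, 7, 8, 7, 0, 6, 9, 6, 9, 6, 9, 6, 9, 1, 8, 7, 8, 7]
def rw3255 : List ℕ := [8, 5, 5, 0, 4, 4, 9, 4, 4, 9, 4, 4, 9, 1, 8, 5, 5, 8, 5, 5]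
def rw3256 : List ℕ := [9, 0, 3, 1, 1, 0, 2, 1, 8, 8, 8, 1, 2, 1, 8, 4, 0, 5, 9, 0, 3, 0, 9, 9]
def rw3257 : List ℕ := [3, 5, 3, 8, 4, 3, 3, 9, 2, 2, 5, 9, 2, 4, 2, 5, 8, 7, 8, 6, 9, 4]
def rw3258 : List ℕ := [2, 6, 4, 6, 5, 7, 5, 3, 4, 6, 4, 7, 5, 7]
def rw3259 : List ℕ := [1, 2, 1, 8, 4, 5, 5, 9, 0, 3, 0, 9, 9, 9, 0, 3, 1, 4, 0, 2, 1, 8, 8, 8]
def rw3260 : List ℕ := [1, 8, 4, 3, 5, 9, 0, 3, 0, 9, 9, 9, 0, 3, 1, 2, 0, 2, 1, 8, 8, 8, 1, 2]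
def rw3261 : List ℕ := [9, 9, 9, 0, 3, 1, 6, 0, 2, 1, 8, 8, 8, 1, 2, 1, 8, 4, 7, 5, 9, 0, 3, 0]
def rw3262 : List ℕ := [3, 0, 9, 9, 9, 0, 3, 1, 9, 0, 2, 1, 8, 8, 8, 1, 2, 1, 8, 4, 8, 5, 9, 0]
def rw3263 : List ℕ := [3, 3, 3, 3, 3, 3, 3]
def rw3264 : List ℕ := [0, 4, 2, 6, 0, 4, 2, 6, 6, 7, 3, 5, 1, 7, 3, 5, 1, 7]
def rw3265 : List ℕ := [3, 0, 0, 5, 2, 1, 3, 5, 2, 4, 2, 0, 3, 4, 1, 1]
def rw3266 : List ℕ := [1, 4, 0, 3, 5, 1, 5, 1, 4, 5, 5, 0, 4, 0, 4, 2]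
def rw3267 : List ℕ := [3, 4, 7, 5, 2, 1, 5, 5, 1, 2, 1, 6, 0, 3, 0, 4, 4, 0]
def rw3268 : List ℕ := [0, 6, 4, 6, 5, 7, 5, 1, 4, 6, 4, 7, 5, 7]
def rw3269 : List ℕ := [9, 0, 3, 0, 9, 9, 9, 0, 3, 1, 5, 0, 2, 1, 8, 8, 8, 1, 2, 1, 8, 4, 4, 5]
def rw3270 : List ℕ := [7, 4, 7, 2, 7, 4, 4, 7, 3, 5, 2, 6, 5, 5, 6, 3, 6, 5, 6, 4, 4, 5]
def rw3271 : List ℕ := [9, 2, 4, 2, 5, 8, 7, 0, 6, 9, 4, 3, 5, 3, 8, 4, 3, 3, 1, 2, 2, 5]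
def rw3272 : List ℕ := [4, 7, 5, 7, 5, 7, 5, 5, 4, 6, 4, 6, 4, 6]
def rw3273 : List ℕ := [8, 8, 8, 1, 2, 1, 8, 4, 0, 5, 9, 0, 3, 0, 9, 9, 9, 0, 3, 1, 1, 0, 2, 1]
def rw3274 : List ℕ := [1, 9, 0, 2, 1, 8, 8, 8, 1, 2, 1, 8, 4, 8, 5, 9, 0, 3, 0, 9, 9, 9, 0, 3]
def rw3275 : List ℕ := [7, 8, 7, 1, 6, 9, 6, 9, 6, 9, 6, 9, 0, 8, 7, 8, 7, 8]
def rw3276 : List ℕ := [1, 1, 0, 0, 5, 2, 1, 3, 5, 0, 4, 2, 0, 3, 4, 1]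
def rw3277 : List ℕ := [1, 2, 0, 2, 1, 8, 8, 8, 1, 2, 1, 8, 4, 3, 5, 9, 0, 3, 0, 9, 9, 9, 0, 3]
def rw3278 : List ℕ := [1, 8, 4, 4, 5, 9, 0, 3, 0, 9, 9, 9, 0, 3, 1, 5, 0, 2, 1, 8, 8, 8, 1, 2]
def rw3279 : List ℕ := [0, 9, 9, 9, 0, 3, 1, 7, 0, 2, 1, 8, 8, 8, 1, 2, 1, 8, 4, 6, 5, 9, 0, 3]
def rw3280 : List ℕ := [1, 2, 1, 8, 4, 0, 5, 9, 0, 3, 0, 9, 9, 9, 0, 3, 1, 1, 0, 2, 1, 8, 8, 8]
def rw3281 : List ℕ := [8, 8, 8, 1, 2, 1, 8, 4, 3, 5, 9, 0, 3, 0, 9, 9, 9, 0, 3, 1, 2, 0, 2, 1]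
def rw3282 : List ℕ := [9, 0, 3, 1, 4, 0, 2, 1, 8, 8, 8, 1, 2, 1, 8, 4, 5, 5, 9, 0, 3, 0, 9, 9]
def rw3283 : List ℕ := [3, 1, 0, 0, 2, 1, 8, 8, 8, 1, 2, 1, 8, 4, 1, 5, 9, 0, 3, 0, 9, 9, 9, 0]
def rw3284 : List ℕ := [0, 3, 1, 7, 0, 2, 1, 8, 8, 8, 1, 2, 1, 8, 4, 6, 5, 9, 0, 3, 0, 9, 9, 9]
def rw3285 : List ℕ := [3, 3, 3, 4, 2, 2, 2, 2, 4, 3, 3, 3, 4, 5, 5, 2, 2, 2, 5, 3]
def rw3286 : List ℕ := [0, 5, 0, 4, 0, 4, 2, 1, 1, 0, 3, 5, 1, 5, 1, 4]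
def rw3287 : List ℕ := [5, 7, 3, 5, 1, 7, 3, 5, 1, 4, 0, 4, 2, 6, 0, 4, 2, 6]
def rw3288 : List ℕ := [0, 5, 2, 2, 2, 5, 3, 3, 3, 3, 1, 2, 2, 2, 2, 4, 3, 3, 3, 4]
def rw3289 : List ℕ := [5, 0, 2, 1, 8, 8, 8, 1, 2, 1, 8, 4, 4, 5, 9, 0, 3, 0, 9, 9, 9, 0, 3, 1]
def rw3290 : List ℕ := [3, 4, 2, 5, 2, 1, 5, 5, 1, 2, 1, 3, 0, 3, 0, 4, 4, 0]
def rw3291 : List ℕ := [7, 4, 9, 6, 6, 9, 9, 1, 8, 8, 7, 7, 8, 5, 6, 6, 5, 5, 0, 4, 4, 7]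
def rw3292 : List ℕ := [3, 0, 9, 9, 9, 0, 3, 1, 0, 0, 2, 1, 8, 8, 8, 1, 2, 1, 8, 4, 1, 5, 9, 0]
def rw3293 : List ℕ := [0, 3, 0, 9, 9, 9, 0, 3, 1, 8, 0, 2, 1, 8, 8, 8, 1, 2, 1, 8, 4, 9, 5, 9]
def rw3294 : List ℕ := [8, 7, 1, 6, 9, 6, 9, 6, 9, 6, 9, 0, 8, 7, 8, 7, 8, 7]
def rw3295 : List ℕ := [7, 1, 6, 9, 4, 3, 5, 3, 8, 4, 3, 3, 0, 2, 2, 5, 9, 2, 4, 2, 5, 8]
def rw3296 : List ℕ := [1, 3, 5, 6, 4, 2, 0, 3, 4, 1, 1, 7, 0, 0, 5, 2]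
def rw3297 : List ℕ := [7, 0, 0, 5, 2, 1, 3, 5, 6, 4, 2, 0, 3, 4, 1, 1]
def rw3298 : List ℕ := [4, 3, 3, 1, 2, 2, 5, 9, 2, 4, 2, 5, 8, 7, 0, 6, 9, 4, 3, 5, 3, 8]
def rw3299 : List ℕ := [8, 4, 1, 5, 9, 0, 3, 0, 9, 9, 9, 0, 3, 1, 0, 0, 2, 1, 8, 8, 8, 1, 2, 1]
def rw3300 : List ℕ := [5, 7, 5, 0, 4, 6, 4, 7, 5, 7, 1, 6, 4, 6]
def rw3301 : List ℕ := [5, 5, 1, 2, 1, 9, 0, 3, 0, 4, 4, 0, 3, 4, 8, 5, 2, 1]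
def rw3302 : List ℕ := [1, 8, 0, 0, 5, 2, 1, 3, 5, 9, 4, 2, 0, 3, 4, 1]
def rw3303 : List ℕ := [7, 5, 9, 0, 3, 0, 9, 9, 9, 0, 3, 1, 6, 0, 2, 1, 8, 8, 8, 1, 2, 1, 8, 4]
def rw3304 : List ℕ := [2, 1, 8, 4, 6, 5, 9, 0, 3, 0, 9, 9, 9, 0, 3, 1, 7, 0, 2, 1, 8, 8, 8, 1]
def rw3305 : List ℕ := [1, 8, 8, 8, 1, 2, 1, 8, 4, 5, 5, 9, 0, 3, 0, 9, 9, 9, 0, 3, 1, 4, 0, 2]
def rw3306 : List ℕ := [1, 0, 0, 5, 2, 1, 3, 5, 0, 4, 2, 0, 3, 4, 1, 1]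
def rw3307 : List ℕ := [0, 5, 6, 6, 2, 6, 3, 4, 3, 1, 2, 5, 2, 7, 3, 7, 7, 4]
def rw3308 : List ℕ := [4, 4, 3, 0, 2, 5, 5, 7, 3, 7, 7, 5, 1, 4, 6, 6, 2, 6]
def rw3309 : List ℕ := [7, 0, 2, 4, 0, 5, 5, 5, 6, 4, 4, 4, 1, 5, 3, 1]
def rw3310 : List ℕ := [3, 1, 2, 4, 6, 3, 7, 2, 4, 7, 0, 6, 5, 3, 6, 2, 7, 5]
def rw3311 : List ℕ := [9, 6, 9, 0, 8, 7, 8, 7, 8, 7, 8, 7, 1, 6, 9, 6, 9, 6]
def rw3312 : List ℕ := [2, 2, 2, 2, 2, 2, 2]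
def rw3313 : List ℕ := [1, 9, 0, 2, 4, 0, 5, 5, 5, 8, 4, 4, 4, 1, 5, 3]
def rw3314 : List ℕ := [3, 3, 3, 3, 9, 2, 2, 2, 2, 4, 3, 3, 3, 4, 8, 5, 2, 2, 2, 5]
def rw3315 : List ℕ := [5, 7, 4, 7, 5, 8, 4, 6, 5, 6, 4, 6, 6, 6, 9, 7, 7, 7]
def rw3316 : List ℕ := [3, 8, 2, 2, 2, 2, 4, 3, 3, 3, 4, 9, 5, 2, 2, 2, 5, 3, 3, 3]
def rw3317 : List ℕ := [8, 5, 6, 6, 2, 6, 3, 4, 3, 9, 2, 5, 2, 7, 3, 7, 7, 4]
def rw3318 : List ℕ := [3, 6, 9, 4, 3, 5, 3, 8, 4, 3, 3, 2, 2, 2, 5, 9, 2, 4, 2, 5, 8, 7]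
def rw3319 : List ℕ := [2, 1, 5, 5, 1, 2, 1, 6, 0, 3, 0, 4, 4, 0, 3, 4, 7, 5]
def rw3320 : List ℕ := [8, 1, 2, 1, 8, 4, 2, 5, 9, 0, 3, 0, 9, 9, 9, 0, 3, 1, 3, 0, 2, 1, 8, 8]
def rw3321 : List ℕ := [1, 8, 0, 3, 0, 4, 4, 0, 3, 4, 9, 5, 2, 1, 5, 5, 1, 2]
def rw3322 : List ℕ := [0, 3, 0, 9, 9, 9, 0, 3, 1, 6, 0, 2, 1, 8, 8, 8, 1, 2, 1, 8, 4, 7, 5, 9]
def rw3323 : List ℕ := [1, 8, 0, 2, 4, 0, 5, 5, 5, 9, 4, 4, 4, 1, 5, 3]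
def rw3324 : List ℕ := [9, 9, 9, 0, 3, 1, 0, 0, 2, 1, 8, 8, 8, 1, 2, 1, 8, 4, 1, 5, 9, 0, 3, 0]
def rw3325 : List ℕ := [2, 1, 8, 8, 8, 1, 2, 1, 8, 4, 9, 5, 9, 0, 3, 0, 9, 9, 9, 0, 3, 1, 8, 0]
def rw3326 : List ℕ := [3, 1, 2, 0, 2, 1, 8, 8, 8, 1, 2, 1, 8, 4, 3, 5, 9, 0, 3, 0, 9, 9, 9, 0]
def rw3327 : List ℕ := [9, 2, 5, 5, 5, 2, 5, 5, 5, 8, 4, 4, 4, 3, 4, 4, 4, 3]
def rw3328 : List ℕ := [5, 4, 4, 2, 0, 3, 4, 1, 1, 5, 0, 0, 5, 2, 1, 3]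
def rw3329 : List ℕ := [3, 5, 6, 4, 2, 0, 3, 4, 1, 1, 7, 0, 0, 5, 2, 1]
def rw3330 : List ℕ := [2, 4, 2, 0, 3, 4, 1, 1, 3, 0, 0, 5, 2, 1, 3, 5]
def rw3331 : List ℕ := [4, 9, 4, 4, 9, 4, 4, 9, 7, 8, 5, 5, 8, 5, 5, 8, 5, 5, 6, 4]
def rw3332 : List ℕ := [5, 5, 8, 4, 4, 4, 3, 4, 4, 4, 3, 9, 2, 5, 5, 5, 2, 5]
def rw3333 : List ℕ := [5, 9, 0, 3, 0, 9, 9, 9, 0, 3, 1, 3, 0, 2, 1, 8, 8, 8, 1, 2, 1, 8, 4, 2]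
def rw3334 : List ℕ := [5, 0, 4, 6, 6, 2, 6, 4, 4, 3, 1, 2, 5, 5, 7, 3, 7, 7]
def rw3335 : List ℕ := [5, 1, 2, 0, 4, 2, 6, 0, 4, 2, 6, 3, 7, 3, 5, 1, 7, 3]
def rw3336 : List ℕ := [5, 1, 8, 0, 4, 2, 6, 0, 4, 2, 6, 9, 7, 3, 5, 1, 7, 3]
def rw3337 : List ℕ := [5, 0, 0, 5, 2, 1, 3, 5, 4, 4, 2, 0, 3, 4, 1, 1]
def rw3338 : List ℕ := [6, 7, 3, 5, 1, 7, 3, 5, 1, 7, 0, 4, 2, 6, 0, 4, 2, 6]
def rw3339 : List ℕ := [6, 0, 7, 7, 7, 3, 7, 7, 7, 3, 1, 2, 6, 6, 6, 2, 6, 6]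
def rw3340 : List ℕ := [1, 4, 3, 4, 3, 4, 3, 0, 2, 5, 2, 5, 2, 5]
def rw3341 : List ℕ := [3, 9, 2, 5, 5, 7, 3, 7, 7, 5, 8, 4, 6, 6, 2, 6, 4, 4]
def rw3342 : List ℕ := [2, 4, 2, 5, 8, 7, 1, 6, 9, 4, 3, 5, 3, 8, 4, 3, 3, 0, 2, 2, 5, 9]
def rw3343 : List ℕ := [1, 5, 0, 4, 0, 4, 2, 1, 0, 0, 3, 5, 1, 5, 1, 4]
def rw3344 : List ℕ := [9, 0, 3, 1, 0, 0, 2, 1, 8, 8, 8, 1, 2, 1, 8, 4, 1, 5, 9, 0, 3, 0, 9, 9]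
def rw3345 : List ℕ := [5, 6, 4, 7, 5, 7, 4, 7, 2, 7, 4, 4, 7, 3, 6, 2, 6, 5, 5, 6, 3, 6]
def rw3346 : List ℕ := [3, 3, 2, 2, 2, 5, 9, 2, 4, 2, 5, 8, 7, 3, 6, 9, 4, 3, 5, 3, 8, 4]
def rw3347 : List ℕ := [6, 1, 7, 3, 5, 1, 7, 3, 5, 1, 0, 0, 4, 2, 6, 0, 4, 2]
def rw3348 : List ℕ := [4, 6, 5, 2, 1, 5, 5, 1, 2, 1, 7, 0, 3, 0, 4, 4, 0, 3]
def rw3349 : List ℕ := [1, 7, 3, 5, 1, 7, 3, 5, 1, 0, 0, 4, 2, 6, 0, 4, 2, 6]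
def rw3350 : List ℕ := [6, 5, 6, 5, 6, 5, 6, 5, 0, 4, 7, 4, 7, 4, 7, 4, 7, 1]
def rw3351 : List ℕ := [2, 1, 8, 4, 5, 5, 9, 0, 3, 0, 9, 9, 9, 0, 3, 1, 4, 0, 2, 1, 8, 8, 8, 1]
def rw3352 : List ℕ := [5, 1, 2, 1, 6, 0, 3, 0, 4, 4, 0, 3, 4, 7, 5, 2, 1, 5]
def rw3353 : List ℕ := [1, 5, 1, 4, 8, 5, 0, 4, 0, 4, 2, 1, 9, 0, 3, 5]
def rw3354 : List ℕ := [1, 8, 4, 8, 5, 9, 0, 3, 0, 9, 9, 9, 0, 3, 1, 9, 0, 2, 1, 8, 8, 8, 1, 2]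
def rw3355 : List ℕ := [1, 7, 0, 2, 1, 8, 8, 8, 1, 2, 1, 8, 4, 6, 5, 9, 0, 3, 0, 9, 9, 9, 0, 3]
def rw3356 : List ℕ := [2, 5, 9, 0, 3, 0, 9, 9, 9, 0, 3, 1, 3, 0, 2, 1, 8, 8, 8, 1, 2, 1, 8, 4]
noncomputable def relW (i : ℕ) : List ℕ := (Bool.rec (motive := fun _ => List ℕ) (Bool.rec (motive := fun _ => List ℕ) (Bool.rec (motive := fun _ => List ℕ) (Bool.rec (motive := fun _ => List ℕ) (Bool.rec (motive := fun _ => List ℕ) (Bool.rec (motive := fun _ => List ℕ) (Bool.rec (motive := fun _ => List ℕ) (Bool.rec (motive := fun _ => List ℕ) (Bool.rec (motive := fun _ => List ℕ) (Bool.rec (motive := fun _ => List ℕ) (Bool.rec (motive := fun _ => List ℕ) (Bool.rec (motive := fun _ => List ℕ) (rw0) (rw1) (Nat.ble 1 i)) (Bool.rec (motive := fun _ => List ℕ) (rw2) (rw3) (Nat.ble 3 i)) (Nat.ble 2 i)) (Bool.rec (motive := fun _ => List ℕ) (Bool.rec (motive := fun _ => List ℕ) (rw4) (rw5) (Nat.ble 5 i)) (Bool.rec (motive := fun _ => List ℕ) (rw6) (rw7) (Nat.ble 7 i)) (Nat.ble 6 i)) (Nat.ble 4 i)) (Bool.rec (motive := fun _ => List ℕ) (Bool.rec (motive := fun _ => List ℕ) (Bool.rec (motive := fun _ => List ℕ) (rw8) (rw9) (Nat.ble 9 i)) (Bool.rec (motive := fun _ => List ℕ) (rw10) (rw11) (Nat.ble 11 i)) (Nat.ble 10 i)) (Bool.rec (motive := fun _ => List ℕ) (Bool.rec (motive := fun _ => List ℕ) (rw12) (rw13) (Nat.ble 13 i)) (Bool.rec (motive := fun _ => List ℕ) (rw14) (rw15) (Nat.ble 15 i)) (Nat.ble 14 i)) (Nat.ble 12 i)) (Nat.ble 8 i)) (Bool.rec (motive := fun _ => List ℕ) (Bool.rec (motive := fun _ => List ℕ) (Bool.rec (motive := fun _ => List ℕ) (Bool.rec (motive := fun _ => List ℕ) (rw16) (rw17) (Nat.ble 17 i)) (Bool.rec (motive := fun _ => List ℕ) (rw18) (rw19) (Nat.ble 19 i)) (Nat.ble 18 i)) (Bool.rec (motive := fun _ => List ℕ) (Bool.rec (motive := fun _ => List ℕ) (rw20) (rw21) (Nat.ble 21 i)) (Bool.rec (motive := fun _ => List ℕ) (rw22) (rw23) (Nat.ble 23 i)) (Nat.ble 22 i)) (Nat.ble 20 i)) (Bool.rec (motive := fun _ => List ℕ) (Bool.rec (motive := fun _ => List ℕ) (Bool.rec (motive := fun _ => List ℕ) (rw24) (rw25) (Nat.ble 25 i)) (Bool.rec (motive := fun _ => List ℕ) (rw26) (rw27) (Nat.ble 27 i)) (Nat.ble 26 i)) (Bool.rec (motive := fun _ => List ℕ) (Bool.rec (motive := fun _ => List ℕ) (rw28) (rw29) (Nat.ble 29 i)) (Bool.rec (motive := fun _ => List ℕ) (rw30) (rw31) (Nat.ble 31 i)) (Nat.ble 30 i)) (Nat.ble 28 i)) (Nat.ble 24 i)) (Nat.ble 16 i)) (Bool.rec (motive := fun _ => List ℕ) (Bool.rec (motive := fun _ => List ℕ) (Bool.rec (motive := fun _ => List ℕ) (Bool.rec (motive := fun _ => List ℕ) (Bool.rec (motive := fun _ => List ℕ) (rw32) (rw33) (Nat.ble 33 i)) (Bool.rec (motive := fun _ => List ℕ) (rw34) (rw35) (Nat.ble 35 i)) (Nat.ble 34 i)) (Bool.rec (motive := fun _ => List ℕ) (Bool.rec (motive := fun _ => List ℕ) (rw36) (rw37) (Nat.ble 37 i)) (Bool.rec (motive := fun _ => List ℕ) (rw38) (rw39) (Nat.ble 39 i)) (Nat.ble 38 i)) (Nat.ble 36 i)) (Bool.rec (motive := fun _ => List ℕ) (Bool.rec (motive := fun _ => List ℕ) (Bool.rec (motive := fun _ => List ℕ) (rw40) (rw41) (Nat.ble 41 i)) (Bool.rec (motive := fun _ => List ℕ) (rw42) (rw43) (Nat.ble 43 i)) (Nat.ble 42 i)) (Bool.rec (motive := fun _ => List ℕ) (Bool.rec (motive := fun _ => List ℕ) (rw44) (rw45) (Nat.ble 45 i)) (Bool.rec (motive := fun _ => List ℕ) (rw46) (rw47) (Nat.ble 47 i)) (Nat.ble 46 i)) (Nat.ble 44 i)) (Nat.ble 40 i)) (Bool.rec (motive := fun _ => List ℕ) (Bool.rec (motive := fun _ => List ℕ) (Bool.rec (motive := fun _ => List ℕ) (Bool.rec (motive := fun _ => List ℕ) (rw48) (rw49) (Nat.ble 49 i)) (Bool.rec (motive := fun _ => List ℕ) (rw50) (rw51) (Nat.ble 51 i)) (Nat.ble 50 i)) (Bool.rec (motive := fun _ => List ℕ) (Bool.rec (motive := fun _ => List ℕ) (rw52) (rw53) (Nat.ble 53 i)) (Bool.rec (motive := fun _ => List ℕ) (rw54) (rw55) (Nat.ble 55 i)) (Nat.ble 54 i)) (Nat.ble 52 i)) (Bool.rec (motive := fun _ => List ℕ) (Bool.rec (motive := fun _ => List ℕ) (Bool.rec (motive := fun _ => List ℕ) (rw56) (rw57) (Nat.ble 57 i)) (Bool.rec (motive := fun _ => List ℕ) (rw58) (rw59) (Nat.ble 59 i)) (Nat.ble 58 i)) (Bool.rec (motive := fun _ => List ℕ) (Bool.rec (motive := fun _ => List ℕ) (rw60) (rw61) (Nat.ble 61 i)) (Bool.rec (motive := fun _ => List ℕ) (rw62) (rw63) (Nat.ble 63 i)) (Nat.ble 62 i)) (Nat.ble 60 i)) (Nat.ble 56 i)) (Nat.ble 48 i)) (Nat.ble 32 i)) (Bool.rec (motive := fun _ => List ℕ) (Bool.rec (motive := fun _ => List ℕ) (Bool.rec (motive := fun _ => List ℕ) (Bool.rec (motive := fun _ => List ℕ) (Bool.rec (motive := fun _ => List ℕ) (Bool.rec (motive := fun _ => List ℕ) (rw64) (rw65) (Nat.ble 65 i)) (Bool.rec (motive := fun _ => List ℕ) (rw66) (rw67) (Nat.ble 67 i)) (Nat.ble 66 i)) (Bool.rec (motive := fun _ => List ℕ) (Bool.rec (motive := fun _ => List ℕ) (rw68) (rw69) (Nat.ble 69 i)) (Bool.rec (motive := fun _ => List ℕ) (rw70) (rw71) (Nat.ble 71 i)) (Nat.ble 70 i)) (Nat.ble 68 i)) (Bool.rec (motive := fun _ => List ℕ) (Bool.rec (motive := fun _ => List ℕ) (Bool.rec (motive := fun _ => List ℕ) (rw72) (rw73) (Nat.ble 73 i)) (Bool.rec (motive := fun _ => List ℕ) (rw74) (rw75) (Nat.ble 75 i)) (Nat.ble 74 i)) (Bool.rec (motive := fun _ => List ℕ) (Bool.rec (motive := fun _ => List ℕ) (rw76) (rw77) (Nat.ble 77 i)) (Bool.rec (motive := fun _ => List ℕ) (rw78) (rw79) (Nat.ble 79 i)) (Nat.ble 78 i)) (Nat.ble 76 i)) (Nat.ble 72 i)) (Bool.rec (motive := fun _ => List ℕ) (Bool.rec (motive := fun _ => List ℕ) (Bool.rec (motive := fun _ => List ℕ) (Bool.rec (motive := fun _ => List ℕ) (rw80) (rw81) (Nat.ble 81 i)) (Bool.rec (motive := fun _ => List ℕ) (rw82) (rw83) (Nat.ble 83 i)) (Nat.ble 82 i)) (Bool.rec (motive := fun _ => List ℕ) (Bool.rec (motive := fun _ => List ℕ) (rw84) (rw85) (Nat.ble 85 i)) (Bool.rec (motive := fun _ => List ℕ) (rw86) (rw87) (Nat.ble 87 i)) (Nat.ble 86 i)) (Nat.ble 84 i)) (Bool.rec (motive := fun _ => List ℕ) (Bool.rec (motive := fun _ => List ℕ) (Bool.rec (motive := fun _ => List ℕ) (rw88) (rw89) (Nat.ble 89 i)) (Bool.rec (motive := fun _ => List ℕ) (rw90) (rw91) (Nat.ble 91 i)) (Nat.ble 90 i)) (Bool.rec (motive := fun _ => List ℕ) (Bool.rec (motive := fun _ => List ℕ) (rw92) (rw93) (Nat.ble 93 i)) (Bool.rec (motive := fun _ => List ℕ) (rw94) (rw95) (Nat.ble 95 i)) (Nat.ble 94 i)) (Nat.ble 92 i)) (Nat.ble 88 i)) (Nat.ble 80 i)) (Bool.rec (motive := fun _ => List ℕ) (Bool.rec (motive := fun _ => List ℕ) (Bool.rec (motive := fun _ => List ℕ) (Bool.rec (motive := fun _ => List ℕ) (Bool.rec (motive := fun _ => List ℕ) (rw96) (rw97) (Nat.ble 97 i)) (Bool.rec (motive := fun _ => List ℕ) (rw98) (rw99) (Nat.ble 99 i)) (Nat.ble 98 i)) (Bool.rec (motive := fun _ => List ℕ) (Bool.rec (motive := fun _ => List ℕ) (rw100) (rw101) (Nat.ble 101 i)) (Bool.rec (motive := fun _ => List ℕ) (rw102) (rw103) (Nat.ble 103 i)) (Nat.ble 102 i)) (Nat.ble 100 i)) (Bool.rec (motive := fun _ => List ℕ) (Bool.rec (motive := fun _ => List ℕ) (Bool.rec (motive := fun _ => List ℕ) (rw104) (rw105) (Nat.ble 105 i)) (Bool.rec (motive := fun _ => List ℕ) (rw106) (rw107) (Nat.ble 107 i)) (Nat.ble 106 i)) (Bool.rec (motive := fun _ => List ℕ) (Bool.rec (motive := fun _ => List ℕ) (rw108) (rw109) (Nat.ble 109 i)) (Bool.rec (motive := fun _ => List ℕ) (rw110) (rw111) (Nat.ble 111 i)) (Nat.ble 110 i)) (Nat.ble 108 i)) (Nat.ble 104 i)) (Bool.rec (motive := fun _ => List ℕ) (Bool.rec (motive := fun _ => List ℕ) (Bool.rec (motive := fun _ => List ℕ) (Bool.rec (motive := fun _ => List ℕ) (rw112) (rw113) (Nat.ble 113 i)) (Bool.rec (motive := fun _ => List ℕ) (rw114) (rw115) (Nat.ble 115 i)) (Nat.ble 114 i)) (Bool.rec (motive := fun _ => List ℕ) (Bool.rec (motive := fun _ => List ℕ) (rw116) (rw117) (Nat.ble 117 i)) (Bool.rec (motive := fun _ => List ℕ) (rw118) (rw119) (Nat.ble 119 i)) (Nat.ble 118 i)) (Nat.ble 116 i)) (Bool.rec (motive := fun _ => List ℕ) (Bool.rec (motive := fun _ => List ℕ) (Bool.rec (motive := fun _ => List ℕ) (rw120) (rw121) (Nat.ble 121 i)) (Bool.rec (motive := fun _ => List ℕ) (rw122) (rw123) (Nat.ble 123 i)) (Nat.ble 122 i)) (Bool.rec (motive := fun _ => List ℕ) (Bool.rec (motive := fun _ => List ℕ) (rw124) (rw125) (Nat.ble 125 i)) (Bool.rec (motive := fun _ => List ℕ) (rw126) (rw127) (Nat.ble 127 i)) (Nat.ble 126 i)) (Nat.ble 124 i)) (Nat.ble 120 i)) (Nat.ble 112 i)) (Nat.ble 96 i)) (Nat.ble 64 i)) (Bool.rec (motive := fun _ => List ℕ) (Bool.rec (motive := fun _ => List ℕ) (Bool.rec (motive := fun _ => List ℕ) (Bool.rec (motive := fun _ => List ℕ) (Bool.rec (motive := fun _ => List ℕ) (Bool.rec (motive := fun _ => List ℕ) (Bool.rec (motive := fun _ => List ℕ) (rw128) (rw129) (Nat.ble 129 i)) (Bool.rec (motive := fun _ => List ℕ) (rw130) (rw131) (Nat.ble 131 i)) (Nat.ble 130 i)) (Bool.rec (motive := fun _ => List ℕ) (Bool.rec (motive := fun _ => List ℕ) (rw132) (rw133) (Nat.ble 133 i)) (Bool.rec (motive := fun _ => List ℕ) (rw134) (rw135) (Nat.ble 135 i)) (Nat.ble 134 i)) (Nat.ble 132 i)) (Bool.rec (motive := fun _ => List ℕ) (Bool.rec (motive := fun _ => List ℕ) (Bool.rec (motive := fun _ => List ℕ) (rw136) (rw137) (Nat.ble 137 i)) (Bool.rec (motive := fun _ => List ℕ) (rw138) (rw139) (Nat.ble 139 i)) (Nat.ble 138 i)) (Bool.rec (motive := fun _ => List ℕ) (Bool.rec (motive := fun _ => List ℕ) (rw140) (rw141) (Nat.ble 141 i)) (Bool.rec (motive := fun _ => List ℕ) (rw142) (rw143) (Nat.ble 143 i)) (Nat.ble 142 i)) (Nat.ble 140 i)) (Nat.ble 136 i)) (Bool.rec (motive := fun _ => List ℕ) (Bool.rec (motive := fun _ => List ℕ) (Bool.rec (motive := fun _ => List ℕ) (Bool.rec (motive := fun _ => List ℕ) (rw144) (rw145) (Nat.ble 145 i)) (Bool.rec (motive := fun _ => List ℕ) (rw146) (rw147) (Nat.ble 147 i)) (Nat.ble 146 i)) (Bool.rec (motive := fun _ => List ℕ) (Bool.rec (motive := fun _ => List ℕ) (rw148) (rw149) (Nat.ble 149 i)) (Bool.rec (motive := fun _ => List ℕ) (rw150) (rw151) (Nat.ble 151 i)) (Nat.ble 150 i)) (Nat.ble 148 i)) (Bool.rec (motive := fun _ => List ℕ) (Bool.rec (motive := fun _ => List ℕ) (Bool.rec (motive := fun _ => List ℕ) (rw152) (rw153) (Nat.ble 153 i)) (Bool.rec (motive := fun _ => List ℕ) (rw154) (rw155) (Nat.ble 155 i)) (Nat.ble 154 i)) (Bool.rec (motive := fun _ => List ℕ) (Bool.rec (motive := fun _ => List ℕ) (rw156) (rw157) (Nat.ble 157 i)) (Bool.rec (motive := fun _ => List ℕ) (rw158) (rw159) (Nat.ble 159 i)) (Nat.ble 158 i)) (Nat.ble 156 i)) (Nat.ble 152 i)) (Nat.ble 144 i)) (Bool.rec (motive := fun _ => List ℕ) (Bool.rec (motive := fun _ => List ℕ) (Bool.rec (motive := fun _ => List ℕ) (Bool.rec (motive := fun _ => List ℕ) (Bool.rec (motive := fun _ => List ℕ) (rw160) (rw161) (Nat.ble 161 i)) (Bool.rec (motive := fun _ => List ℕ) (rw162) (rw163) (Nat.ble 163 i)) (Nat.ble 162 i)) (Bool.rec (motive := fun _ => List ℕ) (Bool.rec (motive := fun _ => List ℕ) (rw164) (rw165) (Nat.ble 165 i)) (Bool.rec (motive := fun _ => List ℕ) (rw166) (rw167) (Nat.ble 167 i)) (Nat.ble 166 i)) (Nat.ble 164 i)) (Bool.rec (motive := fun _ => List ℕ) (Bool.rec (motive := fun _ => List ℕ) (Bool.rec (motive := fun _ => List ℕ) (rw168) (rw169) (Nat.ble 169 i)) (Bool.rec (motive := fun _ => List ℕ) (rw170) (rw171) (Nat.ble 171 i)) (Nat.ble 170 i)) (Bool.rec (motive := fun _ => List ℕ) (Bool.rec (motive := fun _ => List ℕ) (rw172) (rw173) (Nat.ble 173 i)) (Bool.rec (motive := fun _ => List ℕ) (rw174) (rw175) (Nat.ble 175 i)) (Nat.ble 174 i)) (Nat.ble 172 i)) (Nat.ble 168 i)) (Bool.rec (motive := fun _ => List ℕ) (Bool.rec (motive := fun _ => List ℕ) (Bool.rec (motive := fun _ => List ℕ) (Bool.rec (motive := fun _ => List ℕ) (rw176) (rw177) (Nat.ble 177 i)) (Bool.rec (motive := fun _ => List ℕ) (rw178) (rw179) (Nat.ble 179 i)) (Nat.ble 178 i)) (Bool.rec (motive := fun _ => List ℕ) (Bool.rec (motive := fun _ => List ℕ) (rw180) (rw181) (Nat.ble 181 i)) (Bool.rec (motive := fun _ => List ℕ) (rw182) (rw183) (Nat.ble 183 i)) (Nat.ble 182 i)) (Nat.ble 180 i)) (Bool.rec (motive := fun _ => List ℕ) (Bool.rec (motive := fun _ => List ℕ) (Bool.rec (motive := fun _ => List ℕ) (rw184) (rw185) (Nat.ble 185 i)) (Bool.rec (motive := fun _ => List ℕ) (rw186) (rw187) (Nat.ble 187 i)) (Nat.ble 186 i)) (Bool.rec (motive := fun _ => List ℕ) (Bool.rec (motive := fun _ => List ℕ) (rw188) (rw189) (Nat.ble 189 i)) (Bool.rec (motive := fun _ => List ℕ) (rw190) (rw191) (Nat.ble 191 i)) (Nat.ble 190 i)) (Nat.ble 188 i)) (Nat.ble 184 i)) (Nat.ble 176 i)) (Nat.ble 160 i)) (Bool.rec (motive := fun _ => List ℕ) (Bool.rec (motive := fun _ => List ℕ) (Bool.rec (motive := fun _ => List ℕ) (Bool.rec (motive := fun _ => List ℕ) (Bool.rec (motive := fun _ => List ℕ) (Bool.rec (motive := fun _ => List ℕ) (rw192) (rw193) (Nat.ble 193 i)) (Bool.rec (motive := fun _ => List ℕ) (rw194) (rw195) (Nat.ble 195 i)) (Nat.ble 194 i)) (Bool.rec (motive := fun _ => List ℕ) (Bool.rec (motive := fun _ => List ℕ) (rw196) (rw197) (Nat.ble 197 i)) (Bool.rec (motive := fun _ => List ℕ) (rw198) (rw199) (Nat.ble 199 i)) (Nat.ble 198 i)) (Nat.ble 196 i)) (Bool.rec (motive := fun _ => List ℕ) (Bool.rec (motive := fun _ => List ℕ) (Bool.rec (motive := fun _ => List ℕ) (rw200) (rw201) (Nat.ble 201 i)) (Bool.rec (motive := fun _ => List ℕ) (rw202) (rw203) (Nat.ble 203 i)) (Nat.ble 202 i)) (Bool.rec (motive := fun _ => List ℕ) (Bool.rec (motive := fun _ => List ℕ) (rw204) (rw205) (Nat.ble 205 i)) (Bool.rec (motive := fun _ => List ℕ) (rw206) (rw207) (Nat.ble 207 i)) (Nat.ble 206 i)) (Nat.ble 204 i)) (Nat.ble 200 i)) (Bool.rec (motive := fun _ => List ℕ) (Bool.rec (motive := fun _ => List ℕ) (Bool.rec (motive := fun _ => List ℕ) (Bool.rec (motive := fun _ => List ℕ) (rw208) (rw209) (Nat.ble 209 i)) (Bool.rec (motive := fun _ => List ℕ) (rw210) (rw211) (Nat.ble 211 i)) (Nat.ble 210 i)) (Bool.rec (motive := fun _ => List ℕ) (Bool.rec (motive := fun _ => List ℕ) (rw212) (rw213) (Nat.ble 213 i)) (Bool.rec (motive := fun _ => List ℕ) (rw214) (rw215) (Nat.ble 215 i)) (Nat.ble 214 i)) (Nat.ble 212 i)) (Bool.rec (motive := fun _ => List ℕ) (Bool.rec (motive := fun _ => List ℕ) (Bool.rec (motive := fun _ => List ℕ) (rw216) (rw217) (Nat.ble 217 i)) (Bool.rec (motive := fun _ => List ℕ) (rw218) (rw219) (Nat.ble 219 i)) (Nat.ble 218 i)) (Bool.rec (motive := fun _ => List ℕ) (Bool.rec (motive := fun _ => List ℕ) (rw220) (rw221) (Nat.ble 221 i)) (Bool.rec (motive := fun _ => List ℕ) (rw222) (rw223) (Nat.ble 223 i)) (Nat.ble 222 i)) (Nat.ble 220 i)) (Nat.ble 216 i)) (Nat.ble 208 i)) (Bool.rec (motive := fun _ => List ℕ) (Bool.rec (motive := fun _ => List ℕ) (Bool.rec (motive := fun _ => List ℕ) (Bool.rec (motive := fun _ => List ℕ) (Bool.rec (motive := fun _ => List ℕ) (rw224) (rw225) (Nat.ble 225 i)) (Bool.rec (motive := fun _ => List ℕ) (rw226) (rw227) (Nat.ble 227 i)) (Nat.ble 226 i)) (Bool.rec (motive := fun _ => List ℕ) (Bool.rec (motive := fun _ => List ℕ) (rw228) (rw229) (Nat.ble 229 i)) (Bool.rec (motive := fun _ => List ℕ) (rw230) (rw231) (Nat.ble 231 i)) (Nat.ble 230 i)) (Nat.ble 228 i)) (Bool.rec (motive := fun _ => List ℕ) (Bool.rec (motive := fun _ => List ℕ) (Bool.rec (motive := fun _ => List ℕ) (rw232) (rw233) (Nat.ble 233 i)) (Bool.rec (motive := fun _ => List ℕ) (rw234) (rw235) (Nat.ble 235 i)) (Nat.ble 234 i)) (Bool.rec (motive := fun _ => List ℕ) (Bool.rec (motive := fun _ => List ℕ) (rw236) (rw237) (Nat.ble 237 i)) (Bool.rec (motive := fun _ => List ℕ) (rw238) (rw239) (Nat.ble 239 i)) (Nat.ble 238 i)) (Nat.ble 236 i)) (Nat.ble 232 i)) (Bool.rec (motive := fun _ => List ℕ) (Bool.rec (motive := fun _ => List ℕ) (Bool.rec (motive := fun _ => List ℕ) (Bool.rec (motive := fun _ => List ℕ) (rw240) (rw241) (Nat.ble 241 i)) (Bool.rec (motive := fun _ => List ℕ) (rw242) (rw243) (Nat.ble 243 i)) (Nat.ble 242 i)) (Bool.rec (motive := fun _ => List ℕ) (Bool.rec (motive := fun _ => List ℕ) (rw244) (rw245) (Nat.ble 245 i)) (Bool.rec (motive := fun _ => List ℕ) (rw246) (rw247) (Nat.ble 247 i)) (Nat.ble 246 i)) (Nat.ble 244 i)) (Bool.rec (motive := fun _ => List ℕ) (Bool.rec (motive := fun _ => List ℕ) (Bool.rec (motive := fun _ => List ℕ) (rw248) (rw249) (Nat.ble 249 i)) (Bool.rec (motive := fun _ => List ℕ) (rw250) (rw251) (Nat.ble 251 i)) (Nat.ble 250 i)) (Bool.rec (motive := fun _ => List ℕ) (Bool.rec (motive := fun _ => List ℕ) (rw252) (rw253) (Nat.ble 253 i)) (Bool.rec (motive := fun _ => List ℕ) (rw254) (rw255) (Nat.ble 255 i)) (Nat.ble 254 i)) (Nat.ble 252 i)) (Nat.ble 248 i)) (Nat.ble 240 i)) (Nat.ble 224 i)) (Nat.ble 192 i)) (Nat.ble 128 i)) (Bool.rec (motive := fun _ => List ℕ) (Bool.rec (motive := fun _ => List ℕ) (Bool.rec (motive := fun _ => List ℕ) (Bool.rec (motive := fun _ => List ℕ) (Bool.rec (motive := fun _ => List ℕ) (Bool.rec (motive := fun _ => List ℕ) (Bool.rec (motive := fun _ => List ℕ) (Bool.rec (motive := fun _ => List ℕ) (rw256) (rw257) (Nat.ble 257 i)) (Bool.rec (motive := fun _ => List ℕ) (rw258) (rw259) (Nat.ble 259 i)) (Nat.ble 258 i)) (Bool.rec (motive := fun _ => List ℕ) (Bool.rec (motive := fun _ => List ℕ) (rw260) (rw261) (Nat.ble 261 i)) (Bool.rec (motive := fun _ => List ℕ) (rw262) (rw263) (Nat.ble 263 i)) (Nat.ble 262 i)) (Nat.ble 260 i)) (Bool.rec (motive := fun _ => List ℕ) (Bool.rec (motive := fun _ => List ℕ) (Bool.rec (motive := fun _ => List ℕ) (rw264) (rw265) (Nat.ble 265 i)) (Bool.rec (motive := fun _ => List ℕ) (rw266) (rw267) (Nat.ble 267 i)) (Nat.ble 266 i)) (Bool.rec (motive := fun _ => List ℕ) (Bool.rec (motive := fun _ => List ℕ) (rw268) (rw269) (Nat.ble 269 i)) (Bool.rec (motive := fun _ => List ℕ) (rw270) (rw271) (Nat.ble 271 i)) (Nat.ble 270 i)) (Nat.ble 268 i)) (Nat.ble 264 i)) (Bool.rec (motive := fun _ => List ℕ) (Bool.rec (motive := fun _ => List ℕ) (Bool.rec (motive := fun _ => List ℕ) (Bool.rec (motive := fun _ => List ℕ) (rw272) (rw273) (Nat.ble 273 i)) (Bool.rec (motive := fun _ => List ℕ) (rw274) (rw275) (Nat.ble 275 i)) (Nat.ble 274 i)) (Bool.rec (motive := fun _ => List ℕ) (Bool.rec (motive := fun _ => List ℕ) (rw276) (rw277) (Nat.ble 277 i)) (Bool.rec (motive := fun _ => List ℕ) (rw278) (rw279) (Nat.ble 279 i)) (Nat.ble 278 i)) (Nat.ble 276 i)) (Bool.rec (motive := fun _ => List ℕ) (Bool.rec (motive := fun _ => List ℕ) (Bool.rec (motive := fun _ => List ℕ) (rw280) (rw281) (Nat.ble 281 i)) (Bool.rec (motive := fun _ => List ℕ) (rw282) (rw283) (Nat.ble 283 i)) (Nat.ble 282 i)) (Bool.rec (motive := fun _ => List ℕ) (Bool.rec (motive := fun _ => List ℕ) (rw284) (rw285) (Nat.ble 285 i)) (Bool.rec (motive := fun _ => List ℕ) (rw286) (rw287) (Nat.ble 287 i)) (Nat.ble 286 i)) (Nat.ble 284 i)) (Nat.ble 280 i)) (Nat.ble 272 i)) (Bool.rec (motive := fun _ => List ℕ) (Bool.rec (motive := fun _ => List ℕ) (Bool.rec (motive := fun _ => List ℕ) (Bool.rec (motive := fun _ => List ℕ) (Bool.rec (motive := fun _ => List ℕ) (rw288) (rw289) (Nat.ble 289 i)) (Bool.rec (motive := fun _ => List ℕ) (rw290) (rw291) (Nat.ble 291 i)) (Nat.ble 290 i)) (Bool.rec (motive := fun _ => List ℕ) (Bool.rec (motive := fun _ => List ℕ) (rw292) (rw293) (Nat.ble 293 i)) (Bool.rec (motive := fun _ => List ℕ) (rw294) (rw295) (Nat.ble 295 i)) (Nat.ble 294 i)) (Nat.ble 292 i)) (Bool.rec (motive := fun _ => List ℕ) (Bool.rec (motive := fun _ => List ℕ) (Bool.rec (motive := fun _ => List ℕ) (rw296) (rw297) (Nat.ble 297 i)) (Bool.rec (motive := fun _ => List ℕ) (rw298) (rw299) (Nat.ble 299 i)) (Nat.ble 298 i)) (Bool.rec (motive := fun _ => List ℕ) (Bool.rec (motive := fun _ => List ℕ) (rw300) (rw301) (Nat.ble 301 i)) (Bool.rec (motive := fun _ => List ℕ) (rw302) (rw303) (Nat.ble 303 i)) (Nat.ble 302 i)) (Nat.ble 300 i)) (Nat.ble 296 i)) (Bool.rec (motive := fun _ => List ℕ) (Bool.rec (motive := fun _ => List ℕ) (Bool.rec (motive := fun _ => List ℕ) (Bool.rec (motive := fun _ => List ℕ) (rw304) (rw305) (Nat.ble 305 i)) (Bool.rec (motive := fun _ => List ℕ) (rw306) (rw307) (Nat.ble 307 i)) (Nat.ble 306 i)) (Bool.rec (motive := fun _ => List ℕ) (Bool.rec (motive := fun _ => List ℕ) (rw308) (rw309) (Nat.ble 309 i)) (Bool.rec (motive := fun _ => List ℕ) (rw310) (rw311) (Nat.ble 311 i)) (Nat.ble 310 i)) (Nat.ble 308 i)) (Bool.rec (motive := fun _ => List ℕ) (Bool.rec (motive := fun _ => List ℕ) (Bool.rec (motive := fun _ => List ℕ) (rw312) (rw313) (Nat.ble 313 i)) (Bool.rec (motive := fun _ => List ℕ) (rw314) (rw315) (Nat.ble 315 i)) (Nat.ble 314 i)) (Bool.rec (motive := fun _ => List ℕ) (Bool.rec (motive := fun _ => List ℕ) (rw316) (rw317) (Nat.ble 317 i)) (Bool.rec (motive := fun _ => List ℕ) (rw318) (rw319) (Nat.ble 319 i)) (Nat.ble 318 i)) (Nat.ble 316 i)) (Nat.ble 312 i)) (Nat.ble 304 i)) (Nat.ble 288 i)) (Bool.rec (motive := fun _ => List ℕ) (Bool.rec (motive := fun _ => List ℕ) (Bool.rec (motive := fun _ => List ℕ) (Bool.rec (motive := fun _ => List ℕ) (Bool.rec (motive := fun _ => List ℕ) (Bool.rec (motive := fun _ => List ℕ) (rw320) (rw321) (Nat.ble 321 i)) (Bool.rec (motive := fun _ => List ℕ) (rw322) (rw323) (Nat.ble 323 i)) (Nat.ble 322 i)) (Bool.rec (motive := fun _ => List ℕ) (Bool.rec (motive := fun _ => List ℕ) (rw324) (rw325) (Nat.ble 325 i)) (Bool.rec (motive := fun _ => List ℕ) (rw326) (rw327) (Nat.ble 327 i)) (Nat.ble 326 i)) (Nat.ble 324 i)) (Bool.rec (motive := fun _ => List ℕ) (Bool.rec (motive := fun _ => List ℕ) (Bool.rec (motive := fun _ => List ℕ) (rw328) (rw329) (Nat.ble 329 i)) (Bool.rec (motive := fun _ => List ℕ) (rw330) (rw331) (Nat.ble 331 i)) (Nat.ble 330 i)) (Bool.rec (motive := fun _ => List ℕ) (Bool.rec (motive := fun _ => List ℕ) (rw332) (rw333) (Nat.ble 333 i)) (Bool.rec (motive := fun _ => List ℕ) (rw334) (rw335) (Nat.ble 335 i)) (Nat.ble 334 i)) (Nat.ble 332 i)) (Nat.ble 328 i)) (Bool.rec (motive := fun _ => List ℕ) (Bool.rec (motive := fun _ => List ℕ) (Bool.rec (motive := fun _ => List ℕ) (Bool.rec (motive := fun _ => List ℕ) (rw336) (rw337) (Nat.ble 337 i)) (Bool.rec (motive := fun _ => List ℕ) (rw338) (rw339) (Nat.ble 339 i)) (Nat.ble 338 i)) (Bool.rec (motive := fun _ => List ℕ) (Bool.rec (motive := fun _ => List ℕ) (rw340) (rw341) (Nat.ble 341 i)) (Bool.rec (motive := fun _ => List ℕ) (rw342) (rw343) (Nat.ble 343 i)) (Nat.ble 342 i)) (Nat.ble 340 i)) (Bool.rec (motive := fun _ => List ℕ) (Bool.rec (motive := fun _ => List ℕ) (Bool.rec (motive := fun _ => List ℕ) (rw344) (rw345) (Nat.ble 345 i)) (Bool.rec (motive := fun _ => List ℕ) (rw346) (rw347) (Nat.ble 347 i)) (Nat.ble 346 i)) (Bool.rec (motive := fun _ => List ℕ) (Bool.rec (motive := fun _ => List ℕ) (rw348) (rw349) (Nat.ble 349 i)) (Bool.rec (motive := fun _ => List ℕ) (rw350) (rw351) (Nat.ble 351 i)) (Nat.ble 350 i)) (Nat.ble 348 i)) (Nat.ble 344 i)) (Nat.ble 336 i)) (Bool.rec (motive := fun _ => List ℕ) (Bool.rec (motive := fun _ => List ℕ) (Bool.rec (motive := fun _ => List ℕ) (Bool.rec (motive := fun _ => List ℕ) (Bool.rec (motive := fun _ => List ℕ) (rw352) (rw353) (Nat.ble 353 i)) (Bool.rec (motive := fun _ => List ℕ) (rw354) (rw355) (Nat.ble 355 i)) (Nat.ble 354 i)) (Bool.rec (motive := fun _ => List ℕ) (Bool.rec (motive := fun _ => List ℕ) (rw356) (rw357) (Nat.ble 357 i)) (Bool.rec (motive := fun _ => List ℕ) (rw358) (rw359) (Nat.ble 359 i)) (Nat.ble 358 i)) (Nat.ble 356 i)) (Bool.rec (motive := fun _ => List ℕ) (Bool.rec (motive := fun _ => List ℕ) (Bool.rec (motive := fun _ => List ℕ) (rw360) (rw361) (Nat.ble 361 i)) (Bool.rec (motive := fun _ => List ℕ) (rw362) (rw363) (Nat.ble 363 i)) (Nat.ble 362 i)) (Bool.rec (motive := fun _ => List ℕ) (Bool.rec (motive := fun _ => List ℕ) (rw364) (rw365) (Nat.ble 365 i)) (Bool.rec (motive := fun _ => List ℕ) (rw366) (rw367) (Nat.ble 367 i)) (Nat.ble 366 i)) (Nat.ble 364 i)) (Nat.ble 360 i)) (Bool.rec (motive := fun _ => List ℕ) (Bool.rec (motive := fun _ => List ℕ) (Bool.rec (motive := fun _ => List ℕ) (Bool.rec (motive := fun _ => List ℕ) (rw368) (rw369) (Nat.ble 369 i)) (Bool.rec (motive := fun _ => List ℕ) (rw370) (rw371) (Nat.ble 371 i)) (Nat.ble 370 i)) (Bool.rec (motive := fun _ => List ℕ) (Bool.rec (motive := fun _ => List ℕ) (rw372) (rw373) (Nat.ble 373 i)) (Bool.rec (motive := fun _ => List ℕ) (rw374) (rw375) (Nat.ble 375 i)) (Nat.ble 374 i)) (Nat.ble 372 i)) (Bool.rec (motive := fun _ => List ℕ) (Bool.rec (motive := fun _ => List ℕ) (Bool.rec (motive := fun _ => List ℕ) (rw376) (rw377) (Nat.ble 377 i)) (Bool.rec (motive := fun _ => List ℕ) (rw378) (rw379) (Nat.ble 379 i)) (Nat.ble 378 i)) (Bool.rec (motive := fun _ => List ℕ) (Bool.rec (motive := fun _ => List ℕ) (rw380) (rw381) (Nat.ble 381 i)) (Bool.rec (motive := fun _ => List ℕ) (rw382) (rw383) (Nat.ble 383 i)) (Nat.ble 382 i)) (Nat.ble 380 i)) (Nat.ble 376 i)) (Nat.ble 368 i)) (Nat.ble 352 i)) (Nat.ble 320 i)) (Bool.rec (motive := fun _ => List ℕ) (Bool.rec (motive := fun _ => List ℕ) (Bool.rec (motive := fun _ => List ℕ) (Bool.rec (motive := fun _ => List ℕ) (Bool.rec (motive := fun _ => List ℕ) (Bool.rec (motive := fun _ => List ℕ) (Bool.rec (motive := fun _ => List ℕ) (rw384) (rw385) (Nat.ble 385 i)) (Bool.rec (motive := fun _ => List ℕ) (rw386) (rw387) (Nat.ble 387 i)) (Nat.ble 386 i)) (Bool.rec (motive := fun _ => List ℕ) (Bool.rec (motive := fun _ => List ℕ) (rw388) (rw389) (Nat.ble 389 i)) (Bool.rec (motive := fun _ => List ℕ) (rw390) (rw391) (Nat.ble 391 i)) (Nat.ble 390 i)) (Nat.ble 388 i)) (Bool.rec (motive := fun _ => List ℕ) (Bool.rec (motive := fun _ => List ℕ) (Bool.rec (motive := fun _ => List ℕ) (rw392) (rw393) (Nat.ble 393 i)) (Bool.rec (motive := fun _ => List ℕ) (rw394) (rw395) (Nat.ble 395 i)) (Nat.ble 394 i)) (Bool.rec (motive := fun _ => List ℕ) (Bool.rec (motive := fun _ => List ℕ) (rw396) (rw397) (Nat.ble 397 i)) (Bool.rec (motive := fun _ => List ℕ) (rw398) (rw399) (Nat.ble 399 i)) (Nat.ble 398 i)) (Nat.ble 396 i)) (Nat.ble 392 i)) (Bool.rec (motive := fun _ => List ℕ) (Bool.rec (motive := fun _ => List ℕ) (Bool.rec (motive := fun _ => List ℕ) (Bool.rec (motive := fun _ => List ℕ) (rw400) (rw401) (Nat.ble 401 i)) (Bool.rec (motive := fun _ => List ℕ) (rw402) (rw403) (Nat.ble 403 i)) (Nat.ble 402 i)) (Bool.rec (motive := fun _ => List ℕ) (Bool.rec (motive := fun _ => List ℕ) (rw404) (rw405) (Nat.ble 405 i)) (Bool.rec (motive := fun _ => List ℕ) (rw406) (rw407) (Nat.ble 407 i)) (Nat.ble 406 i)) (Nat.ble 404 i)) (Bool.rec (motive := fun _ => List ℕ) (Bool.rec (motive := fun _ => List ℕ) (Bool.rec (motive := fun _ => List ℕ) (rw408) (rw409) (Nat.ble 409 i)) (Bool.rec (motive := fun _ => List ℕ) (rw410) (rw411) (Nat.ble 411 i)) (Nat.ble 410 i)) (Bool.rec (motive := fun _ => List ℕ) (Bool.rec (motive := fun _ => List ℕ) (rw412) (rw413) (Nat.ble 413 i)) (Bool.rec (motive := fun _ => List ℕ) (rw414) (rw415) (Nat.ble 415 i)) (Nat.ble 414 i)) (Nat.ble 412 i)) (Nat.ble 408 i)) (Nat.ble 400 i)) (Bool.rec (motive := fun _ => List ℕ) (Bool.rec (motive := fun _ => List ℕ) (Bool.rec (motive := fun _ => List ℕ) (Bool.rec (motive := fun _ => List ℕ) (Bool.rec (motive := fun _ => List ℕ) (rw416) (rw417) (Nat.ble 417 i)) (Bool.rec (motive := fun _ => List ℕ) (rw418) (rw419) (Nat.ble 419 i)) (Nat.ble 418 i)) (Bool.rec (motive := fun _ => List ℕ) (Bool.rec (motive := fun _ => List ℕ) (rw420) (rw421) (Nat.ble 421 i)) (Bool.rec (motive := fun _ => List ℕ) (rw422) (rw423) (Nat.ble 423 i)) (Nat.ble 422 i)) (Nat.ble 420 i)) (Bool.rec (motive := fun _ => List ℕ) (Bool.rec (motive := fun _ => List ℕ) (Bool.rec (motive := fun _ => List ℕ) (rw424) (rw425) (Nat.ble 425 i)) (Bool.rec (motive := fun _ => List ℕ) (rw426) (rw427) (Nat.ble 427 i)) (Nat.ble 426 i)) (Bool.rec (motive := fun _ => List ℕ) (Bool.rec (motive := fun _ => List ℕ) (rw428) (rw429) (Nat.ble 429 i)) (Bool.rec (motive := fun _ => List ℕ) (rw430) (rw431) (Nat.ble 431 i)) (Nat.ble 430 i)) (Nat.ble 428 i)) (Nat.ble 424 i)) (Bool.rec (motive := fun _ => List ℕ) (Bool.rec (motive := fun _ => List ℕ) (Bool.rec (motive := fun _ => List ℕ) (Bool.rec (motive := fun _ => List ℕ) (rw432) (rw433) (Nat.ble 433 i)) (Bool.rec (motive := fun _ => List ℕ) (rw434) (rw435) (Nat.ble 435 i)) (Nat.ble 434 i)) (Bool.rec (motive := fun _ => List ℕ) (Bool.rec (motive := fun _ => List ℕ) (rw436) (rw437) (Nat.ble 437 i)) (Bool.rec (motive := fun _ => List ℕ) (rw438) (rw439) (Nat.ble 439 i)) (Nat.ble 438 i)) (Nat.ble 436 i)) (Bool.rec (motive := fun _ => List ℕ) (Bool.rec (motive := fun _ => List ℕ) (Bool.rec (motive := fun _ => List ℕ) (rw440) (rw441) (Nat.ble 441 i)) (Bool.rec (motive := fun _ => List ℕ) (rw442) (rw443) (Nat.ble 443 i)) (Nat.ble 442 i)) (Bool.rec (motive := fun _ => List ℕ) (Bool.rec (motive := fun _ => List ℕ) (rw444) (rw445) (Nat.ble 445 i)) (Bool.rec (motive := fun _ => List ℕ) (rw446) (rw447) (Nat.ble 447 i)) (Nat.ble 446 i)) (Nat.ble 444 i)) (Nat.ble 440 i)) (Nat.ble 432 i)) (Nat.ble 416 i)) (Bool.rec (motive := fun _ => List ℕ) (Bool.rec (motive := fun _ => List ℕ) (Bool.rec (motive := fun _ => List ℕ) (Bool.rec (motive := fun _ => List ℕ) (Bool.rec (motive := fun _ => List ℕ) (Bool.rec (motive := fun _ => List ℕ) (rw448) (rw449) (Nat.ble 449 i)) (Bool.rec (motive := fun _ => List ℕ) (rw450) (rw451) (Nat.ble 451 i)) (Nat.ble 450 i)) (Bool.rec (motive := fun _ => List ℕ) (Bool.rec (motive := fun _ => List ℕ) (rw452) (rw453) (Nat.ble 453 i)) (Bool.rec (motive := fun _ => List ℕ) (rw454) (rw455) (Nat.ble 455 i)) (Nat.ble 454 i)) (Nat.ble 452 i)) (Bool.rec (motive := fun _ => List ℕ) (Bool.rec (motive := fun _ => List ℕ) (Bool.rec (motive := fun _ => List ℕ) (rw456) (rw457) (Nat.ble 457 i)) (Bool.rec (motive := fun _ => List ℕ) (rw458) (rw459) (Nat.ble 459 i)) (Nat.ble 458 i)) (Bool.rec (motive := fun _ => List ℕ) (Bool.rec (motive := fun _ => List ℕ) (rw460) (rw461) (Nat.ble 461 i)) (Bool.rec (motive := fun _ => List ℕ) (rw462) (rw463) (Nat.ble 463 i)) (Nat.ble 462 i)) (Nat.ble 460 i)) (Nat.ble 456 i)) (Bool.rec (motive := fun _ => List ℕ) (Bool.rec (motive := fun _ => List ℕ) (Bool.rec (motive := fun _ => List ℕ) (Bool.rec (motive := fun _ => List ℕ) (rw464) (rw465) (Nat.ble 465 i)) (Bool.rec (motive := fun _ => List ℕ) (rw466) (rw467) (Nat.ble 467 i)) (Nat.ble 466 i)) (Bool.rec (motive := fun _ => List ℕ) (Bool.rec (motive := fun _ => List ℕ) (rw468) (rw469) (Nat.ble 469 i)) (Bool.rec (motive := fun _ => List ℕ) (rw470) (rw471) (Nat.ble 471 i)) (Nat.ble 470 i)) (Nat.ble 468 i)) (Bool.rec (motive := fun _ => List ℕ) (Bool.rec (motive := fun _ => List ℕ) (Bool.rec (motive := fun _ => List ℕ) (rw472) (rw473) (Nat.ble 473 i)) (Bool.rec (motive := fun _ => List ℕ) (rw474) (rw475) (Nat.ble 475 i)) (Nat.ble 474 i)) (Bool.rec (motive := fun _ => List ℕ) (Bool.rec (motive := fun _ => List ℕ) (rw476) (rw477) (Nat.ble 477 i)) (Bool.rec (motive := fun _ => List ℕ) (rw478) (rw479) (Nat.ble 479 i)) (Nat.ble 478 i)) (Nat.ble 476 i)) (Nat.ble 472 i)) (Nat.ble 464 i)) (Bool.rec (motive := fun _ => List ℕ) (Bool.rec (motive := fun _ => List ℕ) (Bool.rec (motive := fun _ => List ℕ) (Bool.rec (motive := fun _ => List ℕ) (Bool.rec (motive := fun _ => List ℕ) (rw480) (rw481) (Nat.ble 481 i)) (Bool.rec (motive := fun _ => List ℕ) (rw482) (rw483) (Nat.ble 483 i)) (Nat.ble 482 i)) (Bool.rec (motive := fun _ => List ℕ) (Bool.rec (motive := fun _ => List ℕ) (rw484) (rw485) (Nat.ble 485 i)) (Bool.rec (motive := fun _ => List ℕ) (rw486) (rw487) (Nat.ble 487 i)) (Nat.ble 486 i)) (Nat.ble 484 i)) (Bool.rec (motive := fun _ => List ℕ) (Bool.rec (motive := fun _ => List ℕ) (Bool.rec (motive := fun _ => List ℕ) (rw488) (rw489) (Nat.ble 489 i)) (Bool.rec (motive := fun _ => List ℕ) (rw490) (rw491) (Nat.ble 491 i)) (Nat.ble 490 i)) (Bool.rec (motive := fun _ => List ℕ) (Bool.rec (motive := fun _ => List ℕ) (rw492) (rw493) (Nat.ble 493 i)) (Bool.rec (motive := fun _ => List ℕ) (rw494) (rw495) (Nat.ble 495 i)) (Nat.ble 494 i)) (Nat.ble 492 i)) (Nat.ble 488 i)) (Bool.rec (motive := fun _ => List ℕ) (Bool.rec (motive := fun _ => List ℕ) (Bool.rec (motive := fun _ => List ℕ) (Bool.rec (motive := fun _ => List ℕ) (rw496) (rw497) (Nat.ble 497 i)) (Bool.rec (motive := fun _ => List ℕ) (rw498) (rw499) (Nat.ble 499 i)) (Nat.ble 498 i)) (Bool.rec (motive := fun _ => List ℕ) (Bool.rec (motive := fun _ => List ℕ) (rw500) (rw501) (Nat.ble 501 i)) (Bool.rec (motive := fun _ => List ℕ) (rw502) (rw503) (Nat.ble 503 i)) (Nat.ble 502 i)) (Nat.ble 500 i)) (Bool.rec (motive := fun _ => List ℕ) (Bool.rec (motive := fun _ => List ℕ) (Bool.rec (motive := fun _ => List ℕ) (rw504) (rw505) (Nat.ble 505 i)) (Bool.rec (motive := fun _ => List ℕ) (rw506) (rw507) (Nat.ble 507 i)) (Nat.ble 506 i)) (Bool.rec (motive := fun _ => List ℕ) (Bool.rec (motive := fun _ => List ℕ) (rw508) (rw509) (Nat.ble 509 i)) (Bool.rec (motive := fun _ => List ℕ) (rw510) (rw511) (Nat.ble 511 i)) (Nat.ble 510 i)) (Nat.ble 508 i)) (Nat.ble 504 i)) (Nat.ble 496 i)) (Nat.ble 480 i)) (Nat.ble 448 i)) (Nat.ble 384 i)) (Nat.ble 256 i)) (Bool.rec (motive := fun _ => List ℕ) (Bool.rec (motive := fun _ => List ℕ) (Bool.rec (motive := fun _ => List ℕ) (Bool.rec (motive := fun _ => List ℕ) (Bool.rec (motive := fun _ => List ℕ) (Bool.rec (motive := fun _ => List ℕ) (Bool.rec (motive := fun _ => List ℕ) (Bool.rec (motive := fun _ => List ℕ) (Bool.rec (motive := fun _ => List ℕ) (rw512) (rw513) (Nat.ble 513 i)) (Bool.rec (motive := fun _ => List ℕ) (rw514) (rw515) (Nat.ble 515 i)) (Nat.ble 514 i)) (Bool.rec (motive := fun _ => List ℕ) (Bool.rec (motive := fun _ => List ℕ) (rw516) (rw517) (Nat.ble 517 i)) (Bool.rec (motive := fun _ => List ℕ) (rw518) (rw519) (Nat.ble 519 i)) (Nat.ble 518 i)) (Nat.ble 516 i)) (Bool.rec (motive := fun _ => List ℕ) (Bool.rec (motive := fun _ => List ℕ) (Bool.rec (motive := fun _ => List ℕ) (rw520) (rw521) (Nat.ble 521 i)) (Bool.rec (motive := fun _ => List ℕ) (rw522) (rw523) (Nat.ble 523 i)) (Nat.ble 522 i)) (Bool.rec (motive := fun _ => List ℕ) (Bool.rec (motive := fun _ => List ℕ) (rw524) (rw525) (Nat.ble 525 i)) (Bool.rec (motive := fun _ => List ℕ) (rw526) (rw527) (Nat.ble 527 i)) (Nat.ble 526 i)) (Nat.ble 524 i)) (Nat.ble 520 i)) (Bool.rec (motive := fun _ => List ℕ) (Bool.rec (motive := fun _ => List ℕ) (Bool.rec (motive := fun _ => List ℕ) (Bool.rec (motive := fun _ => List ℕ) (rw528) (rw529) (Nat.ble 529 i)) (Bool.rec (motive := fun _ => List ℕ) (rw530) (rw531) (Nat.ble 531 i)) (Nat.ble 530 i)) (Bool.rec (motive := fun _ => List ℕ) (Bool.rec (motive := fun _ => List ℕ) (rw532) (rw533) (Nat.ble 533 i)) (Bool.rec (motive := fun _ => List ℕ) (rw534) (rw535) (Nat.ble 535 i)) (Nat.ble 534 i)) (Nat.ble 532 i)) (Bool.rec (motive := fun _ => List ℕ) (Bool.rec (motive := fun _ => List ℕ) (Bool.rec (motive := fun _ => List ℕ) (rw536) (rw537) (Nat.ble 537 i)) (Bool.rec (motive := fun _ => List ℕ) (rw538) (rw539) (Nat.ble 539 i)) (Nat.ble 538 i)) (Bool.rec (motive := fun _ => List ℕ) (Bool.rec (motive := fun _ => List ℕ) (rw540) (rw541) (Nat.ble 541 i)) (Bool.rec (motive := fun _ => List ℕ) (rw542) (rw543) (Nat.ble 543 i)) (Nat.ble 542 i)) (Nat.ble 540 i)) (Nat.ble 536 i)) (Nat.ble 528 i)) (Bool.rec (motive := fun _ => List ℕ) (Bool.rec (motive := fun _ => List ℕ) (Bool.rec (motive := fun _ => List ℕ) (Bool.rec (motive := fun _ => List ℕ) (Bool.rec (motive := fun _ => List ℕ) (rw544) (rw545) (Nat.ble 545 i)) (Bool.rec (motive := fun _ => List ℕ) (rw546) (rw547) (Nat.ble 547 i)) (Nat.ble 546 i)) (Bool.rec (motive := fun _ => List ℕ) (Bool.rec (motive := fun _ => List ℕ) (rw548) (rw549) (Nat.ble 549 i)) (Bool.rec (motive := fun _ => List ℕ) (rw550) (rw551) (Nat.ble 551 i)) (Nat.ble 550 i)) (Nat.ble 548 i)) (Bool.rec (motive := fun _ => List ℕ) (Bool.rec (motive := fun _ => List ℕ) (Bool.rec (motive := fun _ => List ℕ) (rw552) (rw553) (Nat.ble 553 i)) (Bool.rec (motive := fun _ => List ℕ) (rw554) (rw555) (Nat.ble 555 i)) (Nat.ble 554 i)) (Bool.rec (motive := fun _ => List ℕ) (Bool.rec (motive := fun _ => List ℕ) (rw556) (rw557) (Nat.ble 557 i)) (Bool.rec (motive := fun _ => List ℕ) (rw558) (rw559) (Nat.ble 559 i)) (Nat.ble 558 i)) (Nat.ble 556 i)) (Nat.ble 552 i)) (Bool.rec (motive := fun _ => List ℕ) (Bool.rec (motive := fun _ => List ℕ) (Bool.rec (motive := fun _ => List ℕ) (Bool.rec (motive := fun _ => List ℕ) (rw560) (rw561) (Nat.ble 561 i)) (Bool.rec (motive := fun _ => List ℕ) (rw562) (rw563) (Nat.ble 563 i)) (Nat.ble 562 i)) (Bool.rec (motive := fun _ => List ℕ) (Bool.rec (motive := fun _ => List ℕ) (rw564) (rw565) (Nat.ble 565 i)) (Bool.rec (motive := fun _ => List ℕ) (rw566) (rw567) (Nat.ble 567 i)) (Nat.ble 566 i)) (Nat.ble 564 i)) (Bool.rec (motive := fun _ => List ℕ) (Bool.rec (motive := fun _ => List ℕ) (Bool.rec (motive := fun _ => List ℕ) (rw568) (rw569) (Nat.ble 569 i)) (Bool.rec (motive := fun _ => List ℕ) (rw570) (rw571) (Nat.ble 571 i)) (Nat.ble 570 i)) (Bool.rec (motive := fun _ => List ℕ) (Bool.rec (motive := fun _ => List ℕ) (rw572) (rw573) (Nat.ble 573 i)) (Bool.rec (motive := fun _ => List ℕ) (rw574) (rw575) (Nat.ble 575 i)) (Nat.ble 574 i)) (Nat.ble 572 i)) (Nat.ble 568 i)) (Nat.ble 560 i)) (Nat.ble 544 i)) (Bool.rec (motive := fun _ => List ℕ) (Bool.rec (motive := fun _ => List ℕ) (Bool.rec (motive := fun _ => List ℕ) (Bool.rec (motive := fun _ => List ℕ) (Bool.rec (motive := fun _ => List ℕ) (Bool.rec (motive := fun _ => List ℕ) (rw576) (rw577) (Nat.ble 577 i)) (Bool.rec (motive := fun _ => List ℕ) (rw578) (rw579) (Nat.ble 579 i)) (Nat.ble 578 i)) (Bool.rec (motive := fun _ => List ℕ) (Bool.rec (motive := fun _ => List ℕ) (rw580) (rw581) (Nat.ble 581 i)) (Bool.rec (motive := fun _ => List ℕ) (rw582) (rw583) (Nat.ble 583 i)) (Nat.ble 582 i)) (Nat.ble 580 i)) (Bool.rec (motive := fun _ => List ℕ) (Bool.rec (motive := fun _ => List ℕ) (Bool.rec (motive := fun _ => List ℕ) (rw584) (rw585) (Nat.ble 585 i)) (Bool.rec (motive := fun _ => List ℕ) (rw586) (rw587) (Nat.ble 587 i)) (Nat.ble 586 i)) (Bool.rec (motive := fun _ => List ℕ) (Bool.rec (motive := fun _ => List ℕ) (rw588) (rw589) (Nat.ble 589 i)) (Bool.rec (motive := fun _ => List ℕ) (rw590) (rw591) (Nat.ble 591 i)) (Nat.ble 590 i)) (Nat.ble 588 i)) (Nat.ble 584 i)) (Bool.rec (motive := fun _ => List ℕ) (Bool.rec (motive := fun _ => List ℕ) (Bool.rec (motive := fun _ => List ℕ) (Bool.rec (motive := fun _ => List ℕ) (rw592) (rw593) (Nat.ble 593 i)) (Bool.rec (motive := fun _ => List ℕ) (rw594) (rw595) (Nat.ble 595 i)) (Nat.ble 594 i)) (Bool.rec (motive := fun _ => List ℕ) (Bool.rec (motive := fun _ => List ℕ) (rw596) (rw597) (Nat.ble 597 i)) (Bool.rec (motive := fun _ => List ℕ) (rw598) (rw599) (Nat.ble 599 i)) (Nat.ble 598 i)) (Nat.ble 596 i)) (Bool.rec (motive := fun _ => List ℕ) (Bool.rec (motive := fun _ => List ℕ) (Bool.rec (motive := fun _ => List ℕ) (rw600) (rw601) (Nat.ble 601 i)) (Bool.rec (motive := fun _ => List ℕ) (rw602) (rw603) (Nat.ble 603 i)) (Nat.ble 602 i)) (Bool.rec (motive := fun _ => List ℕ) (Bool.rec (motive := fun _ => List ℕ) (rw604) (rw605) (Nat.ble 605 i)) (Bool.rec (motive := fun _ => List ℕ) (rw606) (rw607) (Nat.ble 607 i)) (Nat.ble 606 i)) (Nat.ble 604 i)) (Nat.ble 600 i)) (Nat.ble 592 i)) (Bool.rec (motive := fun _ => List ℕ) (Bool.rec (motive := fun _ => List ℕ) (Bool.rec (motive := fun _ => List ℕ) (Bool.rec (motive := fun _ => List ℕ) (Bool.rec (motive := fun _ => List ℕ) (rw608) (rw609) (Nat.ble 609 i)) (Bool.rec (motive := fun _ => List ℕ) (rw610) (rw611) (Nat.ble 611 i)) (Nat.ble 610 i)) (Bool.rec (motive := fun _ => List ℕ) (Bool.rec (motive := fun _ => List ℕ) (rw612) (rw613) (Nat.ble 613 i)) (Bool.rec (motive := fun _ => List ℕ) (rw614) (rw615) (Nat.ble 615 i)) (Nat.ble 614 i)) (Nat.ble 612 i)) (Bool.rec (motive := fun _ => List ℕ) (Bool.rec (motive := fun _ => List ℕ) (Bool.rec (motive := fun _ => List ℕ) (rw616) (rw617) (Nat.ble 617 i)) (Bool.rec (motive := fun _ => List ℕ) (rw618) (rw619) (Nat.ble 619 i)) (Nat.ble 618 i)) (Bool.rec (motive := fun _ => List ℕ) (Bool.rec (motive := fun _ => List ℕ) (rw620) (rw621) (Nat.ble 621 i)) (Bool.rec (motive := fun _ => List ℕ) (rw622) (rw623) (Nat.ble 623 i)) (Nat.ble 622 i)) (Nat.ble 620 i)) (Nat.ble 616 i)) (Bool.rec (motive := fun _ => List ℕ) (Bool.rec (motive := fun _ => List ℕ) (Bool.rec (motive := fun _ => List ℕ) (Bool.rec (motive := fun _ => List ℕ) (rw624) (rw625) (Nat.ble 625 i)) (Bool.rec (motive := fun _ => List ℕ) (rw626) (rw627) (Nat.ble 627 i)) (Nat.ble 626 i)) (Bool.rec (motive := fun _ => List ℕ) (Bool.rec (motive := fun _ => List ℕ) (rw628) (rw629) (Nat.ble 629 i)) (Bool.rec (motive := fun _ => List ℕ) (rw630) (rw631) (Nat.ble 631 i)) (Nat.ble 630 i)) (Nat.ble 628 i)) (Bool.rec (motive := fun _ => List ℕ) (Bool.rec (motive := fun _ => List ℕ) (Bool.rec (motive := fun _ => List ℕ) (rw632) (rw633) (Nat.ble 633 i)) (Bool.rec (motive := fun _ => List ℕ) (rw634) (rw635) (Nat.ble 635 i)) (Nat.ble 634 i)) (Bool.rec (motive := fun _ => List ℕ) (Bool.rec (motive := fun _ => List ℕ) (rw636) (rw637) (Nat.ble 637 i)) (Bool.rec (motive := fun _ => List ℕ) (rw638) (rw639) (Nat.ble 639 i)) (Nat.ble 638 i)) (Nat.ble 636 i)) (Nat.ble 632 i)) (Nat.ble 624 i)) (Nat.ble 608 i)) (Nat.ble 576 i)) (Bool.rec (motive := fun _ => List ℕ) (Bool.rec (motive := fun _ => List ℕ) (Bool.rec (motive := fun _ => List ℕ) (Bool.rec (motive := fun _ => List ℕ) (Bool.rec (motive := fun _ => List ℕ) (Bool.rec (motive := fun _ => List ℕ) (Bool.rec (motive := fun _ => List ℕ) (rw640) (rw641) (Nat.ble 641 i)) (Bool.rec (motive := fun _ => List ℕ) (rw642) (rw643) (Nat.ble 643 i)) (Nat.ble 642 i)) (Bool.rec (motive := fun _ => List ℕ) (Bool.rec (motive := fun _ => List ℕ) (rw644) (rw645) (Nat.ble 645 i)) (Bool.rec (motive := fun _ => List ℕ) (rw646) (rw647) (Nat.ble 647 i)) (Nat.ble 646 i)) (Nat.ble 644 i)) (Bool.rec (motive := fun _ => List ℕ) (Bool.rec (motive := fun _ => List ℕ) (Bool.rec (motive := fun _ => List ℕ) (rw648) (rw649) (Nat.ble 649 i)) (Bool.rec (motive := fun _ => List ℕ) (rw650) (rw651) (Nat.ble 651 i)) (Nat.ble 650 i)) (Bool.rec (motive := fun _ => List ℕ) (Bool.rec (motive := fun _ => List ℕ) (rw652) (rw653) (Nat.ble 653 i)) (Bool.rec (motive := fun _ => List ℕ) (rw654) (rw655) (Nat.ble 655 i)) (Nat.ble 654 i)) (Nat.ble 652 i)) (Nat.ble 648 i)) (Bool.rec (motive := fun _ => List ℕ) (Bool.rec (motive := fun _ => List ℕ) (Bool.rec (motive := fun _ => List ℕ) (Bool.rec (motive := fun _ => List ℕ) (rw656) (rw657) (Nat.ble 657 i)) (Bool.rec (motive := fun _ => List ℕ) (rw658) (rw659) (Nat.ble 659 i)) (Nat.ble 658 i)) (Bool.rec (motive := fun _ => List ℕ) (Bool.rec (motive := fun _ => List ℕ) (rw660) (rw661) (Nat.ble 661 i)) (Bool.rec (motive := fun _ => List ℕ) (rw662) (rw663) (Nat.ble 663 i)) (Nat.ble 662 i)) (Nat.ble 660 i)) (Bool.rec (motive := fun _ => List ℕ) (Bool.rec (motive := fun _ => List ℕ) (Bool.rec (motive := fun _ => List ℕ) (rw664) (rw665) (Nat.ble 665 i)) (Bool.rec (motive := fun _ => List ℕ) (rw666) (rw667) (Nat.ble 667 i)) (Nat.ble 666 i)) (Bool.rec (motive := fun _ => List ℕ) (Bool.rec (motive := fun _ => List ℕ) (rw668) (rw669) (Nat.ble 669 i)) (Bool.rec (motive := fun _ => List ℕ) (rw670) (rw671) (Nat.ble 671 i)) (Nat.ble 670 i)) (Nat.ble 668 i)) (Nat.ble 664 i)) (Nat.ble 656 i)) (Bool.rec (motive := fun _ => List ℕ) (Bool.rec (motive := fun _ => List ℕ) (Bool.rec (motive := fun _ => List ℕ) (Bool.rec (motive := fun _ => List ℕ) (Bool.rec (motive := fun _ => List ℕ) (rw672) (rw673) (Nat.ble 673 i)) (Bool.rec (motive := fun _ => List ℕ) (rw674) (rw675) (Nat.ble 675 i)) (Nat.ble 674 i)) (Bool.rec (motive := fun _ => List ℕ) (Bool.rec (motive := fun _ => List ℕ) (rw676) (rw677) (Nat.ble 677 i)) (Bool.rec (motive := fun _ => List ℕ) (rw678) (rw679) (Nat.ble 679 i)) (Nat.ble 678 i)) (Nat.ble 676 i)) (Bool.rec (motive := fun _ => List ℕ) (Bool.rec (motive := fun _ => List ℕ) (Bool.rec (motive := fun _ => List ℕ) (rw680) (rw681) (Nat.ble 681 i)) (Bool.rec (motive := fun _ => List ℕ) (rw682) (rw683) (Nat.ble 683 i)) (Nat.ble 682 i)) (Bool.rec (motive := fun _ => List ℕ) (Bool.rec (motive := fun _ => List ℕ) (rw684) (rw685) (Nat.ble 685 i)) (Bool.rec (motive := fun _ => List ℕ) (rw686) (rw687) (Nat.ble 687 i)) (Nat.ble 686 i)) (Nat.ble 684 i)) (Nat.ble 680 i)) (Bool.rec (motive := fun _ => List ℕ) (Bool.rec (motive := fun _ => List ℕ) (Bool.rec (motive := fun _ => List ℕ) (Bool.rec (motive := fun _ => List ℕ) (rw688) (rw689) (Nat.ble 689 i)) (Bool.rec (motive := fun _ => List ℕ) (rw690) (rw691) (Nat.ble 691 i)) (Nat.ble 690 i)) (Bool.rec (motive := fun _ => List ℕ) (Bool.rec (motive := fun _ => List ℕ) (rw692) (rw693) (Nat.ble 693 i)) (Bool.rec (motive := fun _ => List ℕ) (rw694) (rw695) (Nat.ble 695 i)) (Nat.ble 694 i)) (Nat.ble 692 i)) (Bool.rec (motive := fun _ => List ℕ) (Bool.rec (motive := fun _ => List ℕ) (Bool.rec (motive := fun _ => List ℕ) (rw696) (rw697) (Nat.ble 697 i)) (Bool.rec (motive := fun _ => List ℕ) (rw698) (rw699) (Nat.ble 699 i)) (Nat.ble 698 i)) (Bool.rec (motive := fun _ => List ℕ) (Bool.rec (motive := fun _ => List ℕ) (rw700) (rw701) (Nat.ble 701 i)) (Bool.rec (motive := fun _ => List ℕ) (rw702) (rw703) (Nat.ble 703 i)) (Nat.ble 702 i)) (Nat.ble 700 i)) (Nat.ble 696 i)) (Nat.ble 688 i)) (Nat.ble 672 i)) (Bool.rec (motive := fun _ => List ℕ) (Bool.rec (motive := fun _ => List ℕ) (Bool.rec (motive := fun _ => List ℕ) (Bool.rec (motive := fun _ => List ℕ) (Bool.rec (motive := fun _ => List ℕ) (Bool.rec (motive := fun _ => List ℕ) (rw704) (rw705) (Nat.ble 705 i)) (Bool.rec (motive := fun _ => List ℕ) (rw706) (rw707) (Nat.ble 707 i)) (Nat.ble 706 i)) (Bool.rec (motive := fun _ => List ℕ) (Bool.rec (motive := fun _ => List ℕ) (rw708) (rw709) (Nat.ble 709 i)) (Bool.rec (motive := fun _ => List ℕ) (rw710) (rw711) (Nat.ble 711 i)) (Nat.ble 710 i)) (Nat.ble 708 i)) (Bool.rec (motive := fun _ => List ℕ) (Bool.rec (motive := fun _ => List ℕ) (Bool.rec (motive := fun _ => List ℕ) (rw712) (rw713) (Nat.ble 713 i)) (Bool.rec (motive := fun _ => List ℕ) (rw714) (rw715) (Nat.ble 715 i)) (Nat.ble 714 i)) (Bool.rec (motive := fun _ => List ℕ) (Bool.rec (motive := fun _ => List ℕ) (rw716) (rw717) (Nat.ble 717 i)) (Bool.rec (motive := fun _ => List ℕ) (rw718) (rw719) (Nat.ble 719 i)) (Nat.ble 718 i)) (Nat.ble 716 i)) (Nat.ble 712 i)) (Bool.rec (motive := fun _ => List ℕ) (Bool.rec (motive := fun _ => List ℕ) (Bool.rec (motive := fun _ => List ℕ) (Bool.rec (motive := fun _ => List ℕ) (rw720) (rw721) (Nat.ble 721 i)) (Bool.rec (motive := fun _ => List ℕ) (rw722) (rw723) (Nat.ble 723 i)) (Nat.ble 722 i)) (Bool.rec (motive := fun _ => List ℕ) (Bool.rec (motive := fun _ => List ℕ) (rw724) (rw725) (Nat.ble 725 i)) (Bool.rec (motive := fun _ => List ℕ) (rw726) (rw727) (Nat.ble 727 i)) (Nat.ble 726 i)) (Nat.ble 724 i)) (Bool.rec (motive := fun _ => List ℕ) (Bool.rec (motive := fun _ => List ℕ) (Bool.rec (motive := fun _ => List ℕ) (rw728) (rw729) (Nat.ble 729 i)) (Bool.rec (motive := fun _ => List ℕ) (rw730) (rw731) (Nat.ble 731 i)) (Nat.ble 730 i)) (Bool.rec (motive := fun _ => List ℕ) (Bool.rec (motive := fun _ => List ℕ) (rw732) (rw733) (Nat.ble 733 i)) (Bool.rec (motive := fun _ => List ℕ) (rw734) (rw735) (Nat.ble 735 i)) (Nat.ble 734 i)) (Nat.ble 732 i)) (Nat.ble 728 i)) (Nat.ble 720 i)) (Bool.rec (motive := fun _ => List ℕ) (Bool.rec (motive := fun _ => List ℕ) (Bool.rec (motive := fun _ => List ℕ) (Bool.rec (motive := fun _ => List ℕ) (Bool.rec (motive := fun _ => List ℕ) (rw736) (rw737) (Nat.ble 737 i)) (Bool.rec (motive := fun _ => List ℕ) (rw738) (rw739) (Nat.ble 739 i)) (Nat.ble 738 i)) (Bool.rec (motive := fun _ => List ℕ) (Bool.rec (motive := fun _ => List ℕ) (rw740) (rw741) (Nat.ble 741 i)) (Bool.rec (motive := fun _ => List ℕ) (rw742) (rw743) (Nat.ble 743 i)) (Nat.ble 742 i)) (Nat.ble 740 i)) (Bool.rec (motive := fun _ => List ℕ) (Bool.rec (motive := fun _ => List ℕ) (Bool.rec (motive := fun _ => List ℕ) (rw744) (rw745) (Nat.ble 745 i)) (Bool.rec (motive := fun _ => List ℕ) (rw746) (rw747) (Nat.ble 747 i)) (Nat.ble 746 i)) (Bool.rec (motive := fun _ => List ℕ) (Bool.rec (motive := fun _ => List ℕ) (rw748) (rw749) (Nat.ble 749 i)) (Bool.rec (motive := fun _ => List ℕ) (rw750) (rw751) (Nat.ble 751 i)) (Nat.ble 750 i)) (Nat.ble 748 i)) (Nat.ble 744 i)) (Bool.rec (motive := fun _ => List ℕ) (Bool.rec (motive := fun _ => List ℕ) (Bool.rec (motive := fun _ => List ℕ) (Bool.rec (motive := fun _ => List ℕ) (rw752) (rw753) (Nat.ble 753 i)) (Bool.rec (motive := fun _ => List ℕ) (rw754) (rw755) (Nat.ble 755 i)) (Nat.ble 754 i)) (Bool.rec (motive := fun _ => List ℕ) (Bool.rec (motive := fun _ => List ℕ) (rw756) (rw757) (Nat.ble 757 i)) (Bool.rec (motive := fun _ => List ℕ) (rw758) (rw759) (Nat.ble 759 i)) (Nat.ble 758 i)) (Nat.ble 756 i)) (Bool.rec (motive := fun _ => List ℕ) (Bool.rec (motive := fun _ => List ℕ) (Bool.rec (motive := fun _ => List ℕ) (rw760) (rw761) (Nat.ble 761 i)) (Bool.rec (motive := fun _ => List ℕ) (rw762) (rw763) (Nat.ble 763 i)) (Nat.ble 762 i)) (Bool.rec (motive := fun _ => List ℕ) (Bool.rec (motive := fun _ => List ℕ) (rw764) (rw765) (Nat.ble 765 i)) (Bool.rec (motive := fun _ => List ℕ) (rw766) (rw767) (Nat.ble 767 i)) (Nat.ble 766 i)) (Nat.ble 764 i)) (Nat.ble 760 i)) (Nat.ble 752 i)) (Nat.ble 736 i)) (Nat.ble 704 i)) (Nat.ble 640 i)) (Bool.rec (motive := fun _ => List ℕ) (Bool.rec (motive := fun _ => List ℕ) (Bool.rec (motive := fun _ => List ℕ) (Bool.rec (motive := fun _ => List ℕ) (Bool.rec (motive := fun _ => List ℕ) (Bool.rec (motive := fun _ => List ℕ) (Bool.rec (motive := fun _ => List ℕ) (Bool.rec (motive := fun _ => List ℕ) (rw768) (rw769) (Nat.ble 769 i)) (Bool.rec (motive := fun _ => List ℕ) (rw770) (rw771) (Nat.ble 771 i)) (Nat.ble 770 i)) (Bool.rec (motive := fun _ => List ℕ) (Bool.rec (motive := fun _ => List ℕ) (rw772) (rw773) (Nat.ble 773 i)) (Bool.rec (motive := fun _ => List ℕ) (rw774) (rw775) (Nat.ble 775 i)) (Nat.ble 774 i)) (Nat.ble 772 i)) (Bool.rec (motive := fun _ => List ℕ) (Bool.rec (motive := fun _ => List ℕ) (Bool.rec (motive := fun _ => List ℕ) (rw776) (rw777) (Nat.ble 777 i)) (Bool.rec (motive := fun _ => List ℕ) (rw778) (rw779) (Nat.ble 779 i)) (Nat.ble 778 i)) (Bool.rec (motive := fun _ => List ℕ) (Bool.rec (motive := fun _ => List ℕ) (rw780) (rw781) (Nat.ble 781 i)) (Bool.rec (motive := fun _ => List ℕ) (rw782) (rw783) (Nat.ble 783 i)) (Nat.ble 782 i)) (Nat.ble 780 i)) (Nat.ble 776 i)) (Bool.rec (motive := fun _ => List ℕ) (Bool.rec (motive := fun _ => List ℕ) (Bool.rec (motive := fun _ => List ℕ) (Bool.rec (motive := fun _ => List ℕ) (rw784) (rw785) (Nat.ble 785 i)) (Bool.rec (motive := fun _ => List ℕ) (rw786) (rw787) (Nat.ble 787 i)) (Nat.ble 786 i)) (Bool.rec (motive := fun _ => List ℕ) (Bool.rec (motive := fun _ => List ℕ) (rw788) (rw789) (Nat.ble 789 i)) (Bool.rec (motive := fun _ => List ℕ) (rw790) (rw791) (Nat.ble 791 i)) (Nat.ble 790 i)) (Nat.ble 788 i)) (Bool.rec (motive := fun _ => List ℕ) (Bool.rec (motive := fun _ => List ℕ) (Bool.rec (motive := fun _ => List ℕ) (rw792) (rw793) (Nat.ble 793 i)) (Bool.rec (motive := fun _ => List ℕ) (rw794) (rw795) (Nat.ble 795 i)) (Nat.ble 794 i)) (Bool.rec (motive := fun _ => List ℕ) (Bool.rec (motive := fun _ => List ℕ) (rw796) (rw797) (Nat.ble 797 i)) (Bool.rec (motive := fun _ => List ℕ) (rw798) (rw799) (Nat.ble 799 i)) (Nat.ble 798 i)) (Nat.ble 796 i)) (Nat.ble 792 i)) (Nat.ble 784 i)) (Bool.rec (motive := fun _ => List ℕ) (Bool.rec (motive := fun _ => List ℕ) (Bool.rec (motive := fun _ => List ℕ) (Bool.rec (motive := fun _ => List ℕ) (Bool.rec (motive := fun _ => List ℕ) (rw800) (rw801) (Nat.ble 801 i)) (Bool.rec (motive := fun _ => List ℕ) (rw802) (rw803) (Nat.ble 803 i)) (Nat.ble 802 i)) (Bool.rec (motive := fun _ => List ℕ) (Bool.rec (motive := fun _ => List ℕ) (rw804) (rw805) (Nat.ble 805 i)) (Bool.rec (motive := fun _ => List ℕ) (rw806) (rw807) (Nat.ble 807 i)) (Nat.ble 806 i)) (Nat.ble 804 i)) (Bool.rec (motive := fun _ => List ℕ) (Bool.rec (motive := fun _ => List ℕ) (Bool.rec (motive := fun _ => List ℕ) (rw808) (rw809) (Nat.ble 809 i)) (Bool.rec (motive := fun _ => List ℕ) (rw810) (rw811) (Nat.ble 811 i)) (Nat.ble 810 i)) (Bool.rec (motive := fun _ => List ℕ) (Bool.rec (motive := fun _ => List ℕ) (rw812) (rw813) (Nat.ble 813 i)) (Bool.rec (motive := fun _ => List ℕ) (rw814) (rw815) (Nat.ble 815 i)) (Nat.ble 814 i)) (Nat.ble 812 i)) (Nat.ble 808 i)) (Bool.rec (motive := fun _ => List ℕ) (Bool.rec (motive := fun _ => List ℕ) (Bool.rec (motive := fun _ => List ℕ) (Bool.rec (motive := fun _ => List ℕ) (rw816) (rw817) (Nat.ble 817 i)) (Bool.rec (motive := fun _ => List ℕ) (rw818) (rw819) (Nat.ble 819 i)) (Nat.ble 818 i)) (Bool.rec (motive := fun _ => List ℕ) (Bool.rec (motive := fun _ => List ℕ) (rw820) (rw821) (Nat.ble 821 i)) (Bool.rec (motive := fun _ => List ℕ) (rw822) (rw823) (Nat.ble 823 i)) (Nat.ble 822 i)) (Nat.ble 820 i)) (Bool.rec (motive := fun _ => List ℕ) (Bool.rec (motive := fun _ => List ℕ) (Bool.rec (motive := fun _ => List ℕ) (rw824) (rw825) (Nat.ble 825 i)) (Bool.rec (motive := fun _ => List ℕ) (rw826) (rw827) (Nat.ble 827 i)) (Nat.ble 826 i)) (Bool.rec (motive := fun _ => List ℕ) (Bool.rec (motive := fun _ => List ℕ) (rw828) (rw829) (Nat.ble 829 i)) (Bool.rec (motive := fun _ => List ℕ) (rw830) (rw831) (Nat.ble 831 i)) (Nat.ble 830 i)) (Nat.ble 828 i)) (Nat.ble 824 i)) (Nat.ble 816 i)) (Nat.ble 800 i)) (Bool.rec (motive := fun _ => List ℕ) (Bool.rec (motive := fun _ => List ℕ) (Bool.rec (motive := fun _ => List ℕ) (Bool.rec (motive := fun _ => List ℕ) (Bool.rec (motive := fun _ => List ℕ) (Bool.rec (motive := fun _ => List ℕ) (rw832) (rw833) (Nat.ble 833 i)) (Bool.rec (motive := fun _ => List ℕ) (rw834) (rw835) (Nat.ble 835 i)) (Nat.ble 834 i)) (Bool.rec (motive := fun _ => List ℕ) (Bool.rec (motive := fun _ => List ℕ) (rw836) (rw837) (Nat.ble 837 i)) (Bool.rec (motive := fun _ => List ℕ) (rw838) (rw839) (Nat.ble 839 i)) (Nat.ble 838 i)) (Nat.ble 836 i)) (Bool.rec (motive := fun _ => List ℕ) (Bool.rec (motive := fun _ => List ℕ) (Bool.rec (motive := fun _ => List ℕ) (rw840) (rw841) (Nat.ble 841 i)) (Bool.rec (motive := fun _ => List ℕ) (rw842) (rw843) (Nat.ble 843 i)) (Nat.ble 842 i)) (Bool.rec (motive := fun _ => List ℕ) (Bool.rec (motive := fun _ => List ℕ) (rw844) (rw845) (Nat.ble 845 i)) (Bool.rec (motive := fun _ => List ℕ) (rw846) (rw847) (Nat.ble 847 i)) (Nat.ble 846 i)) (Nat.ble 844 i)) (Nat.ble 840 i)) (Bool.rec (motive := fun _ => List ℕ) (Bool.rec (motive := fun _ => List ℕ) (Bool.rec (motive := fun _ => List ℕ) (Bool.rec (motive := fun _ => List ℕ) (rw848) (rw849) (Nat.ble 849 i)) (Bool.rec (motive := fun _ => List ℕ) (rw850) (rw851) (Nat.ble 851 i)) (Nat.ble 850 i)) (Bool.rec (motive := fun _ => List ℕ) (Bool.rec (motive := fun _ => List ℕ) (rw852) (rw853) (Nat.ble 853 i)) (Bool.rec (motive := fun _ => List ℕ) (rw854) (rw855) (Nat.ble 855 i)) (Nat.ble 854 i)) (Nat.ble 852 i)) (Bool.rec (motive := fun _ => List ℕ) (Bool.rec (motive := fun _ => List ℕ) (Bool.rec (motive := fun _ => List ℕ) (rw856) (rw857) (Nat.ble 857 i)) (Bool.rec (motive := fun _ => List ℕ) (rw858) (rw859) (Nat.ble 859 i)) (Nat.ble 858 i)) (Bool.rec (motive := fun _ => List ℕ) (Bool.rec (motive := fun _ => List ℕ) (rw860) (rw861) (Nat.ble 861 i)) (Bool.rec (motive := fun _ => List ℕ) (rw862) (rw863) (Nat.ble 863 i)) (Nat.ble 862 i)) (Nat.ble 860 i)) (Nat.ble 856 i)) (Nat.ble 848 i)) (Bool.rec (motive := fun _ => List ℕ) (Bool.rec (motive := fun _ => List ℕ) (Bool.rec (motive := fun _ => List ℕ) (Bool.rec (motive := fun _ => List ℕ) (Bool.rec (motive := fun _ => List ℕ) (rw864) (rw865) (Nat.ble 865 i)) (Bool.rec (motive := fun _ => List ℕ) (rw866) (rw867) (Nat.ble 867 i)) (Nat.ble 866 i)) (Bool.rec (motive := fun _ => List ℕ) (Bool.rec (motive := fun _ => List ℕ) (rw868) (rw869) (Nat.ble 869 i)) (Bool.rec (motive := fun _ => List ℕ) (rw870) (rw871) (Nat.ble 871 i)) (Nat.ble 870 i)) (Nat.ble 868 i)) (Bool.rec (motive := fun _ => List ℕ) (Bool.rec (motive := fun _ => List ℕ) (Bool.rec (motive := fun _ => List ℕ) (rw872) (rw873) (Nat.ble 873 i)) (Bool.rec (motive := fun _ => List ℕ) (rw874) (rw875) (Nat.ble 875 i)) (Nat.ble 874 i)) (Bool.rec (motive := fun _ => List ℕ) (Bool.rec (motive := fun _ => List ℕ) (rw876) (rw877) (Nat.ble 877 i)) (Bool.rec (motive := fun _ => List ℕ) (rw878) (rw879) (Nat.ble 879 i)) (Nat.ble 878 i)) (Nat.ble 876 i)) (Nat.ble 872 i)) (Bool.rec (motive := fun _ => List ℕ) (Bool.rec (motive := fun _ => List ℕ) (Bool.rec (motive := fun _ => List ℕ) (Bool.rec (motive := fun _ => List ℕ) (rw880) (rw881) (Nat.ble 881 i)) (Bool.rec (motive := fun _ => List ℕ) (rw882) (rw883) (Nat.ble 883 i)) (Nat.ble 882 i)) (Bool.rec (motive := fun _ => List ℕ) (Bool.rec (motive := fun _ => List ℕ) (rw884) (rw885) (Nat.ble 885 i)) (Bool.rec (motive := fun _ => List ℕ) (rw886) (rw887) (Nat.ble 887 i)) (Nat.ble 886 i)) (Nat.ble 884 i)) (Bool.rec (motive := fun _ => List ℕ) (Bool.rec (motive := fun _ => List ℕ) (Bool.rec (motive := fun _ => List ℕ) (rw888) (rw889) (Nat.ble 889 i)) (Bool.rec (motive := fun _ => List ℕ) (rw890) (rw891) (Nat.ble 891 i)) (Nat.ble 890 i)) (Bool.rec (motive := fun _ => List ℕ) (Bool.rec (motive := fun _ => List ℕ) (rw892) (rw893) (Nat.ble 893 i)) (Bool.rec (motive := fun _ => List ℕ) (rw894) (rw895) (Nat.ble 895 i)) (Nat.ble 894 i)) (Nat.ble 892 i)) (Nat.ble 888 i)) (Nat.ble 880 i)) (Nat.ble 864 i)) (Nat.ble 832 i)) (Bool.rec (motive := fun _ => List ℕ) (Bool.rec (motive := fun _ => List ℕ) (Bool.rec (motive := fun _ => List ℕ) (Bool.rec (motive := fun _ => List ℕ) (Bool.rec (motive := fun _ => List ℕ) (Bool.rec (motive := fun _ => List ℕ) (Bool.rec (motive := fun _ => List ℕ) (rw896) (rw897) (Nat.ble 897 i)) (Bool.rec (motive := fun _ => List ℕ) (rw898) (rw899) (Nat.ble 899 i)) (Nat.ble 898 i)) (Bool.rec (motive := fun _ => List ℕ) (Bool.rec (motive := fun _ => List ℕ) (rw900) (rw901) (Nat.ble 901 i)) (Bool.rec (motive := fun _ => List ℕ) (rw902) (rw903) (Nat.ble 903 i)) (Nat.ble 902 i)) (Nat.ble 900 i)) (Bool.rec (motive := fun _ => List ℕ) (Bool.rec (motive := fun _ => List ℕ) (Bool.rec (motive := fun _ => List ℕ) (rw904) (rw905) (Nat.ble 905 i)) (Bool.rec (motive := fun _ => List ℕ) (rw906) (rw907) (Nat.ble 907 i)) (Nat.ble 906 i)) (Bool.rec (motive := fun _ => List ℕ) (Bool.rec (motive := fun _ => List ℕ) (rw908) (rw909) (Nat.ble 909 i)) (Bool.rec (motive := fun _ => List ℕ) (rw910) (rw911) (Nat.ble 911 i)) (Nat.ble 910 i)) (Nat.ble 908 i)) (Nat.ble 904 i)) (Bool.rec (motive := fun _ => List ℕ) (Bool.rec (motive := fun _ => List ℕ) (Bool.rec (motive := fun _ => List ℕ) (Bool.rec (motive := fun _ => List ℕ) (rw912) (rw913) (Nat.ble 913 i)) (Bool.rec (motive := fun _ => List ℕ) (rw914) (rw915) (Nat.ble 915 i)) (Nat.ble 914 i)) (Bool.rec (motive := fun _ => List ℕ) (Bool.rec (motive := fun _ => List ℕ) (rw916) (rw917) (Nat.ble 917 i)) (Bool.rec (motive := fun _ => List ℕ) (rw918) (rw919) (Nat.ble 919 i)) (Nat.ble 918 i)) (Nat.ble 916 i)) (Bool.rec (motive := fun _ => List ℕ) (Bool.rec (motive := fun _ => List ℕ) (Bool.rec (motive := fun _ => List ℕ) (rw920) (rw921) (Nat.ble 921 i)) (Bool.rec (motive := fun _ => List ℕ) (rw922) (rw923) (Nat.ble 923 i)) (Nat.ble 922 i)) (Bool.rec (motive := fun _ => List ℕ) (Bool.rec (motive := fun _ => List ℕ) (rw924) (rw925) (Nat.ble 925 i)) (Bool.rec (motive := fun _ => List ℕ) (rw926) (rw927) (Nat.ble 927 i)) (Nat.ble 926 i)) (Nat.ble 924 i)) (Nat.ble 920 i)) (Nat.ble 912 i)) (Bool.rec (motive := fun _ => List ℕ) (Bool.rec (motive := fun _ => List ℕ) (Bool.rec (motive := fun _ => List ℕ) (Bool.rec (motive := fun _ => List ℕ) (Bool.rec (motive := fun _ => List ℕ) (rw928) (rw929) (Nat.ble 929 i)) (Bool.rec (motive := fun _ => List ℕ) (rw930) (rw931) (Nat.ble 931 i)) (Nat.ble 930 i)) (Bool.rec (motive := fun _ => List ℕ) (Bool.rec (motive := fun _ => List ℕ) (rw932) (rw933) (Nat.ble 933 i)) (Bool.rec (motive := fun _ => List ℕ) (rw934) (rw935) (Nat.ble 935 i)) (Nat.ble 934 i)) (Nat.ble 932 i)) (Bool.rec (motive := fun _ => List ℕ) (Bool.rec (motive := fun _ => List ℕ) (Bool.rec (motive := fun _ => List ℕ) (rw936) (rw937) (Nat.ble 937 i)) (Bool.rec (motive := fun _ => List ℕ) (rw938) (rw939) (Nat.ble 939 i)) (Nat.ble 938 i)) (Bool.rec (motive := fun _ => List ℕ) (Bool.rec (motive := fun _ => List ℕ) (rw940) (rw941) (Nat.ble 941 i)) (Bool.rec (motive := fun _ => List ℕ) (rw942) (rw943) (Nat.ble 943 i)) (Nat.ble 942 i)) (Nat.ble 940 i)) (Nat.ble 936 i)) (Bool.rec (motive := fun _ => List ℕ) (Bool.rec (motive := fun _ => List ℕ) (Bool.rec (motive := fun _ => List ℕ) (Bool.rec (motive := fun _ => List ℕ) (rw944) (rw945) (Nat.ble 945 i)) (Bool.rec (motive := fun _ => List ℕ) (rw946) (rw947) (Nat.ble 947 i)) (Nat.ble 946 i)) (Bool.rec (motive := fun _ => List ℕ) (Bool.rec (motive := fun _ => List ℕ) (rw948) (rw949) (Nat.ble 949 i)) (Bool.rec (motive := fun _ => List ℕ) (rw950) (rw951) (Nat.ble 951 i)) (Nat.ble 950 i)) (Nat.ble 948 i)) (Bool.rec (motive := fun _ => List ℕ) (Bool.rec (motive := fun _ => List ℕ) (Bool.rec (motive := fun _ => List ℕ) (rw952) (rw953) (Nat.ble 953 i)) (Bool.rec (motive := fun _ => List ℕ) (rw954) (rw955) (Nat.ble 955 i)) (Nat.ble 954 i)) (Bool.rec (motive := fun _ => List ℕ) (Bool.rec (motive := fun _ => List ℕ) (rw956) (rw957) (Nat.ble 957 i)) (Bool.rec (motive := fun _ => List ℕ) (rw958) (rw959) (Nat.ble 959 i)) (Nat.ble 958 i)) (Nat.ble 956 i)) (Nat.ble 952 i)) (Nat.ble 944 i)) (Nat.ble 928 i)) (Bool.rec (motive := fun _ => List ℕ) (Bool.rec (motive := fun _ => List ℕ) (Bool.rec (motive := fun _ => List ℕ) (Bool.rec (motive := fun _ => List ℕ) (Bool.rec (motive := fun _ => List ℕ) (Bool.rec (motive := fun _ => List ℕ) (rw960) (rw961) (Nat.ble 961 i)) (Bool.rec (motive := fun _ => List ℕ) (rw962) (rw963) (Nat.ble 963 i)) (Nat.ble 962 i)) (Bool.rec (motive := fun _ => List ℕ) (Bool.rec (motive := fun _ => List ℕ) (rw964) (rw965) (Nat.ble 965 i)) (Bool.rec (motive := fun _ => List ℕ) (rw966) (rw967) (Nat.ble 967 i)) (Nat.ble 966 i)) (Nat.ble 964 i)) (Bool.rec (motive := fun _ => List ℕ) (Bool.rec (motive := fun _ => List ℕ) (Bool.rec (motive := fun _ => List ℕ) (rw968) (rw969) (Nat.ble 969 i)) (Bool.rec (motive := fun _ => List ℕ) (rw970) (rw971) (Nat.ble 971 i)) (Nat.ble 970 i)) (Bool.rec (motive := fun _ => List ℕ) (Bool.rec (motive := fun _ => List ℕ) (rw972) (rw973) (Nat.ble 973 i)) (Bool.rec (motive := fun _ => List ℕ) (rw974) (rw975) (Nat.ble 975 i)) (Nat.ble 974 i)) (Nat.ble 972 i)) (Nat.ble 968 i)) (Bool.rec (motive := fun _ => List ℕ) (Bool.rec (motive := fun _ => List ℕ) (Bool.rec (motive := fun _ => List ℕ) (Bool.rec (motive := fun _ => List ℕ) (rw976) (rw977) (Nat.ble 977 i)) (Bool.rec (motive := fun _ => List ℕ) (rw978) (rw979) (Nat.ble 979 i)) (Nat.ble 978 i)) (Bool.rec (motive := fun _ => List ℕ) (Bool.rec (motive := fun _ => List ℕ) (rw980) (rw981) (Nat.ble 981 i)) (Bool.rec (motive := fun _ => List ℕ) (rw982) (rw983) (Nat.ble 983 i)) (Nat.ble 982 i)) (Nat.ble 980 i)) (Bool.rec (motive := fun _ => List ℕ) (Bool.rec (motive := fun _ => List ℕ) (Bool.rec (motive := fun _ => List ℕ) (rw984) (rw985) (Nat.ble 985 i)) (Bool.rec (motive := fun _ => List ℕ) (rw986) (rw987) (Nat.ble 987 i)) (Nat.ble 986 i)) (Bool.rec (motive := fun _ => List ℕ) (Bool.rec (motive := fun _ => List ℕ) (rw988) (rw989) (Nat.ble 989 i)) (Bool.rec (motive := fun _ => List ℕ) (rw990) (rw991) (Nat.ble 991 i)) (Nat.ble 990 i)) (Nat.ble 988 i)) (Nat.ble 984 i)) (Nat.ble 976 i)) (Bool.rec (motive := fun _ => List ℕ) (Bool.rec (motive := fun _ => List ℕ) (Bool.rec (motive := fun _ => List ℕ) (Bool.rec (motive := fun _ => List ℕ) (Bool.rec (motive := fun _ => List ℕ) (rw992) (rw993) (Nat.ble 993 i)) (Bool.rec (motive := fun _ => List ℕ) (rw994) (rw995) (Nat.ble 995 i)) (Nat.ble 994 i)) (Bool.rec (motive := fun _ => List ℕ) (Bool.rec (motive := fun _ => List ℕ) (rw996) (rw997) (Nat.ble 997 i)) (Bool.rec (motive := fun _ => List ℕ) (rw998) (rw999) (Nat.ble 999 i)) (Nat.ble 998 i)) (Nat.ble 996 i)) (Bool.rec (motive := fun _ => List ℕ) (Bool.rec (motive := fun _ => List ℕ) (Bool.rec (motive := fun _ => List ℕ) (rw1000) (rw1001) (Nat.ble 1001 i)) (Bool.rec (motive := fun _ => List ℕ) (rw1002) (rw1003) (Nat.ble 1003 i)) (Nat.ble 1002 i)) (Bool.rec (motive := fun _ => List ℕ) (Bool.rec (motive := fun _ => List ℕ) (rw1004) (rw1005) (Nat.ble 1005 i)) (Bool.rec (motive := fun _ => List ℕ) (rw1006) (rw1007) (Nat.ble 1007 i)) (Nat.ble 1006 i)) (Nat.ble 1004 i)) (Nat.ble 1000 i)) (Bool.rec (motive := fun _ => List ℕ) (Bool.rec (motive := fun _ => List ℕ) (Bool.rec (motive := fun _ => List ℕ) (Bool.rec (motive := fun _ => List ℕ) (rw1008) (rw1009) (Nat.ble 1009 i)) (Bool.rec (motive := fun _ => List ℕ) (rw1010) (rw1011) (Nat.ble 1011 i)) (Nat.ble 1010 i)) (Bool.rec (motive := fun _ => List ℕ) (Bool.rec (motive := fun _ => List ℕ) (rw1012) (rw1013) (Nat.ble 1013 i)) (Bool.rec (motive := fun _ => List ℕ) (rw1014) (rw1015) (Nat.ble 1015 i)) (Nat.ble 1014 i)) (Nat.ble 1012 i)) (Bool.rec (motive := fun _ => List ℕ) (Bool.rec (motive := fun _ => List ℕ) (Bool.rec (motive := fun _ => List ℕ) (rw1016) (rw1017) (Nat.ble 1017 i)) (Bool.rec (motive := fun _ => List ℕ) (rw1018) (rw1019) (Nat.ble 1019 i)) (Nat.ble 1018 i)) (Bool.rec (motive := fun _ => List ℕ) (Bool.rec (motive := fun _ => List ℕ) (rw1020) (rw1021) (Nat.ble 1021 i)) (Bool.rec (motive := fun _ => List ℕ) (rw1022) (rw1023) (Nat.ble 1023 i)) (Nat.ble 1022 i)) (Nat.ble 1020 i)) (Nat.ble 1016 i)) (Nat.ble 1008 i)) (Nat.ble 992 i)) (Nat.ble 960 i)) (Nat.ble 896 i)) (Nat.ble 768 i)) (Nat.ble 512 i)) (Bool.rec (motive := fun _ => List ℕ) (Bool.rec (motive := fun _ => List ℕ) (Bool.rec (motive := fun _ => List ℕ) (Bool.rec (motive := fun _ => List ℕ) (Bool.rec (motive := fun _ => List ℕ) (Bool.rec (motive := fun _ => List ℕ) (Bool.rec (motive := fun _ => List ℕ) (Bool.rec (motive := fun _ => List ℕ) (Bool.rec (motive := fun _ => List ℕ) (Bool.rec (motive := fun _ => List ℕ) (rw1024) (rw1025) (Nat.ble 1025 i)) (Bool.rec (motive := fun _ => List ℕ) (rw1026) (rw1027) (Nat.ble 1027 i)) (Nat.ble 1026 i)) (Bool.rec (motive := fun _ => List ℕ) (Bool.rec (motive := fun _ => List ℕ) (rw1028) (rw1029) (Nat.ble 1029 i)) (Bool.rec (motive := fun _ => List ℕ) (rw1030) (rw1031) (Nat.ble 1031 i)) (Nat.ble 1030 i)) (Nat.ble 1028 i)) (Bool.rec (motive := fun _ => List ℕ) (Bool.rec (motive := fun _ => List ℕ) (Bool.rec (motive := fun _ => List ℕ) (rw1032) (rw1033) (Nat.ble 1033 i)) (Bool.rec (motive := fun _ => List ℕ) (rw1034) (rw1035) (Nat.ble 1035 i)) (Nat.ble 1034 i)) (Bool.rec (motive := fun _ => List ℕ) (Bool.rec (motive := fun _ => List ℕ) (rw1036) (rw1037) (Nat.ble 1037 i)) (Bool.rec (motive := fun _ => List ℕ) (rw1038) (rw1039) (Nat.ble 1039 i)) (Nat.ble 1038 i)) (Nat.ble 1036 i)) (Nat.ble 1032 i)) (Bool.rec (motive := fun _ => List ℕ) (Bool.rec (motive := fun _ => List ℕ) (Bool.rec (motive := fun _ => List ℕ) (Bool.rec (motive := fun _ => List ℕ) (rw1040) (rw1041) (Nat.ble 1041 i)) (Bool.rec (motive := fun _ => List ℕ) (rw1042) (rw1043) (Nat.ble 1043 i)) (Nat.ble 1042 i)) (Bool.rec (motive := fun _ => List ℕ) (Bool.rec (motive := fun _ => List ℕ) (rw1044) (rw1045) (Nat.ble 1045 i)) (Bool.rec (motive := fun _ => List ℕ) (rw1046) (rw1047) (Nat.ble 1047 i)) (Nat.ble 1046 i)) (Nat.ble 1044 i)) (Bool.rec (motive := fun _ => List ℕ) (Bool.rec (motive := fun _ => List ℕ) (Bool.rec (motive := fun _ => List ℕ) (rw1048) (rw1049) (Nat.ble 1049 i)) (Bool.rec (motive := fun _ => List ℕ) (rw1050) (rw1051) (Nat.ble 1051 i)) (Nat.ble 1050 i)) (Bool.rec (motive := fun _ => List ℕ) (Bool.rec (motive := fun _ => List ℕ) (rw1052) (rw1053) (Nat.ble 1053 i)) (Bool.rec (motive := fun _ => List ℕ) (rw1054) (rw1055) (Nat.ble 1055 i)) (Nat.ble 1054 i)) (Nat.ble 1052 i)) (Nat.ble 1048 i)) (Nat.ble 1040 i)) (Bool.rec (motive := fun _ => List ℕ) (Bool.rec (motive := fun _ => List ℕ) (Bool.rec (motive := fun _ => List ℕ) (Bool.rec (motive := fun _ => List ℕ) (Bool.rec (motive := fun _ => List ℕ) (rw1056) (rw1057) (Nat.ble 1057 i)) (Bool.rec (motive := fun _ => List ℕ) (rw1058) (rw1059) (Nat.ble 1059 i)) (Nat.ble 1058 i)) (Bool.rec (motive := fun _ => List ℕ) (Bool.rec (motive := fun _ => List ℕ) (rw1060) (rw1061) (Nat.ble 1061 i)) (Bool.rec (motive := fun _ => List ℕ) (rw1062) (rw1063) (Nat.ble 1063 i)) (Nat.ble 1062 i)) (Nat.ble 1060 i)) (Bool.rec (motive := fun _ => List ℕ) (Bool.rec (motive := fun _ => List ℕ) (Bool.rec (motive := fun _ => List ℕ) (rw1064) (rw1065) (Nat.ble 1065 i)) (Bool.rec (motive := fun _ => List ℕ) (rw1066) (rw1067) (Nat.ble 1067 i)) (Nat.ble 1066 i)) (Bool.rec (motive := fun _ => List ℕ) (Bool.rec (motive := fun _ => List ℕ) (rw1068) (rw1069) (Nat.ble 1069 i)) (Bool.rec (motive := fun _ => List ℕ) (rw1070) (rw1071) (Nat.ble 1071 i)) (Nat.ble 1070 i)) (Nat.ble 1068 i)) (Nat.ble 1064 i)) (Bool.rec (motive := fun _ => List ℕ) (Bool.rec (motive := fun _ => List ℕ) (Bool.rec (motive := fun _ => List ℕ) (Bool.rec (motive := fun _ => List ℕ) (rw1072) (rw1073) (Nat.ble 1073 i)) (Bool.rec (motive := fun _ => List ℕ) (rw1074) (rw1075) (Nat.ble 1075 i)) (Nat.ble 1074 i)) (Bool.rec (motive := fun _ => List ℕ) (Bool.rec (motive := fun _ => List ℕ) (rw1076) (rw1077) (Nat.ble 1077 i)) (Bool.rec (motive := fun _ => List ℕ) (rw1078) (rw1079) (Nat.ble 1079 i)) (Nat.ble 1078 i)) (Nat.ble 1076 i)) (Bool.rec (motive := fun _ => List ℕ) (Bool.rec (motive := fun _ => List ℕ) (Bool.rec (motive := fun _ => List ℕ) (rw1080) (rw1081) (Nat.ble 1081 i)) (Bool.rec (motive := fun _ => List ℕ) (rw1082) (rw1083) (Nat.ble 1083 i)) (Nat.ble 1082 i)) (Bool.rec (motive := fun _ => List ℕ) (Bool.rec (motive := fun _ => List ℕ) (rw1084) (rw1085) (Nat.ble 1085 i)) (Bool.rec (motive := fun _ => List ℕ) (rw1086) (rw1087) (Nat.ble 1087 i)) (Nat.ble 1086 i)) (Nat.ble 1084 i)) (Nat.ble 1080 i)) (Nat.ble 1072 i)) (Nat.ble 1056 i)) (Bool.rec (motive := fun _ => List ℕ) (Bool.rec (motive := fun _ => List ℕ) (Bool.rec (motive := fun _ => List ℕ) (Bool.rec (motive := fun _ => List ℕ) (Bool.rec (motive := fun _ => List ℕ) (Bool.rec (motive := fun _ => List ℕ) (rw1088) (rw1089) (Nat.ble 1089 i)) (Bool.rec (motive := fun _ => List ℕ) (rw1090) (rw1091) (Nat.ble 1091 i)) (Nat.ble 1090 i)) (Bool.rec (motive := fun _ => List ℕ) (Bool.rec (motive := fun _ => List ℕ) (rw1092) (rw1093) (Nat.ble 1093 i)) (Bool.rec (motive := fun _ => List ℕ) (rw1094) (rw1095) (Nat.ble 1095 i)) (Nat.ble 1094 i)) (Nat.ble 1092 i)) (Bool.rec (motive := fun _ => List ℕ) (Bool.rec (motive := fun _ => List ℕ) (Bool.rec (motive := fun _ => List ℕ) (rw1096) (rw1097) (Nat.ble 1097 i)) (Bool.rec (motive := fun _ => List ℕ) (rw1098) (rw1099) (Nat.ble 1099 i)) (Nat.ble 1098 i)) (Bool.rec (motive := fun _ => List ℕ) (Bool.rec (motive := fun _ => List ℕ) (rw1100) (rw1101) (Nat.ble 1101 i)) (Bool.rec (motive := fun _ => List ℕ) (rw1102) (rw1103) (Nat.ble 1103 i)) (Nat.ble 1102 i)) (Nat.ble 1100 i)) (Nat.ble 1096 i)) (Bool.rec (motive := fun _ => List ℕ) (Bool.rec (motive := fun _ => List ℕ) (Bool.rec (motive := fun _ => List ℕ) (Bool.rec (motive := fun _ => List ℕ) (rw1104) (rw1105) (Nat.ble 1105 i)) (Bool.rec (motive := fun _ => List ℕ) (rw1106) (rw1107) (Nat.ble 1107 i)) (Nat.ble 1106 i)) (Bool.rec (motive := fun _ => List ℕ) (Bool.rec (motive := fun _ => List ℕ) (rw1108) (rw1109) (Nat.ble 1109 i)) (Bool.rec (motive := fun _ => List ℕ) (rw1110) (rw1111) (Nat.ble 1111 i)) (Nat.ble 1110 i)) (Nat.ble 1108 i)) (Bool.rec (motive := fun _ => List ℕ) (Bool.rec (motive := fun _ => List ℕ) (Bool.rec (motive := fun _ => List ℕ) (rw1112) (rw1113) (Nat.ble 1113 i)) (Bool.rec (motive := fun _ => List ℕ) (rw1114) (rw1115) (Nat.ble 1115 i)) (Nat.ble 1114 i)) (Bool.rec (motive := fun _ => List ℕ) (Bool.rec (motive := fun _ => List ℕ) (rw1116) (rw1117) (Nat.ble 1117 i)) (Bool.rec (motive := fun _ => List ℕ) (rw1118) (rw1119) (Nat.ble 1119 i)) (Nat.ble 1118 i)) (Nat.ble 1116 i)) (Nat.ble 1112 i)) (Nat.ble 1104 i)) (Bool.rec (motive := fun _ => List ℕ) (Bool.rec (motive := fun _ => List ℕ) (Bool.rec (motive := fun _ => List ℕ) (Bool.rec (motive := fun _ => List ℕ) (Bool.rec (motive := fun _ => List ℕ) (rw1120) (rw1121) (Nat.ble 1121 i)) (Bool.rec (motive := fun _ => List ℕ) (rw1122) (rw1123) (Nat.ble 1123 i)) (Nat.ble 1122 i)) (Bool.rec (motive := fun _ => List ℕ) (Bool.rec (motive := fun _ => List ℕ) (rw1124) (rw1125) (Nat.ble 1125 i)) (Bool.rec (motive := fun _ => List ℕ) (rw1126) (rw1127) (Nat.ble 1127 i)) (Nat.ble 1126 i)) (Nat.ble 1124 i)) (Bool.rec (motive := fun _ => List ℕ) (Bool.rec (motive := fun _ => List ℕ) (Bool.rec (motive := fun _ => List ℕ) (rw1128) (rw1129) (Nat.ble 1129 i)) (Bool.rec (motive := fun _ => List ℕ) (rw1130) (rw1131) (Nat.ble 1131 i)) (Nat.ble 1130 i)) (Bool.rec (motive := fun _ => List ℕ) (Bool.rec (motive := fun _ => List ℕ) (rw1132) (rw1133) (Nat.ble 1133 i)) (Bool.rec (motive := fun _ => List ℕ) (rw1134) (rw1135) (Nat.ble 1135 i)) (Nat.ble 1134 i)) (Nat.ble 1132 i)) (Nat.ble 1128 i)) (Bool.rec (motive := fun _ => List ℕ) (Bool.rec (motive := fun _ => List ℕ) (Bool.rec (motive := fun _ => List ℕ) (Bool.rec (motive := fun _ => List ℕ) (rw1136) (rw1137) (Nat.ble 1137 i)) (Bool.rec (motive := fun _ => List ℕ) (rw1138) (rw1139) (Nat.ble 1139 i)) (Nat.ble 1138 i)) (Bool.rec (motive := fun _ => List ℕ) (Bool.rec (motive := fun _ => List ℕ) (rw1140) (rw1141) (Nat.ble 1141 i)) (Bool.rec (motive := fun _ => List ℕ) (rw1142) (rw1143) (Nat.ble 1143 i)) (Nat.ble 1142 i)) (Nat.ble 1140 i)) (Bool.rec (motive := fun _ => List ℕ) (Bool.rec (motive := fun _ => List ℕ) (Bool.rec (motive := fun _ => List ℕ) (rw1144) (rw1145) (Nat.ble 1145 i)) (Bool.rec (motive := fun _ => List ℕ) (rw1146) (rw1147) (Nat.ble 1147 i)) (Nat.ble 1146 i)) (Bool.rec (motive := fun _ => List ℕ) (Bool.rec (motive := fun _ => List ℕ) (rw1148) (rw1149) (Nat.ble 1149 i)) (Bool.rec (motive := fun _ => List ℕ) (rw1150) (rw1151) (Nat.ble 1151 i)) (Nat.ble 1150 i)) (Nat.ble 1148 i)) (Nat.ble 1144 i)) (Nat.ble 1136 i)) (Nat.ble 1120 i)) (Nat.ble 1088 i)) (Bool.rec (motive := fun _ => List ℕ) (Bool.rec (motive := fun _ => List ℕ) (Bool.rec (motive := fun _ => List ℕ) (Bool.rec (motive := fun _ => List ℕ) (Bool.rec (motive := fun _ => List ℕ) (Bool.rec (motive := fun _ => List ℕ) (Bool.rec (motive := fun _ => List ℕ) (rw1152) (rw1153) (Nat.ble 1153 i)) (Bool.rec (motive := fun _ => List ℕ) (rw1154) (rw1155) (Nat.ble 1155 i)) (Nat.ble 1154 i)) (Bool.rec (motive := fun _ => List ℕ) (Bool.rec (motive := fun _ => List ℕ) (rw1156) (rw1157) (Nat.ble 1157 i)) (Bool.rec (motive := fun _ => List ℕ) (rw1158) (rw1159) (Nat.ble 1159 i)) (Nat.ble 1158 i)) (Nat.ble 1156 i)) (Bool.rec (motive := fun _ => List ℕ) (Bool.rec (motive := fun _ => List ℕ) (Bool.rec (motive := fun _ => List ℕ) (rw1160) (rw1161) (Nat.ble 1161 i)) (Bool.rec (motive := fun _ => List ℕ) (rw1162) (rw1163) (Nat.ble 1163 i)) (Nat.ble 1162 i)) (Bool.rec (motive := fun _ => List ℕ) (Bool.rec (motive := fun _ => List ℕ) (rw1164) (rw1165) (Nat.ble 1165 i)) (Bool.rec (motive := fun _ => List ℕ) (rw1166) (rw1167) (Nat.ble 1167 i)) (Nat.ble 1166 i)) (Nat.ble 1164 i)) (Nat.ble 1160 i)) (Bool.rec (motive := fun _ => List ℕ) (Bool.rec (motive := fun _ => List ℕ) (Bool.rec (motive := fun _ => List ℕ) (Bool.rec (motive := fun _ => List ℕ) (rw1168) (rw1169) (Nat.ble 1169 i)) (Bool.rec (motive := fun _ => List ℕ) (rw1170) (rw1171) (Nat.ble 1171 i)) (Nat.ble 1170 i)) (Bool.rec (motive := fun _ => List ℕ) (Bool.rec (motive := fun _ => List ℕ) (rw1172) (rw1173) (Nat.ble 1173 i)) (Bool.rec (motive := fun _ => List ℕ) (rw1174) (rw1175) (Nat.ble 1175 i)) (Nat.ble 1174 i)) (Nat.ble 1172 i)) (Bool.rec (motive := fun _ => List ℕ) (Bool.rec (motive := fun _ => List ℕ) (Bool.rec (motive := fun _ => List ℕ) (rw1176) (rw1177) (Nat.ble 1177 i)) (Bool.rec (motive := fun _ => List ℕ) (rw1178) (rw1179) (Nat.ble 1179 i)) (Nat.ble 1178 i)) (Bool.rec (motive := fun _ => List ℕ) (Bool.rec (motive := fun _ => List ℕ) (rw1180) (rw1181) (Nat.ble 1181 i)) (Bool.rec (motive := fun _ => List ℕ) (rw1182) (rw1183) (Nat.ble 1183 i)) (Nat.ble 1182 i)) (Nat.ble 1180 i)) (Nat.ble 1176 i)) (Nat.ble 1168 i)) (Bool.rec (motive := fun _ => List ℕ) (Bool.rec (motive := fun _ => List ℕ) (Bool.rec (motive := fun _ => List ℕ) (Bool.rec (motive := fun _ => List ℕ) (Bool.rec (motive := fun _ => List ℕ) (rw1184) (rw1185) (Nat.ble 1185 i)) (Bool.rec (motive := fun _ => List ℕ) (rw1186) (rw1187) (Nat.ble 1187 i)) (Nat.ble 1186 i)) (Bool.rec (motive := fun _ => List ℕ) (Bool.rec (motive := fun _ => List ℕ) (rw1188) (rw1189) (Nat.ble 1189 i)) (Bool.rec (motive := fun _ => List ℕ) (rw1190) (rw1191) (Nat.ble 1191 i)) (Nat.ble 1190 i)) (Nat.ble 1188 i)) (Bool.rec (motive := fun _ => List ℕ) (Bool.rec (motive := fun _ => List ℕ) (Bool.rec (motive := fun _ => List ℕ) (rw1192) (rw1193) (Nat.ble 1193 i)) (Bool.rec (motive := fun _ => List ℕ) (rw1194) (rw1195) (Nat.ble 1195 i)) (Nat.ble 1194 i)) (Bool.rec (motive := fun _ => List ℕ) (Bool.rec (motive := fun _ => List ℕ) (rw1196) (rw1197) (Nat.ble 1197 i)) (Bool.rec (motive := fun _ => List ℕ) (rw1198) (rw1199) (Nat.ble 1199 i)) (Nat.ble 1198 i)) (Nat.ble 1196 i)) (Nat.ble 1192 i)) (Bool.rec (motive := fun _ => List ℕ) (Bool.rec (motive := fun _ => List ℕ) (Bool.rec (motive := fun _ => List ℕ) (Bool.rec (motive := fun _ => List ℕ) (rw1200) (rw1201) (Nat.ble 1201 i)) (Bool.rec (motive := fun _ => List ℕ) (rw1202) (rw1203) (Nat.ble 1203 i)) (Nat.ble 1202 i)) (Bool.rec (motive := fun _ => List ℕ) (Bool.rec (motive := fun _ => List ℕ) (rw1204) (rw1205) (Nat.ble 1205 i)) (Bool.rec (motive := fun _ => List ℕ) (rw1206) (rw1207) (Nat.ble 1207 i)) (Nat.ble 1206 i)) (Nat.ble 1204 i)) (Bool.rec (motive := fun _ => List ℕ) (Bool.rec (motive := fun _ => List ℕ) (Bool.rec (motive := fun _ => List ℕ) (rw1208) (rw1209) (Nat.ble 1209 i)) (Bool.rec (motive := fun _ => List ℕ) (rw1210) (rw1211) (Nat.ble 1211 i)) (Nat.ble 1210 i)) (Bool.rec (motive := fun _ => List ℕ) (Bool.rec (motive := fun _ => List ℕ) (rw1212) (rw1213) (Nat.ble 1213 i)) (Bool.rec (motive := fun _ => List ℕ) (rw1214) (rw1215) (Nat.ble 1215 i)) (Nat.ble 1214 i)) (Nat.ble 1212 i)) (Nat.ble 1208 i)) (Nat.ble 1200 i)) (Nat.ble 1184 i)) (Bool.rec (motive := fun _ => List ℕ) (Bool.rec (motive := fun _ => List ℕ) (Bool.rec (motive := fun _ => List ℕ) (Bool.rec (motive := fun _ => List ℕ) (Bool.rec (motive := fun _ => List ℕ) (Bool.rec (motive := fun _ => List ℕ) (rw1216) (rw1217) (Nat.ble 1217 i)) (Bool.rec (motive := fun _ => List ℕ) (rw1218) (rw1219) (Nat.ble 1219 i)) (Nat.ble 1218 i)) (Bool.rec (motive := fun _ => List ℕ) (Bool.rec (motive := fun _ => List ℕ) (rw1220) (rw1221) (Nat.ble 1221 i)) (Bool.rec (motive := fun _ => List ℕ) (rw1222) (rw1223) (Nat.ble 1223 i)) (Nat.ble 1222 i)) (Nat.ble 1220 i)) (Bool.rec (motive := fun _ => List ℕ) (Bool.rec (motive := fun _ => List ℕ) (Bool.rec (motive := fun _ => List ℕ) (rw1224) (rw1225) (Nat.ble 1225 i)) (Bool.rec (motive := fun _ => List ℕ) (rw1226) (rw1227) (Nat.ble 1227 i)) (Nat.ble 1226 i)) (Bool.rec (motive := fun _ => List ℕ) (Bool.rec (motive := fun _ => List ℕ) (rw1228) (rw1229) (Nat.ble 1229 i)) (Bool.rec (motive := fun _ => List ℕ) (rw1230) (rw1231) (Nat.ble 1231 i)) (Nat.ble 1230 i)) (Nat.ble 1228 i)) (Nat.ble 1224 i)) (Bool.rec (motive := fun _ => List ℕ) (Bool.rec (motive := fun _ => List ℕ) (Bool.rec (motive := fun _ => List ℕ) (Bool.rec (motive := fun _ => List ℕ) (rw1232) (rw1233) (Nat.ble 1233 i)) (Bool.rec (motive := fun _ => List ℕ) (rw1234) (rw1235) (Nat.ble 1235 i)) (Nat.ble 1234 i)) (Bool.rec (motive := fun _ => List ℕ) (Bool.rec (motive := fun _ => List ℕ) (rw1236) (rw1237) (Nat.ble 1237 i)) (Bool.rec (motive := fun _ => List ℕ) (rw1238) (rw1239) (Nat.ble 1239 i)) (Nat.ble 1238 i)) (Nat.ble 1236 i)) (Bool.rec (motive := fun _ => List ℕ) (Bool.rec (motive := fun _ => List ℕ) (Bool.rec (motive := fun _ => List ℕ) (rw1240) (rw1241) (Nat.ble 1241 i)) (Bool.rec (motive := fun _ => List ℕ) (rw1242) (rw1243) (Nat.ble 1243 i)) (Nat.ble 1242 i)) (Bool.rec (motive := fun _ => List ℕ) (Bool.rec (motive := fun _ => List ℕ) (rw1244) (rw1245) (Nat.ble 1245 i)) (Bool.rec (motive := fun _ => List ℕ) (rw1246) (rw1247) (Nat.ble 1247 i)) (Nat.ble 1246 i)) (Nat.ble 1244 i)) (Nat.ble 1240 i)) (Nat.ble 1232 i)) (Bool.rec (motive := fun _ => List ℕ) (Bool.rec (motive := fun _ => List ℕ) (Bool.rec (motive := fun _ => List ℕ) (Bool.rec (motive := fun _ => List ℕ) (Bool.rec (motive := fun _ => List ℕ) (rw1248) (rw1249) (Nat.ble 1249 i)) (Bool.rec (motive := fun _ => List ℕ) (rw1250) (rw1251) (Nat.ble 1251 i)) (Nat.ble 1250 i)) (Bool.rec (motive := fun _ => List ℕ) (Bool.rec (motive := fun _ => List ℕ) (rw1252) (rw1253) (Nat.ble 1253 i)) (Bool.rec (motive := fun _ => List ℕ) (rw1254) (rw1255) (Nat.ble 1255 i)) (Nat.ble 1254 i)) (Nat.ble 1252 i)) (Bool.rec (motive := fun _ => List ℕ) (Bool.rec (motive := fun _ => List ℕ) (Bool.rec (motive := fun _ => List ℕ) (rw1256) (rw1257) (Nat.ble 1257 i)) (Bool.rec (motive := fun _ => List ℕ) (rw1258) (rw1259) (Nat.ble 1259 i)) (Nat.ble 1258 i)) (Bool.rec (motive := fun _ => List ℕ) (Bool.rec (motive := fun _ => List ℕ) (rw1260) (rw1261) (Nat.ble 1261 i)) (Bool.rec (motive := fun _ => List ℕ) (rw1262) (rw1263) (Nat.ble 1263 i)) (Nat.ble 1262 i)) (Nat.ble 1260 i)) (Nat.ble 1256 i)) (Bool.rec (motive := fun _ => List ℕ) (Bool.rec (motive := fun _ => List ℕ) (Bool.rec (motive := fun _ => List ℕ) (Bool.rec (motive := fun _ => List ℕ) (rw1264) (rw1265) (Nat.ble 1265 i)) (Bool.rec (motive := fun _ => List ℕ) (rw1266) (rw1267) (Nat.ble 1267 i)) (Nat.ble 1266 i)) (Bool.rec (motive := fun _ => List ℕ) (Bool.rec (motive := fun _ => List ℕ) (rw1268) (rw1269) (Nat.ble 1269 i)) (Bool.rec (motive := fun _ => List ℕ) (rw1270) (rw1271) (Nat.ble 1271 i)) (Nat.ble 1270 i)) (Nat.ble 1268 i)) (Bool.rec (motive := fun _ => List ℕ) (Bool.rec (motive := fun _ => List ℕ) (Bool.rec (motive := fun _ => List ℕ) (rw1272) (rw1273) (Nat.ble 1273 i)) (Bool.rec (motive := fun _ => List ℕ) (rw1274) (rw1275) (Nat.ble 1275 i)) (Nat.ble 1274 i)) (Bool.rec (motive := fun _ => List ℕ) (Bool.rec (motive := fun _ => List ℕ) (rw1276) (rw1277) (Nat.ble 1277 i)) (Bool.rec (motive := fun _ => List ℕ) (rw1278) (rw1279) (Nat.ble 1279 i)) (Nat.ble 1278 i)) (Nat.ble 1276 i)) (Nat.ble 1272 i)) (Nat.ble 1264 i)) (Nat.ble 1248 i)) (Nat.ble 1216 i)) (Nat.ble 1152 i)) (Bool.rec (motive := fun _ => List ℕ) (Bool.rec (motive := fun _ => List ℕ) (Bool.rec (motive := fun _ => List ℕ) (Bool.rec (motive := fun _ => List ℕ) (Bool.rec (motive := fun _ => List ℕ) (Bool.rec (motive := fun _ => List ℕ) (Bool.rec (motive := fun _ => List ℕ) (Bool.rec (motive := fun _ => List ℕ) (rw1280) (rw1281) (Nat.ble 1281 i)) (Bool.rec (motive := fun _ => List ℕ) (rw1282) (rw1283) (Nat.ble 1283 i)) (Nat.ble 1282 i)) (Bool.rec (motive := fun _ => List ℕ) (Bool.rec (motive := fun _ => List ℕ) (rw1284) (rw1285) (Nat.ble 1285 i)) (Bool.rec (motive := fun _ => List ℕ) (rw1286) (rw1287) (Nat.ble 1287 i)) (Nat.ble 1286 i)) (Nat.ble 1284 i)) (Bool.rec (motive := fun _ => List ℕ) (Bool.rec (motive := fun _ => List ℕ) (Bool.rec (motive := fun _ => List ℕ) (rw1288) (rw1289) (Nat.ble 1289 i)) (Bool.rec (motive := fun _ => List ℕ) (rw1290) (rw1291) (Nat.ble 1291 i)) (Nat.ble 1290 i)) (Bool.rec (motive := fun _ => List ℕ) (Bool.rec (motive := fun _ => List ℕ) (rw1292) (rw1293) (Nat.ble 1293 i)) (Bool.rec (motive := fun _ => List ℕ) (rw1294) (rw1295) (Nat.ble 1295 i)) (Nat.ble 1294 i)) (Nat.ble 1292 i)) (Nat.ble 1288 i)) (Bool.rec (motive := fun _ => List ℕ) (Bool.rec (motive := fun _ => List ℕ) (Bool.rec (motive := fun _ => List ℕ) (Bool.rec (motive := fun _ => List ℕ) (rw1296) (rw1297) (Nat.ble 1297 i)) (Bool.rec (motive := fun _ => List ℕ) (rw1298) (rw1299) (Nat.ble 1299 i)) (Nat.ble 1298 i)) (Bool.rec (motive := fun _ => List ℕ) (Bool.rec (motive := fun _ => List ℕ) (rw1300) (rw1301) (Nat.ble 1301 i)) (Bool.rec (motive := fun _ => List ℕ) (rw1302) (rw1303) (Nat.ble 1303 i)) (Nat.ble 1302 i)) (Nat.ble 1300 i)) (Bool.rec (motive := fun _ => List ℕ) (Bool.rec (motive := fun _ => List ℕ) (Bool.rec (motive := fun _ => List ℕ) (rw1304) (rw1305) (Nat.ble 1305 i)) (Bool.rec (motive := fun _ => List ℕ) (rw1306) (rw1307) (Nat.ble 1307 i)) (Nat.ble 1306 i)) (Bool.rec (motive := fun _ => List ℕ) (Bool.rec (motive := fun _ => List ℕ) (rw1308) (rw1309) (Nat.ble 1309 i)) (Bool.rec (motive := fun _ => List ℕ) (rw1310) (rw1311) (Nat.ble 1311 i)) (Nat.ble 1310 i)) (Nat.ble 1308 i)) (Nat.ble 1304 i)) (Nat.ble 1296 i)) (Bool.rec (motive := fun _ => List ℕ) (Bool.rec (motive := fun _ => List ℕ) (Bool.rec (motive := fun _ => List ℕ) (Bool.rec (motive := fun _ => List ℕ) (Bool.rec (motive := fun _ => List ℕ) (rw1312) (rw1313) (Nat.ble 1313 i)) (Bool.rec (motive := fun _ => List ℕ) (rw1314) (rw1315) (Nat.ble 1315 i)) (Nat.ble 1314 i)) (Bool.rec (motive := fun _ => List ℕ) (Bool.rec (motive := fun _ => List ℕ) (rw1316) (rw1317) (Nat.ble 1317 i)) (Bool.rec (motive := fun _ => List ℕ) (rw1318) (rw1319) (Nat.ble 1319 i)) (Nat.ble 1318 i)) (Nat.ble 1316 i)) (Bool.rec (motive := fun _ => List ℕ) (Bool.rec (motive := fun _ => List ℕ) (Bool.rec (motive := fun _ => List ℕ) (rw1320) (rw1321) (Nat.ble 1321 i)) (Bool.rec (motive := fun _ => List ℕ) (rw1322) (rw1323) (Nat.ble 1323 i)) (Nat.ble 1322 i)) (Bool.rec (motive := fun _ => List ℕ) (Bool.rec (motive := fun _ => List ℕ) (rw1324) (rw1325) (Nat.ble 1325 i)) (Bool.rec (motive := fun _ => List ℕ) (rw1326) (rw1327) (Nat.ble 1327 i)) (Nat.ble 1326 i)) (Nat.ble 1324 i)) (Nat.ble 1320 i)) (Bool.rec (motive := fun _ => List ℕ) (Bool.rec (motive := fun _ => List ℕ) (Bool.rec (motive := fun _ => List ℕ) (Bool.rec (motive := fun _ => List ℕ) (rw1328) (rw1329) (Nat.ble 1329 i)) (Bool.rec (motive := fun _ => List ℕ) (rw1330) (rw1331) (Nat.ble 1331 i)) (Nat.ble 1330 i)) (Bool.rec (motive := fun _ => List ℕ) (Bool.rec (motive := fun _ => List ℕ) (rw1332) (rw1333) (Nat.ble 1333 i)) (Bool.rec (motive := fun _ => List ℕ) (rw1334) (rw1335) (Nat.ble 1335 i)) (Nat.ble 1334 i)) (Nat.ble 1332 i)) (Bool.rec (motive := fun _ => List ℕ) (Bool.rec (motive := fun _ => List ℕ) (Bool.rec (motive := fun _ => List ℕ) (rw1336) (rw1337) (Nat.ble 1337 i)) (Bool.rec (motive := fun _ => List ℕ) (rw1338) (rw1339) (Nat.ble 1339 i)) (Nat.ble 1338 i)) (Bool.rec (motive := fun _ => List ℕ) (Bool.rec (motive := fun _ => List ℕ) (rw1340) (rw1341) (Nat.ble 1341 i)) (Bool.rec (motive := fun _ => List ℕ) (rw1342) (rw1343) (Nat.ble 1343 i)) (Nat.ble 1342 i)) (Nat.ble 1340 i)) (Nat.ble 1336 i)) (Nat.ble 1328 i)) (Nat.ble 1312 i)) (Bool.rec (motive := fun _ => List ℕ) (Bool.rec (motive := fun _ => List ℕ) (Bool.rec (motive := fun _ => List ℕ) (Bool.rec (motive := fun _ => List ℕ) (Bool.rec (motive := fun _ => List ℕ) (Bool.rec (motive := fun _ => List ℕ) (rw1344) (rw1345) (Nat.ble 1345 i)) (Bool.rec (motive := fun _ => List ℕ) (rw1346) (rw1347) (Nat.ble 1347 i)) (Nat.ble 1346 i)) (Bool.rec (motive := fun _ => List ℕ) (Bool.rec (motive := fun _ => List ℕ) (rw1348) (rw1349) (Nat.ble 1349 i)) (Bool.rec (motive := fun _ => List ℕ) (rw1350) (rw1351) (Nat.ble 1351 i)) (Nat.ble 1350 i)) (Nat.ble 1348 i)) (Bool.rec (motive := fun _ => List ℕ) (Bool.rec (motive := fun _ => List ℕ) (Bool.rec (motive := fun _ => List ℕ) (rw1352) (rw1353) (Nat.ble 1353 i)) (Bool.rec (motive := fun _ => List ℕ) (rw1354) (rw1355) (Nat.ble 1355 i)) (Nat.ble 1354 i)) (Bool.rec (motive := fun _ => List ℕ) (Bool.rec (motive := fun _ => List ℕ) (rw1356) (rw1357) (Nat.ble 1357 i)) (Bool.rec (motive := fun _ => List ℕ) (rw1358) (rw1359) (Nat.ble 1359 i)) (Nat.ble 1358 i)) (Nat.ble 1356 i)) (Nat.ble 1352 i)) (Bool.rec (motive := fun _ => List ℕ) (Bool.rec (motive := fun _ => List ℕ) (Bool.rec (motive := fun _ => List ℕ) (Bool.rec (motive := fun _ => List ℕ) (rw1360) (rw1361) (Nat.ble 1361 i)) (Bool.rec (motive := fun _ => List ℕ) (rw1362) (rw1363) (Nat.ble 1363 i)) (Nat.ble 1362 i)) (Bool.rec (motive := fun _ => List ℕ) (Bool.rec (motive := fun _ => List ℕ) (rw1364) (rw1365) (Nat.ble 1365 i)) (Bool.rec (motive := fun _ => List ℕ) (rw1366) (rw1367) (Nat.ble 1367 i)) (Nat.ble 1366 i)) (Nat.ble 1364 i)) (Bool.rec (motive := fun _ => List ℕ) (Bool.rec (motive := fun _ => List ℕ) (Bool.rec (motive := fun _ => List ℕ) (rw1368) (rw1369) (Nat.ble 1369 i)) (Bool.rec (motive := fun _ => List ℕ) (rw1370) (rw1371) (Nat.ble 1371 i)) (Nat.ble 1370 i)) (Bool.rec (motive := fun _ => List ℕ) (Bool.rec (motive := fun _ => List ℕ) (rw1372) (rw1373) (Nat.ble 1373 i)) (Bool.rec (motive := fun _ => List ℕ) (rw1374) (rw1375) (Nat.ble 1375 i)) (Nat.ble 1374 i)) (Nat.ble 1372 i)) (Nat.ble 1368 i)) (Nat.ble 1360 i)) (Bool.rec (motive := fun _ => List ℕ) (Bool.rec (motive := fun _ => List ℕ) (Bool.rec (motive := fun _ => List ℕ) (Bool.rec (motive := fun _ => List ℕ) (Bool.rec (motive := fun _ => List ℕ) (rw1376) (rw1377) (Nat.ble 1377 i)) (Bool.rec (motive := fun _ => List ℕ) (rw1378) (rw1379) (Nat.ble 1379 i)) (Nat.ble 1378 i)) (Bool.rec (motive := fun _ => List ℕ) (Bool.rec (motive := fun _ => List ℕ) (rw1380) (rw1381) (Nat.ble 1381 i)) (Bool.rec (motive := fun _ => List ℕ) (rw1382) (rw1383) (Nat.ble 1383 i)) (Nat.ble 1382 i)) (Nat.ble 1380 i)) (Bool.rec (motive := fun _ => List ℕ) (Bool.rec (motive := fun _ => List ℕ) (Bool.rec (motive := fun _ => List ℕ) (rw1384) (rw1385) (Nat.ble 1385 i)) (Bool.rec (motive := fun _ => List ℕ) (rw1386) (rw1387) (Nat.ble 1387 i)) (Nat.ble 1386 i)) (Bool.rec (motive := fun _ => List ℕ) (Bool.rec (motive := fun _ => List ℕ) (rw1388) (rw1389) (Nat.ble 1389 i)) (Bool.rec (motive := fun _ => List ℕ) (rw1390) (rw1391) (Nat.ble 1391 i)) (Nat.ble 1390 i)) (Nat.ble 1388 i)) (Nat.ble 1384 i)) (Bool.rec (motive := fun _ => List ℕ) (Bool.rec (motive := fun _ => List ℕ) (Bool.rec (motive := fun _ => List ℕ) (Bool.rec (motive := fun _ => List ℕ) (rw1392) (rw1393) (Nat.ble 1393 i)) (Bool.rec (motive := fun _ => List ℕ) (rw1394) (rw1395) (Nat.ble 1395 i)) (Nat.ble 1394 i)) (Bool.rec (motive := fun _ => List ℕ) (Bool.rec (motive := fun _ => List ℕ) (rw1396) (rw1397) (Nat.ble 1397 i)) (Bool.rec (motive := fun _ => List ℕ) (rw1398) (rw1399) (Nat.ble 1399 i)) (Nat.ble 1398 i)) (Nat.ble 1396 i)) (Bool.rec (motive := fun _ => List ℕ) (Bool.rec (motive := fun _ => List ℕ) (Bool.rec (motive := fun _ => List ℕ) (rw1400) (rw1401) (Nat.ble 1401 i)) (Bool.rec (motive := fun _ => List ℕ) (rw1402) (rw1403) (Nat.ble 1403 i)) (Nat.ble 1402 i)) (Bool.rec (motive := fun _ => List ℕ) (Bool.rec (motive := fun _ => List ℕ) (rw1404) (rw1405) (Nat.ble 1405 i)) (Bool.rec (motive := fun _ => List ℕ) (rw1406) (rw1407) (Nat.ble 1407 i)) (Nat.ble 1406 i)) (Nat.ble 1404 i)) (Nat.ble 1400 i)) (Nat.ble 1392 i)) (Nat.ble 1376 i)) (Nat.ble 1344 i)) (Bool.rec (motive := fun _ => List ℕ) (Bool.rec (motive := fun _ => List ℕ) (Bool.rec (motive := fun _ => List ℕ) (Bool.rec (motive := fun _ => List ℕ) (Bool.rec (motive := fun _ => List ℕ) (Bool.rec (motive := fun _ => List ℕ) (Bool.rec (motive := fun _ => List ℕ) (rw1408) (rw1409) (Nat.ble 1409 i)) (Bool.rec (motive := fun _ => List ℕ) (rw1410) (rw1411) (Nat.ble 1411 i)) (Nat.ble 1410 i)) (Bool.rec (motive := fun _ => List ℕ) (Bool.rec (motive := fun _ => List ℕ) (rw1412) (rw1413) (Nat.ble 1413 i)) (Bool.rec (motive := fun _ => List ℕ) (rw1414) (rw1415) (Nat.ble 1415 i)) (Nat.ble 1414 i)) (Nat.ble 1412 i)) (Bool.rec (motive := fun _ => List ℕ) (Bool.rec (motive := fun _ => List ℕ) (Bool.rec (motive := fun _ => List ℕ) (rw1416) (rw1417) (Nat.ble 1417 i)) (Bool.rec (motive := fun _ => List ℕ) (rw1418) (rw1419) (Nat.ble 1419 i)) (Nat.ble 1418 i)) (Bool.rec (motive := fun _ => List ℕ) (Bool.rec (motive := fun _ => List ℕ) (rw1420) (rw1421) (Nat.ble 1421 i)) (Bool.rec (motive := fun _ => List ℕ) (rw1422) (rw1423) (Nat.ble 1423 i)) (Nat.ble 1422 i)) (Nat.ble 1420 i)) (Nat.ble 1416 i)) (Bool.rec (motive := fun _ => List ℕ) (Bool.rec (motive := fun _ => List ℕ) (Bool.rec (motive := fun _ => List ℕ) (Bool.rec (motive := fun _ => List ℕ) (rw1424) (rw1425) (Nat.ble 1425 i)) (Bool.rec (motive := fun _ => List ℕ) (rw1426) (rw1427) (Nat.ble 1427 i)) (Nat.ble 1426 i)) (Bool.rec (motive := fun _ => List ℕ) (Bool.rec (motive := fun _ => List ℕ) (rw1428) (rw1429) (Nat.ble 1429 i)) (Bool.rec (motive := fun _ => List ℕ) (rw1430) (rw1431) (Nat.ble 1431 i)) (Nat.ble 1430 i)) (Nat.ble 1428 i)) (Bool.rec (motive := fun _ => List ℕ) (Bool.rec (motive := fun _ => List ℕ) (Bool.rec (motive := fun _ => List ℕ) (rw1432) (rw1433) (Nat.ble 1433 i)) (Bool.rec (motive := fun _ => List ℕ) (rw1434) (rw1435) (Nat.ble 1435 i)) (Nat.ble 1434 i)) (Bool.rec (motive := fun _ => List ℕ) (Bool.rec (motive := fun _ => List ℕ) (rw1436) (rw1437) (Nat.ble 1437 i)) (Bool.rec (motive := fun _ => List ℕ) (rw1438) (rw1439) (Nat.ble 1439 i)) (Nat.ble 1438 i)) (Nat.ble 1436 i)) (Nat.ble 1432 i)) (Nat.ble 1424 i)) (Bool.rec (motive := fun _ => List ℕ) (Bool.rec (motive := fun _ => List ℕ) (Bool.rec (motive := fun _ => List ℕ) (Bool.rec (motive := fun _ => List ℕ) (Bool.rec (motive := fun _ => List ℕ) (rw1440) (rw1441) (Nat.ble 1441 i)) (Bool.rec (motive := fun _ => List ℕ) (rw1442) (rw1443) (Nat.ble 1443 i)) (Nat.ble 1442 i)) (Bool.rec (motive := fun _ => List ℕ) (Bool.rec (motive := fun _ => List ℕ) (rw1444) (rw1445) (Nat.ble 1445 i)) (Bool.rec (motive := fun _ => List ℕ) (rw1446) (rw1447) (Nat.ble 1447 i)) (Nat.ble 1446 i)) (Nat.ble 1444 i)) (Bool.rec (motive := fun _ => List ℕ) (Bool.rec (motive := fun _ => List ℕ) (Bool.rec (motive := fun _ => List ℕ) (rw1448) (rw1449) (Nat.ble 1449 i)) (Bool.rec (motive := fun _ => List ℕ) (rw1450) (rw1451) (Nat.ble 1451 i)) (Nat.ble 1450 i)) (Bool.rec (motive := fun _ => List ℕ) (Bool.rec (motive := fun _ => List ℕ) (rw1452) (rw1453) (Nat.ble 1453 i)) (Bool.rec (motive := fun _ => List ℕ) (rw1454) (rw1455) (Nat.ble 1455 i)) (Nat.ble 1454 i)) (Nat.ble 1452 i)) (Nat.ble 1448 i)) (Bool.rec (motive := fun _ => List ℕ) (Bool.rec (motive := fun _ => List ℕ) (Bool.rec (motive := fun _ => List ℕ) (Bool.rec (motive := fun _ => List ℕ) (rw1456) (rw1457) (Nat.ble 1457 i)) (Bool.rec (motive := fun _ => List ℕ) (rw1458) (rw1459) (Nat.ble 1459 i)) (Nat.ble 1458 i)) (Bool.rec (motive := fun _ => List ℕ) (Bool.rec (motive := fun _ => List ℕ) (rw1460) (rw1461) (Nat.ble 1461 i)) (Bool.rec (motive := fun _ => List ℕ) (rw1462) (rw1463) (Nat.ble 1463 i)) (Nat.ble 1462 i)) (Nat.ble 1460 i)) (Bool.rec (motive := fun _ => List ℕ) (Bool.rec (motive := fun _ => List ℕ) (Bool.rec (motive := fun _ => List ℕ) (rw1464) (rw1465) (Nat.ble 1465 i)) (Bool.rec (motive := fun _ => List ℕ) (rw1466) (rw1467) (Nat.ble 1467 i)) (Nat.ble 1466 i)) (Bool.rec (motive := fun _ => List ℕ) (Bool.rec (motive := fun _ => List ℕ) (rw1468) (rw1469) (Nat.ble 1469 i)) (Bool.rec (motive := fun _ => List ℕ) (rw1470) (rw1471) (Nat.ble 1471 i)) (Nat.ble 1470 i)) (Nat.ble 1468 i)) (Nat.ble 1464 i)) (Nat.ble 1456 i)) (Nat.ble 1440 i)) (Bool.rec (motive := fun _ => List ℕ) (Bool.rec (motive := fun _ => List ℕ) (Bool.rec (motive := fun _ => List ℕ) (Bool.rec (motive := fun _ => List ℕ) (Bool.rec (motive := fun _ => List ℕ) (Bool.rec (motive := fun _ => List ℕ) (rw1472) (rw1473) (Nat.ble 1473 i)) (Bool.rec (motive := fun _ => List ℕ) (rw1474) (rw1475) (Nat.ble 1475 i)) (Nat.ble 1474 i)) (Bool.rec (motive := fun _ => List ℕ) (Bool.rec (motive := fun _ => List ℕ) (rw1476) (rw1477) (Nat.ble 1477 i)) (Bool.rec (motive := fun _ => List ℕ) (rw1478) (rw1479) (Nat.ble 1479 i)) (Nat.ble 1478 i)) (Nat.ble 1476 i)) (Bool.rec (motive := fun _ => List ℕ) (Bool.rec (motive := fun _ => List ℕ) (Bool.rec (motive := fun _ => List ℕ) (rw1480) (rw1481) (Nat.ble 1481 i)) (Bool.rec (motive := fun _ => List ℕ) (rw1482) (rw1483) (Nat.ble 1483 i)) (Nat.ble 1482 i)) (Bool.rec (motive := fun _ => List ℕ) (Bool.rec (motive := fun _ => List ℕ) (rw1484) (rw1485) (Nat.ble 1485 i)) (Bool.rec (motive := fun _ => List ℕ) (rw1486) (rw1487) (Nat.ble 1487 i)) (Nat.ble 1486 i)) (Nat.ble 1484 i)) (Nat.ble 1480 i)) (Bool.rec (motive := fun _ => List ℕ) (Bool.rec (motive := fun _ => List ℕ) (Bool.rec (motive := fun _ => List ℕ) (Bool.rec (motive := fun _ => List ℕ) (rw1488) (rw1489) (Nat.ble 1489 i)) (Bool.rec (motive := fun _ => List ℕ) (rw1490) (rw1491) (Nat.ble 1491 i)) (Nat.ble 1490 i)) (Bool.rec (motive := fun _ => List ℕ) (Bool.rec (motive := fun _ => List ℕ) (rw1492) (rw1493) (Nat.ble 1493 i)) (Bool.rec (motive := fun _ => List ℕ) (rw1494) (rw1495) (Nat.ble 1495 i)) (Nat.ble 1494 i)) (Nat.ble 1492 i)) (Bool.rec (motive := fun _ => List ℕ) (Bool.rec (motive := fun _ => List ℕ) (Bool.rec (motive := fun _ => List ℕ) (rw1496) (rw1497) (Nat.ble 1497 i)) (Bool.rec (motive := fun _ => List ℕ) (rw1498) (rw1499) (Nat.ble 1499 i)) (Nat.ble 1498 i)) (Bool.rec (motive := fun _ => List ℕ) (Bool.rec (motive := fun _ => List ℕ) (rw1500) (rw1501) (Nat.ble 1501 i)) (Bool.rec (motive := fun _ => List ℕ) (rw1502) (rw1503) (Nat.ble 1503 i)) (Nat.ble 1502 i)) (Nat.ble 1500 i)) (Nat.ble 1496 i)) (Nat.ble 1488 i)) (Bool.rec (motive := fun _ => List ℕ) (Bool.rec (motive := fun _ => List ℕ) (Bool.rec (motive := fun _ => List ℕ) (Bool.rec (motive := fun _ => List ℕ) (Bool.rec (motive := fun _ => List ℕ) (rw1504) (rw1505) (Nat.ble 1505 i)) (Bool.rec (motive := fun _ => List ℕ) (rw1506) (rw1507) (Nat.ble 1507 i)) (Nat.ble 1506 i)) (Bool.rec (motive := fun _ => List ℕ) (Bool.rec (motive := fun _ => List ℕ) (rw1508) (rw1509) (Nat.ble 1509 i)) (Bool.rec (motive := fun _ => List ℕ) (rw1510) (rw1511) (Nat.ble 1511 i)) (Nat.ble 1510 i)) (Nat.ble 1508 i)) (Bool.rec (motive := fun _ => List ℕ) (Bool.rec (motive := fun _ => List ℕ) (Bool.rec (motive := fun _ => List ℕ) (rw1512) (rw1513) (Nat.ble 1513 i)) (Bool.rec (motive := fun _ => List ℕ) (rw1514) (rw1515) (Nat.ble 1515 i)) (Nat.ble 1514 i)) (Bool.rec (motive := fun _ => List ℕ) (Bool.rec (motive := fun _ => List ℕ) (rw1516) (rw1517) (Nat.ble 1517 i)) (Bool.rec (motive := fun _ => List ℕ) (rw1518) (rw1519) (Nat.ble 1519 i)) (Nat.ble 1518 i)) (Nat.ble 1516 i)) (Nat.ble 1512 i)) (Bool.rec (motive := fun _ => List ℕ) (Bool.rec (motive := fun _ => List ℕ) (Bool.rec (motive := fun _ => List ℕ) (Bool.rec (motive := fun _ => List ℕ) (rw1520) (rw1521) (Nat.ble 1521 i)) (Bool.rec (motive := fun _ => List ℕ) (rw1522) (rw1523) (Nat.ble 1523 i)) (Nat.ble 1522 i)) (Bool.rec (motive := fun _ => List ℕ) (Bool.rec (motive := fun _ => List ℕ) (rw1524) (rw1525) (Nat.ble 1525 i)) (Bool.rec (motive := fun _ => List ℕ) (rw1526) (rw1527) (Nat.ble 1527 i)) (Nat.ble 1526 i)) (Nat.ble 1524 i)) (Bool.rec (motive := fun _ => List ℕ) (Bool.rec (motive := fun _ => List ℕ) (Bool.rec (motive := fun _ => List ℕ) (rw1528) (rw1529) (Nat.ble 1529 i)) (Bool.rec (motive := fun _ => List ℕ) (rw1530) (rw1531) (Nat.ble 1531 i)) (Nat.ble 1530 i)) (Bool.rec (motive := fun _ => List ℕ) (Bool.rec (motive := fun _ => List ℕ) (rw1532) (rw1533) (Nat.ble 1533 i)) (Bool.rec (motive := fun _ => List ℕ) (rw1534) (rw1535) (Nat.ble 1535 i)) (Nat.ble 1534 i)) (Nat.ble 1532 i)) (Nat.ble 1528 i)) (Nat.ble 1520 i)) (Nat.ble 1504 i)) (Nat.ble 1472 i)) (Nat.ble 1408 i)) (Nat.ble 1280 i)) (Bool.rec (motive := fun _ => List ℕ) (Bool.rec (motive := fun _ => List ℕ) (Bool.rec (motive := fun _ => List ℕ) (Bool.rec (motive := fun _ => List ℕ) (Bool.rec (motive := fun _ => List ℕ) (Bool.rec (motive := fun _ => List ℕ) (Bool.rec (motive := fun _ => List ℕ) (Bool.rec (motive := fun _ => List ℕ) (Bool.rec (motive := fun _ => List ℕ) (rw1536) (rw1537) (Nat.ble 1537 i)) (Bool.rec (motive := fun _ => List ℕ) (rw1538) (rw1539) (Nat.ble 1539 i)) (Nat.ble 1538 i)) (Bool.rec (motive := fun _ => List ℕ) (Bool.rec (motive := fun _ => List ℕ) (rw1540) (rw1541) (Nat.ble 1541 i)) (Bool.rec (motive := fun _ => List ℕ) (rw1542) (rw1543) (Nat.ble 1543 i)) (Nat.ble 1542 i)) (Nat.ble 1540 i)) (Bool.rec (motive := fun _ => List ℕ) (Bool.rec (motive := fun _ => List ℕ) (Bool.rec (motive := fun _ => List ℕ) (rw1544) (rw1545) (Nat.ble 1545 i)) (Bool.rec (motive := fun _ => List ℕ) (rw1546) (rw1547) (Nat.ble 1547 i)) (Nat.ble 1546 i)) (Bool.rec (motive := fun _ => List ℕ) (Bool.rec (motive := fun _ => List ℕ) (rw1548) (rw1549) (Nat.ble 1549 i)) (Bool.rec (motive := fun _ => List ℕ) (rw1550) (rw1551) (Nat.ble 1551 i)) (Nat.ble 1550 i)) (Nat.ble 1548 i)) (Nat.ble 1544 i)) (Bool.rec (motive := fun _ => List ℕ) (Bool.rec (motive := fun _ => List ℕ) (Bool.rec (motive := fun _ => List ℕ) (Bool.rec (motive := fun _ => List ℕ) (rw1552) (rw1553) (Nat.ble 1553 i)) (Bool.rec (motive := fun _ => List ℕ) (rw1554) (rw1555) (Nat.ble 1555 i)) (Nat.ble 1554 i)) (Bool.rec (motive := fun _ => List ℕ) (Bool.rec (motive := fun _ => List ℕ) (rw1556) (rw1557) (Nat.ble 1557 i)) (Bool.rec (motive := fun _ => List ℕ) (rw1558) (rw1559) (Nat.ble 1559 i)) (Nat.ble 1558 i)) (Nat.ble 1556 i)) (Bool.rec (motive := fun _ => List ℕ) (Bool.rec (motive := fun _ => List ℕ) (Bool.rec (motive := fun _ => List ℕ) (rw1560) (rw1561) (Nat.ble 1561 i)) (Bool.rec (motive := fun _ => List ℕ) (rw1562) (rw1563) (Nat.ble 1563 i)) (Nat.ble 1562 i)) (Bool.rec (motive := fun _ => List ℕ) (Bool.rec (motive := fun _ => List ℕ) (rw1564) (rw1565) (Nat.ble 1565 i)) (Bool.rec (motive := fun _ => List ℕ) (rw1566) (rw1567) (Nat.ble 1567 i)) (Nat.ble 1566 i)) (Nat.ble 1564 i)) (Nat.ble 1560 i)) (Nat.ble 1552 i)) (Bool.rec (motive := fun _ => List ℕ) (Bool.rec (motive := fun _ => List ℕ) (Bool.rec (motive := fun _ => List ℕ) (Bool.rec (motive := fun _ => List ℕ) (Bool.rec (motive := fun _ => List ℕ) (rw1568) (rw1569) (Nat.ble 1569 i)) (Bool.rec (motive := fun _ => List ℕ) (rw1570) (rw1571) (Nat.ble 1571 i)) (Nat.ble 1570 i)) (Bool.rec (motive := fun _ => List ℕ) (Bool.rec (motive := fun _ => List ℕ) (rw1572) (rw1573) (Nat.ble 1573 i)) (Bool.rec (motive := fun _ => List ℕ) (rw1574) (rw1575) (Nat.ble 1575 i)) (Nat.ble 1574 i)) (Nat.ble 1572 i)) (Bool.rec (motive := fun _ => List ℕ) (Bool.rec (motive := fun _ => List ℕ) (Bool.rec (motive := fun _ => List ℕ) (rw1576) (rw1577) (Nat.ble 1577 i)) (Bool.rec (motive := fun _ => List ℕ) (rw1578) (rw1579) (Nat.ble 1579 i)) (Nat.ble 1578 i)) (Bool.rec (motive := fun _ => List ℕ) (Bool.rec (motive := fun _ => List ℕ) (rw1580) (rw1581) (Nat.ble 1581 i)) (Bool.rec (motive := fun _ => List ℕ) (rw1582) (rw1583) (Nat.ble 1583 i)) (Nat.ble 1582 i)) (Nat.ble 1580 i)) (Nat.ble 1576 i)) (Bool.rec (motive := fun _ => List ℕ) (Bool.rec (motive := fun _ => List ℕ) (Bool.rec (motive := fun _ => List ℕ) (Bool.rec (motive := fun _ => List ℕ) (rw1584) (rw1585) (Nat.ble 1585 i)) (Bool.rec (motive := fun _ => List ℕ) (rw1586) (rw1587) (Nat.ble 1587 i)) (Nat.ble 1586 i)) (Bool.rec (motive := fun _ => List ℕ) (Bool.rec (motive := fun _ => List ℕ) (rw1588) (rw1589) (Nat.ble 1589 i)) (Bool.rec (motive := fun _ => List ℕ) (rw1590) (rw1591) (Nat.ble 1591 i)) (Nat.ble 1590 i)) (Nat.ble 1588 i)) (Bool.rec (motive := fun _ => List ℕ) (Bool.rec (motive := fun _ => List ℕ) (Bool.rec (motive := fun _ => List ℕ) (rw1592) (rw1593) (Nat.ble 1593 i)) (Bool.rec (motive := fun _ => List ℕ) (rw1594) (rw1595) (Nat.ble 1595 i)) (Nat.ble 1594 i)) (Bool.rec (motive := fun _ => List ℕ) (Bool.rec (motive := fun _ => List ℕ) (rw1596) (rw1597) (Nat.ble 1597 i)) (Bool.rec (motive := fun _ => List ℕ) (rw1598) (rw1599) (Nat.ble 1599 i)) (Nat.ble 1598 i)) (Nat.ble 1596 i)) (Nat.ble 1592 i)) (Nat.ble 1584 i)) (Nat.ble 1568 i)) (Bool.rec (motive := fun _ => List ℕ) (Bool.rec (motive := fun _ => List ℕ) (Bool.rec (motive := fun _ => List ℕ) (Bool.rec (motive := fun _ => List ℕ) (Bool.rec (motive := fun _ => List ℕ) (Bool.rec (motive := fun _ => List ℕ) (rw1600) (rw1601) (Nat.ble 1601 i)) (Bool.rec (motive := fun _ => List ℕ) (rw1602) (rw1603) (Nat.ble 1603 i)) (Nat.ble 1602 i)) (Bool.rec (motive := fun _ => List ℕ) (Bool.rec (motive := fun _ => List ℕ) (rw1604) (rw1605) (Nat.ble 1605 i)) (Bool.rec (motive := fun _ => List ℕ) (rw1606) (rw1607) (Nat.ble 1607 i)) (Nat.ble 1606 i)) (Nat.ble 1604 i)) (Bool.rec (motive := fun _ => List ℕ) (Bool.rec (motive := fun _ => List ℕ) (Bool.rec (motive := fun _ => List ℕ) (rw1608) (rw1609) (Nat.ble 1609 i)) (Bool.rec (motive := fun _ => List ℕ) (rw1610) (rw1611) (Nat.ble 1611 i)) (Nat.ble 1610 i)) (Bool.rec (motive := fun _ => List ℕ) (Bool.rec (motive := fun _ => List ℕ) (rw1612) (rw1613) (Nat.ble 1613 i)) (Bool.rec (motive := fun _ => List ℕ) (rw1614) (rw1615) (Nat.ble 1615 i)) (Nat.ble 1614 i)) (Nat.ble 1612 i)) (Nat.ble 1608 i)) (Bool.rec (motive := fun _ => List ℕ) (Bool.rec (motive := fun _ => List ℕ) (Bool.rec (motive := fun _ => List ℕ) (Bool.rec (motive := fun _ => List ℕ) (rw1616) (rw1617) (Nat.ble 1617 i)) (Bool.rec (motive := fun _ => List ℕ) (rw1618) (rw1619) (Nat.ble 1619 i)) (Nat.ble 1618 i)) (Bool.rec (motive := fun _ => List ℕ) (Bool.rec (motive := fun _ => List ℕ) (rw1620) (rw1621) (Nat.ble 1621 i)) (Bool.rec (motive := fun _ => List ℕ) (rw1622) (rw1623) (Nat.ble 1623 i)) (Nat.ble 1622 i)) (Nat.ble 1620 i)) (Bool.rec (motive := fun _ => List ℕ) (Bool.rec (motive := fun _ => List ℕ) (Bool.rec (motive := fun _ => List ℕ) (rw1624) (rw1625) (Nat.ble 1625 i)) (Bool.rec (motive := fun _ => List ℕ) (rw1626) (rw1627) (Nat.ble 1627 i)) (Nat.ble 1626 i)) (Bool.rec (motive := fun _ => List ℕ) (Bool.rec (motive := fun _ => List ℕ) (rw1628) (rw1629) (Nat.ble 1629 i)) (Bool.rec (motive := fun _ => List ℕ) (rw1630) (rw1631) (Nat.ble 1631 i)) (Nat.ble 1630 i)) (Nat.ble 1628 i)) (Nat.ble 1624 i)) (Nat.ble 1616 i)) (Bool.rec (motive := fun _ => List ℕ) (Bool.rec (motive := fun _ => List ℕ) (Bool.rec (motive := fun _ => List ℕ) (Bool.rec (motive := fun _ => List ℕ) (Bool.rec (motive := fun _ => List ℕ) (rw1632) (rw1633) (Nat.ble 1633 i)) (Bool.rec (motive := fun _ => List ℕ) (rw1634) (rw1635) (Nat.ble 1635 i)) (Nat.ble 1634 i)) (Bool.rec (motive := fun _ => List ℕ) (Bool.rec (motive := fun _ => List ℕ) (rw1636) (rw1637) (Nat.ble 1637 i)) (Bool.rec (motive := fun _ => List ℕ) (rw1638) (rw1639) (Nat.ble 1639 i)) (Nat.ble 1638 i)) (Nat.ble 1636 i)) (Bool.rec (motive := fun _ => List ℕ) (Bool.rec (motive := fun _ => List ℕ) (Bool.rec (motive := fun _ => List ℕ) (rw1640) (rw1641) (Nat.ble 1641 i)) (Bool.rec (motive := fun _ => List ℕ) (rw1642) (rw1643) (Nat.ble 1643 i)) (Nat.ble 1642 i)) (Bool.rec (motive := fun _ => List ℕ) (Bool.rec (motive := fun _ => List ℕ) (rw1644) (rw1645) (Nat.ble 1645 i)) (Bool.rec (motive := fun _ => List ℕ) (rw1646) (rw1647) (Nat.ble 1647 i)) (Nat.ble 1646 i)) (Nat.ble 1644 i)) (Nat.ble 1640 i)) (Bool.rec (motive := fun _ => List ℕ) (Bool.rec (motive := fun _ => List ℕ) (Bool.rec (motive := fun _ => List ℕ) (Bool.rec (motive := fun _ => List ℕ) (rw1648) (rw1649) (Nat.ble 1649 i)) (Bool.rec (motive := fun _ => List ℕ) (rw1650) (rw1651) (Nat.ble 1651 i)) (Nat.ble 1650 i)) (Bool.rec (motive := fun _ => List ℕ) (Bool.rec (motive := fun _ => List ℕ) (rw1652) (rw1653) (Nat.ble 1653 i)) (Bool.rec (motive := fun _ => List ℕ) (rw1654) (rw1655) (Nat.ble 1655 i)) (Nat.ble 1654 i)) (Nat.ble 1652 i)) (Bool.rec (motive := fun _ => List ℕ) (Bool.rec (motive := fun _ => List ℕ) (Bool.rec (motive := fun _ => List ℕ) (rw1656) (rw1657) (Nat.ble 1657 i)) (Bool.rec (motive := fun _ => List ℕ) (rw1658) (rw1659) (Nat.ble 1659 i)) (Nat.ble 1658 i)) (Bool.rec (motive := fun _ => List ℕ) (Bool.rec (motive := fun _ => List ℕ) (rw1660) (rw1661) (Nat.ble 1661 i)) (Bool.rec (motive := fun _ => List ℕ) (rw1662) (rw1663) (Nat.ble 1663 i)) (Nat.ble 1662 i)) (Nat.ble 1660 i)) (Nat.ble 1656 i)) (Nat.ble 1648 i)) (Nat.ble 1632 i)) (Nat.ble 1600 i)) (Bool.rec (motive := fun _ => List ℕ) (Bool.rec (motive := fun _ => List ℕ) (Bool.rec (motive := fun _ => List ℕ) (Bool.rec (motive := fun _ => List ℕ) (Bool.rec (motive := fun _ => List ℕ) (Bool.rec (motive := fun _ => List ℕ) (Bool.rec (motive := fun _ => List ℕ) (rw1664) (rw1665) (Nat.ble 1665 i)) (Bool.rec (motive := fun _ => List ℕ) (rw1666) (rw1667) (Nat.ble 1667 i)) (Nat.ble 1666 i)) (Bool.rec (motive := fun _ => List ℕ) (Bool.rec (motive := fun _ => List ℕ) (rw1668) (rw1669) (Nat.ble 1669 i)) (Bool.rec (motive := fun _ => List ℕ) (rw1670) (rw1671) (Nat.ble 1671 i)) (Nat.ble 1670 i)) (Nat.ble 1668 i)) (Bool.rec (motive := fun _ => List ℕ) (Bool.rec (motive := fun _ => List ℕ) (Bool.rec (motive := fun _ => List ℕ) (rw1672) (rw1673) (Nat.ble 1673 i)) (Bool.rec (motive := fun _ => List ℕ) (rw1674) (rw1675) (Nat.ble 1675 i)) (Nat.ble 1674 i)) (Bool.rec (motive := fun _ => List ℕ) (Bool.rec (motive := fun _ => List ℕ) (rw1676) (rw1677) (Nat.ble 1677 i)) (Bool.rec (motive := fun _ => List ℕ) (rw1678) (rw1679) (Nat.ble 1679 i)) (Nat.ble 1678 i)) (Nat.ble 1676 i)) (Nat.ble 1672 i)) (Bool.rec (motive := fun _ => List ℕ) (Bool.rec (motive := fun _ => List ℕ) (Bool.rec (motive := fun _ => List ℕ) (Bool.rec (motive := fun _ => List ℕ) (rw1680) (rw1681) (Nat.ble 1681 i)) (Bool.rec (motive := fun _ => List ℕ) (rw1682) (rw1683) (Nat.ble 1683 i)) (Nat.ble 1682 i)) (Bool.rec (motive := fun _ => List ℕ) (Bool.rec (motive := fun _ => List ℕ) (rw1684) (rw1685) (Nat.ble 1685 i)) (Bool.rec (motive := fun _ => List ℕ) (rw1686) (rw1687) (Nat.ble 1687 i)) (Nat.ble 1686 i)) (Nat.ble 1684 i)) (Bool.rec (motive := fun _ => List ℕ) (Bool.rec (motive := fun _ => List ℕ) (Bool.rec (motive := fun _ => List ℕ) (rw1688) (rw1689) (Nat.ble 1689 i)) (Bool.rec (motive := fun _ => List ℕ) (rw1690) (rw1691) (Nat.ble 1691 i)) (Nat.ble 1690 i)) (Bool.rec (motive := fun _ => List ℕ) (Bool.rec (motive := fun _ => List ℕ) (rw1692) (rw1693) (Nat.ble 1693 i)) (Bool.rec (motive := fun _ => List ℕ) (rw1694) (rw1695) (Nat.ble 1695 i)) (Nat.ble 1694 i)) (Nat.ble 1692 i)) (Nat.ble 1688 i)) (Nat.ble 1680 i)) (Bool.rec (motive := fun _ => List ℕ) (Bool.rec (motive := fun _ => List ℕ) (Bool.rec (motive := fun _ => List ℕ) (Bool.rec (motive := fun _ => List ℕ) (Bool.rec (motive := fun _ => List ℕ) (rw1696) (rw1697) (Nat.ble 1697 i)) (Bool.rec (motive := fun _ => List ℕ) (rw1698) (rw1699) (Nat.ble 1699 i)) (Nat.ble 1698 i)) (Bool.rec (motive := fun _ => List ℕ) (Bool.rec (motive := fun _ => List ℕ) (rw1700) (rw1701) (Nat.ble 1701 i)) (Bool.rec (motive := fun _ => List ℕ) (rw1702) (rw1703) (Nat.ble 1703 i)) (Nat.ble 1702 i)) (Nat.ble 1700 i)) (Bool.rec (motive := fun _ => List ℕ) (Bool.rec (motive := fun _ => List ℕ) (Bool.rec (motive := fun _ => List ℕ) (rw1704) (rw1705) (Nat.ble 1705 i)) (Bool.rec (motive := fun _ => List ℕ) (rw1706) (rw1707) (Nat.ble 1707 i)) (Nat.ble 1706 i)) (Bool.rec (motive := fun _ => List ℕ) (Bool.rec (motive := fun _ => List ℕ) (rw1708) (rw1709) (Nat.ble 1709 i)) (Bool.rec (motive := fun _ => List ℕ) (rw1710) (rw1711) (Nat.ble 1711 i)) (Nat.ble 1710 i)) (Nat.ble 1708 i)) (Nat.ble 1704 i)) (Bool.rec (motive := fun _ => List ℕ) (Bool.rec (motive := fun _ => List ℕ) (Bool.rec (motive := fun _ => List ℕ) (Bool.rec (motive := fun _ => List ℕ) (rw1712) (rw1713) (Nat.ble 1713 i)) (Bool.rec (motive := fun _ => List ℕ) (rw1714) (rw1715) (Nat.ble 1715 i)) (Nat.ble 1714 i)) (Bool.rec (motive := fun _ => List ℕ) (Bool.rec (motive := fun _ => List ℕ) (rw1716) (rw1717) (Nat.ble 1717 i)) (Bool.rec (motive := fun _ => List ℕ) (rw1718) (rw1719) (Nat.ble 1719 i)) (Nat.ble 1718 i)) (Nat.ble 1716 i)) (Bool.rec (motive := fun _ => List ℕ) (Bool.rec (motive := fun _ => List ℕ) (Bool.rec (motive := fun _ => List ℕ) (rw1720) (rw1721) (Nat.ble 1721 i)) (Bool.rec (motive := fun _ => List ℕ) (rw1722) (rw1723) (Nat.ble 1723 i)) (Nat.ble 1722 i)) (Bool.rec (motive := fun _ => List ℕ) (Bool.rec (motive := fun _ => List ℕ) (rw1724) (rw1725) (Nat.ble 1725 i)) (Bool.rec (motive := fun _ => List ℕ) (rw1726) (rw1727) (Nat.ble 1727 i)) (Nat.ble 1726 i)) (Nat.ble 1724 i)) (Nat.ble 1720 i)) (Nat.ble 1712 i)) (Nat.ble 1696 i)) (Bool.rec (motive := fun _ => List ℕ) (Bool.rec (motive := fun _ => List ℕ) (Bool.rec (motive := fun _ => List ℕ) (Bool.rec (motive := fun _ => List ℕ) (Bool.rec (motive := fun _ => List ℕ) (Bool.rec (motive := fun _ => List ℕ) (rw1728) (rw1729) (Nat.ble 1729 i)) (Bool.rec (motive := fun _ => List ℕ) (rw1730) (rw1731) (Nat.ble 1731 i)) (Nat.ble 1730 i)) (Bool.rec (motive := fun _ => List ℕ) (Bool.rec (motive := fun _ => List ℕ) (rw1732) (rw1733) (Nat.ble 1733 i)) (Bool.rec (motive := fun _ => List ℕ) (rw1734) (rw1735) (Nat.ble 1735 i)) (Nat.ble 1734 i)) (Nat.ble 1732 i)) (Bool.rec (motive := fun _ => List ℕ) (Bool.rec (motive := fun _ => List ℕ) (Bool.rec (motive := fun _ => List ℕ) (rw1736) (rw1737) (Nat.ble 1737 i)) (Bool.rec (motive := fun _ => List ℕ) (rw1738) (rw1739) (Nat.ble 1739 i)) (Nat.ble 1738 i)) (Bool.rec (motive := fun _ => List ℕ) (Bool.rec (motive := fun _ => List ℕ) (rw1740) (rw1741) (Nat.ble 1741 i)) (Bool.rec (motive := fun _ => List ℕ) (rw1742) (rw1743) (Nat.ble 1743 i)) (Nat.ble 1742 i)) (Nat.ble 1740 i)) (Nat.ble 1736 i)) (Bool.rec (motive := fun _ => List ℕ) (Bool.rec (motive := fun _ => List ℕ) (Bool.rec (motive := fun _ => List ℕ) (Bool.rec (motive := fun _ => List ℕ) (rw1744) (rw1745) (Nat.ble 1745 i)) (Bool.rec (motive := fun _ => List ℕ) (rw1746) (rw1747) (Nat.ble 1747 i)) (Nat.ble 1746 i)) (Bool.rec (motive := fun _ => List ℕ) (Bool.rec (motive := fun _ => List ℕ) (rw1748) (rw1749) (Nat.ble 1749 i)) (Bool.rec (motive := fun _ => List ℕ) (rw1750) (rw1751) (Nat.ble 1751 i)) (Nat.ble 1750 i)) (Nat.ble 1748 i)) (Bool.rec (motive := fun _ => List ℕ) (Bool.rec (motive := fun _ => List ℕ) (Bool.rec (motive := fun _ => List ℕ) (rw1752) (rw1753) (Nat.ble 1753 i)) (Bool.rec (motive := fun _ => List ℕ) (rw1754) (rw1755) (Nat.ble 1755 i)) (Nat.ble 1754 i)) (Bool.rec (motive := fun _ => List ℕ) (Bool.rec (motive := fun _ => List ℕ) (rw1756) (rw1757) (Nat.ble 1757 i)) (Bool.rec (motive := fun _ => List ℕ) (rw1758) (rw1759) (Nat.ble 1759 i)) (Nat.ble 1758 i)) (Nat.ble 1756 i)) (Nat.ble 1752 i)) (Nat.ble 1744 i)) (Bool.rec (motive := fun _ => List ℕ) (Bool.rec (motive := fun _ => List ℕ) (Bool.rec (motive := fun _ => List ℕ) (Bool.rec (motive := fun _ => List ℕ) (Bool.rec (motive := fun _ => List ℕ) (rw1760) (rw1761) (Nat.ble 1761 i)) (Bool.rec (motive := fun _ => List ℕ) (rw1762) (rw1763) (Nat.ble 1763 i)) (Nat.ble 1762 i)) (Bool.rec (motive := fun _ => List ℕ) (Bool.rec (motive := fun _ => List ℕ) (rw1764) (rw1765) (Nat.ble 1765 i)) (Bool.rec (motive := fun _ => List ℕ) (rw1766) (rw1767) (Nat.ble 1767 i)) (Nat.ble 1766 i)) (Nat.ble 1764 i)) (Bool.rec (motive := fun _ => List ℕ) (Bool.rec (motive := fun _ => List ℕ) (Bool.rec (motive := fun _ => List ℕ) (rw1768) (rw1769) (Nat.ble 1769 i)) (Bool.rec (motive := fun _ => List ℕ) (rw1770) (rw1771) (Nat.ble 1771 i)) (Nat.ble 1770 i)) (Bool.rec (motive := fun _ => List ℕ) (Bool.rec (motive := fun _ => List ℕ) (rw1772) (rw1773) (Nat.ble 1773 i)) (Bool.rec (motive := fun _ => List ℕ) (rw1774) (rw1775) (Nat.ble 1775 i)) (Nat.ble 1774 i)) (Nat.ble 1772 i)) (Nat.ble 1768 i)) (Bool.rec (motive := fun _ => List ℕ) (Bool.rec (motive := fun _ => List ℕ) (Bool.rec (motive := fun _ => List ℕ) (Bool.rec (motive := fun _ => List ℕ) (rw1776) (rw1777) (Nat.ble 1777 i)) (Bool.rec (motive := fun _ => List ℕ) (rw1778) (rw1779) (Nat.ble 1779 i)) (Nat.ble 1778 i)) (Bool.rec (motive := fun _ => List ℕ) (Bool.rec (motive := fun _ => List ℕ) (rw1780) (rw1781) (Nat.ble 1781 i)) (Bool.rec (motive := fun _ => List ℕ) (rw1782) (rw1783) (Nat.ble 1783 i)) (Nat.ble 1782 i)) (Nat.ble 1780 i)) (Bool.rec (motive := fun _ => List ℕ) (Bool.rec (motive := fun _ => List ℕ) (Bool.rec (motive := fun _ => List ℕ) (rw1784) (rw1785) (Nat.ble 1785 i)) (Bool.rec (motive := fun _ => List ℕ) (rw1786) (rw1787) (Nat.ble 1787 i)) (Nat.ble 1786 i)) (Bool.rec (motive := fun _ => List ℕ) (Bool.rec (motive := fun _ => List ℕ) (rw1788) (rw1789) (Nat.ble 1789 i)) (Bool.rec (motive := fun _ => List ℕ) (rw1790) (rw1791) (Nat.ble 1791 i)) (Nat.ble 1790 i)) (Nat.ble 1788 i)) (Nat.ble 1784 i)) (Nat.ble 1776 i)) (Nat.ble 1760 i)) (Nat.ble 1728 i)) (Nat.ble 1664 i)) (Bool.rec (motive := fun _ => List ℕ) (Bool.rec (motive := fun _ => List ℕ) (Bool.rec (motive := fun _ => List ℕ) (Bool.rec (motive := fun _ => List ℕ) (Bool.rec (motive := fun _ => List ℕ) (Bool.rec (motive := fun _ => List ℕ) (Bool.rec (motive := fun _ => List ℕ) (Bool.rec (motive := fun _ => List ℕ) (rw1792) (rw1793) (Nat.ble 1793 i)) (Bool.rec (motive := fun _ => List ℕ) (rw1794) (rw1795) (Nat.ble 1795 i)) (Nat.ble 1794 i)) (Bool.rec (motive := fun _ => List ℕ) (Bool.rec (motive := fun _ => List ℕ) (rw1796) (rw1797) (Nat.ble 1797 i)) (Bool.rec (motive := fun _ => List ℕ) (rw1798) (rw1799) (Nat.ble 1799 i)) (Nat.ble 1798 i)) (Nat.ble 1796 i)) (Bool.rec (motive := fun _ => List ℕ) (Bool.rec (motive := fun _ => List ℕ) (Bool.rec (motive := fun _ => List ℕ) (rw1800) (rw1801) (Nat.ble 1801 i)) (Bool.rec (motive := fun _ => List ℕ) (rw1802) (rw1803) (Nat.ble 1803 i)) (Nat.ble 1802 i)) (Bool.rec (motive := fun _ => List ℕ) (Bool.rec (motive := fun _ => List ℕ) (rw1804) (rw1805) (Nat.ble 1805 i)) (Bool.rec (motive := fun _ => List ℕ) (rw1806) (rw1807) (Nat.ble 1807 i)) (Nat.ble 1806 i)) (Nat.ble 1804 i)) (Nat.ble 1800 i)) (Bool.rec (motive := fun _ => List ℕ) (Bool.rec (motive := fun _ => List ℕ) (Bool.rec (motive := fun _ => List ℕ) (Bool.rec (motive := fun _ => List ℕ) (rw1808) (rw1809) (Nat.ble 1809 i)) (Bool.rec (motive := fun _ => List ℕ) (rw1810) (rw1811) (Nat.ble 1811 i)) (Nat.ble 1810 i)) (Bool.rec (motive := fun _ => List ℕ) (Bool.rec (motive := fun _ => List ℕ) (rw1812) (rw1813) (Nat.ble 1813 i)) (Bool.rec (motive := fun _ => List ℕ) (rw1814) (rw1815) (Nat.ble 1815 i)) (Nat.ble 1814 i)) (Nat.ble 1812 i)) (Bool.rec (motive := fun _ => List ℕ) (Bool.rec (motive := fun _ => List ℕ) (Bool.rec (motive := fun _ => List ℕ) (rw1816) (rw1817) (Nat.ble 1817 i)) (Bool.rec (motive := fun _ => List ℕ) (rw1818) (rw1819) (Nat.ble 1819 i)) (Nat.ble 1818 i)) (Bool.rec (motive := fun _ => List ℕ) (Bool.rec (motive := fun _ => List ℕ) (rw1820) (rw1821) (Nat.ble 1821 i)) (Bool.rec (motive := fun _ => List ℕ) (rw1822) (rw1823) (Nat.ble 1823 i)) (Nat.ble 1822 i)) (Nat.ble 1820 i)) (Nat.ble 1816 i)) (Nat.ble 1808 i)) (Bool.rec (motive := fun _ => List ℕ) (Bool.rec (motive := fun _ => List ℕ) (Bool.rec (motive := fun _ => List ℕ) (Bool.rec (motive := fun _ => List ℕ) (Bool.rec (motive := fun _ => List ℕ) (rw1824) (rw1825) (Nat.ble 1825 i)) (Bool.rec (motive := fun _ => List ℕ) (rw1826) (rw1827) (Nat.ble 1827 i)) (Nat.ble 1826 i)) (Bool.rec (motive := fun _ => List ℕ) (Bool.rec (motive := fun _ => List ℕ) (rw1828) (rw1829) (Nat.ble 1829 i)) (Bool.rec (motive := fun _ => List ℕ) (rw1830) (rw1831) (Nat.ble 1831 i)) (Nat.ble 1830 i)) (Nat.ble 1828 i)) (Bool.rec (motive := fun _ => List ℕ) (Bool.rec (motive := fun _ => List ℕ) (Bool.rec (motive := fun _ => List ℕ) (rw1832) (rw1833) (Nat.ble 1833 i)) (Bool.rec (motive := fun _ => List ℕ) (rw1834) (rw1835) (Nat.ble 1835 i)) (Nat.ble 1834 i)) (Bool.rec (motive := fun _ => List ℕ) (Bool.rec (motive := fun _ => List ℕ) (rw1836) (rw1837) (Nat.ble 1837 i)) (Bool.rec (motive := fun _ => List ℕ) (rw1838) (rw1839) (Nat.ble 1839 i)) (Nat.ble 1838 i)) (Nat.ble 1836 i)) (Nat.ble 1832 i)) (Bool.rec (motive := fun _ => List ℕ) (Bool.rec (motive := fun _ => List ℕ) (Bool.rec (motive := fun _ => List ℕ) (Bool.rec (motive := fun _ => List ℕ) (rw1840) (rw1841) (Nat.ble 1841 i)) (Bool.rec (motive := fun _ => List ℕ) (rw1842) (rw1843) (Nat.ble 1843 i)) (Nat.ble 1842 i)) (Bool.rec (motive := fun _ => List ℕ) (Bool.rec (motive := fun _ => List ℕ) (rw1844) (rw1845) (Nat.ble 1845 i)) (Bool.rec (motive := fun _ => List ℕ) (rw1846) (rw1847) (Nat.ble 1847 i)) (Nat.ble 1846 i)) (Nat.ble 1844 i)) (Bool.rec (motive := fun _ => List ℕ) (Bool.rec (motive := fun _ => List ℕ) (Bool.rec (motive := fun _ => List ℕ) (rw1848) (rw1849) (Nat.ble 1849 i)) (Bool.rec (motive := fun _ => List ℕ) (rw1850) (rw1851) (Nat.ble 1851 i)) (Nat.ble 1850 i)) (Bool.rec (motive := fun _ => List ℕ) (Bool.rec (motive := fun _ => List ℕ) (rw1852) (rw1853) (Nat.ble 1853 i)) (Bool.rec (motive := fun _ => List ℕ) (rw1854) (rw1855) (Nat.ble 1855 i)) (Nat.ble 1854 i)) (Nat.ble 1852 i)) (Nat.ble 1848 i)) (Nat.ble 1840 i)) (Nat.ble 1824 i)) (Bool.rec (motive := fun _ => List ℕ) (Bool.rec (motive := fun _ => List ℕ) (Bool.rec (motive := fun _ => List ℕ) (Bool.rec (motive := fun _ => List ℕ) (Bool.rec (motive := fun _ => List ℕ) (Bool.rec (motive := fun _ => List ℕ) (rw1856) (rw1857) (Nat.ble 1857 i)) (Bool.rec (motive := fun _ => List ℕ) (rw1858) (rw1859) (Nat.ble 1859 i)) (Nat.ble 1858 i)) (Bool.rec (motive := fun _ => List ℕ) (Bool.rec (motive := fun _ => List ℕ) (rw1860) (rw1861) (Nat.ble 1861 i)) (Bool.rec (motive := fun _ => List ℕ) (rw1862) (rw1863) (Nat.ble 1863 i)) (Nat.ble 1862 i)) (Nat.ble 1860 i)) (Bool.rec (motive := fun _ => List ℕ) (Bool.rec (motive := fun _ => List ℕ) (Bool.rec (motive := fun _ => List ℕ) (rw1864) (rw1865) (Nat.ble 1865 i)) (Bool.rec (motive := fun _ => List ℕ) (rw1866) (rw1867) (Nat.ble 1867 i)) (Nat.ble 1866 i)) (Bool.rec (motive := fun _ => List ℕ) (Bool.rec (motive := fun _ => List ℕ) (rw1868) (rw1869) (Nat.ble 1869 i)) (Bool.rec (motive := fun _ => List ℕ) (rw1870) (rw1871) (Nat.ble 1871 i)) (Nat.ble 1870 i)) (Nat.ble 1868 i)) (Nat.ble 1864 i)) (Bool.rec (motive := fun _ => List ℕ) (Bool.rec (motive := fun _ => List ℕ) (Bool.rec (motive := fun _ => List ℕ) (Bool.rec (motive := fun _ => List ℕ) (rw1872) (rw1873) (Nat.ble 1873 i)) (Bool.rec (motive := fun _ => List ℕ) (rw1874) (rw1875) (Nat.ble 1875 i)) (Nat.ble 1874 i)) (Bool.rec (motive := fun _ => List ℕ) (Bool.rec (motive := fun _ => List ℕ) (rw1876) (rw1877) (Nat.ble 1877 i)) (Bool.rec (motive := fun _ => List ℕ) (rw1878) (rw1879) (Nat.ble 1879 i)) (Nat.ble 1878 i)) (Nat.ble 1876 i)) (Bool.rec (motive := fun _ => List ℕ) (Bool.rec (motive := fun _ => List ℕ) (Bool.rec (motive := fun _ => List ℕ) (rw1880) (rw1881) (Nat.ble 1881 i)) (Bool.rec (motive := fun _ => List ℕ) (rw1882) (rw1883) (Nat.ble 1883 i)) (Nat.ble 1882 i)) (Bool.rec (motive := fun _ => List ℕ) (Bool.rec (motive := fun _ => List ℕ) (rw1884) (rw1885) (Nat.ble 1885 i)) (Bool.rec (motive := fun _ => List ℕ) (rw1886) (rw1887) (Nat.ble 1887 i)) (Nat.ble 1886 i)) (Nat.ble 1884 i)) (Nat.ble 1880 i)) (Nat.ble 1872 i)) (Bool.rec (motive := fun _ => List ℕ) (Bool.rec (motive := fun _ => List ℕ) (Bool.rec (motive := fun _ => List ℕ) (Bool.rec (motive := fun _ => List ℕ) (Bool.rec (motive := fun _ => List ℕ) (rw1888) (rw1889) (Nat.ble 1889 i)) (Bool.rec (motive := fun _ => List ℕ) (rw1890) (rw1891) (Nat.ble 1891 i)) (Nat.ble 1890 i)) (Bool.rec (motive := fun _ => List ℕ) (Bool.rec (motive := fun _ => List ℕ) (rw1892) (rw1893) (Nat.ble 1893 i)) (Bool.rec (motive := fun _ => List ℕ) (rw1894) (rw1895) (Nat.ble 1895 i)) (Nat.ble 1894 i)) (Nat.ble 1892 i)) (Bool.rec (motive := fun _ => List ℕ) (Bool.rec (motive := fun _ => List ℕ) (Bool.rec (motive := fun _ => List ℕ) (rw1896) (rw1897) (Nat.ble 1897 i)) (Bool.rec (motive := fun _ => List ℕ) (rw1898) (rw1899) (Nat.ble 1899 i)) (Nat.ble 1898 i)) (Bool.rec (motive := fun _ => List ℕ) (Bool.rec (motive := fun _ => List ℕ) (rw1900) (rw1901) (Nat.ble 1901 i)) (Bool.rec (motive := fun _ => List ℕ) (rw1902) (rw1903) (Nat.ble 1903 i)) (Nat.ble 1902 i)) (Nat.ble 1900 i)) (Nat.ble 1896 i)) (Bool.rec (motive := fun _ => List ℕ) (Bool.rec (motive := fun _ => List ℕ) (Bool.rec (motive := fun _ => List ℕ) (Bool.rec (motive := fun _ => List ℕ) (rw1904) (rw1905) (Nat.ble 1905 i)) (Bool.rec (motive := fun _ => List ℕ) (rw1906) (rw1907) (Nat.ble 1907 i)) (Nat.ble 1906 i)) (Bool.rec (motive := fun _ => List ℕ) (Bool.rec (motive := fun _ => List ℕ) (rw1908) (rw1909) (Nat.ble 1909 i)) (Bool.rec (motive := fun _ => List ℕ) (rw1910) (rw1911) (Nat.ble 1911 i)) (Nat.ble 1910 i)) (Nat.ble 1908 i)) (Bool.rec (motive := fun _ => List ℕ) (Bool.rec (motive := fun _ => List ℕ) (Bool.rec (motive := fun _ => List ℕ) (rw1912) (rw1913) (Nat.ble 1913 i)) (Bool.rec (motive := fun _ => List ℕ) (rw1914) (rw1915) (Nat.ble 1915 i)) (Nat.ble 1914 i)) (Bool.rec (motive := fun _ => List ℕ) (Bool.rec (motive := fun _ => List ℕ) (rw1916) (rw1917) (Nat.ble 1917 i)) (Bool.rec (motive := fun _ => List ℕ) (rw1918) (rw1919) (Nat.ble 1919 i)) (Nat.ble 1918 i)) (Nat.ble 1916 i)) (Nat.ble 1912 i)) (Nat.ble 1904 i)) (Nat.ble 1888 i)) (Nat.ble 1856 i)) (Bool.rec (motive := fun _ => List ℕ) (Bool.rec (motive := fun _ => List ℕ) (Bool.rec (motive := fun _ => List ℕ) (Bool.rec (motive := fun _ => List ℕ) (Bool.rec (motive := fun _ => List ℕ) (Bool.rec (motive := fun _ => List ℕ) (Bool.rec (motive := fun _ => List ℕ) (rw1920) (rw1921) (Nat.ble 1921 i)) (Bool.rec (motive := fun _ => List ℕ) (rw1922) (rw1923) (Nat.ble 1923 i)) (Nat.ble 1922 i)) (Bool.rec (motive := fun _ => List ℕ) (Bool.rec (motive := fun _ => List ℕ) (rw1924) (rw1925) (Nat.ble 1925 i)) (Bool.rec (motive := fun _ => List ℕ) (rw1926) (rw1927) (Nat.ble 1927 i)) (Nat.ble 1926 i)) (Nat.ble 1924 i)) (Bool.rec (motive := fun _ => List ℕ) (Bool.rec (motive := fun _ => List ℕ) (Bool.rec (motive := fun _ => List ℕ) (rw1928) (rw1929) (Nat.ble 1929 i)) (Bool.rec (motive := fun _ => List ℕ) (rw1930) (rw1931) (Nat.ble 1931 i)) (Nat.ble 1930 i)) (Bool.rec (motive := fun _ => List ℕ) (Bool.rec (motive := fun _ => List ℕ) (rw1932) (rw1933) (Nat.ble 1933 i)) (Bool.rec (motive := fun _ => List ℕ) (rw1934) (rw1935) (Nat.ble 1935 i)) (Nat.ble 1934 i)) (Nat.ble 1932 i)) (Nat.ble 1928 i)) (Bool.rec (motive := fun _ => List ℕ) (Bool.rec (motive := fun _ => List ℕ) (Bool.rec (motive := fun _ => List ℕ) (Bool.rec (motive := fun _ => List ℕ) (rw1936) (rw1937) (Nat.ble 1937 i)) (Bool.rec (motive := fun _ => List ℕ) (rw1938) (rw1939) (Nat.ble 1939 i)) (Nat.ble 1938 i)) (Bool.rec (motive := fun _ => List ℕ) (Bool.rec (motive := fun _ => List ℕ) (rw1940) (rw1941) (Nat.ble 1941 i)) (Bool.rec (motive := fun _ => List ℕ) (rw1942) (rw1943) (Nat.ble 1943 i)) (Nat.ble 1942 i)) (Nat.ble 1940 i)) (Bool.rec (motive := fun _ => List ℕ) (Bool.rec (motive := fun _ => List ℕ) (Bool.rec (motive := fun _ => List ℕ) (rw1944) (rw1945) (Nat.ble 1945 i)) (Bool.rec (motive := fun _ => List ℕ) (rw1946) (rw1947) (Nat.ble 1947 i)) (Nat.ble 1946 i)) (Bool.rec (motive := fun _ => List ℕ) (Bool.rec (motive := fun _ => List ℕ) (rw1948) (rw1949) (Nat.ble 1949 i)) (Bool.rec (motive := fun _ => List ℕ) (rw1950) (rw1951) (Nat.ble 1951 i)) (Nat.ble 1950 i)) (Nat.ble 1948 i)) (Nat.ble 1944 i)) (Nat.ble 1936 i)) (Bool.rec (motive := fun _ => List ℕ) (Bool.rec (motive := fun _ => List ℕ) (Bool.rec (motive := fun _ => List ℕ) (Bool.rec (motive := fun _ => List ℕ) (Bool.rec (motive := fun _ => List ℕ) (rw1952) (rw1953) (Nat.ble 1953 i)) (Bool.rec (motive := fun _ => List ℕ) (rw1954) (rw1955) (Nat.ble 1955 i)) (Nat.ble 1954 i)) (Bool.rec (motive := fun _ => List ℕ) (Bool.rec (motive := fun _ => List ℕ) (rw1956) (rw1957) (Nat.ble 1957 i)) (Bool.rec (motive := fun _ => List ℕ) (rw1958) (rw1959) (Nat.ble 1959 i)) (Nat.ble 1958 i)) (Nat.ble 1956 i)) (Bool.rec (motive := fun _ => List ℕ) (Bool.rec (motive := fun _ => List ℕ) (Bool.rec (motive := fun _ => List ℕ) (rw1960) (rw1961) (Nat.ble 1961 i)) (Bool.rec (motive := fun _ => List ℕ) (rw1962) (rw1963) (Nat.ble 1963 i)) (Nat.ble 1962 i)) (Bool.rec (motive := fun _ => List ℕ) (Bool.rec (motive := fun _ => List ℕ) (rw1964) (rw1965) (Nat.ble 1965 i)) (Bool.rec (motive := fun _ => List ℕ) (rw1966) (rw1967) (Nat.ble 1967 i)) (Nat.ble 1966 i)) (Nat.ble 1964 i)) (Nat.ble 1960 i)) (Bool.rec (motive := fun _ => List ℕ) (Bool.rec (motive := fun _ => List ℕ) (Bool.rec (motive := fun _ => List ℕ) (Bool.rec (motive := fun _ => List ℕ) (rw1968) (rw1969) (Nat.ble 1969 i)) (Bool.rec (motive := fun _ => List ℕ) (rw1970) (rw1971) (Nat.ble 1971 i)) (Nat.ble 1970 i)) (Bool.rec (motive := fun _ => List ℕ) (Bool.rec (motive := fun _ => List ℕ) (rw1972) (rw1973) (Nat.ble 1973 i)) (Bool.rec (motive := fun _ => List ℕ) (rw1974) (rw1975) (Nat.ble 1975 i)) (Nat.ble 1974 i)) (Nat.ble 1972 i)) (Bool.rec (motive := fun _ => List ℕ) (Bool.rec (motive := fun _ => List ℕ) (Bool.rec (motive := fun _ => List ℕ) (rw1976) (rw1977) (Nat.ble 1977 i)) (Bool.rec (motive := fun _ => List ℕ) (rw1978) (rw1979) (Nat.ble 1979 i)) (Nat.ble 1978 i)) (Bool.rec (motive := fun _ => List ℕ) (Bool.rec (motive := fun _ => List ℕ) (rw1980) (rw1981) (Nat.ble 1981 i)) (Bool.rec (motive := fun _ => List ℕ) (rw1982) (rw1983) (Nat.ble 1983 i)) (Nat.ble 1982 i)) (Nat.ble 1980 i)) (Nat.ble 1976 i)) (Nat.ble 1968 i)) (Nat.ble 1952 i)) (Bool.rec (motive := fun _ => List ℕ) (Bool.rec (motive := fun _ => List ℕ) (Bool.rec (motive := fun _ => List ℕ) (Bool.rec (motive := fun _ => List ℕ) (Bool.rec (motive := fun _ => List ℕ) (Bool.rec (motive := fun _ => List ℕ) (rw1984) (rw1985) (Nat.ble 1985 i)) (Bool.rec (motive := fun _ => List ℕ) (rw1986) (rw1987) (Nat.ble 1987 i)) (Nat.ble 1986 i)) (Bool.rec (motive := fun _ => List ℕ) (Bool.rec (motive := fun _ => List ℕ) (rw1988) (rw1989) (Nat.ble 1989 i)) (Bool.rec (motive := fun _ => List ℕ) (rw1990) (rw1991) (Nat.ble 1991 i)) (Nat.ble 1990 i)) (Nat.ble 1988 i)) (Bool.rec (motive := fun _ => List ℕ) (Bool.rec (motive := fun _ => List ℕ) (Bool.rec (motive := fun _ => List ℕ) (rw1992) (rw1993) (Nat.ble 1993 i)) (Bool.rec (motive := fun _ => List ℕ) (rw1994) (rw1995) (Nat.ble 1995 i)) (Nat.ble 1994 i)) (Bool.rec (motive := fun _ => List ℕ) (Bool.rec (motive := fun _ => List ℕ) (rw1996) (rw1997) (Nat.ble 1997 i)) (Bool.rec (motive := fun _ => List ℕ) (rw1998) (rw1999) (Nat.ble 1999 i)) (Nat.ble 1998 i)) (Nat.ble 1996 i)) (Nat.ble 1992 i)) (Bool.rec (motive := fun _ => List ℕ) (Bool.rec (motive := fun _ => List ℕ) (Bool.rec (motive := fun _ => List ℕ) (Bool.rec (motive := fun _ => List ℕ) (rw2000) (rw2001) (Nat.ble 2001 i)) (Bool.rec (motive := fun _ => List ℕ) (rw2002) (rw2003) (Nat.ble 2003 i)) (Nat.ble 2002 i)) (Bool.rec (motive := fun _ => List ℕ) (Bool.rec (motive := fun _ => List ℕ) (rw2004) (rw2005) (Nat.ble 2005 i)) (Bool.rec (motive := fun _ => List ℕ) (rw2006) (rw2007) (Nat.ble 2007 i)) (Nat.ble 2006 i)) (Nat.ble 2004 i)) (Bool.rec (motive := fun _ => List ℕ) (Bool.rec (motive := fun _ => List ℕ) (Bool.rec (motive := fun _ => List ℕ) (rw2008) (rw2009) (Nat.ble 2009 i)) (Bool.rec (motive := fun _ => List ℕ) (rw2010) (rw2011) (Nat.ble 2011 i)) (Nat.ble 2010 i)) (Bool.rec (motive := fun _ => List ℕ) (Bool.rec (motive := fun _ => List ℕ) (rw2012) (rw2013) (Nat.ble 2013 i)) (Bool.rec (motive := fun _ => List ℕ) (rw2014) (rw2015) (Nat.ble 2015 i)) (Nat.ble 2014 i)) (Nat.ble 2012 i)) (Nat.ble 2008 i)) (Nat.ble 2000 i)) (Bool.rec (motive := fun _ => List ℕ) (Bool.rec (motive := fun _ => List ℕ) (Bool.rec (motive := fun _ => List ℕ) (Bool.rec (motive := fun _ => List ℕ) (Bool.rec (motive := fun _ => List ℕ) (rw2016) (rw2017) (Nat.ble 2017 i)) (Bool.rec (motive := fun _ => List ℕ) (rw2018) (rw2019) (Nat.ble 2019 i)) (Nat.ble 2018 i)) (Bool.rec (motive := fun _ => List ℕ) (Bool.rec (motive := fun _ => List ℕ) (rw2020) (rw2021) (Nat.ble 2021 i)) (Bool.rec (motive := fun _ => List ℕ) (rw2022) (rw2023) (Nat.ble 2023 i)) (Nat.ble 2022 i)) (Nat.ble 2020 i)) (Bool.rec (motive := fun _ => List ℕ) (Bool.rec (motive := fun _ => List ℕ) (Bool.rec (motive := fun _ => List ℕ) (rw2024) (rw2025) (Nat.ble 2025 i)) (Bool.rec (motive := fun _ => List ℕ) (rw2026) (rw2027) (Nat.ble 2027 i)) (Nat.ble 2026 i)) (Bool.rec (motive := fun _ => List ℕ) (Bool.rec (motive := fun _ => List ℕ) (rw2028) (rw2029) (Nat.ble 2029 i)) (Bool.rec (motive := fun _ => List ℕ) (rw2030) (rw2031) (Nat.ble 2031 i)) (Nat.ble 2030 i)) (Nat.ble 2028 i)) (Nat.ble 2024 i)) (Bool.rec (motive := fun _ => List ℕ) (Bool.rec (motive := fun _ => List ℕ) (Bool.rec (motive := fun _ => List ℕ) (Bool.rec (motive := fun _ => List ℕ) (rw2032) (rw2033) (Nat.ble 2033 i)) (Bool.rec (motive := fun _ => List ℕ) (rw2034) (rw2035) (Nat.ble 2035 i)) (Nat.ble 2034 i)) (Bool.rec (motive := fun _ => List ℕ) (Bool.rec (motive := fun _ => List ℕ) (rw2036) (rw2037) (Nat.ble 2037 i)) (Bool.rec (motive := fun _ => List ℕ) (rw2038) (rw2039) (Nat.ble 2039 i)) (Nat.ble 2038 i)) (Nat.ble 2036 i)) (Bool.rec (motive := fun _ => List ℕ) (Bool.rec (motive := fun _ => List ℕ) (Bool.rec (motive := fun _ => List ℕ) (rw2040) (rw2041) (Nat.ble 2041 i)) (Bool.rec (motive := fun _ => List ℕ) (rw2042) (rw2043) (Nat.ble 2043 i)) (Nat.ble 2042 i)) (Bool.rec (motive := fun _ => List ℕ) (Bool.rec (motive := fun _ => List ℕ) (rw2044) (rw2045) (Nat.ble 2045 i)) (Bool.rec (motive := fun _ => List ℕ) (rw2046) (rw2047) (Nat.ble 2047 i)) (Nat.ble 2046 i)) (Nat.ble 2044 i)) (Nat.ble 2040 i)) (Nat.ble 2032 i)) (Nat.ble 2016 i)) (Nat.ble 1984 i)) (Nat.ble 1920 i)) (Nat.ble 1792 i)) (Nat.ble 1536 i)) (Nat.ble 1024 i)) (Bool.rec (motive := fun _ => List ℕ) (Bool.rec (motive := fun _ => List ℕ) (Bool.rec (motive := fun _ => List ℕ) (Bool.rec (motive := fun _ => List ℕ) (Bool.rec (motive := fun _ => List ℕ) (Bool.rec (motive := fun _ => List ℕ) (Bool.rec (motive := fun _ => List ℕ) (Bool.rec (motive := fun _ => List ℕ) (Bool.rec (motive := fun _ => List ℕ) (Bool.rec (motive := fun _ => List ℕ) (Bool.rec (motive := fun _ => List ℕ) (rw2048) (rw2049) (Nat.ble 2049 i)) (Bool.rec (motive := fun _ => List ℕ) (rw2050) (rw2051) (Nat.ble 2051 i)) (Nat.ble 2050 i)) (Bool.rec (motive := fun _ => List ℕ) (Bool.rec (motive := fun _ => List ℕ) (rw2052) (rw2053) (Nat.ble 2053 i)) (Bool.rec (motive := fun _ => List ℕ) (rw2054) (rw2055) (Nat.ble 2055 i)) (Nat.ble 2054 i)) (Nat.ble 2052 i)) (Bool.rec (motive := fun _ => List ℕ) (Bool.rec (motive := fun _ => List ℕ) (Bool.rec (motive := fun _ => List ℕ) (rw2056) (rw2057) (Nat.ble 2057 i)) (Bool.rec (motive := fun _ => List ℕ) (rw2058) (rw2059) (Nat.ble 2059 i)) (Nat.ble 2058 i)) (Bool.rec (motive := fun _ => List ℕ) (Bool.rec (motive := fun _ => List ℕ) (rw2060) (rw2061) (Nat.ble 2061 i)) (Bool.rec (motive := fun _ => List ℕ) (rw2062) (rw2063) (Nat.ble 2063 i)) (Nat.ble 2062 i)) (Nat.ble 2060 i)) (Nat.ble 2056 i)) (Bool.rec (motive := fun _ => List ℕ) (Bool.rec (motive := fun _ => List ℕ) (Bool.rec (motive := fun _ => List ℕ) (Bool.rec (motive := fun _ => List ℕ) (rw2064) (rw2065) (Nat.ble 2065 i)) (Bool.rec (motive := fun _ => List ℕ) (rw2066) (rw2067) (Nat.ble 2067 i)) (Nat.ble 2066 i)) (Bool.rec (motive := fun _ => List ℕ) (Bool.rec (motive := fun _ => List ℕ) (rw2068) (rw2069) (Nat.ble 2069 i)) (Bool.rec (motive := fun _ => List ℕ) (rw2070) (rw2071) (Nat.ble 2071 i)) (Nat.ble 2070 i)) (Nat.ble 2068 i)) (Bool.rec (motive := fun _ => List ℕ) (Bool.rec (motive := fun _ => List ℕ) (Bool.rec (motive := fun _ => List ℕ) (rw2072) (rw2073) (Nat.ble 2073 i)) (Bool.rec (motive := fun _ => List ℕ) (rw2074) (rw2075) (Nat.ble 2075 i)) (Nat.ble 2074 i)) (Bool.rec (motive := fun _ => List ℕ) (Bool.rec (motive := fun _ => List ℕ) (rw2076) (rw2077) (Nat.ble 2077 i)) (Bool.rec (motive := fun _ => List ℕ) (rw2078) (rw2079) (Nat.ble 2079 i)) (Nat.ble 2078 i)) (Nat.ble 2076 i)) (Nat.ble 2072 i)) (Nat.ble 2064 i)) (Bool.rec (motive := fun _ => List ℕ) (Bool.rec (motive := fun _ => List ℕ) (Bool.rec (motive := fun _ => List ℕ) (Bool.rec (motive := fun _ => List ℕ) (Bool.rec (motive := fun _ => List ℕ) (rw2080) (rw2081) (Nat.ble 2081 i)) (Bool.rec (motive := fun _ => List ℕ) (rw2082) (rw2083) (Nat.ble 2083 i)) (Nat.ble 2082 i)) (Bool.rec (motive := fun _ => List ℕ) (Bool.rec (motive := fun _ => List ℕ) (rw2084) (rw2085) (Nat.ble 2085 i)) (Bool.rec (motive := fun _ => List ℕ) (rw2086) (rw2087) (Nat.ble 2087 i)) (Nat.ble 2086 i)) (Nat.ble 2084 i)) (Bool.rec (motive := fun _ => List ℕ) (Bool.rec (motive := fun _ => List ℕ) (Bool.rec (motive := fun _ => List ℕ) (rw2088) (rw2089) (Nat.ble 2089 i)) (Bool.rec (motive := fun _ => List ℕ) (rw2090) (rw2091) (Nat.ble 2091 i)) (Nat.ble 2090 i)) (Bool.rec (motive := fun _ => List ℕ) (Bool.rec (motive := fun _ => List ℕ) (rw2092) (rw2093) (Nat.ble 2093 i)) (Bool.rec (motive := fun _ => List ℕ) (rw2094) (rw2095) (Nat.ble 2095 i)) (Nat.ble 2094 i)) (Nat.ble 2092 i)) (Nat.ble 2088 i)) (Bool.rec (motive := fun _ => List ℕ) (Bool.rec (motive := fun _ => List ℕ) (Bool.rec (motive := fun _ => List ℕ) (Bool.rec (motive := fun _ => List ℕ) (rw2096) (rw2097) (Nat.ble 2097 i)) (Bool.rec (motive := fun _ => List ℕ) (rw2098) (rw2099) (Nat.ble 2099 i)) (Nat.ble 2098 i)) (Bool.rec (motive := fun _ => List ℕ) (Bool.rec (motive := fun _ => List ℕ) (rw2100) (rw2101) (Nat.ble 2101 i)) (Bool.rec (motive := fun _ => List ℕ) (rw2102) (rw2103) (Nat.ble 2103 i)) (Nat.ble 2102 i)) (Nat.ble 2100 i)) (Bool.rec (motive := fun _ => List ℕ) (Bool.rec (motive := fun _ => List ℕ) (Bool.rec (motive := fun _ => List ℕ) (rw2104) (rw2105) (Nat.ble 2105 i)) (Bool.rec (motive := fun _ => List ℕ) (rw2106) (rw2107) (Nat.ble 2107 i)) (Nat.ble 2106 i)) (Bool.rec (motive := fun _ => List ℕ) (Bool.rec (motive := fun _ => List ℕ) (rw2108) (rw2109) (Nat.ble 2109 i)) (Bool.rec (motive := fun _ => List ℕ) (rw2110) (rw2111) (Nat.ble 2111 i)) (Nat.ble 2110 i)) (Nat.ble 2108 i)) (Nat.ble 2104 i)) (Nat.ble 2096 i)) (Nat.ble 2080 i)) (Bool.rec (motive := fun _ => List ℕ) (Bool.rec (motive := fun _ => List ℕ) (Bool.rec (motive := fun _ => List ℕ) (Bool.rec (motive := fun _ => List ℕ) (Bool.rec (motive := fun _ => List ℕ) (Bool.rec (motive := fun _ => List ℕ) (rw2112) (rw2113) (Nat.ble 2113 i)) (Bool.rec (motive := fun _ => List ℕ) (rw2114) (rw2115) (Nat.ble 2115 i)) (Nat.ble 2114 i)) (Bool.rec (motive := fun _ => List ℕ) (Bool.rec (motive := fun _ => List ℕ) (rw2116) (rw2117) (Nat.ble 2117 i)) (Bool.rec (motive := fun _ => List ℕ) (rw2118) (rw2119) (Nat.ble 2119 i)) (Nat.ble 2118 i)) (Nat.ble 2116 i)) (Bool.rec (motive := fun _ => List ℕ) (Bool.rec (motive := fun _ => List ℕ) (Bool.rec (motive := fun _ => List ℕ) (rw2120) (rw2121) (Nat.ble 2121 i)) (Bool.rec (motive := fun _ => List ℕ) (rw2122) (rw2123) (Nat.ble 2123 i)) (Nat.ble 2122 i)) (Bool.rec (motive := fun _ => List ℕ) (Bool.rec (motive := fun _ => List ℕ) (rw2124) (rw2125) (Nat.ble 2125 i)) (Bool.rec (motive := fun _ => List ℕ) (rw2126) (rw2127) (Nat.ble 2127 i)) (Nat.ble 2126 i)) (Nat.ble 2124 i)) (Nat.ble 2120 i)) (Bool.rec (motive := fun _ => List ℕ) (Bool.rec (motive := fun _ => List ℕ) (Bool.rec (motive := fun _ => List ℕ) (Bool.rec (motive := fun _ => List ℕ) (rw2128) (rw2129) (Nat.ble 2129 i)) (Bool.rec (motive := fun _ => List ℕ) (rw2130) (rw2131) (Nat.ble 2131 i)) (Nat.ble 2130 i)) (Bool.rec (motive := fun _ => List ℕ) (Bool.rec (motive := fun _ => List ℕ) (rw2132) (rw2133) (Nat.ble 2133 i)) (Bool.rec (motive := fun _ => List ℕ) (rw2134) (rw2135) (Nat.ble 2135 i)) (Nat.ble 2134 i)) (Nat.ble 2132 i)) (Bool.rec (motive := fun _ => List ℕ) (Bool.rec (motive := fun _ => List ℕ) (Bool.rec (motive := fun _ => List ℕ) (rw2136) (rw2137) (Nat.ble 2137 i)) (Bool.rec (motive := fun _ => List ℕ) (rw2138) (rw2139) (Nat.ble 2139 i)) (Nat.ble 2138 i)) (Bool.rec (motive := fun _ => List ℕ) (Bool.rec (motive := fun _ => List ℕ) (rw2140) (rw2141) (Nat.ble 2141 i)) (Bool.rec (motive := fun _ => List ℕ) (rw2142) (rw2143) (Nat.ble 2143 i)) (Nat.ble 2142 i)) (Nat.ble 2140 i)) (Nat.ble 2136 i)) (Nat.ble 2128 i)) (Bool.rec (motive := fun _ => List ℕ) (Bool.rec (motive := fun _ => List ℕ) (Bool.rec (motive := fun _ => List ℕ) (Bool.rec (motive := fun _ => List ℕ) (Bool.rec (motive := fun _ => List ℕ) (rw2144) (rw2145) (Nat.ble 2145 i)) (Bool.rec (motive := fun _ => List ℕ) (rw2146) (rw2147) (Nat.ble 2147 i)) (Nat.ble 2146 i)) (Bool.rec (motive := fun _ => List ℕ) (Bool.rec (motive := fun _ => List ℕ) (rw2148) (rw2149) (Nat.ble 2149 i)) (Bool.rec (motive := fun _ => List ℕ) (rw2150) (rw2151) (Nat.ble 2151 i)) (Nat.ble 2150 i)) (Nat.ble 2148 i)) (Bool.rec (motive := fun _ => List ℕ) (Bool.rec (motive := fun _ => List ℕ) (Bool.rec (motive := fun _ => List ℕ) (rw2152) (rw2153) (Nat.ble 2153 i)) (Bool.rec (motive := fun _ => List ℕ) (rw2154) (rw2155) (Nat.ble 2155 i)) (Nat.ble 2154 i)) (Bool.rec (motive := fun _ => List ℕ) (Bool.rec (motive := fun _ => List ℕ) (rw2156) (rw2157) (Nat.ble 2157 i)) (Bool.rec (motive := fun _ => List ℕ) (rw2158) (rw2159) (Nat.ble 2159 i)) (Nat.ble 2158 i)) (Nat.ble 2156 i)) (Nat.ble 2152 i)) (Bool.rec (motive := fun _ => List ℕ) (Bool.rec (motive := fun _ => List ℕ) (Bool.rec (motive := fun _ => List ℕ) (Bool.rec (motive := fun _ => List ℕ) (rw2160) (rw2161) (Nat.ble 2161 i)) (Bool.rec (motive := fun _ => List ℕ) (rw2162) (rw2163) (Nat.ble 2163 i)) (Nat.ble 2162 i)) (Bool.rec (motive := fun _ => List ℕ) (Bool.rec (motive := fun _ => List ℕ) (rw2164) (rw2165) (Nat.ble 2165 i)) (Bool.rec (motive := fun _ => List ℕ) (rw2166) (rw2167) (Nat.ble 2167 i)) (Nat.ble 2166 i)) (Nat.ble 2164 i)) (Bool.rec (motive := fun _ => List ℕ) (Bool.rec (motive := fun _ => List ℕ) (Bool.rec (motive := fun _ => List ℕ) (rw2168) (rw2169) (Nat.ble 2169 i)) (Bool.rec (motive := fun _ => List ℕ) (rw2170) (rw2171) (Nat.ble 2171 i)) (Nat.ble 2170 i)) (Bool.rec (motive := fun _ => List ℕ) (Bool.rec (motive := fun _ => List ℕ) (rw2172) (rw2173) (Nat.ble 2173 i)) (Bool.rec (motive := fun _ => List ℕ) (rw2174) (rw2175) (Nat.ble 2175 i)) (Nat.ble 2174 i)) (Nat.ble 2172 i)) (Nat.ble 2168 i)) (Nat.ble 2160 i)) (Nat.ble 2144 i)) (Nat.ble 2112 i)) (Bool.rec (motive := fun _ => List ℕ) (Bool.rec (motive := fun _ => List ℕ) (Bool.rec (motive := fun _ => List ℕ) (Bool.rec (motive := fun _ => List ℕ) (Bool.rec (motive := fun _ => List ℕ) (Bool.rec (motive := fun _ => List ℕ) (Bool.rec (motive := fun _ => List ℕ) (rw2176) (rw2177) (Nat.ble 2177 i)) (Bool.rec (motive := fun _ => List ℕ) (rw2178) (rw2179) (Nat.ble 2179 i)) (Nat.ble 2178 i)) (Bool.rec (motive := fun _ => List ℕ) (Bool.rec (motive := fun _ => List ℕ) (rw2180) (rw2181) (Nat.ble 2181 i)) (Bool.rec (motive := fun _ => List ℕ) (rw2182) (rw2183) (Nat.ble 2183 i)) (Nat.ble 2182 i)) (Nat.ble 2180 i)) (Bool.rec (motive := fun _ => List ℕ) (Bool.rec (motive := fun _ => List ℕ) (Bool.rec (motive := fun _ => List ℕ) (rw2184) (rw2185) (Nat.ble 2185 i)) (Bool.rec (motive := fun _ => List ℕ) (rw2186) (rw2187) (Nat.ble 2187 i)) (Nat.ble 2186 i)) (Bool.rec (motive := fun _ => List ℕ) (Bool.rec (motive := fun _ => List ℕ) (rw2188) (rw2189) (Nat.ble 2189 i)) (Bool.rec (motive := fun _ => List ℕ) (rw2190) (rw2191) (Nat.ble 2191 i)) (Nat.ble 2190 i)) (Nat.ble 2188 i)) (Nat.ble 2184 i)) (Bool.rec (motive := fun _ => List ℕ) (Bool.rec (motive := fun _ => List ℕ) (Bool.rec (motive := fun _ => List ℕ) (Bool.rec (motive := fun _ => List ℕ) (rw2192) (rw2193) (Nat.ble 2193 i)) (Bool.rec (motive := fun _ => List ℕ) (rw2194) (rw2195) (Nat.ble 2195 i)) (Nat.ble 2194 i)) (Bool.rec (motive := fun _ => List ℕ) (Bool.rec (motive := fun _ => List ℕ) (rw2196) (rw2197) (Nat.ble 2197 i)) (Bool.rec (motive := fun _ => List ℕ) (rw2198) (rw2199) (Nat.ble 2199 i)) (Nat.ble 2198 i)) (Nat.ble 2196 i)) (Bool.rec (motive := fun _ => List ℕ) (Bool.rec (motive := fun _ => List ℕ) (Bool.rec (motive := fun _ => List ℕ) (rw2200) (rw2201) (Nat.ble 2201 i)) (Bool.rec (motive := fun _ => List ℕ) (rw2202) (rw2203) (Nat.ble 2203 i)) (Nat.ble 2202 i)) (Bool.rec (motive := fun _ => List ℕ) (Bool.rec (motive := fun _ => List ℕ) (rw2204) (rw2205) (Nat.ble 2205 i)) (Bool.rec (motive := fun _ => List ℕ) (rw2206) (rw2207) (Nat.ble 2207 i)) (Nat.ble 2206 i)) (Nat.ble 2204 i)) (Nat.ble 2200 i)) (Nat.ble 2192 i)) (Bool.rec (motive := fun _ => List ℕ) (Bool.rec (motive := fun _ => List ℕ) (Bool.rec (motive := fun _ => List ℕ) (Bool.rec (motive := fun _ => List ℕ) (Bool.rec (motive := fun _ => List ℕ) (rw2208) (rw2209) (Nat.ble 2209 i)) (Bool.rec (motive := fun _ => List ℕ) (rw2210) (rw2211) (Nat.ble 2211 i)) (Nat.ble 2210 i)) (Bool.rec (motive := fun _ => List ℕ) (Bool.rec (motive := fun _ => List ℕ) (rw2212) (rw2213) (Nat.ble 2213 i)) (Bool.rec (motive := fun _ => List ℕ) (rw2214) (rw2215) (Nat.ble 2215 i)) (Nat.ble 2214 i)) (Nat.ble 2212 i)) (Bool.rec (motive := fun _ => List ℕ) (Bool.rec (motive := fun _ => List ℕ) (Bool.rec (motive := fun _ => List ℕ) (rw2216) (rw2217) (Nat.ble 2217 i)) (Bool.rec (motive := fun _ => List ℕ) (rw2218) (rw2219) (Nat.ble 2219 i)) (Nat.ble 2218 i)) (Bool.rec (motive := fun _ => List ℕ) (Bool.rec (motive := fun _ => List ℕ) (rw2220) (rw2221) (Nat.ble 2221 i)) (Bool.rec (motive := fun _ => List ℕ) (rw2222) (rw2223) (Nat.ble 2223 i)) (Nat.ble 2222 i)) (Nat.ble 2220 i)) (Nat.ble 2216 i)) (Bool.rec (motive := fun _ => List ℕ) (Bool.rec (motive := fun _ => List ℕ) (Bool.rec (motive := fun _ => List ℕ) (Bool.rec (motive := fun _ => List ℕ) (rw2224) (rw2225) (Nat.ble 2225 i)) (Bool.rec (motive := fun _ => List ℕ) (rw2226) (rw2227) (Nat.ble 2227 i)) (Nat.ble 2226 i)) (Bool.rec (motive := fun _ => List ℕ) (Bool.rec (motive := fun _ => List ℕ) (rw2228) (rw2229) (Nat.ble 2229 i)) (Bool.rec (motive := fun _ => List ℕ) (rw2230) (rw2231) (Nat.ble 2231 i)) (Nat.ble 2230 i)) (Nat.ble 2228 i)) (Bool.rec (motive := fun _ => List ℕ) (Bool.rec (motive := fun _ => List ℕ) (Bool.rec (motive := fun _ => List ℕ) (rw2232) (rw2233) (Nat.ble 2233 i)) (Bool.rec (motive := fun _ => List ℕ) (rw2234) (rw2235) (Nat.ble 2235 i)) (Nat.ble 2234 i)) (Bool.rec (motive := fun _ => List ℕ) (Bool.rec (motive := fun _ => List ℕ) (rw2236) (rw2237) (Nat.ble 2237 i)) (Bool.rec (motive := fun _ => List ℕ) (rw2238) (rw2239) (Nat.ble 2239 i)) (Nat.ble 2238 i)) (Nat.ble 2236 i)) (Nat.ble 2232 i)) (Nat.ble 2224 i)) (Nat.ble 2208 i)) (Bool.rec (motive := fun _ => List ℕ) (Bool.rec (motive := fun _ => List ℕ) (Bool.rec (motive := fun _ => List ℕ) (Bool.rec (motive := fun _ => List ℕ) (Bool.rec (motive := fun _ => List ℕ) (Bool.rec (motive := fun _ => List ℕ) (rw2240) (rw2241) (Nat.ble 2241 i)) (Bool.rec (motive := fun _ => List ℕ) (rw2242) (rw2243) (Nat.ble 2243 i)) (Nat.ble 2242 i)) (Bool.rec (motive := fun _ => List ℕ) (Bool.rec (motive := fun _ => List ℕ) (rw2244) (rw2245) (Nat.ble 2245 i)) (Bool.rec (motive := fun _ => List ℕ) (rw2246) (rw2247) (Nat.ble 2247 i)) (Nat.ble 2246 i)) (Nat.ble 2244 i)) (Bool.rec (motive := fun _ => List ℕ) (Bool.rec (motive := fun _ => List ℕ) (Bool.rec (motive := fun _ => List ℕ) (rw2248) (rw2249) (Nat.ble 2249 i)) (Bool.rec (motive := fun _ => List ℕ) (rw2250) (rw2251) (Nat.ble 2251 i)) (Nat.ble 2250 i)) (Bool.rec (motive := fun _ => List ℕ) (Bool.rec (motive := fun _ => List ℕ) (rw2252) (rw2253) (Nat.ble 2253 i)) (Bool.rec (motive := fun _ => List ℕ) (rw2254) (rw2255) (Nat.ble 2255 i)) (Nat.ble 2254 i)) (Nat.ble 2252 i)) (Nat.ble 2248 i)) (Bool.rec (motive := fun _ => List ℕ) (Bool.rec (motive := fun _ => List ℕ) (Bool.rec (motive := fun _ => List ℕ) (Bool.rec (motive := fun _ => List ℕ) (rw2256) (rw2257) (Nat.ble 2257 i)) (Bool.rec (motive := fun _ => List ℕ) (rw2258) (rw2259) (Nat.ble 2259 i)) (Nat.ble 2258 i)) (Bool.rec (motive := fun _ => List ℕ) (Bool.rec (motive := fun _ => List ℕ) (rw2260) (rw2261) (Nat.ble 2261 i)) (Bool.rec (motive := fun _ => List ℕ) (rw2262) (rw2263) (Nat.ble 2263 i)) (Nat.ble 2262 i)) (Nat.ble 2260 i)) (Bool.rec (motive := fun _ => List ℕ) (Bool.rec (motive := fun _ => List ℕ) (Bool.rec (motive := fun _ => List ℕ) (rw2264) (rw2265) (Nat.ble 2265 i)) (Bool.rec (motive := fun _ => List ℕ) (rw2266) (rw2267) (Nat.ble 2267 i)) (Nat.ble 2266 i)) (Bool.rec (motive := fun _ => List ℕ) (Bool.rec (motive := fun _ => List ℕ) (rw2268) (rw2269) (Nat.ble 2269 i)) (Bool.rec (motive := fun _ => List ℕ) (rw2270) (rw2271) (Nat.ble 2271 i)) (Nat.ble 2270 i)) (Nat.ble 2268 i)) (Nat.ble 2264 i)) (Nat.ble 2256 i)) (Bool.rec (motive := fun _ => List ℕ) (Bool.rec (motive := fun _ => List ℕ) (Bool.rec (motive := fun _ => List ℕ) (Bool.rec (motive := fun _ => List ℕ) (Bool.rec (motive := fun _ => List ℕ) (rw2272) (rw2273) (Nat.ble 2273 i)) (Bool.rec (motive := fun _ => List ℕ) (rw2274) (rw2275) (Nat.ble 2275 i)) (Nat.ble 2274 i)) (Bool.rec (motive := fun _ => List ℕ) (Bool.rec (motive := fun _ => List ℕ) (rw2276) (rw2277) (Nat.ble 2277 i)) (Bool.rec (motive := fun _ => List ℕ) (rw2278) (rw2279) (Nat.ble 2279 i)) (Nat.ble 2278 i)) (Nat.ble 2276 i)) (Bool.rec (motive := fun _ => List ℕ) (Bool.rec (motive := fun _ => List ℕ) (Bool.rec (motive := fun _ => List ℕ) (rw2280) (rw2281) (Nat.ble 2281 i)) (Bool.rec (motive := fun _ => List ℕ) (rw2282) (rw2283) (Nat.ble 2283 i)) (Nat.ble 2282 i)) (Bool.rec (motive := fun _ => List ℕ) (Bool.rec (motive := fun _ => List ℕ) (rw2284) (rw2285) (Nat.ble 2285 i)) (Bool.rec (motive := fun _ => List ℕ) (rw2286) (rw2287) (Nat.ble 2287 i)) (Nat.ble 2286 i)) (Nat.ble 2284 i)) (Nat.ble 2280 i)) (Bool.rec (motive := fun _ => List ℕ) (Bool.rec (motive := fun _ => List ℕ) (Bool.rec (motive := fun _ => List ℕ) (Bool.rec (motive := fun _ => List ℕ) (rw2288) (rw2289) (Nat.ble 2289 i)) (Bool.rec (motive := fun _ => List ℕ) (rw2290) (rw2291) (Nat.ble 2291 i)) (Nat.ble 2290 i)) (Bool.rec (motive := fun _ => List ℕ) (Bool.rec (motive := fun _ => List ℕ) (rw2292) (rw2293) (Nat.ble 2293 i)) (Bool.rec (motive := fun _ => List ℕ) (rw2294) (rw2295) (Nat.ble 2295 i)) (Nat.ble 2294 i)) (Nat.ble 2292 i)) (Bool.rec (motive := fun _ => List ℕ) (Bool.rec (motive := fun _ => List ℕ) (Bool.rec (motive := fun _ => List ℕ) (rw2296) (rw2297) (Nat.ble 2297 i)) (Bool.rec (motive := fun _ => List ℕ) (rw2298) (rw2299) (Nat.ble 2299 i)) (Nat.ble 2298 i)) (Bool.rec (motive := fun _ => List ℕ) (Bool.rec (motive := fun _ => List ℕ) (rw2300) (rw2301) (Nat.ble 2301 i)) (Bool.rec (motive := fun _ => List ℕ) (rw2302) (rw2303) (Nat.ble 2303 i)) (Nat.ble 2302 i)) (Nat.ble 2300 i)) (Nat.ble 2296 i)) (Nat.ble 2288 i)) (Nat.ble 2272 i)) (Nat.ble 2240 i)) (Nat.ble 2176 i)) (Bool.rec (motive := fun _ => List ℕ) (Bool.rec (motive := fun _ => List ℕ) (Bool.rec (motive := fun _ => List ℕ) (Bool.rec (motive := fun _ => List ℕ) (Bool.rec (motive := fun _ => List ℕ) (Bool.rec (motive := fun _ => List ℕ) (Bool.rec (motive := fun _ => List ℕ) (Bool.rec (motive := fun _ => List ℕ) (rw2304) (rw2305) (Nat.ble 2305 i)) (Bool.rec (motive := fun _ => List ℕ) (rw2306) (rw2307) (Nat.ble 2307 i)) (Nat.ble 2306 i)) (Bool.rec (motive := fun _ => List ℕ) (Bool.rec (motive := fun _ => List ℕ) (rw2308) (rw2309) (Nat.ble 2309 i)) (Bool.rec (motive := fun _ => List ℕ) (rw2310) (rw2311) (Nat.ble 2311 i)) (Nat.ble 2310 i)) (Nat.ble 2308 i)) (Bool.rec (motive := fun _ => List ℕ) (Bool.rec (motive := fun _ => List ℕ) (Bool.rec (motive := fun _ => List ℕ) (rw2312) (rw2313) (Nat.ble 2313 i)) (Bool.rec (motive := fun _ => List ℕ) (rw2314) (rw2315) (Nat.ble 2315 i)) (Nat.ble 2314 i)) (Bool.rec (motive := fun _ => List ℕ) (Bool.rec (motive := fun _ => List ℕ) (rw2316) (rw2317) (Nat.ble 2317 i)) (Bool.rec (motive := fun _ => List ℕ) (rw2318) (rw2319) (Nat.ble 2319 i)) (Nat.ble 2318 i)) (Nat.ble 2316 i)) (Nat.ble 2312 i)) (Bool.rec (motive := fun _ => List ℕ) (Bool.rec (motive := fun _ => List ℕ) (Bool.rec (motive := fun _ => List ℕ) (Bool.rec (motive := fun _ => List ℕ) (rw2320) (rw2321) (Nat.ble 2321 i)) (Bool.rec (motive := fun _ => List ℕ) (rw2322) (rw2323) (Nat.ble 2323 i)) (Nat.ble 2322 i)) (Bool.rec (motive := fun _ => List ℕ) (Bool.rec (motive := fun _ => List ℕ) (rw2324) (rw2325) (Nat.ble 2325 i)) (Bool.rec (motive := fun _ => List ℕ) (rw2326) (rw2327) (Nat.ble 2327 i)) (Nat.ble 2326 i)) (Nat.ble 2324 i)) (Bool.rec (motive := fun _ => List ℕ) (Bool.rec (motive := fun _ => List ℕ) (Bool.rec (motive := fun _ => List ℕ) (rw2328) (rw2329) (Nat.ble 2329 i)) (Bool.rec (motive := fun _ => List ℕ) (rw2330) (rw2331) (Nat.ble 2331 i)) (Nat.ble 2330 i)) (Bool.rec (motive := fun _ => List ℕ) (Bool.rec (motive := fun _ => List ℕ) (rw2332) (rw2333) (Nat.ble 2333 i)) (Bool.rec (motive := fun _ => List ℕ) (rw2334) (rw2335) (Nat.ble 2335 i)) (Nat.ble 2334 i)) (Nat.ble 2332 i)) (Nat.ble 2328 i)) (Nat.ble 2320 i)) (Bool.rec (motive := fun _ => List ℕ) (Bool.rec (motive := fun _ => List ℕ) (Bool.rec (motive := fun _ => List ℕ) (Bool.rec (motive := fun _ => List ℕ) (Bool.rec (motive := fun _ => List ℕ) (rw2336) (rw2337) (Nat.ble 2337 i)) (Bool.rec (motive := fun _ => List ℕ) (rw2338) (rw2339) (Nat.ble 2339 i)) (Nat.ble 2338 i)) (Bool.rec (motive := fun _ => List ℕ) (Bool.rec (motive := fun _ => List ℕ) (rw2340) (rw2341) (Nat.ble 2341 i)) (Bool.rec (motive := fun _ => List ℕ) (rw2342) (rw2343) (Nat.ble 2343 i)) (Nat.ble 2342 i)) (Nat.ble 2340 i)) (Bool.rec (motive := fun _ => List ℕ) (Bool.rec (motive := fun _ => List ℕ) (Bool.rec (motive := fun _ => List ℕ) (rw2344) (rw2345) (Nat.ble 2345 i)) (Bool.rec (motive := fun _ => List ℕ) (rw2346) (rw2347) (Nat.ble 2347 i)) (Nat.ble 2346 i)) (Bool.rec (motive := fun _ => List ℕ) (Bool.rec (motive := fun _ => List ℕ) (rw2348) (rw2349) (Nat.ble 2349 i)) (Bool.rec (motive := fun _ => List ℕ) (rw2350) (rw2351) (Nat.ble 2351 i)) (Nat.ble 2350 i)) (Nat.ble 2348 i)) (Nat.ble 2344 i)) (Bool.rec (motive := fun _ => List ℕ) (Bool.rec (motive := fun _ => List ℕ) (Bool.rec (motive := fun _ => List ℕ) (Bool.rec (motive := fun _ => List ℕ) (rw2352) (rw2353) (Nat.ble 2353 i)) (Bool.rec (motive := fun _ => List ℕ) (rw2354) (rw2355) (Nat.ble 2355 i)) (Nat.ble 2354 i)) (Bool.rec (motive := fun _ => List ℕ) (Bool.rec (motive := fun _ => List ℕ) (rw2356) (rw2357) (Nat.ble 2357 i)) (Bool.rec (motive := fun _ => List ℕ) (rw2358) (rw2359) (Nat.ble 2359 i)) (Nat.ble 2358 i)) (Nat.ble 2356 i)) (Bool.rec (motive := fun _ => List ℕ) (Bool.rec (motive := fun _ => List ℕ) (Bool.rec (motive := fun _ => List ℕ) (rw2360) (rw2361) (Nat.ble 2361 i)) (Bool.rec (motive := fun _ => List ℕ) (rw2362) (rw2363) (Nat.ble 2363 i)) (Nat.ble 2362 i)) (Bool.rec (motive := fun _ => List ℕ) (Bool.rec (motive := fun _ => List ℕ) (rw2364) (rw2365) (Nat.ble 2365 i)) (Bool.rec (motive := fun _ => List ℕ) (rw2366) (rw2367) (Nat.ble 2367 i)) (Nat.ble 2366 i)) (Nat.ble 2364 i)) (Nat.ble 2360 i)) (Nat.ble 2352 i)) (Nat.ble 2336 i)) (Bool.rec (motive := fun _ => List ℕ) (Bool.rec (motive := fun _ => List ℕ) (Bool.rec (motive := fun _ => List ℕ) (Bool.rec (motive := fun _ => List ℕ) (Bool.rec (motive := fun _ => List ℕ) (Bool.rec (motive := fun _ => List ℕ) (rw2368) (rw2369) (Nat.ble 2369 i)) (Bool.rec (motive := fun _ => List ℕ) (rw2370) (rw2371) (Nat.ble 2371 i)) (Nat.ble 2370 i)) (Bool.rec (motive := fun _ => List ℕ) (Bool.rec (motive := fun _ => List ℕ) (rw2372) (rw2373) (Nat.ble 2373 i)) (Bool.rec (motive := fun _ => List ℕ) (rw2374) (rw2375) (Nat.ble 2375 i)) (Nat.ble 2374 i)) (Nat.ble 2372 i)) (Bool.rec (motive := fun _ => List ℕ) (Bool.rec (motive := fun _ => List ℕ) (Bool.rec (motive := fun _ => List ℕ) (rw2376) (rw2377) (Nat.ble 2377 i)) (Bool.rec (motive := fun _ => List ℕ) (rw2378) (rw2379) (Nat.ble 2379 i)) (Nat.ble 2378 i)) (Bool.rec (motive := fun _ => List ℕ) (Bool.rec (motive := fun _ => List ℕ) (rw2380) (rw2381) (Nat.ble 2381 i)) (Bool.rec (motive := fun _ => List ℕ) (rw2382) (rw2383) (Nat.ble 2383 i)) (Nat.ble 2382 i)) (Nat.ble 2380 i)) (Nat.ble 2376 i)) (Bool.rec (motive := fun _ => List ℕ) (Bool.rec (motive := fun _ => List ℕ) (Bool.rec (motive := fun _ => List ℕ) (Bool.rec (motive := fun _ => List ℕ) (rw2384) (rw2385) (Nat.ble 2385 i)) (Bool.rec (motive := fun _ => List ℕ) (rw2386) (rw2387) (Nat.ble 2387 i)) (Nat.ble 2386 i)) (Bool.rec (motive := fun _ => List ℕ) (Bool.rec (motive := fun _ => List ℕ) (rw2388) (rw2389) (Nat.ble 2389 i)) (Bool.rec (motive := fun _ => List ℕ) (rw2390) (rw2391) (Nat.ble 2391 i)) (Nat.ble 2390 i)) (Nat.ble 2388 i)) (Bool.rec (motive := fun _ => List ℕ) (Bool.rec (motive := fun _ => List ℕ) (Bool.rec (motive := fun _ => List ℕ) (rw2392) (rw2393) (Nat.ble 2393 i)) (Bool.rec (motive := fun _ => List ℕ) (rw2394) (rw2395) (Nat.ble 2395 i)) (Nat.ble 2394 i)) (Bool.rec (motive := fun _ => List ℕ) (Bool.rec (motive := fun _ => List ℕ) (rw2396) (rw2397) (Nat.ble 2397 i)) (Bool.rec (motive := fun _ => List ℕ) (rw2398) (rw2399) (Nat.ble 2399 i)) (Nat.ble 2398 i)) (Nat.ble 2396 i)) (Nat.ble 2392 i)) (Nat.ble 2384 i)) (Bool.rec (motive := fun _ => List ℕ) (Bool.rec (motive := fun _ => List ℕ) (Bool.rec (motive := fun _ => List ℕ) (Bool.rec (motive := fun _ => List ℕ) (Bool.rec (motive := fun _ => List ℕ) (rw2400) (rw2401) (Nat.ble 2401 i)) (Bool.rec (motive := fun _ => List ℕ) (rw2402) (rw2403) (Nat.ble 2403 i)) (Nat.ble 2402 i)) (Bool.rec (motive := fun _ => List ℕ) (Bool.rec (motive := fun _ => List ℕ) (rw2404) (rw2405) (Nat.ble 2405 i)) (Bool.rec (motive := fun _ => List ℕ) (rw2406) (rw2407) (Nat.ble 2407 i)) (Nat.ble 2406 i)) (Nat.ble 2404 i)) (Bool.rec (motive := fun _ => List ℕ) (Bool.rec (motive := fun _ => List ℕ) (Bool.rec (motive := fun _ => List ℕ) (rw2408) (rw2409) (Nat.ble 2409 i)) (Bool.rec (motive := fun _ => List ℕ) (rw2410) (rw2411) (Nat.ble 2411 i)) (Nat.ble 2410 i)) (Bool.rec (motive := fun _ => List ℕ) (Bool.rec (motive := fun _ => List ℕ) (rw2412) (rw2413) (Nat.ble 2413 i)) (Bool.rec (motive := fun _ => List ℕ) (rw2414) (rw2415) (Nat.ble 2415 i)) (Nat.ble 2414 i)) (Nat.ble 2412 i)) (Nat.ble 2408 i)) (Bool.rec (motive := fun _ => List ℕ) (Bool.rec (motive := fun _ => List ℕ) (Bool.rec (motive := fun _ => List ℕ) (Bool.rec (motive := fun _ => List ℕ) (rw2416) (rw2417) (Nat.ble 2417 i)) (Bool.rec (motive := fun _ => List ℕ) (rw2418) (rw2419) (Nat.ble 2419 i)) (Nat.ble 2418 i)) (Bool.rec (motive := fun _ => List ℕ) (Bool.rec (motive := fun _ => List ℕ) (rw2420) (rw2421) (Nat.ble 2421 i)) (Bool.rec (motive := fun _ => List ℕ) (rw2422) (rw2423) (Nat.ble 2423 i)) (Nat.ble 2422 i)) (Nat.ble 2420 i)) (Bool.rec (motive := fun _ => List ℕ) (Bool.rec (motive := fun _ => List ℕ) (Bool.rec (motive := fun _ => List ℕ) (rw2424) (rw2425) (Nat.ble 2425 i)) (Bool.rec (motive := fun _ => List ℕ) (rw2426) (rw2427) (Nat.ble 2427 i)) (Nat.ble 2426 i)) (Bool.rec (motive := fun _ => List ℕ) (Bool.rec (motive := fun _ => List ℕ) (rw2428) (rw2429) (Nat.ble 2429 i)) (Bool.rec (motive := fun _ => List ℕ) (rw2430) (rw2431) (Nat.ble 2431 i)) (Nat.ble 2430 i)) (Nat.ble 2428 i)) (Nat.ble 2424 i)) (Nat.ble 2416 i)) (Nat.ble 2400 i)) (Nat.ble 2368 i)) (Bool.rec (motive := fun _ => List ℕ) (Bool.rec (motive := fun _ => List ℕ) (Bool.rec (motive := fun _ => List ℕ) (Bool.rec (motive := fun _ => List ℕ) (Bool.rec (motive := fun _ => List ℕ) (Bool.rec (motive := fun _ => List ℕ) (Bool.rec (motive := fun _ => List ℕ) (rw2432) (rw2433) (Nat.ble 2433 i)) (Bool.rec (motive := fun _ => List ℕ) (rw2434) (rw2435) (Nat.ble 2435 i)) (Nat.ble 2434 i)) (Bool.rec (motive := fun _ => List ℕ) (Bool.rec (motive := fun _ => List ℕ) (rw2436) (rw2437) (Nat.ble 2437 i)) (Bool.rec (motive := fun _ => List ℕ) (rw2438) (rw2439) (Nat.ble 2439 i)) (Nat.ble 2438 i)) (Nat.ble 2436 i)) (Bool.rec (motive := fun _ => List ℕ) (Bool.rec (motive := fun _ => List ℕ) (Bool.rec (motive := fun _ => List ℕ) (rw2440) (rw2441) (Nat.ble 2441 i)) (Bool.rec (motive := fun _ => List ℕ) (rw2442) (rw2443) (Nat.ble 2443 i)) (Nat.ble 2442 i)) (Bool.rec (motive := fun _ => List ℕ) (Bool.rec (motive := fun _ => List ℕ) (rw2444) (rw2445) (Nat.ble 2445 i)) (Bool.rec (motive := fun _ => List ℕ) (rw2446) (rw2447) (Nat.ble 2447 i)) (Nat.ble 2446 i)) (Nat.ble 2444 i)) (Nat.ble 2440 i)) (Bool.rec (motive := fun _ => List ℕ) (Bool.rec (motive := fun _ => List ℕ) (Bool.rec (motive := fun _ => List ℕ) (Bool.rec (motive := fun _ => List ℕ) (rw2448) (rw2449) (Nat.ble 2449 i)) (Bool.rec (motive := fun _ => List ℕ) (rw2450) (rw2451) (Nat.ble 2451 i)) (Nat.ble 2450 i)) (Bool.rec (motive := fun _ => List ℕ) (Bool.rec (motive := fun _ => List ℕ) (rw2452) (rw2453) (Nat.ble 2453 i)) (Bool.rec (motive := fun _ => List ℕ) (rw2454) (rw2455) (Nat.ble 2455 i)) (Nat.ble 2454 i)) (Nat.ble 2452 i)) (Bool.rec (motive := fun _ => List ℕ) (Bool.rec (motive := fun _ => List ℕ) (Bool.rec (motive := fun _ => List ℕ) (rw2456) (rw2457) (Nat.ble 2457 i)) (Bool.rec (motive := fun _ => List ℕ) (rw2458) (rw2459) (Nat.ble 2459 i)) (Nat.ble 2458 i)) (Bool.rec (motive := fun _ => List ℕ) (Bool.rec (motive := fun _ => List ℕ) (rw2460) (rw2461) (Nat.ble 2461 i)) (Bool.rec (motive := fun _ => List ℕ) (rw2462) (rw2463) (Nat.ble 2463 i)) (Nat.ble 2462 i)) (Nat.ble 2460 i)) (Nat.ble 2456 i)) (Nat.ble 2448 i)) (Bool.rec (motive := fun _ => List ℕ) (Bool.rec (motive := fun _ => List ℕ) (Bool.rec (motive := fun _ => List ℕ) (Bool.rec (motive := fun _ => List ℕ) (Bool.rec (motive := fun _ => List ℕ) (rw2464) (rw2465) (Nat.ble 2465 i)) (Bool.rec (motive := fun _ => List ℕ) (rw2466) (rw2467) (Nat.ble 2467 i)) (Nat.ble 2466 i)) (Bool.rec (motive := fun _ => List ℕ) (Bool.rec (motive := fun _ => List ℕ) (rw2468) (rw2469) (Nat.ble 2469 i)) (Bool.rec (motive := fun _ => List ℕ) (rw2470) (rw2471) (Nat.ble 2471 i)) (Nat.ble 2470 i)) (Nat.ble 2468 i)) (Bool.rec (motive := fun _ => List ℕ) (Bool.rec (motive := fun _ => List ℕ) (Bool.rec (motive := fun _ => List ℕ) (rw2472) (rw2473) (Nat.ble 2473 i)) (Bool.rec (motive := fun _ => List ℕ) (rw2474) (rw2475) (Nat.ble 2475 i)) (Nat.ble 2474 i)) (Bool.rec (motive := fun _ => List ℕ) (Bool.rec (motive := fun _ => List ℕ) (rw2476) (rw2477) (Nat.ble 2477 i)) (Bool.rec (motive := fun _ => List ℕ) (rw2478) (rw2479) (Nat.ble 2479 i)) (Nat.ble 2478 i)) (Nat.ble 2476 i)) (Nat.ble 2472 i)) (Bool.rec (motive := fun _ => List ℕ) (Bool.rec (motive := fun _ => List ℕ) (Bool.rec (motive := fun _ => List ℕ) (Bool.rec (motive := fun _ => List ℕ) (rw2480) (rw2481) (Nat.ble 2481 i)) (Bool.rec (motive := fun _ => List ℕ) (rw2482) (rw2483) (Nat.ble 2483 i)) (Nat.ble 2482 i)) (Bool.rec (motive := fun _ => List ℕ) (Bool.rec (motive := fun _ => List ℕ) (rw2484) (rw2485) (Nat.ble 2485 i)) (Bool.rec (motive := fun _ => List ℕ) (rw2486) (rw2487) (Nat.ble 2487 i)) (Nat.ble 2486 i)) (Nat.ble 2484 i)) (Bool.rec (motive := fun _ => List ℕ) (Bool.rec (motive := fun _ => List ℕ) (Bool.rec (motive := fun _ => List ℕ) (rw2488) (rw2489) (Nat.ble 2489 i)) (Bool.rec (motive := fun _ => List ℕ) (rw2490) (rw2491) (Nat.ble 2491 i)) (Nat.ble 2490 i)) (Bool.rec (motive := fun _ => List ℕ) (Bool.rec (motive := fun _ => List ℕ) (rw2492) (rw2493) (Nat.ble 2493 i)) (Bool.rec (motive := fun _ => List ℕ) (rw2494) (rw2495) (Nat.ble 2495 i)) (Nat.ble 2494 i)) (Nat.ble 2492 i)) (Nat.ble 2488 i)) (Nat.ble 2480 i)) (Nat.ble 2464 i)) (Bool.rec (motive := fun _ => List ℕ) (Bool.rec (motive := fun _ => List ℕ) (Bool.rec (motive := fun _ => List ℕ) (Bool.rec (motive := fun _ => List ℕ) (Bool.rec (motive := fun _ => List ℕ) (Bool.rec (motive := fun _ => List ℕ) (rw2496) (rw2497) (Nat.ble 2497 i)) (Bool.rec (motive := fun _ => List ℕ) (rw2498) (rw2499) (Nat.ble 2499 i)) (Nat.ble 2498 i)) (Bool.rec (motive := fun _ => List ℕ) (Bool.rec (motive := fun _ => List ℕ) (rw2500) (rw2501) (Nat.ble 2501 i)) (Bool.rec (motive := fun _ => List ℕ) (rw2502) (rw2503) (Nat.ble 2503 i)) (Nat.ble 2502 i)) (Nat.ble 2500 i)) (Bool.rec (motive := fun _ => List ℕ) (Bool.rec (motive := fun _ => List ℕ) (Bool.rec (motive := fun _ => List ℕ) (rw2504) (rw2505) (Nat.ble 2505 i)) (Bool.rec (motive := fun _ => List ℕ) (rw2506) (rw2507) (Nat.ble 2507 i)) (Nat.ble 2506 i)) (Bool.rec (motive := fun _ => List ℕ) (Bool.rec (motive := fun _ => List ℕ) (rw2508) (rw2509) (Nat.ble 2509 i)) (Bool.rec (motive := fun _ => List ℕ) (rw2510) (rw2511) (Nat.ble 2511 i)) (Nat.ble 2510 i)) (Nat.ble 2508 i)) (Nat.ble 2504 i)) (Bool.rec (motive := fun _ => List ℕ) (Bool.rec (motive := fun _ => List ℕ) (Bool.rec (motive := fun _ => List ℕ) (Bool.rec (motive := fun _ => List ℕ) (rw2512) (rw2513) (Nat.ble 2513 i)) (Bool.rec (motive := fun _ => List ℕ) (rw2514) (rw2515) (Nat.ble 2515 i)) (Nat.ble 2514 i)) (Bool.rec (motive := fun _ => List ℕ) (Bool.rec (motive := fun _ => List ℕ) (rw2516) (rw2517) (Nat.ble 2517 i)) (Bool.rec (motive := fun _ => List ℕ) (rw2518) (rw2519) (Nat.ble 2519 i)) (Nat.ble 2518 i)) (Nat.ble 2516 i)) (Bool.rec (motive := fun _ => List ℕ) (Bool.rec (motive := fun _ => List ℕ) (Bool.rec (motive := fun _ => List ℕ) (rw2520) (rw2521) (Nat.ble 2521 i)) (Bool.rec (motive := fun _ => List ℕ) (rw2522) (rw2523) (Nat.ble 2523 i)) (Nat.ble 2522 i)) (Bool.rec (motive := fun _ => List ℕ) (Bool.rec (motive := fun _ => List ℕ) (rw2524) (rw2525) (Nat.ble 2525 i)) (Bool.rec (motive := fun _ => List ℕ) (rw2526) (rw2527) (Nat.ble 2527 i)) (Nat.ble 2526 i)) (Nat.ble 2524 i)) (Nat.ble 2520 i)) (Nat.ble 2512 i)) (Bool.rec (motive := fun _ => List ℕ) (Bool.rec (motive := fun _ => List ℕ) (Bool.rec (motive := fun _ => List ℕ) (Bool.rec (motive := fun _ => List ℕ) (Bool.rec (motive := fun _ => List ℕ) (rw2528) (rw2529) (Nat.ble 2529 i)) (Bool.rec (motive := fun _ => List ℕ) (rw2530) (rw2531) (Nat.ble 2531 i)) (Nat.ble 2530 i)) (Bool.rec (motive := fun _ => List ℕ) (Bool.rec (motive := fun _ => List ℕ) (rw2532) (rw2533) (Nat.ble 2533 i)) (Bool.rec (motive := fun _ => List ℕ) (rw2534) (rw2535) (Nat.ble 2535 i)) (Nat.ble 2534 i)) (Nat.ble 2532 i)) (Bool.rec (motive := fun _ => List ℕ) (Bool.rec (motive := fun _ => List ℕ) (Bool.rec (motive := fun _ => List ℕ) (rw2536) (rw2537) (Nat.ble 2537 i)) (Bool.rec (motive := fun _ => List ℕ) (rw2538) (rw2539) (Nat.ble 2539 i)) (Nat.ble 2538 i)) (Bool.rec (motive := fun _ => List ℕ) (Bool.rec (motive := fun _ => List ℕ) (rw2540) (rw2541) (Nat.ble 2541 i)) (Bool.rec (motive := fun _ => List ℕ) (rw2542) (rw2543) (Nat.ble 2543 i)) (Nat.ble 2542 i)) (Nat.ble 2540 i)) (Nat.ble 2536 i)) (Bool.rec (motive := fun _ => List ℕ) (Bool.rec (motive := fun _ => List ℕ) (Bool.rec (motive := fun _ => List ℕ) (Bool.rec (motive := fun _ => List ℕ) (rw2544) (rw2545) (Nat.ble 2545 i)) (Bool.rec (motive := fun _ => List ℕ) (rw2546) (rw2547) (Nat.ble 2547 i)) (Nat.ble 2546 i)) (Bool.rec (motive := fun _ => List ℕ) (Bool.rec (motive := fun _ => List ℕ) (rw2548) (rw2549) (Nat.ble 2549 i)) (Bool.rec (motive := fun _ => List ℕ) (rw2550) (rw2551) (Nat.ble 2551 i)) (Nat.ble 2550 i)) (Nat.ble 2548 i)) (Bool.rec (motive := fun _ => List ℕ) (Bool.rec (motive := fun _ => List ℕ) (Bool.rec (motive := fun _ => List ℕ) (rw2552) (rw2553) (Nat.ble 2553 i)) (Bool.rec (motive := fun _ => List ℕ) (rw2554) (rw2555) (Nat.ble 2555 i)) (Nat.ble 2554 i)) (Bool.rec (motive := fun _ => List ℕ) (Bool.rec (motive := fun _ => List ℕ) (rw2556) (rw2557) (Nat.ble 2557 i)) (Bool.rec (motive := fun _ => List ℕ) (rw2558) (rw2559) (Nat.ble 2559 i)) (Nat.ble 2558 i)) (Nat.ble 2556 i)) (Nat.ble 2552 i)) (Nat.ble 2544 i)) (Nat.ble 2528 i)) (Nat.ble 2496 i)) (Nat.ble 2432 i)) (Nat.ble 2304 i)) (Bool.rec (motive := fun _ => List ℕ) (Bool.rec (motive := fun _ => List ℕ) (Bool.rec (motive := fun _ => List ℕ) (Bool.rec (motive := fun _ => List ℕ) (Bool.rec (motive := fun _ => List ℕ) (Bool.rec (motive := fun _ => List ℕ) (Bool.rec (motive := fun _ => List ℕ) (Bool.rec (motive := fun _ => List ℕ) (Bool.rec (motive := fun _ => List ℕ) (rw2560) (rw2561) (Nat.ble 2561 i)) (Bool.rec (motive := fun _ => List ℕ) (rw2562) (rw2563) (Nat.ble 2563 i)) (Nat.ble 2562 i)) (Bool.rec (motive := fun _ => List ℕ) (Bool.rec (motive := fun _ => List ℕ) (rw2564) (rw2565) (Nat.ble 2565 i)) (Bool.rec (motive := fun _ => List ℕ) (rw2566) (rw2567) (Nat.ble 2567 i)) (Nat.ble 2566 i)) (Nat.ble 2564 i)) (Bool.rec (motive := fun _ => List ℕ) (Bool.rec (motive := fun _ => List ℕ) (Bool.rec (motive := fun _ => List ℕ) (rw2568) (rw2569) (Nat.ble 2569 i)) (Bool.rec (motive := fun _ => List ℕ) (rw2570) (rw2571) (Nat.ble 2571 i)) (Nat.ble 2570 i)) (Bool.rec (motive := fun _ => List ℕ) (Bool.rec (motive := fun _ => List ℕ) (rw2572) (rw2573) (Nat.ble 2573 i)) (Bool.rec (motive := fun _ => List ℕ) (rw2574) (rw2575) (Nat.ble 2575 i)) (Nat.ble 2574 i)) (Nat.ble 2572 i)) (Nat.ble 2568 i)) (Bool.rec (motive := fun _ => List ℕ) (Bool.rec (motive := fun _ => List ℕ) (Bool.rec (motive := fun _ => List ℕ) (Bool.rec (motive := fun _ => List ℕ) (rw2576) (rw2577) (Nat.ble 2577 i)) (Bool.rec (motive := fun _ => List ℕ) (rw2578) (rw2579) (Nat.ble 2579 i)) (Nat.ble 2578 i)) (Bool.rec (motive := fun _ => List ℕ) (Bool.rec (motive := fun _ => List ℕ) (rw2580) (rw2581) (Nat.ble 2581 i)) (Bool.rec (motive := fun _ => List ℕ) (rw2582) (rw2583) (Nat.ble 2583 i)) (Nat.ble 2582 i)) (Nat.ble 2580 i)) (Bool.rec (motive := fun _ => List ℕ) (Bool.rec (motive := fun _ => List ℕ) (Bool.rec (motive := fun _ => List ℕ) (rw2584) (rw2585) (Nat.ble 2585 i)) (Bool.rec (motive := fun _ => List ℕ) (rw2586) (rw2587) (Nat.ble 2587 i)) (Nat.ble 2586 i)) (Bool.rec (motive := fun _ => List ℕ) (Bool.rec (motive := fun _ => List ℕ) (rw2588) (rw2589) (Nat.ble 2589 i)) (Bool.rec (motive := fun _ => List ℕ) (rw2590) (rw2591) (Nat.ble 2591 i)) (Nat.ble 2590 i)) (Nat.ble 2588 i)) (Nat.ble 2584 i)) (Nat.ble 2576 i)) (Bool.rec (motive := fun _ => List ℕ) (Bool.rec (motive := fun _ => List ℕ) (Bool.rec (motive := fun _ => List ℕ) (Bool.rec (motive := fun _ => List ℕ) (Bool.rec (motive := fun _ => List ℕ) (rw2592) (rw2593) (Nat.ble 2593 i)) (Bool.rec (motive := fun _ => List ℕ) (rw2594) (rw2595) (Nat.ble 2595 i)) (Nat.ble 2594 i)) (Bool.rec (motive := fun _ => List ℕ) (Bool.rec (motive := fun _ => List ℕ) (rw2596) (rw2597) (Nat.ble 2597 i)) (Bool.rec (motive := fun _ => List ℕ) (rw2598) (rw2599) (Nat.ble 2599 i)) (Nat.ble 2598 i)) (Nat.ble 2596 i)) (Bool.rec (motive := fun _ => List ℕ) (Bool.rec (motive := fun _ => List ℕ) (Bool.rec (motive := fun _ => List ℕ) (rw2600) (rw2601) (Nat.ble 2601 i)) (Bool.rec (motive := fun _ => List ℕ) (rw2602) (rw2603) (Nat.ble 2603 i)) (Nat.ble 2602 i)) (Bool.rec (motive := fun _ => List ℕ) (Bool.rec (motive := fun _ => List ℕ) (rw2604) (rw2605) (Nat.ble 2605 i)) (Bool.rec (motive := fun _ => List ℕ) (rw2606) (rw2607) (Nat.ble 2607 i)) (Nat.ble 2606 i)) (Nat.ble 2604 i)) (Nat.ble 2600 i)) (Bool.rec (motive := fun _ => List ℕ) (Bool.rec (motive := fun _ => List ℕ) (Bool.rec (motive := fun _ => List ℕ) (Bool.rec (motive := fun _ => List ℕ) (rw2608) (rw2609) (Nat.ble 2609 i)) (Bool.rec (motive := fun _ => List ℕ) (rw2610) (rw2611) (Nat.ble 2611 i)) (Nat.ble 2610 i)) (Bool.rec (motive := fun _ => List ℕ) (Bool.rec (motive := fun _ => List ℕ) (rw2612) (rw2613) (Nat.ble 2613 i)) (Bool.rec (motive := fun _ => List ℕ) (rw2614) (rw2615) (Nat.ble 2615 i)) (Nat.ble 2614 i)) (Nat.ble 2612 i)) (Bool.rec (motive := fun _ => List ℕ) (Bool.rec (motive := fun _ => List ℕ) (Bool.rec (motive := fun _ => List ℕ) (rw2616) (rw2617) (Nat.ble 2617 i)) (Bool.rec (motive := fun _ => List ℕ) (rw2618) (rw2619) (Nat.ble 2619 i)) (Nat.ble 2618 i)) (Bool.rec (motive := fun _ => List ℕ) (Bool.rec (motive := fun _ => List ℕ) (rw2620) (rw2621) (Nat.ble 2621 i)) (Bool.rec (motive := fun _ => List ℕ) (rw2622) (rw2623) (Nat.ble 2623 i)) (Nat.ble 2622 i)) (Nat.ble 2620 i)) (Nat.ble 2616 i)) (Nat.ble 2608 i)) (Nat.ble 2592 i)) (Bool.rec (motive := fun _ => List ℕ) (Bool.rec (motive := fun _ => List ℕ) (Bool.rec (motive := fun _ => List ℕ) (Bool.rec (motive := fun _ => List ℕ) (Bool.rec (motive := fun _ => List ℕ) (Bool.rec (motive := fun _ => List ℕ) (rw2624) (rw2625) (Nat.ble 2625 i)) (Bool.rec (motive := fun _ => List ℕ) (rw2626) (rw2627) (Nat.ble 2627 i)) (Nat.ble 2626 i)) (Bool.rec (motive := fun _ => List ℕ) (Bool.rec (motive := fun _ => List ℕ) (rw2628) (rw2629) (Nat.ble 2629 i)) (Bool.rec (motive := fun _ => List ℕ) (rw2630) (rw2631) (Nat.ble 2631 i)) (Nat.ble 2630 i)) (Nat.ble 2628 i)) (Bool.rec (motive := fun _ => List ℕ) (Bool.rec (motive := fun _ => List ℕ) (Bool.rec (motive := fun _ => List ℕ) (rw2632) (rw2633) (Nat.ble 2633 i)) (Bool.rec (motive := fun _ => List ℕ) (rw2634) (rw2635) (Nat.ble 2635 i)) (Nat.ble 2634 i)) (Bool.rec (motive := fun _ => List ℕ) (Bool.rec (motive := fun _ => List ℕ) (rw2636) (rw2637) (Nat.ble 2637 i)) (Bool.rec (motive := fun _ => List ℕ) (rw2638) (rw2639) (Nat.ble 2639 i)) (Nat.ble 2638 i)) (Nat.ble 2636 i)) (Nat.ble 2632 i)) (Bool.rec (motive := fun _ => List ℕ) (Bool.rec (motive := fun _ => List ℕ) (Bool.rec (motive := fun _ => List ℕ) (Bool.rec (motive := fun _ => List ℕ) (rw2640) (rw2641) (Nat.ble 2641 i)) (Bool.rec (motive := fun _ => List ℕ) (rw2642) (rw2643) (Nat.ble 2643 i)) (Nat.ble 2642 i)) (Bool.rec (motive := fun _ => List ℕ) (Bool.rec (motive := fun _ => List ℕ) (rw2644) (rw2645) (Nat.ble 2645 i)) (Bool.rec (motive := fun _ => List ℕ) (rw2646) (rw2647) (Nat.ble 2647 i)) (Nat.ble 2646 i)) (Nat.ble 2644 i)) (Bool.rec (motive := fun _ => List ℕ) (Bool.rec (motive := fun _ => List ℕ) (Bool.rec (motive := fun _ => List ℕ) (rw2648) (rw2649) (Nat.ble 2649 i)) (Bool.rec (motive := fun _ => List ℕ) (rw2650) (rw2651) (Nat.ble 2651 i)) (Nat.ble 2650 i)) (Bool.rec (motive := fun _ => List ℕ) (Bool.rec (motive := fun _ => List ℕ) (rw2652) (rw2653) (Nat.ble 2653 i)) (Bool.rec (motive := fun _ => List ℕ) (rw2654) (rw2655) (Nat.ble 2655 i)) (Nat.ble 2654 i)) (Nat.ble 2652 i)) (Nat.ble 2648 i)) (Nat.ble 2640 i)) (Bool.rec (motive := fun _ => List ℕ) (Bool.rec (motive := fun _ => List ℕ) (Bool.rec (motive := fun _ => List ℕ) (Bool.rec (motive := fun _ => List ℕ) (Bool.rec (motive := fun _ => List ℕ) (rw2656) (rw2657) (Nat.ble 2657 i)) (Bool.rec (motive := fun _ => List ℕ) (rw2658) (rw2659) (Nat.ble 2659 i)) (Nat.ble 2658 i)) (Bool.rec (motive := fun _ => List ℕ) (Bool.rec (motive := fun _ => List ℕ) (rw2660) (rw2661) (Nat.ble 2661 i)) (Bool.rec (motive := fun _ => List ℕ) (rw2662) (rw2663) (Nat.ble 2663 i)) (Nat.ble 2662 i)) (Nat.ble 2660 i)) (Bool.rec (motive := fun _ => List ℕ) (Bool.rec (motive := fun _ => List ℕ) (Bool.rec (motive := fun _ => List ℕ) (rw2664) (rw2665) (Nat.ble 2665 i)) (Bool.rec (motive := fun _ => List ℕ) (rw2666) (rw2667) (Nat.ble 2667 i)) (Nat.ble 2666 i)) (Bool.rec (motive := fun _ => List ℕ) (Bool.rec (motive := fun _ => List ℕ) (rw2668) (rw2669) (Nat.ble 2669 i)) (Bool.rec (motive := fun _ => List ℕ) (rw2670) (rw2671) (Nat.ble 2671 i)) (Nat.ble 2670 i)) (Nat.ble 2668 i)) (Nat.ble 2664 i)) (Bool.rec (motive := fun _ => List ℕ) (Bool.rec (motive := fun _ => List ℕ) (Bool.rec (motive := fun _ => List ℕ) (Bool.rec (motive := fun _ => List ℕ) (rw2672) (rw2673) (Nat.ble 2673 i)) (Bool.rec (motive := fun _ => List ℕ) (rw2674) (rw2675) (Nat.ble 2675 i)) (Nat.ble 2674 i)) (Bool.rec (motive := fun _ => List ℕ) (Bool.rec (motive := fun _ => List ℕ) (rw2676) (rw2677) (Nat.ble 2677 i)) (Bool.rec (motive := fun _ => List ℕ) (rw2678) (rw2679) (Nat.ble 2679 i)) (Nat.ble 2678 i)) (Nat.ble 2676 i)) (Bool.rec (motive := fun _ => List ℕ) (Bool.rec (motive := fun _ => List ℕ) (Bool.rec (motive := fun _ => List ℕ) (rw2680) (rw2681) (Nat.ble 2681 i)) (Bool.rec (motive := fun _ => List ℕ) (rw2682) (rw2683) (Nat.ble 2683 i)) (Nat.ble 2682 i)) (Bool.rec (motive := fun _ => List ℕ) (Bool.rec (motive := fun _ => List ℕ) (rw2684) (rw2685) (Nat.ble 2685 i)) (Bool.rec (motive := fun _ => List ℕ) (rw2686) (rw2687) (Nat.ble 2687 i)) (Nat.ble 2686 i)) (Nat.ble 2684 i)) (Nat.ble 2680 i)) (Nat.ble 2672 i)) (Nat.ble 2656 i)) (Nat.ble 2624 i)) (Bool.rec (motive := fun _ => List ℕ) (Bool.rec (motive := fun _ => List ℕ) (Bool.rec (motive := fun _ => List ℕ) (Bool.rec (motive := fun _ => List ℕ) (Bool.rec (motive := fun _ => List ℕ) (Bool.rec (motive := fun _ => List ℕ) (Bool.rec (motive := fun _ => List ℕ) (rw2688) (rw2689) (Nat.ble 2689 i)) (Bool.rec (motive := fun _ => List ℕ) (rw2690) (rw2691) (Nat.ble 2691 i)) (Nat.ble 2690 i)) (Bool.rec (motive := fun _ => List ℕ) (Bool.rec (motive := fun _ => List ℕ) (rw2692) (rw2693) (Nat.ble 2693 i)) (Bool.rec (motive := fun _ => List ℕ) (rw2694) (rw2695) (Nat.ble 2695 i)) (Nat.ble 2694 i)) (Nat.ble 2692 i)) (Bool.rec (motive := fun _ => List ℕ) (Bool.rec (motive := fun _ => List ℕ) (Bool.rec (motive := fun _ => List ℕ) (rw2696) (rw2697) (Nat.ble 2697 i)) (Bool.rec (motive := fun _ => List ℕ) (rw2698) (rw2699) (Nat.ble 2699 i)) (Nat.ble 2698 i)) (Bool.rec (motive := fun _ => List ℕ) (Bool.rec (motive := fun _ => List ℕ) (rw2700) (rw2701) (Nat.ble 2701 i)) (Bool.rec (motive := fun _ => List ℕ) (rw2702) (rw2703) (Nat.ble 2703 i)) (Nat.ble 2702 i)) (Nat.ble 2700 i)) (Nat.ble 2696 i)) (Bool.rec (motive := fun _ => List ℕ) (Bool.rec (motive := fun _ => List ℕ) (Bool.rec (motive := fun _ => List ℕ) (Bool.rec (motive := fun _ => List ℕ) (rw2704) (rw2705) (Nat.ble 2705 i)) (Bool.rec (motive := fun _ => List ℕ) (rw2706) (rw2707) (Nat.ble 2707 i)) (Nat.ble 2706 i)) (Bool.rec (motive := fun _ => List ℕ) (Bool.rec (motive := fun _ => List ℕ) (rw2708) (rw2709) (Nat.ble 2709 i)) (Bool.rec (motive := fun _ => List ℕ) (rw2710) (rw2711) (Nat.ble 2711 i)) (Nat.ble 2710 i)) (Nat.ble 2708 i)) (Bool.rec (motive := fun _ => List ℕ) (Bool.rec (motive := fun _ => List ℕ) (Bool.rec (motive := fun _ => List ℕ) (rw2712) (rw2713) (Nat.ble 2713 i)) (Bool.rec (motive := fun _ => List ℕ) (rw2714) (rw2715) (Nat.ble 2715 i)) (Nat.ble 2714 i)) (Bool.rec (motive := fun _ => List ℕ) (Bool.rec (motive := fun _ => List ℕ) (rw2716) (rw2717) (Nat.ble 2717 i)) (Bool.rec (motive := fun _ => List ℕ) (rw2718) (rw2719) (Nat.ble 2719 i)) (Nat.ble 2718 i)) (Nat.ble 2716 i)) (Nat.ble 2712 i)) (Nat.ble 2704 i)) (Bool.rec (motive := fun _ => List ℕ) (Bool.rec (motive := fun _ => List ℕ) (Bool.rec (motive := fun _ => List ℕ) (Bool.rec (motive := fun _ => List ℕ) (Bool.rec (motive := fun _ => List ℕ) (rw2720) (rw2721) (Nat.ble 2721 i)) (Bool.rec (motive := fun _ => List ℕ) (rw2722) (rw2723) (Nat.ble 2723 i)) (Nat.ble 2722 i)) (Bool.rec (motive := fun _ => List ℕ) (Bool.rec (motive := fun _ => List ℕ) (rw2724) (rw2725) (Nat.ble 2725 i)) (Bool.rec (motive := fun _ => List ℕ) (rw2726) (rw2727) (Nat.ble 2727 i)) (Nat.ble 2726 i)) (Nat.ble 2724 i)) (Bool.rec (motive := fun _ => List ℕ) (Bool.rec (motive := fun _ => List ℕ) (Bool.rec (motive := fun _ => List ℕ) (rw2728) (rw2729) (Nat.ble 2729 i)) (Bool.rec (motive := fun _ => List ℕ) (rw2730) (rw2731) (Nat.ble 2731 i)) (Nat.ble 2730 i)) (Bool.rec (motive := fun _ => List ℕ) (Bool.rec (motive := fun _ => List ℕ) (rw2732) (rw2733) (Nat.ble 2733 i)) (Bool.rec (motive := fun _ => List ℕ) (rw2734) (rw2735) (Nat.ble 2735 i)) (Nat.ble 2734 i)) (Nat.ble 2732 i)) (Nat.ble 2728 i)) (Bool.rec (motive := fun _ => List ℕ) (Bool.rec (motive := fun _ => List ℕ) (Bool.rec (motive := fun _ => List ℕ) (Bool.rec (motive := fun _ => List ℕ) (rw2736) (rw2737) (Nat.ble 2737 i)) (Bool.rec (motive := fun _ => List ℕ) (rw2738) (rw2739) (Nat.ble 2739 i)) (Nat.ble 2738 i)) (Bool.rec (motive := fun _ => List ℕ) (Bool.rec (motive := fun _ => List ℕ) (rw2740) (rw2741) (Nat.ble 2741 i)) (Bool.rec (motive := fun _ => List ℕ) (rw2742) (rw2743) (Nat.ble 2743 i)) (Nat.ble 2742 i)) (Nat.ble 2740 i)) (Bool.rec (motive := fun _ => List ℕ) (Bool.rec (motive := fun _ => List ℕ) (Bool.rec (motive := fun _ => List ℕ) (rw2744) (rw2745) (Nat.ble 2745 i)) (Bool.rec (motive := fun _ => List ℕ) (rw2746) (rw2747) (Nat.ble 2747 i)) (Nat.ble 2746 i)) (Bool.rec (motive := fun _ => List ℕ) (Bool.rec (motive := fun _ => List ℕ) (rw2748) (rw2749) (Nat.ble 2749 i)) (Bool.rec (motive := fun _ => List ℕ) (rw2750) (rw2751) (Nat.ble 2751 i)) (Nat.ble 2750 i)) (Nat.ble 2748 i)) (Nat.ble 2744 i)) (Nat.ble 2736 i)) (Nat.ble 2720 i)) (Bool.rec (motive := fun _ => List ℕ) (Bool.rec (motive := fun _ => List ℕ) (Bool.rec (motive := fun _ => List ℕ) (Bool.rec (motive := fun _ => List ℕ) (Bool.rec (motive := fun _ => List ℕ) (Bool.rec (motive := fun _ => List ℕ) (rw2752) (rw2753) (Nat.ble 2753 i)) (Bool.rec (motive := fun _ => List ℕ) (rw2754) (rw2755) (Nat.ble 2755 i)) (Nat.ble 2754 i)) (Bool.rec (motive := fun _ => List ℕ) (Bool.rec (motive := fun _ => List ℕ) (rw2756) (rw2757) (Nat.ble 2757 i)) (Bool.rec (motive := fun _ => List ℕ) (rw2758) (rw2759) (Nat.ble 2759 i)) (Nat.ble 2758 i)) (Nat.ble 2756 i)) (Bool.rec (motive := fun _ => List ℕ) (Bool.rec (motive := fun _ => List ℕ) (Bool.rec (motive := fun _ => List ℕ) (rw2760) (rw2761) (Nat.ble 2761 i)) (Bool.rec (motive := fun _ => List ℕ) (rw2762) (rw2763) (Nat.ble 2763 i)) (Nat.ble 2762 i)) (Bool.rec (motive := fun _ => List ℕ) (Bool.rec (motive := fun _ => List ℕ) (rw2764) (rw2765) (Nat.ble 2765 i)) (Bool.rec (motive := fun _ => List ℕ) (rw2766) (rw2767) (Nat.ble 2767 i)) (Nat.ble 2766 i)) (Nat.ble 2764 i)) (Nat.ble 2760 i)) (Bool.rec (motive := fun _ => List ℕ) (Bool.rec (motive := fun _ => List ℕ) (Bool.rec (motive := fun _ => List ℕ) (Bool.rec (motive := fun _ => List ℕ) (rw2768) (rw2769) (Nat.ble 2769 i)) (Bool.rec (motive := fun _ => List ℕ) (rw2770) (rw2771) (Nat.ble 2771 i)) (Nat.ble 2770 i)) (Bool.rec (motive := fun _ => List ℕ) (Bool.rec (motive := fun _ => List ℕ) (rw2772) (rw2773) (Nat.ble 2773 i)) (Bool.rec (motive := fun _ => List ℕ) (rw2774) (rw2775) (Nat.ble 2775 i)) (Nat.ble 2774 i)) (Nat.ble 2772 i)) (Bool.rec (motive := fun _ => List ℕ) (Bool.rec (motive := fun _ => List ℕ) (Bool.rec (motive := fun _ => List ℕ) (rw2776) (rw2777) (Nat.ble 2777 i)) (Bool.rec (motive := fun _ => List ℕ) (rw2778) (rw2779) (Nat.ble 2779 i)) (Nat.ble 2778 i)) (Bool.rec (motive := fun _ => List ℕ) (Bool.rec (motive := fun _ => List ℕ) (rw2780) (rw2781) (Nat.ble 2781 i)) (Bool.rec (motive := fun _ => List ℕ) (rw2782) (rw2783) (Nat.ble 2783 i)) (Nat.ble 2782 i)) (Nat.ble 2780 i)) (Nat.ble 2776 i)) (Nat.ble 2768 i)) (Bool.rec (motive := fun _ => List ℕ) (Bool.rec (motive := fun _ => List ℕ) (Bool.rec (motive := fun _ => List ℕ) (Bool.rec (motive := fun _ => List ℕ) (Bool.rec (motive := fun _ => List ℕ) (rw2784) (rw2785) (Nat.ble 2785 i)) (Bool.rec (motive := fun _ => List ℕ) (rw2786) (rw2787) (Nat.ble 2787 i)) (Nat.ble 2786 i)) (Bool.rec (motive := fun _ => List ℕ) (Bool.rec (motive := fun _ => List ℕ) (rw2788) (rw2789) (Nat.ble 2789 i)) (Bool.rec (motive := fun _ => List ℕ) (rw2790) (rw2791) (Nat.ble 2791 i)) (Nat.ble 2790 i)) (Nat.ble 2788 i)) (Bool.rec (motive := fun _ => List ℕ) (Bool.rec (motive := fun _ => List ℕ) (Bool.rec (motive := fun _ => List ℕ) (rw2792) (rw2793) (Nat.ble 2793 i)) (Bool.rec (motive := fun _ => List ℕ) (rw2794) (rw2795) (Nat.ble 2795 i)) (Nat.ble 2794 i)) (Bool.rec (motive := fun _ => List ℕ) (Bool.rec (motive := fun _ => List ℕ) (rw2796) (rw2797) (Nat.ble 2797 i)) (Bool.rec (motive := fun _ => List ℕ) (rw2798) (rw2799) (Nat.ble 2799 i)) (Nat.ble 2798 i)) (Nat.ble 2796 i)) (Nat.ble 2792 i)) (Bool.rec (motive := fun _ => List ℕ) (Bool.rec (motive := fun _ => List ℕ) (Bool.rec (motive := fun _ => List ℕ) (Bool.rec (motive := fun _ => List ℕ) (rw2800) (rw2801) (Nat.ble 2801 i)) (Bool.rec (motive := fun _ => List ℕ) (rw2802) (rw2803) (Nat.ble 2803 i)) (Nat.ble 2802 i)) (Bool.rec (motive := fun _ => List ℕ) (Bool.rec (motive := fun _ => List ℕ) (rw2804) (rw2805) (Nat.ble 2805 i)) (Bool.rec (motive := fun _ => List ℕ) (rw2806) (rw2807) (Nat.ble 2807 i)) (Nat.ble 2806 i)) (Nat.ble 2804 i)) (Bool.rec (motive := fun _ => List ℕ) (Bool.rec (motive := fun _ => List ℕ) (Bool.rec (motive := fun _ => List ℕ) (rw2808) (rw2809) (Nat.ble 2809 i)) (Bool.rec (motive := fun _ => List ℕ) (rw2810) (rw2811) (Nat.ble 2811 i)) (Nat.ble 2810 i)) (Bool.rec (motive := fun _ => List ℕ) (Bool.rec (motive := fun _ => List ℕ) (rw2812) (rw2813) (Nat.ble 2813 i)) (Bool.rec (motive := fun _ => List ℕ) (rw2814) (rw2815) (Nat.ble 2815 i)) (Nat.ble 2814 i)) (Nat.ble 2812 i)) (Nat.ble 2808 i)) (Nat.ble 2800 i)) (Nat.ble 2784 i)) (Nat.ble 2752 i)) (Nat.ble 2688 i)) (Bool.rec (motive := fun _ => List ℕ) (Bool.rec (motive := fun _ => List ℕ) (Bool.rec (motive := fun _ => List ℕ) (Bool.rec (motive := fun _ => List ℕ) (Bool.rec (motive := fun _ => List ℕ) (Bool.rec (motive := fun _ => List ℕ) (Bool.rec (motive := fun _ => List ℕ) (Bool.rec (motive := fun _ => List ℕ) (rw2816) (rw2817) (Nat.ble 2817 i)) (Bool.rec (motive := fun _ => List ℕ) (rw2818) (rw2819) (Nat.ble 2819 i)) (Nat.ble 2818 i)) (Bool.rec (motive := fun _ => List ℕ) (Bool.rec (motive := fun _ => List ℕ) (rw2820) (rw2821) (Nat.ble 2821 i)) (Bool.rec (motive := fun _ => List ℕ) (rw2822) (rw2823) (Nat.ble 2823 i)) (Nat.ble 2822 i)) (Nat.ble 2820 i)) (Bool.rec (motive := fun _ => List ℕ) (Bool.rec (motive := fun _ => List ℕ) (Bool.rec (motive := fun _ => List ℕ) (rw2824) (rw2825) (Nat.ble 2825 i)) (Bool.rec (motive := fun _ => List ℕ) (rw2826) (rw2827) (Nat.ble 2827 i)) (Nat.ble 2826 i)) (Bool.rec (motive := fun _ => List ℕ) (Bool.rec (motive := fun _ => List ℕ) (rw2828) (rw2829) (Nat.ble 2829 i)) (Bool.rec (motive := fun _ => List ℕ) (rw2830) (rw2831) (Nat.ble 2831 i)) (Nat.ble 2830 i)) (Nat.ble 2828 i)) (Nat.ble 2824 i)) (Bool.rec (motive := fun _ => List ℕ) (Bool.rec (motive := fun _ => List ℕ) (Bool.rec (motive := fun _ => List ℕ) (Bool.rec (motive := fun _ => List ℕ) (rw2832) (rw2833) (Nat.ble 2833 i)) (Bool.rec (motive := fun _ => List ℕ) (rw2834) (rw2835) (Nat.ble 2835 i)) (Nat.ble 2834 i)) (Bool.rec (motive := fun _ => List ℕ) (Bool.rec (motive := fun _ => List ℕ) (rw2836) (rw2837) (Nat.ble 2837 i)) (Bool.rec (motive := fun _ => List ℕ) (rw2838) (rw2839) (Nat.ble 2839 i)) (Nat.ble 2838 i)) (Nat.ble 2836 i)) (Bool.rec (motive := fun _ => List ℕ) (Bool.rec (motive := fun _ => List ℕ) (Bool.rec (motive := fun _ => List ℕ) (rw2840) (rw2841) (Nat.ble 2841 i)) (Bool.rec (motive := fun _ => List ℕ) (rw2842) (rw2843) (Nat.ble 2843 i)) (Nat.ble 2842 i)) (Bool.rec (motive := fun _ => List ℕ) (Bool.rec (motive := fun _ => List ℕ) (rw2844) (rw2845) (Nat.ble 2845 i)) (Bool.rec (motive := fun _ => List ℕ) (rw2846) (rw2847) (Nat.ble 2847 i)) (Nat.ble 2846 i)) (Nat.ble 2844 i)) (Nat.ble 2840 i)) (Nat.ble 2832 i)) (Bool.rec (motive := fun _ => List ℕ) (Bool.rec (motive := fun _ => List ℕ) (Bool.rec (motive := fun _ => List ℕ) (Bool.rec (motive := fun _ => List ℕ) (Bool.rec (motive := fun _ => List ℕ) (rw2848) (rw2849) (Nat.ble 2849 i)) (Bool.rec (motive := fun _ => List ℕ) (rw2850) (rw2851) (Nat.ble 2851 i)) (Nat.ble 2850 i)) (Bool.rec (motive := fun _ => List ℕ) (Bool.rec (motive := fun _ => List ℕ) (rw2852) (rw2853) (Nat.ble 2853 i)) (Bool.rec (motive := fun _ => List ℕ) (rw2854) (rw2855) (Nat.ble 2855 i)) (Nat.ble 2854 i)) (Nat.ble 2852 i)) (Bool.rec (motive := fun _ => List ℕ) (Bool.rec (motive := fun _ => List ℕ) (Bool.rec (motive := fun _ => List ℕ) (rw2856) (rw2857) (Nat.ble 2857 i)) (Bool.rec (motive := fun _ => List ℕ) (rw2858) (rw2859) (Nat.ble 2859 i)) (Nat.ble 2858 i)) (Bool.rec (motive := fun _ => List ℕ) (Bool.rec (motive := fun _ => List ℕ) (rw2860) (rw2861) (Nat.ble 2861 i)) (Bool.rec (motive := fun _ => List ℕ) (rw2862) (rw2863) (Nat.ble 2863 i)) (Nat.ble 2862 i)) (Nat.ble 2860 i)) (Nat.ble 2856 i)) (Bool.rec (motive := fun _ => List ℕ) (Bool.rec (motive := fun _ => List ℕ) (Bool.rec (motive := fun _ => List ℕ) (Bool.rec (motive := fun _ => List ℕ) (rw2864) (rw2865) (Nat.ble 2865 i)) (Bool.rec (motive := fun _ => List ℕ) (rw2866) (rw2867) (Nat.ble 2867 i)) (Nat.ble 2866 i)) (Bool.rec (motive := fun _ => List ℕ) (Bool.rec (motive := fun _ => List ℕ) (rw2868) (rw2869) (Nat.ble 2869 i)) (Bool.rec (motive := fun _ => List ℕ) (rw2870) (rw2871) (Nat.ble 2871 i)) (Nat.ble 2870 i)) (Nat.ble 2868 i)) (Bool.rec (motive := fun _ => List ℕ) (Bool.rec (motive := fun _ => List ℕ) (Bool.rec (motive := fun _ => List ℕ) (rw2872) (rw2873) (Nat.ble 2873 i)) (Bool.rec (motive := fun _ => List ℕ) (rw2874) (rw2875) (Nat.ble 2875 i)) (Nat.ble 2874 i)) (Bool.rec (motive := fun _ => List ℕ) (Bool.rec (motive := fun _ => List ℕ) (rw2876) (rw2877) (Nat.ble 2877 i)) (Bool.rec (motive := fun _ => List ℕ) (rw2878) (rw2879) (Nat.ble 2879 i)) (Nat.ble 2878 i)) (Nat.ble 2876 i)) (Nat.ble 2872 i)) (Nat.ble 2864 i)) (Nat.ble 2848 i)) (Bool.rec (motive := fun _ => List ℕ) (Bool.rec (motive := fun _ => List ℕ) (Bool.rec (motive := fun _ => List ℕ) (Bool.rec (motive := fun _ => List ℕ) (Bool.rec (motive := fun _ => List ℕ) (Bool.rec (motive := fun _ => List ℕ) (rw2880) (rw2881) (Nat.ble 2881 i)) (Bool.rec (motive := fun _ => List ℕ) (rw2882) (rw2883) (Nat.ble 2883 i)) (Nat.ble 2882 i)) (Bool.rec (motive := fun _ => List ℕ) (Bool.rec (motive := fun _ => List ℕ) (rw2884) (rw2885) (Nat.ble 2885 i)) (Bool.rec (motive := fun _ => List ℕ) (rw2886) (rw2887) (Nat.ble 2887 i)) (Nat.ble 2886 i)) (Nat.ble 2884 i)) (Bool.rec (motive := fun _ => List ℕ) (Bool.rec (motive := fun _ => List ℕ) (Bool.rec (motive := fun _ => List ℕ) (rw2888) (rw2889) (Nat.ble 2889 i)) (Bool.rec (motive := fun _ => List ℕ) (rw2890) (rw2891) (Nat.ble 2891 i)) (Nat.ble 2890 i)) (Bool.rec (motive := fun _ => List ℕ) (Bool.rec (motive := fun _ => List ℕ) (rw2892) (rw2893) (Nat.ble 2893 i)) (Bool.rec (motive := fun _ => List ℕ) (rw2894) (rw2895) (Nat.ble 2895 i)) (Nat.ble 2894 i)) (Nat.ble 2892 i)) (Nat.ble 2888 i)) (Bool.rec (motive := fun _ => List ℕ) (Bool.rec (motive := fun _ => List ℕ) (Bool.rec (motive := fun _ => List ℕ) (Bool.rec (motive := fun _ => List ℕ) (rw2896) (rw2897) (Nat.ble 2897 i)) (Bool.rec (motive := fun _ => List ℕ) (rw2898) (rw2899) (Nat.ble 2899 i)) (Nat.ble 2898 i)) (Bool.rec (motive := fun _ => List ℕ) (Bool.rec (motive := fun _ => List ℕ) (rw2900) (rw2901) (Nat.ble 2901 i)) (Bool.rec (motive := fun _ => List ℕ) (rw2902) (rw2903) (Nat.ble 2903 i)) (Nat.ble 2902 i)) (Nat.ble 2900 i)) (Bool.rec (motive := fun _ => List ℕ) (Bool.rec (motive := fun _ => List ℕ) (Bool.rec (motive := fun _ => List ℕ) (rw2904) (rw2905) (Nat.ble 2905 i)) (Bool.rec (motive := fun _ => List ℕ) (rw2906) (rw2907) (Nat.ble 2907 i)) (Nat.ble 2906 i)) (Bool.rec (motive := fun _ => List ℕ) (Bool.rec (motive := fun _ => List ℕ) (rw2908) (rw2909) (Nat.ble 2909 i)) (Bool.rec (motive := fun _ => List ℕ) (rw2910) (rw2911) (Nat.ble 2911 i)) (Nat.ble 2910 i)) (Nat.ble 2908 i)) (Nat.ble 2904 i)) (Nat.ble 2896 i)) (Bool.rec (motive := fun _ => List ℕ) (Bool.rec (motive := fun _ => List ℕ) (Bool.rec (motive := fun _ => List ℕ) (Bool.rec (motive := fun _ => List ℕ) (Bool.rec (motive := fun _ => List ℕ) (rw2912) (rw2913) (Nat.ble 2913 i)) (Bool.rec (motive := fun _ => List ℕ) (rw2914) (rw2915) (Nat.ble 2915 i)) (Nat.ble 2914 i)) (Bool.rec (motive := fun _ => List ℕ) (Bool.rec (motive := fun _ => List ℕ) (rw2916) (rw2917) (Nat.ble 2917 i)) (Bool.rec (motive := fun _ => List ℕ) (rw2918) (rw2919) (Nat.ble 2919 i)) (Nat.ble 2918 i)) (Nat.ble 2916 i)) (Bool.rec (motive := fun _ => List ℕ) (Bool.rec (motive := fun _ => List ℕ) (Bool.rec (motive := fun _ => List ℕ) (rw2920) (rw2921) (Nat.ble 2921 i)) (Bool.rec (motive := fun _ => List ℕ) (rw2922) (rw2923) (Nat.ble 2923 i)) (Nat.ble 2922 i)) (Bool.rec (motive := fun _ => List ℕ) (Bool.rec (motive := fun _ => List ℕ) (rw2924) (rw2925) (Nat.ble 2925 i)) (Bool.rec (motive := fun _ => List ℕ) (rw2926) (rw2927) (Nat.ble 2927 i)) (Nat.ble 2926 i)) (Nat.ble 2924 i)) (Nat.ble 2920 i)) (Bool.rec (motive := fun _ => List ℕ) (Bool.rec (motive := fun _ => List ℕ) (Bool.rec (motive := fun _ => List ℕ) (Bool.rec (motive := fun _ => List ℕ) (rw2928) (rw2929) (Nat.ble 2929 i)) (Bool.rec (motive := fun _ => List ℕ) (rw2930) (rw2931) (Nat.ble 2931 i)) (Nat.ble 2930 i)) (Bool.rec (motive := fun _ => List ℕ) (Bool.rec (motive := fun _ => List ℕ) (rw2932) (rw2933) (Nat.ble 2933 i)) (Bool.rec (motive := fun _ => List ℕ) (rw2934) (rw2935) (Nat.ble 2935 i)) (Nat.ble 2934 i)) (Nat.ble 2932 i)) (Bool.rec (motive := fun _ => List ℕ) (Bool.rec (motive := fun _ => List ℕ) (Bool.rec (motive := fun _ => List ℕ) (rw2936) (rw2937) (Nat.ble 2937 i)) (Bool.rec (motive := fun _ => List ℕ) (rw2938) (rw2939) (Nat.ble 2939 i)) (Nat.ble 2938 i)) (Bool.rec (motive := fun _ => List ℕ) (Bool.rec (motive := fun _ => List ℕ) (rw2940) (rw2941) (Nat.ble 2941 i)) (Bool.rec (motive := fun _ => List ℕ) (rw2942) (rw2943) (Nat.ble 2943 i)) (Nat.ble 2942 i)) (Nat.ble 2940 i)) (Nat.ble 2936 i)) (Nat.ble 2928 i)) (Nat.ble 2912 i)) (Nat.ble 2880 i)) (Bool.rec (motive := fun _ => List ℕ) (Bool.rec (motive := fun _ => List ℕ) (Bool.rec (motive := fun _ => List ℕ) (Bool.rec (motive := fun _ => List ℕ) (Bool.rec (motive := fun _ => List ℕ) (Bool.rec (motive := fun _ => List ℕ) (Bool.rec (motive := fun _ => List ℕ) (rw2944) (rw2945) (Nat.ble 2945 i)) (Bool.rec (motive := fun _ => List ℕ) (rw2946) (rw2947) (Nat.ble 2947 i)) (Nat.ble 2946 i)) (Bool.rec (motive := fun _ => List ℕ) (Bool.rec (motive := fun _ => List ℕ) (rw2948) (rw2949) (Nat.ble 2949 i)) (Bool.rec (motive := fun _ => List ℕ) (rw2950) (rw2951) (Nat.ble 2951 i)) (Nat.ble 2950 i)) (Nat.ble 2948 i)) (Bool.rec (motive := fun _ => List ℕ) (Bool.rec (motive := fun _ => List ℕ) (Bool.rec (motive := fun _ => List ℕ) (rw2952) (rw2953) (Nat.ble 2953 i)) (Bool.rec (motive := fun _ => List ℕ) (rw2954) (rw2955) (Nat.ble 2955 i)) (Nat.ble 2954 i)) (Bool.rec (motive := fun _ => List ℕ) (Bool.rec (motive := fun _ => List ℕ) (rw2956) (rw2957) (Nat.ble 2957 i)) (Bool.rec (motive := fun _ => List ℕ) (rw2958) (rw2959) (Nat.ble 2959 i)) (Nat.ble 2958 i)) (Nat.ble 2956 i)) (Nat.ble 2952 i)) (Bool.rec (motive := fun _ => List ℕ) (Bool.rec (motive := fun _ => List ℕ) (Bool.rec (motive := fun _ => List ℕ) (Bool.rec (motive := fun _ => List ℕ) (rw2960) (rw2961) (Nat.ble 2961 i)) (Bool.rec (motive := fun _ => List ℕ) (rw2962) (rw2963) (Nat.ble 2963 i)) (Nat.ble 2962 i)) (Bool.rec (motive := fun _ => List ℕ) (Bool.rec (motive := fun _ => List ℕ) (rw2964) (rw2965) (Nat.ble 2965 i)) (Bool.rec (motive := fun _ => List ℕ) (rw2966) (rw2967) (Nat.ble 2967 i)) (Nat.ble 2966 i)) (Nat.ble 2964 i)) (Bool.rec (motive := fun _ => List ℕ) (Bool.rec (motive := fun _ => List ℕ) (Bool.rec (motive := fun _ => List ℕ) (rw2968) (rw2969) (Nat.ble 2969 i)) (Bool.rec (motive := fun _ => List ℕ) (rw2970) (rw2971) (Nat.ble 2971 i)) (Nat.ble 2970 i)) (Bool.rec (motive := fun _ => List ℕ) (Bool.rec (motive := fun _ => List ℕ) (rw2972) (rw2973) (Nat.ble 2973 i)) (Bool.rec (motive := fun _ => List ℕ) (rw2974) (rw2975) (Nat.ble 2975 i)) (Nat.ble 2974 i)) (Nat.ble 2972 i)) (Nat.ble 2968 i)) (Nat.ble 2960 i)) (Bool.rec (motive := fun _ => List ℕ) (Bool.rec (motive := fun _ => List ℕ) (Bool.rec (motive := fun _ => List ℕ) (Bool.rec (motive := fun _ => List ℕ) (Bool.rec (motive := fun _ => List ℕ) (rw2976) (rw2977) (Nat.ble 2977 i)) (Bool.rec (motive := fun _ => List ℕ) (rw2978) (rw2979) (Nat.ble 2979 i)) (Nat.ble 2978 i)) (Bool.rec (motive := fun _ => List ℕ) (Bool.rec (motive := fun _ => List ℕ) (rw2980) (rw2981) (Nat.ble 2981 i)) (Bool.rec (motive := fun _ => List ℕ) (rw2982) (rw2983) (Nat.ble 2983 i)) (Nat.ble 2982 i)) (Nat.ble 2980 i)) (Bool.rec (motive := fun _ => List ℕ) (Bool.rec (motive := fun _ => List ℕ) (Bool.rec (motive := fun _ => List ℕ) (rw2984) (rw2985) (Nat.ble 2985 i)) (Bool.rec (motive := fun _ => List ℕ) (rw2986) (rw2987) (Nat.ble 2987 i)) (Nat.ble 2986 i)) (Bool.rec (motive := fun _ => List ℕ) (Bool.rec (motive := fun _ => List ℕ) (rw2988) (rw2989) (Nat.ble 2989 i)) (Bool.rec (motive := fun _ => List ℕ) (rw2990) (rw2991) (Nat.ble 2991 i)) (Nat.ble 2990 i)) (Nat.ble 2988 i)) (Nat.ble 2984 i)) (Bool.rec (motive := fun _ => List ℕ) (Bool.rec (motive := fun _ => List ℕ) (Bool.rec (motive := fun _ => List ℕ) (Bool.rec (motive := fun _ => List ℕ) (rw2992) (rw2993) (Nat.ble 2993 i)) (Bool.rec (motive := fun _ => List ℕ) (rw2994) (rw2995) (Nat.ble 2995 i)) (Nat.ble 2994 i)) (Bool.rec (motive := fun _ => List ℕ) (Bool.rec (motive := fun _ => List ℕ) (rw2996) (rw2997) (Nat.ble 2997 i)) (Bool.rec (motive := fun _ => List ℕ) (rw2998) (rw2999) (Nat.ble 2999 i)) (Nat.ble 2998 i)) (Nat.ble 2996 i)) (Bool.rec (motive := fun _ => List ℕ) (Bool.rec (motive := fun _ => List ℕ) (Bool.rec (motive := fun _ => List ℕ) (rw3000) (rw3001) (Nat.ble 3001 i)) (Bool.rec (motive := fun _ => List ℕ) (rw3002) (rw3003) (Nat.ble 3003 i)) (Nat.ble 3002 i)) (Bool.rec (motive := fun _ => List ℕ) (Bool.rec (motive := fun _ => List ℕ) (rw3004) (rw3005) (Nat.ble 3005 i)) (Bool.rec (motive := fun _ => List ℕ) (rw3006) (rw3007) (Nat.ble 3007 i)) (Nat.ble 3006 i)) (Nat.ble 3004 i)) (Nat.ble 3000 i)) (Nat.ble 2992 i)) (Nat.ble 2976 i)) (Bool.rec (motive := fun _ => List ℕ) (Bool.rec (motive := fun _ => List ℕ) (Bool.rec (motive := fun _ => List ℕ) (Bool.rec (motive := fun _ => List ℕ) (Bool.rec (motive := fun _ => List ℕ) (Bool.rec (motive := fun _ => List ℕ) (rw3008) (rw3009) (Nat.ble 3009 i)) (Bool.rec (motive := fun _ => List ℕ) (rw3010) (rw3011) (Nat.ble 3011 i)) (Nat.ble 3010 i)) (Bool.rec (motive := fun _ => List ℕ) (Bool.rec (motive := fun _ => List ℕ) (rw3012) (rw3013) (Nat.ble 3013 i)) (Bool.rec (motive := fun _ => List ℕ) (rw3014) (rw3015) (Nat.ble 3015 i)) (Nat.ble 3014 i)) (Nat.ble 3012 i)) (Bool.rec (motive := fun _ => List ℕ) (Bool.rec (motive := fun _ => List ℕ) (Bool.rec (motive := fun _ => List ℕ) (rw3016) (rw3017) (Nat.ble 3017 i)) (Bool.rec (motive := fun _ => List ℕ) (rw3018) (rw3019) (Nat.ble 3019 i)) (Nat.ble 3018 i)) (Bool.rec (motive := fun _ => List ℕ) (Bool.rec (motive := fun _ => List ℕ) (rw3020) (rw3021) (Nat.ble 3021 i)) (Bool.rec (motive := fun _ => List ℕ) (rw3022) (rw3023) (Nat.ble 3023 i)) (Nat.ble 3022 i)) (Nat.ble 3020 i)) (Nat.ble 3016 i)) (Bool.rec (motive := fun _ => List ℕ) (Bool.rec (motive := fun _ => List ℕ) (Bool.rec (motive := fun _ => List ℕ) (Bool.rec (motive := fun _ => List ℕ) (rw3024) (rw3025) (Nat.ble 3025 i)) (Bool.rec (motive := fun _ => List ℕ) (rw3026) (rw3027) (Nat.ble 3027 i)) (Nat.ble 3026 i)) (Bool.rec (motive := fun _ => List ℕ) (Bool.rec (motive := fun _ => List ℕ) (rw3028) (rw3029) (Nat.ble 3029 i)) (Bool.rec (motive := fun _ => List ℕ) (rw3030) (rw3031) (Nat.ble 3031 i)) (Nat.ble 3030 i)) (Nat.ble 3028 i)) (Bool.rec (motive := fun _ => List ℕ) (Bool.rec (motive := fun _ => List ℕ) (Bool.rec (motive := fun _ => List ℕ) (rw3032) (rw3033) (Nat.ble 3033 i)) (Bool.rec (motive := fun _ => List ℕ) (rw3034) (rw3035) (Nat.ble 3035 i)) (Nat.ble 3034 i)) (Bool.rec (motive := fun _ => List ℕ) (Bool.rec (motive := fun _ => List ℕ) (rw3036) (rw3037) (Nat.ble 3037 i)) (Bool.rec (motive := fun _ => List ℕ) (rw3038) (rw3039) (Nat.ble 3039 i)) (Nat.ble 3038 i)) (Nat.ble 3036 i)) (Nat.ble 3032 i)) (Nat.ble 3024 i)) (Bool.rec (motive := fun _ => List ℕ) (Bool.rec (motive := fun _ => List ℕ) (Bool.rec (motive := fun _ => List ℕ) (Bool.rec (motive := fun _ => List ℕ) (Bool.rec (motive := fun _ => List ℕ) (rw3040) (rw3041) (Nat.ble 3041 i)) (Bool.rec (motive := fun _ => List ℕ) (rw3042) (rw3043) (Nat.ble 3043 i)) (Nat.ble 3042 i)) (Bool.rec (motive := fun _ => List ℕ) (Bool.rec (motive := fun _ => List ℕ) (rw3044) (rw3045) (Nat.ble 3045 i)) (Bool.rec (motive := fun _ => List ℕ) (rw3046) (rw3047) (Nat.ble 3047 i)) (Nat.ble 3046 i)) (Nat.ble 3044 i)) (Bool.rec (motive := fun _ => List ℕ) (Bool.rec (motive := fun _ => List ℕ) (Bool.rec (motive := fun _ => List ℕ) (rw3048) (rw3049) (Nat.ble 3049 i)) (Bool.rec (motive := fun _ => List ℕ) (rw3050) (rw3051) (Nat.ble 3051 i)) (Nat.ble 3050 i)) (Bool.rec (motive := fun _ => List ℕ) (Bool.rec (motive := fun _ => List ℕ) (rw3052) (rw3053) (Nat.ble 3053 i)) (Bool.rec (motive := fun _ => List ℕ) (rw3054) (rw3055) (Nat.ble 3055 i)) (Nat.ble 3054 i)) (Nat.ble 3052 i)) (Nat.ble 3048 i)) (Bool.rec (motive := fun _ => List ℕ) (Bool.rec (motive := fun _ => List ℕ) (Bool.rec (motive := fun _ => List ℕ) (Bool.rec (motive := fun _ => List ℕ) (rw3056) (rw3057) (Nat.ble 3057 i)) (Bool.rec (motive := fun _ => List ℕ) (rw3058) (rw3059) (Nat.ble 3059 i)) (Nat.ble 3058 i)) (Bool.rec (motive := fun _ => List ℕ) (Bool.rec (motive := fun _ => List ℕ) (rw3060) (rw3061) (Nat.ble 3061 i)) (Bool.rec (motive := fun _ => List ℕ) (rw3062) (rw3063) (Nat.ble 3063 i)) (Nat.ble 3062 i)) (Nat.ble 3060 i)) (Bool.rec (motive := fun _ => List ℕ) (Bool.rec (motive := fun _ => List ℕ) (Bool.rec (motive := fun _ => List ℕ) (rw3064) (rw3065) (Nat.ble 3065 i)) (Bool.rec (motive := fun _ => List ℕ) (rw3066) (rw3067) (Nat.ble 3067 i)) (Nat.ble 3066 i)) (Bool.rec (motive := fun _ => List ℕ) (Bool.rec (motive := fun _ => List ℕ) (rw3068) (rw3069) (Nat.ble 3069 i)) (Bool.rec (motive := fun _ => List ℕ) (rw3070) (rw3071) (Nat.ble 3071 i)) (Nat.ble 3070 i)) (Nat.ble 3068 i)) (Nat.ble 3064 i)) (Nat.ble 3056 i)) (Nat.ble 3040 i)) (Nat.ble 3008 i)) (Nat.ble 2944 i)) (Nat.ble 2816 i)) (Nat.ble 2560 i)) (Bool.rec (motive := fun _ => List ℕ) (Bool.rec (motive := fun _ => List ℕ) (Bool.rec (motive := fun _ => List ℕ) (Bool.rec (motive := fun _ => List ℕ) (Bool.rec (motive := fun _ => List ℕ) (Bool.rec (motive := fun _ => List ℕ) (Bool.rec (motive := fun _ => List ℕ) (Bool.rec (motive := fun _ => List ℕ) (Bool.rec (motive := fun _ => List ℕ) (Bool.rec (motive := fun _ => List ℕ) (rw3072) (rw3073) (Nat.ble 3073 i)) (Bool.rec (motive := fun _ => List ℕ) (rw3074) (rw3075) (Nat.ble 3075 i)) (Nat.ble 3074 i)) (Bool.rec (motive := fun _ => List ℕ) (Bool.rec (motive := fun _ => List ℕ) (rw3076) (rw3077) (Nat.ble 3077 i)) (Bool.rec (motive := fun _ => List ℕ) (rw3078) (rw3079) (Nat.ble 3079 i)) (Nat.ble 3078 i)) (Nat.ble 3076 i)) (Bool.rec (motive := fun _ => List ℕ) (Bool.rec (motive := fun _ => List ℕ) (Bool.rec (motive := fun _ => List ℕ) (rw3080) (rw3081) (Nat.ble 3081 i)) (Bool.rec (motive := fun _ => List ℕ) (rw3082) (rw3083) (Nat.ble 3083 i)) (Nat.ble 3082 i)) (Bool.rec (motive := fun _ => List ℕ) (Bool.rec (motive := fun _ => List ℕ) (rw3084) (rw3085) (Nat.ble 3085 i)) (Bool.rec (motive := fun _ => List ℕ) (rw3086) (rw3087) (Nat.ble 3087 i)) (Nat.ble 3086 i)) (Nat.ble 3084 i)) (Nat.ble 3080 i)) (Bool.rec (motive := fun _ => List ℕ) (Bool.rec (motive := fun _ => List ℕ) (Bool.rec (motive := fun _ => List ℕ) (Bool.rec (motive := fun _ => List ℕ) (rw3088) (rw3089) (Nat.ble 3089 i)) (Bool.rec (motive := fun _ => List ℕ) (rw3090) (rw3091) (Nat.ble 3091 i)) (Nat.ble 3090 i)) (Bool.rec (motive := fun _ => List ℕ) (Bool.rec (motive := fun _ => List ℕ) (rw3092) (rw3093) (Nat.ble 3093 i)) (Bool.rec (motive := fun _ => List ℕ) (rw3094) (rw3095) (Nat.ble 3095 i)) (Nat.ble 3094 i)) (Nat.ble 3092 i)) (Bool.rec (motive := fun _ => List ℕ) (Bool.rec (motive := fun _ => List ℕ) (Bool.rec (motive := fun _ => List ℕ) (rw3096) (rw3097) (Nat.ble 3097 i)) (Bool.rec (motive := fun _ => List ℕ) (rw3098) (rw3099) (Nat.ble 3099 i)) (Nat.ble 3098 i)) (Bool.rec (motive := fun _ => List ℕ) (Bool.rec (motive := fun _ => List ℕ) (rw3100) (rw3101) (Nat.ble 3101 i)) (Bool.rec (motive := fun _ => List ℕ) (rw3102) (rw3103) (Nat.ble 3103 i)) (Nat.ble 3102 i)) (Nat.ble 3100 i)) (Nat.ble 3096 i)) (Nat.ble 3088 i)) (Bool.rec (motive := fun _ => List ℕ) (Bool.rec (motive := fun _ => List ℕ) (Bool.rec (motive := fun _ => List ℕ) (Bool.rec (motive := fun _ => List ℕ) (Bool.rec (motive := fun _ => List ℕ) (rw3104) (rw3105) (Nat.ble 3105 i)) (Bool.rec (motive := fun _ => List ℕ) (rw3106) (rw3107) (Nat.ble 3107 i)) (Nat.ble 3106 i)) (Bool.rec (motive := fun _ => List ℕ) (Bool.rec (motive := fun _ => List ℕ) (rw3108) (rw3109) (Nat.ble 3109 i)) (Bool.rec (motive := fun _ => List ℕ) (rw3110) (rw3111) (Nat.ble 3111 i)) (Nat.ble 3110 i)) (Nat.ble 3108 i)) (Bool.rec (motive := fun _ => List ℕ) (Bool.rec (motive := fun _ => List ℕ) (Bool.rec (motive := fun _ => List ℕ) (rw3112) (rw3113) (Nat.ble 3113 i)) (Bool.rec (motive := fun _ => List ℕ) (rw3114) (rw3115) (Nat.ble 3115 i)) (Nat.ble 3114 i)) (Bool.rec (motive := fun _ => List ℕ) (Bool.rec (motive := fun _ => List ℕ) (rw3116) (rw3117) (Nat.ble 3117 i)) (Bool.rec (motive := fun _ => List ℕ) (rw3118) (rw3119) (Nat.ble 3119 i)) (Nat.ble 3118 i)) (Nat.ble 3116 i)) (Nat.ble 3112 i)) (Bool.rec (motive := fun _ => List ℕ) (Bool.rec (motive := fun _ => List ℕ) (Bool.rec (motive := fun _ => List ℕ) (Bool.rec (motive := fun _ => List ℕ) (rw3120) (rw3121) (Nat.ble 3121 i)) (Bool.rec (motive := fun _ => List ℕ) (rw3122) (rw3123) (Nat.ble 3123 i)) (Nat.ble 3122 i)) (Bool.rec (motive := fun _ => List ℕ) (Bool.rec (motive := fun _ => List ℕ) (rw3124) (rw3125) (Nat.ble 3125 i)) (Bool.rec (motive := fun _ => List ℕ) (rw3126) (rw3127) (Nat.ble 3127 i)) (Nat.ble 3126 i)) (Nat.ble 3124 i)) (Bool.rec (motive := fun _ => List ℕ) (Bool.rec (motive := fun _ => List ℕ) (Bool.rec (motive := fun _ => List ℕ) (rw3128) (rw3129) (Nat.ble 3129 i)) (Bool.rec (motive := fun _ => List ℕ) (rw3130) (rw3131) (Nat.ble 3131 i)) (Nat.ble 3130 i)) (Bool.rec (motive := fun _ => List ℕ) (Bool.rec (motive := fun _ => List ℕ) (rw3132) (rw3133) (Nat.ble 3133 i)) (Bool.rec (motive := fun _ => List ℕ) (rw3134) (rw3135) (Nat.ble 3135 i)) (Nat.ble 3134 i)) (Nat.ble 3132 i)) (Nat.ble 3128 i)) (Nat.ble 3120 i)) (Nat.ble 3104 i)) (Bool.rec (motive := fun _ => List ℕ) (Bool.rec (motive := fun _ => List ℕ) (Bool.rec (motive := fun _ => List ℕ) (Bool.rec (motive := fun _ => List ℕ) (Bool.rec (motive := fun _ => List ℕ) (Bool.rec (motive := fun _ => List ℕ) (rw3136) (rw3137) (Nat.ble 3137 i)) (Bool.rec (motive := fun _ => List ℕ) (rw3138) (rw3139) (Nat.ble 3139 i)) (Nat.ble 3138 i)) (Bool.rec (motive := fun _ => List ℕ) (Bool.rec (motive := fun _ => List ℕ) (rw3140) (rw3141) (Nat.ble 3141 i)) (Bool.rec (motive := fun _ => List ℕ) (rw3142) (rw3143) (Nat.ble 3143 i)) (Nat.ble 3142 i)) (Nat.ble 3140 i)) (Bool.rec (motive := fun _ => List ℕ) (Bool.rec (motive := fun _ => List ℕ) (Bool.rec (motive := fun _ => List ℕ) (rw3144) (rw3145) (Nat.ble 3145 i)) (Bool.rec (motive := fun _ => List ℕ) (rw3146) (rw3147) (Nat.ble 3147 i)) (Nat.ble 3146 i)) (Bool.rec (motive := fun _ => List ℕ) (Bool.rec (motive := fun _ => List ℕ) (rw3148) (rw3149) (Nat.ble 3149 i)) (Bool.rec (motive := fun _ => List ℕ) (rw3150) (rw3151) (Nat.ble 3151 i)) (Nat.ble 3150 i)) (Nat.ble 3148 i)) (Nat.ble 3144 i)) (Bool.rec (motive := fun _ => List ℕ) (Bool.rec (motive := fun _ => List ℕ) (Bool.rec (motive := fun _ => List ℕ) (Bool.rec (motive := fun _ => List ℕ) (rw3152) (rw3153) (Nat.ble 3153 i)) (Bool.rec (motive := fun _ => List ℕ) (rw3154) (rw3155) (Nat.ble 3155 i)) (Nat.ble 3154 i)) (Bool.rec (motive := fun _ => List ℕ) (Bool.rec (motive := fun _ => List ℕ) (rw3156) (rw3157) (Nat.ble 3157 i)) (Bool.rec (motive := fun _ => List ℕ) (rw3158) (rw3159) (Nat.ble 3159 i)) (Nat.ble 3158 i)) (Nat.ble 3156 i)) (Bool.rec (motive := fun _ => List ℕ) (Bool.rec (motive := fun _ => List ℕ) (Bool.rec (motive := fun _ => List ℕ) (rw3160) (rw3161) (Nat.ble 3161 i)) (Bool.rec (motive := fun _ => List ℕ) (rw3162) (rw3163) (Nat.ble 3163 i)) (Nat.ble 3162 i)) (Bool.rec (motive := fun _ => List ℕ) (Bool.rec (motive := fun _ => List ℕ) (rw3164) (rw3165) (Nat.ble 3165 i)) (Bool.rec (motive := fun _ => List ℕ) (rw3166) (rw3167) (Nat.ble 3167 i)) (Nat.ble 3166 i)) (Nat.ble 3164 i)) (Nat.ble 3160 i)) (Nat.ble 3152 i)) (Bool.rec (motive := fun _ => List ℕ) (Bool.rec (motive := fun _ => List ℕ) (Bool.rec (motive := fun _ => List ℕ) (Bool.rec (motive := fun _ => List ℕ) (Bool.rec (motive := fun _ => List ℕ) (rw3168) (rw3169) (Nat.ble 3169 i)) (Bool.rec (motive := fun _ => List ℕ) (rw3170) (rw3171) (Nat.ble 3171 i)) (Nat.ble 3170 i)) (Bool.rec (motive := fun _ => List ℕ) (Bool.rec (motive := fun _ => List ℕ) (rw3172) (rw3173) (Nat.ble 3173 i)) (Bool.rec (motive := fun _ => List ℕ) (rw3174) (rw3175) (Nat.ble 3175 i)) (Nat.ble 3174 i)) (Nat.ble 3172 i)) (Bool.rec (motive := fun _ => List ℕ) (Bool.rec (motive := fun _ => List ℕ) (Bool.rec (motive := fun _ => List ℕ) (rw3176) (rw3177) (Nat.ble 3177 i)) (Bool.rec (motive := fun _ => List ℕ) (rw3178) (rw3179) (Nat.ble 3179 i)) (Nat.ble 3178 i)) (Bool.rec (motive := fun _ => List ℕ) (Bool.rec (motive := fun _ => List ℕ) (rw3180) (rw3181) (Nat.ble 3181 i)) (Bool.rec (motive := fun _ => List ℕ) (rw3182) (rw3183) (Nat.ble 3183 i)) (Nat.ble 3182 i)) (Nat.ble 3180 i)) (Nat.ble 3176 i)) (Bool.rec (motive := fun _ => List ℕ) (Bool.rec (motive := fun _ => List ℕ) (Bool.rec (motive := fun _ => List ℕ) (Bool.rec (motive := fun _ => List ℕ) (rw3184) (rw3185) (Nat.ble 3185 i)) (Bool.rec (motive := fun _ => List ℕ) (rw3186) (rw3187) (Nat.ble 3187 i)) (Nat.ble 3186 i)) (Bool.rec (motive := fun _ => List ℕ) (Bool.rec (motive := fun _ => List ℕ) (rw3188) (rw3189) (Nat.ble 3189 i)) (Bool.rec (motive := fun _ => List ℕ) (rw3190) (rw3191) (Nat.ble 3191 i)) (Nat.ble 3190 i)) (Nat.ble 3188 i)) (Bool.rec (motive := fun _ => List ℕ) (Bool.rec (motive := fun _ => List ℕ) (Bool.rec (motive := fun _ => List ℕ) (rw3192) (rw3193) (Nat.ble 3193 i)) (Bool.rec (motive := fun _ => List ℕ) (rw3194) (rw3195) (Nat.ble 3195 i)) (Nat.ble 3194 i)) (Bool.rec (motive := fun _ => List ℕ) (Bool.rec (motive := fun _ => List ℕ) (rw3196) (rw3197) (Nat.ble 3197 i)) (Bool.rec (motive := fun _ => List ℕ) (rw3198) (rw3199) (Nat.ble 3199 i)) (Nat.ble 3198 i)) (Nat.ble 3196 i)) (Nat.ble 3192 i)) (Nat.ble 3184 i)) (Nat.ble 3168 i)) (Nat.ble 3136 i)) (Bool.rec (motive := fun _ => List ℕ) (Bool.rec (motive := fun _ => List ℕ) (Bool.rec (motive := fun _ => List ℕ) (Bool.rec (motive := fun _ => List ℕ) (Bool.rec (motive := fun _ => List ℕ) (Bool.rec (motive := fun _ => List ℕ) (Bool.rec (motive := fun _ => List ℕ) (rw3200) (rw3201) (Nat.ble 3201 i)) (Bool.rec (motive := fun _ => List ℕ) (rw3202) (rw3203) (Nat.ble 3203 i)) (Nat.ble 3202 i)) (Bool.rec (motive := fun _ => List ℕ) (Bool.rec (motive := fun _ => List ℕ) (rw3204) (rw3205) (Nat.ble 3205 i)) (Bool.rec (motive := fun _ => List ℕ) (rw3206) (rw3207) (Nat.ble 3207 i)) (Nat.ble 3206 i)) (Nat.ble 3204 i)) (Bool.rec (motive := fun _ => List ℕ) (Bool.rec (motive := fun _ => List ℕ) (Bool.rec (motive := fun _ => List ℕ) (rw3208) (rw3209) (Nat.ble 3209 i)) (Bool.rec (motive := fun _ => List ℕ) (rw3210) (rw3211) (Nat.ble 3211 i)) (Nat.ble 3210 i)) (Bool.rec (motive := fun _ => List ℕ) (Bool.rec (motive := fun _ => List ℕ) (rw3212) (rw3213) (Nat.ble 3213 i)) (Bool.rec (motive := fun _ => List ℕ) (rw3214) (rw3215) (Nat.ble 3215 i)) (Nat.ble 3214 i)) (Nat.ble 3212 i)) (Nat.ble 3208 i)) (Bool.rec (motive := fun _ => List ℕ) (Bool.rec (motive := fun _ => List ℕ) (Bool.rec (motive := fun _ => List ℕ) (Bool.rec (motive := fun _ => List ℕ) (rw3216) (rw3217) (Nat.ble 3217 i)) (Bool.rec (motive := fun _ => List ℕ) (rw3218) (rw3219) (Nat.ble 3219 i)) (Nat.ble 3218 i)) (Bool.rec (motive := fun _ => List ℕ) (Bool.rec (motive := fun _ => List ℕ) (rw3220) (rw3221) (Nat.ble 3221 i)) (Bool.rec (motive := fun _ => List ℕ) (rw3222) (rw3223) (Nat.ble 3223 i)) (Nat.ble 3222 i)) (Nat.ble 3220 i)) (Bool.rec (motive := fun _ => List ℕ) (Bool.rec (motive := fun _ => List ℕ) (Bool.rec (motive := fun _ => List ℕ) (rw3224) (rw3225) (Nat.ble 3225 i)) (Bool.rec (motive := fun _ => List ℕ) (rw3226) (rw3227) (Nat.ble 3227 i)) (Nat.ble 3226 i)) (Bool.rec (motive := fun _ => List ℕ) (Bool.rec (motive := fun _ => List ℕ) (rw3228) (rw3229) (Nat.ble 3229 i)) (Bool.rec (motive := fun _ => List ℕ) (rw3230) (rw3231) (Nat.ble 3231 i)) (Nat.ble 3230 i)) (Nat.ble 3228 i)) (Nat.ble 3224 i)) (Nat.ble 3216 i)) (Bool.rec (motive := fun _ => List ℕ) (Bool.rec (motive := fun _ => List ℕ) (Bool.rec (motive := fun _ => List ℕ) (Bool.rec (motive := fun _ => List ℕ) (Bool.rec (motive := fun _ => List ℕ) (rw3232) (rw3233) (Nat.ble 3233 i)) (Bool.rec (motive := fun _ => List ℕ) (rw3234) (rw3235) (Nat.ble 3235 i)) (Nat.ble 3234 i)) (Bool.rec (motive := fun _ => List ℕ) (Bool.rec (motive := fun _ => List ℕ) (rw3236) (rw3237) (Nat.ble 3237 i)) (Bool.rec (motive := fun _ => List ℕ) (rw3238) (rw3239) (Nat.ble 3239 i)) (Nat.ble 3238 i)) (Nat.ble 3236 i)) (Bool.rec (motive := fun _ => List ℕ) (Bool.rec (motive := fun _ => List ℕ) (Bool.rec (motive := fun _ => List ℕ) (rw3240) (rw3241) (Nat.ble 3241 i)) (Bool.rec (motive := fun _ => List ℕ) (rw3242) (rw3243) (Nat.ble 3243 i)) (Nat.ble 3242 i)) (Bool.rec (motive := fun _ => List ℕ) (Bool.rec (motive := fun _ => List ℕ) (rw3244) (rw3245) (Nat.ble 3245 i)) (Bool.rec (motive := fun _ => List ℕ) (rw3246) (rw3247) (Nat.ble 3247 i)) (Nat.ble 3246 i)) (Nat.ble 3244 i)) (Nat.ble 3240 i)) (Bool.rec (motive := fun _ => List ℕ) (Bool.rec (motive := fun _ => List ℕ) (Bool.rec (motive := fun _ => List ℕ) (Bool.rec (motive := fun _ => List ℕ) (rw3248) (rw3249) (Nat.ble 3249 i)) (Bool.rec (motive := fun _ => List ℕ) (rw3250) (rw3251) (Nat.ble 3251 i)) (Nat.ble 3250 i)) (Bool.rec (motive := fun _ => List ℕ) (Bool.rec (motive := fun _ => List ℕ) (rw3252) (rw3253) (Nat.ble 3253 i)) (Bool.rec (motive := fun _ => List ℕ) (rw3254) (rw3255) (Nat.ble 3255 i)) (Nat.ble 3254 i)) (Nat.ble 3252 i)) (Bool.rec (motive := fun _ => List ℕ) (Bool.rec (motive := fun _ => List ℕ) (Bool.rec (motive := fun _ => List ℕ) (rw3256) (rw3257) (Nat.ble 3257 i)) (Bool.rec (motive := fun _ => List ℕ) (rw3258) (rw3259) (Nat.ble 3259 i)) (Nat.ble 3258 i)) (Bool.rec (motive := fun _ => List ℕ) (Bool.rec (motive := fun _ => List ℕ) (rw3260) (rw3261) (Nat.ble 3261 i)) (Bool.rec (motive := fun _ => List ℕ) (rw3262) (rw3263) (Nat.ble 3263 i)) (Nat.ble 3262 i)) (Nat.ble 3260 i)) (Nat.ble 3256 i)) (Nat.ble 3248 i)) (Nat.ble 3232 i)) (Bool.rec (motive := fun _ => List ℕ) (Bool.rec (motive := fun _ => List ℕ) (Bool.rec (motive := fun _ => List ℕ) (Bool.rec (motive := fun _ => List ℕ) (Bool.rec (motive := fun _ => List ℕ) (Bool.rec (motive := fun _ => List ℕ) (rw3264) (rw3265) (Nat.ble 3265 i)) (Bool.rec (motive := fun _ => List ℕ) (rw3266) (rw3267) (Nat.ble 3267 i)) (Nat.ble 3266 i)) (Bool.rec (motive := fun _ => List ℕ) (Bool.rec (motive := fun _ => List ℕ) (rw3268) (rw3269) (Nat.ble 3269 i)) (Bool.rec (motive := fun _ => List ℕ) (rw3270) (rw3271) (Nat.ble 3271 i)) (Nat.ble 3270 i)) (Nat.ble 3268 i)) (Bool.rec (motive := fun _ => List ℕ) (Bool.rec (motive := fun _ => List ℕ) (Bool.rec (motive := fun _ => List ℕ) (rw3272) (rw3273) (Nat.ble 3273 i)) (Bool.rec (motive := fun _ => List ℕ) (rw3274) (rw3275) (Nat.ble 3275 i)) (Nat.ble 3274 i)) (Bool.rec (motive := fun _ => List ℕ) (Bool.rec (motive := fun _ => List ℕ) (rw3276) (rw3277) (Nat.ble 3277 i)) (Bool.rec (motive := fun _ => List ℕ) (rw3278) (rw3279) (Nat.ble 3279 i)) (Nat.ble 3278 i)) (Nat.ble 3276 i)) (Nat.ble 3272 i)) (Bool.rec (motive := fun _ => List ℕ) (Bool.rec (motive := fun _ => List ℕ) (Bool.rec (motive := fun _ => List ℕ) (Bool.rec (motive := fun _ => List ℕ) (rw3280) (rw3281) (Nat.ble 3281 i)) (Bool.rec (motive := fun _ => List ℕ) (rw3282) (rw3283) (Nat.ble 3283 i)) (Nat.ble 3282 i)) (Bool.rec (motive := fun _ => List ℕ) (Bool.rec (motive := fun _ => List ℕ) (rw3284) (rw3285) (Nat.ble 3285 i)) (Bool.rec (motive := fun _ => List ℕ) (rw3286) (rw3287) (Nat.ble 3287 i)) (Nat.ble 3286 i)) (Nat.ble 3284 i)) (Bool.rec (motive := fun _ => List ℕ) (Bool.rec (motive := fun _ => List ℕ) (Bool.rec (motive := fun _ => List ℕ) (rw3288) (rw3289) (Nat.ble 3289 i)) (Bool.rec (motive := fun _ => List ℕ) (rw3290) (rw3291) (Nat.ble 3291 i)) (Nat.ble 3290 i)) (Bool.rec (motive := fun _ => List ℕ) (Bool.rec (motive := fun _ => List ℕ) (rw3292) (rw3293) (Nat.ble 3293 i)) (Bool.rec (motive := fun _ => List ℕ) (rw3294) (rw3295) (Nat.ble 3295 i)) (Nat.ble 3294 i)) (Nat.ble 3292 i)) (Nat.ble 3288 i)) (Nat.ble 3280 i)) (Bool.rec (motive := fun _ => List ℕ) (Bool.rec (motive := fun _ => List ℕ) (Bool.rec (motive := fun _ => List ℕ) (Bool.rec (motive := fun _ => List ℕ) (Bool.rec (motive := fun _ => List ℕ) (rw3296) (rw3297) (Nat.ble 3297 i)) (Bool.rec (motive := fun _ => List ℕ) (rw3298) (rw3299) (Nat.ble 3299 i)) (Nat.ble 3298 i)) (Bool.rec (motive := fun _ => List ℕ) (Bool.rec (motive := fun _ => List ℕ) (rw3300) (rw3301) (Nat.ble 3301 i)) (Bool.rec (motive := fun _ => List ℕ) (rw3302) (rw3303) (Nat.ble 3303 i)) (Nat.ble 3302 i)) (Nat.ble 3300 i)) (Bool.rec (motive := fun _ => List ℕ) (Bool.rec (motive := fun _ => List ℕ) (Bool.rec (motive := fun _ => List ℕ) (rw3304) (rw3305) (Nat.ble 3305 i)) (Bool.rec (motive := fun _ => List ℕ) (rw3306) (rw3307) (Nat.ble 3307 i)) (Nat.ble 3306 i)) (Bool.rec (motive := fun _ => List ℕ) (Bool.rec (motive := fun _ => List ℕ) (rw3308) (rw3309) (Nat.ble 3309 i)) (Bool.rec (motive := fun _ => List ℕ) (rw3310) (rw3311) (Nat.ble 3311 i)) (Nat.ble 3310 i)) (Nat.ble 3308 i)) (Nat.ble 3304 i)) (Bool.rec (motive := fun _ => List ℕ) (Bool.rec (motive := fun _ => List ℕ) (Bool.rec (motive := fun _ => List ℕ) (Bool.rec (motive := fun _ => List ℕ) (rw3312) (rw3313) (Nat.ble 3313 i)) (Bool.rec (motive := fun _ => List ℕ) (rw3314) (rw3315) (Nat.ble 3315 i)) (Nat.ble 3314 i)) (Bool.rec (motive := fun _ => List ℕ) (Bool.rec (motive := fun _ => List ℕ) (rw3316) (rw3317) (Nat.ble 3317 i)) (Bool.rec (motive := fun _ => List ℕ) (rw3318) (rw3319) (Nat.ble 3319 i)) (Nat.ble 3318 i)) (Nat.ble 3316 i)) (Bool.rec (motive := fun _ => List ℕ) (Bool.rec (motive := fun _ => List ℕ) (Bool.rec (motive := fun _ => List ℕ) (rw3320) (rw3321) (Nat.ble 3321 i)) (Bool.rec (motive := fun _ => List ℕ) (rw3322) (rw3323) (Nat.ble 3323 i)) (Nat.ble 3322 i)) (Bool.rec (motive := fun _ => List ℕ) (Bool.rec (motive := fun _ => List ℕ) (rw3324) (rw3325) (Nat.ble 3325 i)) (Bool.rec (motive := fun _ => List ℕ) (rw3326) (rw3327) (Nat.ble 3327 i)) (Nat.ble 3326 i)) (Nat.ble 3324 i)) (Nat.ble 3320 i)) (Nat.ble 3312 i)) (Nat.ble 3296 i)) (Nat.ble 3264 i)) (Nat.ble 3200 i)) (Bool.rec (motive := fun _ => List ℕ) (Bool.rec (motive := fun _ => List ℕ) (Bool.rec (motive := fun _ => List ℕ) (Bool.rec (motive := fun _ => List ℕ) (Bool.rec (motive := fun _ => List ℕ) (Bool.rec (motive := fun _ => List ℕ) (Bool.rec (motive := fun _ => List ℕ) (Bool.rec (motive := fun _ => List ℕ) (rw3328) (rw3329) (Nat.ble 3329 i)) (Bool.rec (motive := fun _ => List ℕ) (rw3330) (rw3331) (Nat.ble 3331 i)) (Nat.ble 3330 i)) (Bool.rec (motive := fun _ => List ℕ) (Bool.rec (motive := fun _ => List ℕ) (rw3332) (rw3333) (Nat.ble 3333 i)) (Bool.rec (motive := fun _ => List ℕ) (rw3334) (rw3335) (Nat.ble 3335 i)) (Nat.ble 3334 i)) (Nat.ble 3332 i)) (Bool.rec (motive := fun _ => List ℕ) (Bool.rec (motive := fun _ => List ℕ) (Bool.rec (motive := fun _ => List ℕ) (rw3336) (rw3337) (Nat.ble 3337 i)) (Bool.rec (motive := fun _ => List ℕ) (rw3338) (rw3339) (Nat.ble 3339 i)) (Nat.ble 3338 i)) (Bool.rec (motive := fun _ => List ℕ) (Bool.rec (motive := fun _ => List ℕ) (rw3340) (rw3341) (Nat.ble 3341 i)) (Bool.rec (motive := fun _ => List ℕ) (rw3342) (rw3343) (Nat.ble 3343 i)) (Nat.ble 3342 i)) (Nat.ble 3340 i)) (Nat.ble 3336 i)) (Bool.rec (motive := fun _ => List ℕ) (Bool.rec (motive := fun _ => List ℕ) (Bool.rec (motive := fun _ => List ℕ) (Bool.rec (motive := fun _ => List ℕ) (rw3344) (rw3345) (Nat.ble 3345 i)) (Bool.rec (motive := fun _ => List ℕ) (rw3346) (rw3347) (Nat.ble 3347 i)) (Nat.ble 3346 i)) (Bool.rec (motive := fun _ => List ℕ) (Bool.rec (motive := fun _ => List ℕ) (rw3348) (rw3349) (Nat.ble 3349 i)) (Bool.rec (motive := fun _ => List ℕ) (rw3350) (rw3351) (Nat.ble 3351 i)) (Nat.ble 3350 i)) (Nat.ble 3348 i)) (Bool.rec (motive := fun _ => List ℕ) (Bool.rec (motive := fun _ => List ℕ) (Bool.rec (motive := fun _ => List ℕ) (rw3352) (rw3353) (Nat.ble 3353 i)) (Bool.rec (motive := fun _ => List ℕ) (rw3354) (rw3355) (Nat.ble 3355 i)) (Nat.ble 3354 i)) (Bool.rec (motive := fun _ => List ℕ) (Bool.rec (motive := fun _ => List ℕ) (rw3356) ([]) (Nat.ble 3357 i)) ([]) (Nat.ble 3358 i)) (Nat.ble 3356 i)) (Nat.ble 3352 i)) (Nat.ble 3344 i)) ([]) (Nat.ble 3360 i)) ([]) (Nat.ble 3392 i)) ([]) (Nat.ble 3456 i)) (Nat.ble 3328 i)) ([]) (Nat.ble 3584 i)) (Nat.ble 3072 i)) (Nat.ble 2048 i))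
def sw0 : List ℕ := [0]
def sw1 : List ℕ := [2]
def sw2 : List ℕ := [4]
def sw3 : List ℕ := [6]
noncomputable def subW (i : ℕ) : List ℕ := (Bool.rec (motive := fun _ => List ℕ) (Bool.rec (motive := fun _ => List ℕ) (sw0) (sw1) (Nat.ble 1 i)) (Bool.rec (motive := fun _ => List ℕ) (sw2) (sw3) (Nat.ble 3 i)) (Nat.ble 2 i))

noncomputable def data : Data where
  w := 17
  mask := 131071
  tw := 19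
  tmask := 524287
  hsh := 36
  lsh := 53
  ew := 55
  emask := 36028797018963967
  mw := 58
  mmask := 288230376151711743
  jw := 25
  jmask := 33554431
  bsh := 11
  bmask := 2047
  nc := 10
  fuel := 10
  E := eT
  J := jT
  Mg := mgT
  JM := jmT
  relW := relW
  nrot := 3357
  subW := subW
  nsub := 4

def M : ℕ := 74393
def n : ℕ := 2025

def bases : List (List ℕ) := [
  [0, 0, 0, 0, 0, 0, 0],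
  [1, 1, 1, 1, 1, 1, 1],
  [2, 2, 2, 2, 2, 2, 2],
  [3, 3, 3, 3, 3, 3, 3],
  [4, 4, 4, 4, 4, 4, 4],
  [5, 5, 5, 5, 5, 5, 5],
  [6, 6, 6, 6, 6, 6, 6],
  [7, 7, 7, 7, 7, 7, 7],
  [8, 8, 8, 8, 8, 8, 8],
  [9, 9, 9, 9, 9, 9, 9],
  [3, 1, 2, 0, 2, 1],
  [0, 3, 1, 3, 0, 2],
  [7, 5, 6, 4, 6, 5],
  [4, 7, 5, 7, 4, 6],
  [9, 7, 8, 6, 8, 7],
  [6, 9, 7, 9, 6, 8],
  [5, 3, 3, 4, 2, 2, 4, 3, 3],
  [2, 2, 5, 3, 3, 5, 2, 2, 4],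
  [3, 3, 0, 0, 3, 0, 2, 1, 1, 2, 2, 1, 1],
  [0, 0, 3, 3, 0, 0, 3, 1, 2, 1, 1, 2, 2],
  [0, 2, 0, 2, 0, 2],
  [3, 1, 3, 1, 3, 1],
  [0, 2, 2, 0, 2, 2],
  [3, 3, 1, 3, 3, 1],
  [0, 0, 2, 0, 3, 3, 1, 3],
  [2, 0, 2, 2, 1, 3, 1, 1],
  [2, 5, 2, 5, 2, 5, 0, 4, 3, 4, 3, 4, 3, 1],
  [0, 2, 5, 2, 5, 2, 5, 1, 4, 3, 4, 3, 4, 3],
  [2, 5, 2, 5, 2, 5, 2, 4, 3, 4, 3, 4, 3, 3],
  [2, 2, 5, 2, 5, 2, 5, 3, 4, 3, 4, 3, 4, 3],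
  [2, 5, 2, 5, 2, 5, 4, 4, 3, 4, 3, 4, 3, 5],
  [4, 2, 5, 2, 5, 2, 5, 5, 4, 3, 4, 3, 4, 3],
  [2, 5, 2, 5, 2, 5, 6, 4, 3, 4, 3, 4, 3, 7],
  [6, 2, 5, 2, 5, 2, 5, 7, 4, 3, 4, 3, 4, 3],
  [2, 5, 2, 5, 2, 5, 8, 4, 3, 4, 3, 4, 3, 9],
  [8, 2, 5, 2, 5, 2, 5, 9, 4, 3, 4, 3, 4, 3],
  [4, 4, 6, 4, 4, 6, 0, 7, 5, 5, 7, 5, 5, 1],
  [0, 4, 4, 6, 4, 4, 6, 1, 7, 5, 5, 7, 5, 5],
  [4, 4, 6, 4, 4, 6, 2, 7, 5, 5, 7, 5, 5, 3],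
  [2, 4, 4, 6, 4, 4, 6, 3, 7, 5, 5, 7, 5, 5],
  [4, 4, 6, 4, 4, 6, 4, 7, 5, 5, 7, 5, 5, 5],
  [4, 4, 4, 6, 4, 4, 6, 5, 7, 5, 5, 7, 5, 5],
  [4, 4, 6, 4, 4, 6, 6, 7, 5, 5, 7, 5, 5, 7],
  [6, 4, 4, 6, 4, 4, 6, 7, 7, 5, 5, 7, 5, 5],
  [4, 4, 6, 4, 4, 6, 8, 7, 5, 5, 7, 5, 5, 9],
  [8, 4, 4, 6, 4, 4, 6, 9, 7, 5, 5, 7, 5, 5],
  [4, 6, 4, 6, 4, 6, 0, 7, 5, 7, 5, 7, 5, 1],
  [0, 4, 6, 4, 6, 4, 6, 1, 7, 5, 7, 5, 7, 5],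
  [4, 6, 4, 6, 4, 6, 2, 7, 5, 7, 5, 7, 5, 3],
  [2, 4, 6, 4, 6, 4, 6, 3, 7, 5, 7, 5, 7, 5],
  [4, 6, 4, 6, 4, 6, 4, 7, 5, 7, 5, 7, 5, 5],
  [4, 4, 6, 4, 6, 4, 6, 5, 7, 5, 7, 5, 7, 5],
  [4, 6, 4, 6, 4, 6, 8, 7, 5, 7, 5, 7, 5, 9],
  [8, 4, 6, 4, 6, 4, 6, 9, 7, 5, 7, 5, 7, 5],
  [4, 6, 4, 7, 5, 7, 0, 6, 4, 6, 5, 7, 5, 1],
  [0, 4, 6, 4, 7, 5, 7, 1, 6, 4, 6, 5, 7, 5],
  [4, 6, 4, 7, 5, 7, 2, 6, 4, 6, 5, 7, 5, 3],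
  [2, 4, 6, 4, 7, 5, 7, 3, 6, 4, 6, 5, 7, 5],
  [4, 6, 4, 7, 5, 7, 4, 6, 4, 6, 5, 7, 5, 5],
  [4, 4, 6, 4, 7, 5, 7, 5, 6, 4, 6, 5, 7, 5],
  [4, 6, 4, 7, 5, 7, 6, 6, 4, 6, 5, 7, 5, 7],
  [6, 4, 6, 4, 7, 5, 7, 7, 6, 4, 6, 5, 7, 5],
  [4, 6, 4, 7, 5, 7, 8, 6, 4, 6, 5, 7, 5, 9],
  [8, 4, 6, 4, 7, 5, 7, 9, 6, 4, 6, 5, 7, 5],
  [0, 0, 5, 2, 1, 3, 5, 0, 4, 2, 0, 3, 4, 1, 1, 1],
  [0, 0, 0, 5, 2, 1, 3, 5, 1, 4, 2, 0, 3, 4, 1, 1],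
  [0, 0, 5, 2, 1, 3, 5, 2, 4, 2, 0, 3, 4, 1, 1, 3],
  [2, 0, 0, 5, 2, 1, 3, 5, 3, 4, 2, 0, 3, 4, 1, 1],
  [0, 0, 5, 2, 1, 3, 5, 4, 4, 2, 0, 3, 4, 1, 1, 5],
  [4, 0, 0, 5, 2, 1, 3, 5, 5, 4, 2, 0, 3, 4, 1, 1],
  [0, 0, 5, 2, 1, 3, 5, 6, 4, 2, 0, 3, 4, 1, 1, 7],
  [6, 0, 0, 5, 2, 1, 3, 5, 7, 4, 2, 0, 3, 4, 1, 1],
  [0, 0, 5, 2, 1, 3, 5, 8, 4, 2, 0, 3, 4, 1, 1, 9],
  [8, 0, 0, 5, 2, 1, 3, 5, 9, 4, 2, 0, 3, 4, 1, 1],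
  [0, 3, 5, 1, 5, 1, 4, 0, 5, 0, 4, 0, 4, 2, 1, 1],
  [0, 0, 3, 5, 1, 5, 1, 4, 1, 5, 0, 4, 0, 4, 2, 1],
  [0, 3, 5, 1, 5, 1, 4, 2, 5, 0, 4, 0, 4, 2, 1, 3],
  [2, 0, 3, 5, 1, 5, 1, 4, 3, 5, 0, 4, 0, 4, 2, 1],
  [0, 3, 5, 1, 5, 1, 4, 4, 5, 0, 4, 0, 4, 2, 1, 5],
  [4, 0, 3, 5, 1, 5, 1, 4, 5, 5, 0, 4, 0, 4, 2, 1],
  [0, 3, 5, 1, 5, 1, 4, 6, 5, 0, 4, 0, 4, 2, 1, 7],
  [6, 0, 3, 5, 1, 5, 1, 4, 7, 5, 0, 4, 0, 4, 2, 1],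
  [0, 3, 5, 1, 5, 1, 4, 8, 5, 0, 4, 0, 4, 2, 1, 9],
  [8, 0, 3, 5, 1, 5, 1, 4, 9, 5, 0, 4, 0, 4, 2, 1],
  [2, 5, 5, 5, 2, 5, 5, 5, 0, 4, 4, 4, 3, 4, 4, 4, 3, 1],
  [0, 2, 5, 5, 5, 2, 5, 5, 5, 1, 4, 4, 4, 3, 4, 4, 4, 3],
  [2, 5, 5, 5, 2, 5, 5, 5, 2, 4, 4, 4, 3, 4, 4, 4, 3, 3],
  [2, 2, 5, 5, 5, 2, 5, 5, 5, 3, 4, 4, 4, 3, 4, 4, 4, 3],
  [2, 5, 5, 5, 2, 5, 5, 5, 4, 4, 4, 4, 3, 4, 4, 4, 3, 5],
  [4, 2, 5, 5, 5, 2, 5, 5, 5, 5, 4, 4, 4, 3, 4, 4, 4, 3],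
  [2, 5, 5, 5, 2, 5, 5, 5, 6, 4, 4, 4, 3, 4, 4, 4, 3, 7],
  [6, 2, 5, 5, 5, 2, 5, 5, 5, 7, 4, 4, 4, 3, 4, 4, 4, 3],
  [2, 5, 5, 5, 2, 5, 5, 5, 8, 4, 4, 4, 3, 4, 4, 4, 3, 9],
  [8, 2, 5, 5, 5, 2, 5, 5, 5, 9, 4, 4, 4, 3, 4, 4, 4, 3],
  [6, 9, 6, 9, 6, 9, 6, 9, 0, 8, 7, 8, 7, 8, 7, 8, 7, 1],
  [0, 6, 9, 6, 9, 6, 9, 6, 9, 1, 8, 7, 8, 7, 8, 7, 8, 7],
  [6, 9, 6, 9, 6, 9, 6, 9, 2, 8, 7, 8, 7, 8, 7, 8, 7, 3],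
  [2, 6, 9, 6, 9, 6, 9, 6, 9, 3, 8, 7, 8, 7, 8, 7, 8, 7],
  [6, 9, 6, 9, 6, 9, 6, 9, 4, 8, 7, 8, 7, 8, 7, 8, 7, 5],
  [4, 6, 9, 6, 9, 6, 9, 6, 9, 5, 8, 7, 8, 7, 8, 7, 8, 7],
  [6, 9, 6, 9, 6, 9, 6, 9, 6, 8, 7, 8, 7, 8, 7, 8, 7, 7],
  [6, 6, 9, 6, 9, 6, 9, 6, 9, 7, 8, 7, 8, 7, 8, 7, 8, 7],
  [6, 9, 6, 9, 6, 9, 6, 9, 8, 8, 7, 8, 7, 8, 7, 8, 7, 9],
  [8, 6, 9, 6, 9, 6, 9, 6, 9, 9, 8, 7, 8, 7, 8, 7, 8, 7],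
  [4, 4, 9, 4, 4, 9, 4, 4, 9, 0, 8, 5, 5, 8, 5, 5, 8, 5, 5, 1],
  [0, 4, 4, 9, 4, 4, 9, 4, 4, 9, 1, 8, 5, 5, 8, 5, 5, 8, 5, 5],
  [4, 4, 9, 4, 4, 9, 4, 4, 9, 2, 8, 5, 5, 8, 5, 5, 8, 5, 5, 3],
  [2, 4, 4, 9, 4, 4, 9, 4, 4, 9, 3, 8, 5, 5, 8, 5, 5, 8, 5, 5],
  [4, 4, 9, 4, 4, 9, 4, 4, 9, 4, 8, 5, 5, 8, 5, 5, 8, 5, 5, 5],
  [4, 4, 4, 9, 4, 4, 9, 4, 4, 9, 5, 8, 5, 5, 8, 5, 5, 8, 5, 5],
  [4, 4, 9, 4, 4, 9, 4, 4, 9, 6, 8, 5, 5, 8, 5, 5, 8, 5, 5, 7],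
  [6, 4, 4, 9, 4, 4, 9, 4, 4, 9, 7, 8, 5, 5, 8, 5, 5, 8, 5, 5],
  [4, 4, 9, 4, 4, 9, 4, 4, 9, 8, 8, 5, 5, 8, 5, 5, 8, 5, 5, 9],
  [8, 4, 4, 9, 4, 4, 9, 4, 4, 9, 9, 8, 5, 5, 8, 5, 5, 8, 5, 5],
  [2, 2, 5, 9, 2, 4, 2, 5, 8, 7, 0, 6, 9, 4, 3, 5, 3, 8, 4, 3, 3, 1],
  [0, 2, 2, 5, 9, 2, 4, 2, 5, 8, 7, 1, 6, 9, 4, 3, 5, 3, 8, 4, 3, 3],
  [2, 2, 5, 9, 2, 4, 2, 5, 8, 7, 2, 6, 9, 4, 3, 5, 3, 8, 4, 3, 3, 3],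
  [2, 2, 2, 5, 9, 2, 4, 2, 5, 8, 7, 3, 6, 9, 4, 3, 5, 3, 8, 4, 3, 3],
  [2, 2, 5, 9, 2, 4, 2, 5, 8, 7, 4, 6, 9, 4, 3, 5, 3, 8, 4, 3, 3, 5],
  [4, 2, 2, 5, 9, 2, 4, 2, 5, 8, 7, 5, 6, 9, 4, 3, 5, 3, 8, 4, 3, 3],
  [2, 2, 5, 9, 2, 4, 2, 5, 8, 7, 6, 6, 9, 4, 3, 5, 3, 8, 4, 3, 3, 7],
  [6, 2, 2, 5, 9, 2, 4, 2, 5, 8, 7, 7, 6, 9, 4, 3, 5, 3, 8, 4, 3, 3],
  [2, 2, 5, 9, 2, 4, 2, 5, 8, 7, 8, 6, 9, 4, 3, 5, 3, 8, 4, 3, 3, 9],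
  [8, 2, 2, 5, 9, 2, 4, 2, 5, 8, 7, 9, 6, 9, 4, 3, 5, 3, 8, 4, 3, 3],
  [2, 6, 5, 5, 6, 3, 6, 5, 6, 4, 0, 5, 7, 4, 7, 2, 7, 4, 4, 7, 3, 1],
  [0, 2, 6, 5, 5, 6, 3, 6, 5, 6, 4, 1, 5, 7, 4, 7, 2, 7, 4, 4, 7, 3],
  [2, 6, 5, 5, 6, 3, 6, 5, 6, 4, 2, 5, 7, 4, 7, 2, 7, 4, 4, 7, 3, 3],
  [2, 2, 6, 5, 5, 6, 3, 6, 5, 6, 4, 3, 5, 7, 4, 7, 2, 7, 4, 4, 7, 3],
  [2, 6, 5, 5, 6, 3, 6, 5, 6, 4, 4, 5, 7, 4, 7, 2, 7, 4, 4, 7, 3, 5],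
  [4, 2, 6, 5, 5, 6, 3, 6, 5, 6, 4, 5, 5, 7, 4, 7, 2, 7, 4, 4, 7, 3],
  [2, 6, 5, 5, 6, 3, 6, 5, 6, 4, 6, 5, 7, 4, 7, 2, 7, 4, 4, 7, 3, 7],
  [6, 2, 6, 5, 5, 6, 3, 6, 5, 6, 4, 7, 5, 7, 4, 7, 2, 7, 4, 4, 7, 3],
  [2, 6, 5, 5, 6, 3, 6, 5, 6, 4, 8, 5, 7, 4, 7, 2, 7, 4, 4, 7, 3, 9],
  [8, 2, 6, 5, 5, 6, 3, 6, 5, 6, 4, 9, 5, 7, 4, 7, 2, 7, 4, 4, 7, 3],
  [4, 4, 7, 7, 4, 9, 6, 6, 9, 9, 0, 8, 8, 7, 7, 8, 5, 6, 6, 5, 5, 1],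
  [0, 4, 4, 7, 7, 4, 9, 6, 6, 9, 9, 1, 8, 8, 7, 7, 8, 5, 6, 6, 5, 5],
  [4, 4, 7, 7, 4, 9, 6, 6, 9, 9, 2, 8, 8, 7, 7, 8, 5, 6, 6, 5, 5, 3],
  [2, 4, 4, 7, 7, 4, 9, 6, 6, 9, 9, 3, 8, 8, 7, 7, 8, 5, 6, 6, 5, 5],
  [4, 4, 7, 7, 4, 9, 6, 6, 9, 9, 4, 8, 8, 7, 7, 8, 5, 6, 6, 5, 5, 5],
  [4, 4, 4, 7, 7, 4, 9, 6, 6, 9, 9, 5, 8, 8, 7, 7, 8, 5, 6, 6, 5, 5],
  [4, 4, 7, 7, 4, 9, 6, 6, 9, 9, 6, 8, 8, 7, 7, 8, 5, 6, 6, 5, 5, 7],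
  [6, 4, 4, 7, 7, 4, 9, 6, 6, 9, 9, 7, 8, 8, 7, 7, 8, 5, 6, 6, 5, 5],
  [4, 4, 7, 7, 4, 9, 6, 6, 9, 9, 8, 8, 8, 7, 7, 8, 5, 6, 6, 5, 5, 9],
  [8, 4, 4, 7, 7, 4, 9, 6, 6, 9, 9, 9, 8, 8, 7, 7, 8, 5, 6, 6, 5, 5],
  [0, 2, 1, 8, 8, 8, 1, 2, 1, 8, 4, 0, 5, 9, 0, 3, 0, 9, 9, 9, 0, 3, 1, 1],
  [0, 0, 2, 1, 8, 8, 8, 1, 2, 1, 8, 4, 1, 5, 9, 0, 3, 0, 9, 9, 9, 0, 3, 1],
  [0, 2, 1, 8, 8, 8, 1, 2, 1, 8, 4, 2, 5, 9, 0, 3, 0, 9, 9, 9, 0, 3, 1, 3],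
  [2, 0, 2, 1, 8, 8, 8, 1, 2, 1, 8, 4, 3, 5, 9, 0, 3, 0, 9, 9, 9, 0, 3, 1],
  [0, 2, 1, 8, 8, 8, 1, 2, 1, 8, 4, 4, 5, 9, 0, 3, 0, 9, 9, 9, 0, 3, 1, 5],
  [4, 0, 2, 1, 8, 8, 8, 1, 2, 1, 8, 4, 5, 5, 9, 0, 3, 0, 9, 9, 9, 0, 3, 1],
  [0, 2, 1, 8, 8, 8, 1, 2, 1, 8, 4, 6, 5, 9, 0, 3, 0, 9, 9, 9, 0, 3, 1, 7],
  [6, 0, 2, 1, 8, 8, 8, 1, 2, 1, 8, 4, 7, 5, 9, 0, 3, 0, 9, 9, 9, 0, 3, 1],
  [0, 2, 1, 8, 8, 8, 1, 2, 1, 8, 4, 8, 5, 9, 0, 3, 0, 9, 9, 9, 0, 3, 1, 9],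
  [8, 0, 2, 1, 8, 8, 8, 1, 2, 1, 8, 4, 9, 5, 9, 0, 3, 0, 9, 9, 9, 0, 3, 1],
  [2, 2, 2, 2, 4, 3, 3, 3, 4, 0, 5, 2, 2, 2, 5, 3, 3, 3, 3, 1],
  [0, 2, 2, 2, 2, 4, 3, 3, 3, 4, 1, 5, 2, 2, 2, 5, 3, 3, 3, 3],
  [2, 2, 2, 2, 4, 3, 3, 3, 4, 2, 5, 2, 2, 2, 5, 3, 3, 3, 3, 3],
  [2, 2, 2, 2, 2, 4, 3, 3, 3, 4, 3, 5, 2, 2, 2, 5, 3, 3, 3, 3],
  [2, 2, 2, 2, 4, 3, 3, 3, 4, 4, 5, 2, 2, 2, 5, 3, 3, 3, 3, 5],
  [4, 2, 2, 2, 2, 4, 3, 3, 3, 4, 5, 5, 2, 2, 2, 5, 3, 3, 3, 3],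
  [2, 2, 2, 2, 4, 3, 3, 3, 4, 6, 5, 2, 2, 2, 5, 3, 3, 3, 3, 7],
  [6, 2, 2, 2, 2, 4, 3, 3, 3, 4, 7, 5, 2, 2, 2, 5, 3, 3, 3, 3],
  [2, 2, 2, 2, 4, 3, 3, 3, 4, 8, 5, 2, 2, 2, 5, 3, 3, 3, 3, 9],
  [8, 2, 2, 2, 2, 4, 3, 3, 3, 4, 9, 5, 2, 2, 2, 5, 3, 3, 3, 3],
  [0, 2, 4, 0, 5, 5, 5, 0, 4, 4, 4, 1, 5, 3, 1, 1],
  [0, 0, 2, 4, 0, 5, 5, 5, 1, 4, 4, 4, 1, 5, 3, 1],
  [0, 2, 4, 0, 5, 5, 5, 2, 4, 4, 4, 1, 5, 3, 1, 3],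
  [2, 0, 2, 4, 0, 5, 5, 5, 3, 4, 4, 4, 1, 5, 3, 1],
  [0, 2, 4, 0, 5, 5, 5, 4, 4, 4, 4, 1, 5, 3, 1, 5],
  [4, 0, 2, 4, 0, 5, 5, 5, 5, 4, 4, 4, 1, 5, 3, 1],
  [0, 2, 4, 0, 5, 5, 5, 6, 4, 4, 4, 1, 5, 3, 1, 7],
  [6, 0, 2, 4, 0, 5, 5, 5, 7, 4, 4, 4, 1, 5, 3, 1],
  [0, 2, 4, 0, 5, 5, 5, 8, 4, 4, 4, 1, 5, 3, 1, 9],
  [8, 0, 2, 4, 0, 5, 5, 5, 9, 4, 4, 4, 1, 5, 3, 1],
  [0, 3, 0, 4, 4, 0, 3, 4, 0, 5, 2, 1, 5, 5, 1, 2, 1, 1],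
  [0, 0, 3, 0, 4, 4, 0, 3, 4, 1, 5, 2, 1, 5, 5, 1, 2, 1],
  [0, 3, 0, 4, 4, 0, 3, 4, 2, 5, 2, 1, 5, 5, 1, 2, 1, 3],
  [2, 0, 3, 0, 4, 4, 0, 3, 4, 3, 5, 2, 1, 5, 5, 1, 2, 1],
  [0, 3, 0, 4, 4, 0, 3, 4, 4, 5, 2, 1, 5, 5, 1, 2, 1, 5],
  [4, 0, 3, 0, 4, 4, 0, 3, 4, 5, 5, 2, 1, 5, 5, 1, 2, 1],
  [0, 3, 0, 4, 4, 0, 3, 4, 6, 5, 2, 1, 5, 5, 1, 2, 1, 7],
  [6, 0, 3, 0, 4, 4, 0, 3, 4, 7, 5, 2, 1, 5, 5, 1, 2, 1],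
  [0, 3, 0, 4, 4, 0, 3, 4, 8, 5, 2, 1, 5, 5, 1, 2, 1, 9],
  [8, 0, 3, 0, 4, 4, 0, 3, 4, 9, 5, 2, 1, 5, 5, 1, 2, 1],
  [0, 4, 2, 6, 0, 4, 2, 6, 0, 7, 3, 5, 1, 7, 3, 5, 1, 1],
  [0, 0, 4, 2, 6, 0, 4, 2, 6, 1, 7, 3, 5, 1, 7, 3, 5, 1],
  [0, 4, 2, 6, 0, 4, 2, 6, 2, 7, 3, 5, 1, 7, 3, 5, 1, 3],
  [2, 0, 4, 2, 6, 0, 4, 2, 6, 3, 7, 3, 5, 1, 7, 3, 5, 1],
  [0, 4, 2, 6, 0, 4, 2, 6, 4, 7, 3, 5, 1, 7, 3, 5, 1, 5],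
  [4, 0, 4, 2, 6, 0, 4, 2, 6, 5, 7, 3, 5, 1, 7, 3, 5, 1],
  [0, 4, 2, 6, 0, 4, 2, 6, 6, 7, 3, 5, 1, 7, 3, 5, 1, 7],
  [6, 0, 4, 2, 6, 0, 4, 2, 6, 7, 7, 3, 5, 1, 7, 3, 5, 1],
  [0, 4, 2, 6, 0, 4, 2, 6, 8, 7, 3, 5, 1, 7, 3, 5, 1, 9],
  [8, 0, 4, 2, 6, 0, 4, 2, 6, 9, 7, 3, 5, 1, 7, 3, 5, 1],
  [2, 4, 6, 3, 7, 2, 4, 7, 0, 6, 5, 3, 6, 2, 7, 5, 3, 1],
  [0, 2, 4, 6, 3, 7, 2, 4, 7, 1, 6, 5, 3, 6, 2, 7, 5, 3],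
  [2, 4, 6, 3, 7, 2, 4, 7, 2, 6, 5, 3, 6, 2, 7, 5, 3, 3],
  [2, 2, 4, 6, 3, 7, 2, 4, 7, 3, 6, 5, 3, 6, 2, 7, 5, 3],
  [2, 4, 6, 3, 7, 2, 4, 7, 4, 6, 5, 3, 6, 2, 7, 5, 3, 5],
  [4, 2, 4, 6, 3, 7, 2, 4, 7, 5, 6, 5, 3, 6, 2, 7, 5, 3],
  [2, 4, 6, 3, 7, 2, 4, 7, 6, 6, 5, 3, 6, 2, 7, 5, 3, 7],
  [6, 2, 4, 6, 3, 7, 2, 4, 7, 7, 6, 5, 3, 6, 2, 7, 5, 3],
  [2, 4, 6, 3, 7, 2, 4, 7, 8, 6, 5, 3, 6, 2, 7, 5, 3, 9],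
  [8, 2, 4, 6, 3, 7, 2, 4, 7, 9, 6, 5, 3, 6, 2, 7, 5, 3],
  [2, 5, 2, 7, 3, 7, 7, 4, 0, 5, 6, 6, 2, 6, 3, 4, 3, 1],
  [0, 2, 5, 2, 7, 3, 7, 7, 4, 1, 5, 6, 6, 2, 6, 3, 4, 3],
  [2, 5, 2, 7, 3, 7, 7, 4, 2, 5, 6, 6, 2, 6, 3, 4, 3, 3],
  [2, 2, 5, 2, 7, 3, 7, 7, 4, 3, 5, 6, 6, 2, 6, 3, 4, 3],
  [2, 5, 2, 7, 3, 7, 7, 4, 4, 5, 6, 6, 2, 6, 3, 4, 3, 5],
  [4, 2, 5, 2, 7, 3, 7, 7, 4, 5, 5, 6, 6, 2, 6, 3, 4, 3],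
  [2, 5, 2, 7, 3, 7, 7, 4, 6, 5, 6, 6, 2, 6, 3, 4, 3, 7],
  [6, 2, 5, 2, 7, 3, 7, 7, 4, 7, 5, 6, 6, 2, 6, 3, 4, 3],
  [2, 5, 2, 7, 3, 7, 7, 4, 8, 5, 6, 6, 2, 6, 3, 4, 3, 9],
  [8, 2, 5, 2, 7, 3, 7, 7, 4, 9, 5, 6, 6, 2, 6, 3, 4, 3],
  [2, 5, 5, 7, 3, 7, 7, 5, 0, 4, 6, 6, 2, 6, 4, 4, 3, 1],
  [0, 2, 5, 5, 7, 3, 7, 7, 5, 1, 4, 6, 6, 2, 6, 4, 4, 3],
  [2, 5, 5, 7, 3, 7, 7, 5, 2, 4, 6, 6, 2, 6, 4, 4, 3, 3],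
  [2, 2, 5, 5, 7, 3, 7, 7, 5, 3, 4, 6, 6, 2, 6, 4, 4, 3],
  [2, 5, 5, 7, 3, 7, 7, 5, 4, 4, 6, 6, 2, 6, 4, 4, 3, 5],
  [4, 2, 5, 5, 7, 3, 7, 7, 5, 5, 4, 6, 6, 2, 6, 4, 4, 3],
  [2, 5, 5, 7, 3, 7, 7, 5, 6, 4, 6, 6, 2, 6, 4, 4, 3, 7],
  [6, 2, 5, 5, 7, 3, 7, 7, 5, 7, 4, 6, 6, 2, 6, 4, 4, 3],
  [2, 5, 5, 7, 3, 7, 7, 5, 8, 4, 6, 6, 2, 6, 4, 4, 3, 9],
  [8, 2, 5, 5, 7, 3, 7, 7, 5, 9, 4, 6, 6, 2, 6, 4, 4, 3],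
  [2, 6, 6, 6, 2, 6, 6, 6, 0, 7, 7, 7, 3, 7, 7, 7, 3, 1],
  [0, 2, 6, 6, 6, 2, 6, 6, 6, 1, 7, 7, 7, 3, 7, 7, 7, 3],
  [2, 6, 6, 6, 2, 6, 6, 6, 2, 7, 7, 7, 3, 7, 7, 7, 3, 3],
  [2, 2, 6, 6, 6, 2, 6, 6, 6, 3, 7, 7, 7, 3, 7, 7, 7, 3],
  [2, 6, 6, 6, 2, 6, 6, 6, 4, 7, 7, 7, 3, 7, 7, 7, 3, 5],
  [4, 2, 6, 6, 6, 2, 6, 6, 6, 5, 7, 7, 7, 3, 7, 7, 7, 3],
  [2, 6, 6, 6, 2, 6, 6, 6, 6, 7, 7, 7, 3, 7, 7, 7, 3, 7],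
  [6, 2, 6, 6, 6, 2, 6, 6, 6, 7, 7, 7, 7, 3, 7, 7, 7, 3],
  [2, 6, 6, 6, 2, 6, 6, 6, 8, 7, 7, 7, 3, 7, 7, 7, 3, 9],
  [8, 2, 6, 6, 6, 2, 6, 6, 6, 9, 7, 7, 7, 3, 7, 7, 7, 3],
  [4, 6, 5, 6, 4, 6, 6, 6, 0, 7, 7, 7, 5, 7, 4, 7, 5, 1],
  [0, 4, 6, 5, 6, 4, 6, 6, 6, 1, 7, 7, 7, 5, 7, 4, 7, 5],
  [4, 6, 5, 6, 4, 6, 6, 6, 2, 7, 7, 7, 5, 7, 4, 7, 5, 3],
  [2, 4, 6, 5, 6, 4, 6, 6, 6, 3, 7, 7, 7, 5, 7, 4, 7, 5],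
  [4, 6, 5, 6, 4, 6, 6, 6, 4, 7, 7, 7, 5, 7, 4, 7, 5, 5],
  [4, 4, 6, 5, 6, 4, 6, 6, 6, 5, 7, 7, 7, 5, 7, 4, 7, 5],
  [4, 6, 5, 6, 4, 6, 6, 6, 6, 7, 7, 7, 5, 7, 4, 7, 5, 7],
  [6, 4, 6, 5, 6, 4, 6, 6, 6, 7, 7, 7, 7, 5, 7, 4, 7, 5],
  [4, 6, 5, 6, 4, 6, 6, 6, 8, 7, 7, 7, 5, 7, 4, 7, 5, 9],
  [8, 4, 6, 5, 6, 4, 6, 6, 6, 9, 7, 7, 7, 5, 7, 4, 7, 5],
  [4, 7, 4, 7, 4, 7, 4, 7, 0, 6, 5, 6, 5, 6, 5, 6, 5, 1],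
  [0, 4, 7, 4, 7, 4, 7, 4, 7, 1, 6, 5, 6, 5, 6, 5, 6, 5],
  [4, 7, 4, 7, 4, 7, 4, 7, 2, 6, 5, 6, 5, 6, 5, 6, 5, 3],
  [2, 4, 7, 4, 7, 4, 7, 4, 7, 3, 6, 5, 6, 5, 6, 5, 6, 5],
  [4, 7, 4, 7, 4, 7, 4, 7, 4, 6, 5, 6, 5, 6, 5, 6, 5, 5],
  [4, 4, 7, 4, 7, 4, 7, 4, 7, 5, 6, 5, 6, 5, 6, 5, 6, 5],
  [4, 7, 4, 7, 4, 7, 4, 7, 6, 6, 5, 6, 5, 6, 5, 6, 5, 7],
  [6, 4, 7, 4, 7, 4, 7, 4, 7, 7, 6, 5, 6, 5, 6, 5, 6, 5],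
  [4, 7, 4, 7, 4, 7, 4, 7, 8, 6, 5, 6, 5, 6, 5, 6, 5, 9],
  [8, 4, 7, 4, 7, 4, 7, 4, 7, 9, 6, 5, 6, 5, 6, 5, 6, 5]]

def rots : List (ℕ × ℕ) := [(11, 0), (10, 3), (68, 1), (65, 11), (82, 11), (11, 4), (168, 0), (83, 12), (68, 0), (76, 9), (193, 5), (20, 0), (74, 11), (79, 10), (0, 1), (169, 4), (74, 9), (79, 1), (78, 11), (76, 11), (179, 6), (0, 6), (22, 3), (77, 12), (177, 6), (22, 0), (19, 4), (24, 3), (75, 10), (24, 1), (65, 2), (177, 3), (18, 2), (164, 3), (79, 12), (169, 1), (171, 4), (167, 4), (80, 11), (81, 12), (134, 10), (176, 0), (174, 5), (69, 2), (166, 0), (192, 4), (77, 10), (80, 9), (165, 4), (24, 0), (179, 1), (18, 3), (25, 1), (185, 5), (66, 1), (176, 5), (69, 1), (0, 3), (179, 3), (175, 6), (20, 2), (66, 10), (19, 0), (186, 4), (66, 0), (64, 10), (168, 3), (19, 5), (189,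 5), (171, 1), (20, 4), (19, 1), (187, 5), (178, 2), (170, 3), (175, 3), (77, 1), (18, 5), (70, 1), (184, 4), (0, 2), (191, 1), (181, 3), (174, 2), (178, 0), (190, 4), (166, 3), (188, 4), (0, 5), (167, 1), (69, 11), (67, 2), (176, 2), (70, 0), (0, 4), (67, 11), (73, 2), (76, 0), (67, 1), (70, 10), (75, 1), (75, 12), (191, 5), (175, 1), (71, 2), (180, 2), (152, 20), (148, 14), (185, 1), (68, 10), (183, 3), (177, 1), (178, 5), (181, 6), (165, 1), (170, 0), (186, 0), (182, 2), (180, 0), (72, 1), (188, 0), (180, 5), (81, 10), (147, 17), (173, 4), (71, 1), (80, 0), (21, 5), (1, 1), (10, 1), (11, 2), (172, 11), (173, 12), (179, 15), (168, 14), (164, 11), (74, 5), (23, 5), (1, 5), (18, 11), (67, 5), (165, 12), (23, 2), (185, 13), (178, 14), (69, 15), (77, 6), (1, 3), (69, 14), (10, 5), (1, 4),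 (25, 7), (168, 11), (169, 12), (175, 15), (174, 14), (179, 17), (166, 11), (74, 3), (188, 12), (25, 6), (78, 14), (175, 12), (169, 15), (19, 10), (171, 12), (187, 13), (94, 17), (186, 12), (182, 14), (180, 14), (21, 1), (71, 14), (65, 5), (167, 12), (81, 6), (177, 12), (66, 13), (69, 5), (18, 12), (176, 11), (21, 3), (1, 2), (67, 15), (18, 8), (18, 7), (170, 11), (189, 13), (64, 4), (1, 6), (68, 14), (64, 13), (78, 3), (191, 13), (24, 6), (77, 15), (76, 3), (164, 14), (67, 14), (19, 7), (78, 5), (174, 11), (79, 4), (178, 11), (178, 16), (76, 5), (176, 14), (75, 6), (180, 11), (184, 12), (25, 4), (75, 4), (181, 12), (190, 16), (66, 14), (177, 15), (177, 17), (181, 15), (19, 9), (166, 14), (77, 4), (179, 12), (68, 13), (81, 4), (66, 4), (167, 15), (183, 15), (189, 17), (70, 13), (71, 15),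 (147, 7), (72, 13), (170, 14), (80, 3), (176, 16), (74, 14), (171, 15), (190, 12), (76, 14), (70, 14), (184, 16), (180, 16), (174, 16), (181, 17), (73, 14), (20, 1), (10, 4), (11, 5), (29, 3), (30, 0), (168, 1), (96, 8), (20, 5), (78, 13), (10, 2), (26, 4), (25, 0), (64, 9), (85, 5), (16, 4), (17, 7), (178, 15), (233, 5), (26, 2), (16, 5), (22, 1), (17, 6), (2, 1), (156, 13), (22, 5), (217, 13), (25, 2), (17, 1), (84, 0), (207, 13), (28, 4), (19, 11), (169, 2), (17, 0), (22, 4), (65, 10), (208, 12), (206, 2), (2, 6), (18, 6), (77, 14), (89, 5), (92, 4), (68, 9), (207, 3), (2, 4), (211, 1), (231, 1), (196, 13), (128, 15), (210, 12), (2, 5), (216, 12), (160, 13), (30, 4), (206, 12), (88, 4), (226, 4), (230, 0), (197, 14), (159, 13), (207, 1), (161, 3), (170, 1), (210, 2), (91, 5), (199,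 14), (130, 15), (209, 13), (136, 10), (154, 12), (218, 0), (129, 1), (29, 5), (2, 2), (228, 0), (174, 15), (157, 13), (28, 2), (200, 13), (171, 2), (200, 0), (208, 0), (126, 15), (232, 4), (127, 16), (218, 12), (18, 10), (197, 6), (219, 13), (159, 1), (159, 4), (157, 14), (230, 4), (160, 3), (198, 5), (221, 13), (190, 2), (228, 4), (219, 1), (127, 1), (34, 0), (26, 0), (87, 1), (24, 2), (185, 3), (160, 12), (34, 2), (161, 1), (159, 14), (229, 1), (208, 2), (88, 0), (154, 11), (131, 16), (211, 3), (123, 5), (159, 2), (86, 4), (173, 2), (2, 3), (201, 1), (155, 4), (90, 4), (68, 3), (175, 11), (186, 2), (191, 3), (184, 2), (155, 2), (32, 4), (19, 12), (65, 4), (84, 4), (225, 5), (156, 12), (204, 12), (159, 3), (160, 11), (209, 3), (66, 9), (79, 14), (214, 12), (67, 4), (156, 11), (179,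 11), (18, 9), (196, 5), (197, 1), (221, 1), (199, 6), (27, 5), (129, 16), (174, 10), (32, 2), (64, 3), (205, 13), (227, 5), (69, 10), (159, 12), (200, 5), (195, 6), (176, 10), (155, 14), (19, 8), (165, 2), (224, 4), (194, 13), (154, 3), (198, 0), (211, 13), (33, 3), (89, 1), (177, 16), (194, 5), (198, 13), (209, 1), (85, 1), (160, 1), (179, 16), (201, 14), (181, 16), (33, 5), (215, 13), (167, 2), (155, 13), (187, 3), (161, 2), (128, 0), (122, 4), (220, 0), (130, 0), (172, 1), (74, 13), (120, 0), (203, 6), (157, 4), (217, 1), (35, 3), (118, 0), (27, 3), (220, 12), (161, 12), (69, 4), (106, 9), (122, 0), (121, 5), (157, 12), (166, 1), (137, 0), (184, 6), (34, 4), (20, 3), (22, 2), (123, 2), (116, 4), (229, 5), (118, 6), (158, 3), (202, 13), (222, 0), (160, 2), (131, 1), (232, 0), (118,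 1), (201, 6), (212, 2), (160, 0), (122, 1), (163, 13), (117, 5), (117, 7), (118, 4), (35, 1), (154, 2), (155, 3), (161, 14), (203, 1), (231, 5), (199, 1), (119, 7), (162, 11), (67, 10), (177, 11), (161, 4), (164, 1), (162, 1), (90, 0), (119, 5), (133, 16), (195, 14), (87, 5), (120, 1), (120, 6), (213, 3), (116, 6), (123, 1), (29, 1), (25, 3), (27, 1), (66, 3), (121, 7), (162, 12), (120, 4), (176, 15), (119, 2), (81, 14), (161, 13), (162, 0), (146, 7), (162, 2), (122, 6), (75, 14), (175, 16), (154, 13), (133, 1), (32, 0), (163, 1), (183, 16), (121, 2), (132, 15), (180, 15), (162, 3), (71, 4), (188, 2), (203, 14), (189, 3), (70, 3), (182, 15), (192, 2), (210, 0), (125, 16), (124, 15), (163, 14), (107, 0), (205, 3), (154, 0), (121, 1), (33, 1), (212, 12), (163, 4), (35, 5), (92, 0), (223,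 1), (162, 13), (91, 1), (222, 12), (223, 13), (93, 1), (227, 1), (180, 10), (212, 0), (185, 7), (186, 6), (189, 7), (213, 13), (187, 7), (80, 13), (115, 7), (71, 10), (151, 8), (188, 6), (72, 3), (190, 6), (213, 1), (202, 0), (73, 4), (119, 1), (163, 2), (11, 1), (10, 0), (11, 3), (79, 2), (3, 1), (157, 6), (72, 11), (30, 8), (157, 8), (64, 5), (29, 9), (73, 12), (3, 5), (64, 11), (3, 6), (88, 16), (21, 2), (3, 2), (26, 8), (16, 7), (16, 1), (87, 13), (66, 11), (154, 5), (213, 5), (158, 18), (17, 4), (223, 5), (169, 14), (24, 5), (163, 6), (17, 3), (67, 12), (177, 7), (16, 8), (190, 14), (227, 13), (65, 12), (23, 1), (65, 6), (24, 4), (27, 11), (27, 9), (89, 17), (21, 0), (68, 11), (32, 10), (216, 4), (154, 6), (168, 13), (67, 6), (155, 16), (23, 3), (129, 6), (28, 10), (26, 10), (16,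 2), (89, 13), (18, 1), (199, 12), (86, 16), (158, 16), (86, 12), (28, 8), (28, 12), (3, 3), (226, 12), (200, 3), (196, 11), (200, 11), (70, 11), (33, 9), (120, 16), (228, 12), (209, 5), (218, 4), (23, 0), (207, 5), (170, 13), (71, 12), (226, 16), (88, 12), (127, 6), (158, 7), (206, 16), (156, 7), (185, 11), (130, 20), (18, 0), (75, 2), (78, 1), (197, 4), (32, 8), (208, 4), (129, 21), (96, 17), (212, 4), (222, 4), (162, 5), (206, 4), (201, 12), (215, 5), (158, 15), (202, 16), (35, 11), (122, 19), (167, 14), (156, 6), (231, 17), (192, 14), (196, 3), (201, 4), (175, 2), (21, 4), (121, 17), (136, 21), (29, 11), (156, 5), (171, 14), (157, 7), (120, 14), (128, 5), (158, 17), (204, 4), (208, 14), (66, 5), (19, 3), (19, 2), (219, 5), (155, 8), (154, 16), (174, 6), (195, 12), (195, 4), (126,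 5), (205, 5), (18, 4), (211, 15), (33, 11), (186, 14), (176, 1), (84, 12), (198, 3), (230, 16), (201, 17), (31, 9), (159, 16), (130, 5), (208, 16), (160, 18), (25, 5), (90, 16), (218, 16), (26, 12), (206, 14), (207, 15), (217, 5), (210, 14), (198, 11), (229, 13), (131, 6), (214, 4), (179, 2), (27, 13), (166, 13), (198, 16), (161, 16), (165, 14), (3, 4), (32, 12), (24, 7), (91, 13), (164, 13), (74, 1), (197, 12), (209, 17), (91, 17), (128, 20), (76, 1), (158, 5), (33, 13), (204, 14), (184, 14), (118, 14), (19, 6), (230, 12), (123, 20), (172, 13), (212, 14), (177, 2), (219, 17), (220, 16), (160, 16), (203, 4), (210, 16), (120, 19), (118, 19), (213, 17), (202, 3), (199, 4), (174, 1), (34, 8), (23, 4), (220, 4), (133, 6), (137, 11), (209, 15), (158, 6), (221, 5), (68, 5), (90, 12), (80,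 1), (181, 2), (211, 17), (123, 17), (232, 16), (187, 15), (156, 15), (202, 11), (121, 15), (126, 20), (119, 17), (196, 16), (228, 16), (107, 10), (160, 17), (116, 14), (122, 20), (116, 16), (199, 17), (231, 13), (179, 7), (125, 6), (123, 15), (93, 17), (131, 21), (92, 12), (221, 17), (160, 7), (161, 19), (35, 9), (132, 5), (210, 4), (34, 10), (160, 5), (163, 17), (35, 13), (120, 20), (213, 15), (119, 20), (154, 7), (161, 6), (119, 15), (118, 16), (194, 11), (117, 17), (154, 15), (34, 12), (211, 5), (69, 12), (154, 18), (189, 15), (92, 16), (106, 19), (188, 14), (119, 21), (161, 18), (148, 21), (160, 6), (146, 15), (188, 10), (216, 16), (123, 21), (233, 13), (85, 17), (178, 1), (121, 20), (155, 7), (163, 18), (162, 17), (191, 15), (155, 18), (116, 19), (200, 16), (155, 6), (85, 13), (212,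 16), (173, 14), (147, 16), (203, 17), (160, 15), (175, 7), (180, 1), (148, 15), (162, 16), (121, 21), (161, 17), (71, 6), (69, 6), (194, 3), (162, 6), (229, 17), (122, 16), (117, 15), (162, 18), (133, 21), (161, 7), (84, 16), (77, 2), (155, 19), (187, 11), (186, 10), (225, 13), (224, 12), (124, 20), (151, 16), (183, 2), (224, 16), (184, 10), (124, 5), (205, 15), (182, 1), (189, 11), (118, 20), (161, 8), (132, 20), (153, 22), (203, 12), (193, 15), (146, 21), (78, 12), (165, 11), (75, 11), (166, 9), (29, 10), (45, 4), (40, 4), (12, 3), (168, 2), (16, 3), (44, 3), (43, 4), (98, 8), (69, 13), (183, 5), (155, 5), (85, 16), (169, 3), (37, 4), (77, 13), (166, 2), (4, 6), (75, 13), (174, 4), (64, 8), (64, 12), (36, 3), (4, 5), (167, 11), (179, 4), (159, 5), (28, 9), (13, 0), (86, 15), (39, 4),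 (89, 16), (16, 6), (88, 15), (26, 11), (30, 11), (74, 10), (179, 5), (66, 12), (166, 8), (38, 3), (17, 8), (165, 9), (165, 3), (4, 1), (84, 14), (157, 5), (41, 5), (178, 3), (175, 4), (164, 2), (26, 9), (130, 18), (165, 10), (50, 2), (4, 2), (253, 5), (32, 9), (68, 12), (78, 6), (66, 8), (74, 12), (13, 4), (79, 13), (86, 13), (61, 3), (158, 4), (220, 14), (4, 3), (88, 11), (28, 11), (246, 2), (91, 16), (4, 4), (59, 9), (197, 2), (29, 8), (88, 14), (32, 11), (43, 2), (200, 1), (87, 10), (156, 8), (38, 1), (236, 0), (138, 10), (89, 15), (247, 3), (67, 13), (221, 15), (167, 3), (79, 11), (129, 18), (170, 2), (87, 11), (42, 4), (249, 3), (182, 4), (132, 18), (130, 17), (44, 4), (252, 4), (196, 6), (201, 7), (246, 0), (60, 8), (42, 0), (241, 15), (110, 6), (111, 4), (143, 5), (141, 2), (177,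 4), (88, 13), (218, 15), (131, 19), (196, 1), (45, 2), (86, 11), (184, 5), (170, 8), (91, 14), (57, 1), (42, 3), (221, 16), (140, 1), (52, 2), (71, 13), (241, 1), (219, 15), (156, 4), (158, 8), (181, 4), (38, 4), (248, 4), (65, 9), (36, 0), (191, 2), (142, 4), (110, 0), (59, 3), (110, 3), (34, 9), (131, 18), (209, 16), (112, 3), (113, 4), (39, 1), (248, 6), (143, 2), (74, 6), (187, 6), (68, 8), (175, 5), (174, 3), (211, 16), (33, 10), (27, 10), (46, 2), (127, 18), (85, 11), (89, 14), (237, 5), (67, 9), (26, 7), (86, 14), (59, 1), (76, 12), (167, 9), (127, 14), (49, 5), (168, 10), (166, 10), (29, 12), (189, 6), (41, 4), (245, 5), (164, 9), (246, 6), (84, 11), (77, 11), (50, 4), (247, 5), (238, 14), (157, 9), (42, 1), (218, 14), (37, 5), (206, 7), (46, 4), (60, 0), (171, 3), (39, 5), (76,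 10), (176, 4), (178, 4), (85, 14), (27, 12), (87, 12), (47, 3), (60, 2), (249, 7), (201, 2), (56, 0), (126, 18), (48, 0), (124, 13), (128, 13), (164, 10), (77, 7), (174, 7), (198, 1), (191, 6), (90, 10), (244, 4), (128, 17), (33, 12), (126, 9), (90, 13), (75, 7), (125, 10), (240, 0), (210, 15), (239, 15), (131, 14), (217, 10), (249, 5), (87, 15), (91, 10), (84, 9), (84, 13), (138, 4), (238, 4), (186, 1), (99, 0), (53, 3), (116, 5), (188, 1), (129, 14), (130, 13), (180, 3), (129, 19), (106, 7), (141, 1), (76, 6), (199, 7), (108, 6), (85, 12), (234, 14), (106, 3), (170, 10), (121, 6), (122, 18), (237, 15), (106, 6), (239, 1), (109, 8), (236, 14), (130, 9), (41, 2), (126, 13), (126, 17), (248, 2), (92, 14), (70, 12), (181, 5), (140, 0), (36, 4), (43, 1), (113, 5), (216, 15), (110, 4), (85,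 15), (39, 2), (44, 1), (116, 18), (28, 7), (45, 1), (27, 8), (216, 14), (172, 2), (219, 16), (246, 4), (113, 2), (132, 13), (106, 4), (119, 19), (118, 5), (137, 5), (53, 5), (57, 3), (236, 4), (208, 15), (239, 5), (52, 0), (52, 4), (48, 2), (109, 5), (108, 9), (116, 13), (63, 3), (107, 2), (65, 13), (245, 7), (167, 10), (154, 8), (84, 10), (80, 10), (124, 17), (176, 7), (164, 8), (117, 14), (133, 18), (90, 14), (121, 19), (107, 4), (203, 7), (107, 8), (111, 5), (173, 3), (200, 6), (120, 18), (136, 4), (177, 8), (72, 12), (63, 1), (206, 15), (40, 3), (154, 4), (177, 5), (92, 13), (93, 14), (241, 5), (190, 1), (118, 18), (161, 9), (56, 2), (213, 8), (33, 8), (143, 1), (243, 15), (117, 6), (186, 5), (55, 3), (242, 4), (213, 16), (49, 1), (253, 3), (35, 12), (107, 5), (220, 15), (182, 3),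 (73, 13), (223, 15), (132, 17), (62, 8), (111, 7), (176, 3), (84, 15), (125, 18), (240, 4), (247, 1), (34, 11), (242, 0), (51, 3), (112, 6), (119, 14), (30, 7), (128, 9), (90, 15), (87, 14), (185, 6), (44, 0), (123, 19), (128, 18), (197, 7), (86, 10), (202, 1), (199, 2), (113, 1), (83, 11), (220, 9), (108, 7), (112, 4), (110, 7), (142, 0), (245, 3), (202, 6), (212, 15), (90, 9), (112, 0), (208, 7), (123, 14), (110, 1), (106, 0), (121, 14), (162, 8), (188, 5), (189, 2), (120, 13), (122, 5), (56, 8), (35, 8), (180, 4), (119, 6), (223, 10), (93, 16), (91, 11), (32, 7), (36, 1), (127, 10), (240, 14), (127, 19), (57, 9), (242, 14), (48, 4), (222, 14), (107, 7), (183, 4), (217, 15), (193, 2), (81, 13), (244, 2), (161, 5), (185, 2), (142, 1), (115, 14), (109, 2), (211, 8), (91, 12), (210, 7),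 (170, 9), (38, 0), (247, 7), (54, 2), (125, 19), (214, 14), (93, 12), (133, 14), (87, 16), (237, 1), (131, 10), (203, 2), (45, 5), (250, 6), (78, 10), (91, 15), (244, 6), (80, 12), (71, 9), (47, 5), (160, 8), (82, 10), (160, 4), (132, 9), (252, 2), (217, 16), (139, 5), (120, 5), (108, 4), (198, 6), (252, 6), (93, 15), (179, 0), (111, 8), (218, 9), (112, 1), (223, 16), (34, 7), (212, 7), (175, 8), (106, 1), (43, 5), (35, 10), (86, 9), (141, 5), (113, 8), (190, 5), (214, 15), (234, 4), (115, 6), (171, 11), (37, 2), (46, 0), (114, 13), (216, 9), (114, 5), (124, 18), (195, 7), (83, 13), (125, 14), (235, 15), (93, 11), (117, 19), (253, 1), (194, 6), (92, 15), (62, 0), (222, 9), (109, 7), (222, 15), (249, 1), (92, 9), (147, 11), (90, 11), (82, 12), (107, 1), (35, 4), (68, 2), (17, 5), (5,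 1), (12, 1), (13, 2), (29, 2), (218, 1), (221, 2), (34, 3), (239, 13), (141, 17), (27, 4), (28, 3), (79, 3), (167, 6), (29, 4), (188, 11), (164, 4), (26, 3), (5, 6), (76, 2), (167, 5), (74, 4), (164, 5), (174, 13), (175, 13), (67, 3), (77, 5), (86, 3), (166, 4), (177, 14), (85, 6), (166, 12), (87, 2), (86, 6), (78, 2), (5, 5), (64, 2), (75, 3), (88, 3), (28, 5), (131, 4), (252, 16), (5, 4), (65, 3), (179, 14), (16, 0), (175, 14), (175, 10), (29, 6), (168, 12), (43, 9), (65, 7), (69, 3), (12, 5), (164, 6), (36, 9), (64, 6), (165, 7), (75, 9), (40, 11), (156, 10), (167, 13), (32, 1), (248, 14), (127, 8), (249, 13), (143, 21), (127, 4), (170, 12), (61, 5), (33, 4), (129, 4), (42, 12), (236, 2), (42, 11), (199, 16), (197, 11), (248, 12), (42, 8), (32, 3), (87, 4), (38, 11), (38, 8), (127,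 12), (207, 2), (27, 6), (85, 4), (133, 4), (90, 3), (217, 3), (165, 6), (86, 7), (239, 3), (61, 13), (37, 12), (154, 14), (159, 15), (58, 10), (41, 9), (5, 2), (171, 13), (142, 16), (253, 13), (43, 10), (98, 17), (130, 3), (58, 4), (143, 20), (176, 12), (33, 2), (246, 10), (247, 11), (38, 9), (240, 16), (99, 9), (93, 4), (120, 15), (163, 15), (78, 4), (84, 2), (165, 5), (174, 12), (84, 7), (244, 10), (50, 8), (240, 12), (41, 10), (90, 1), (164, 12), (91, 4), (141, 20), (220, 7), (88, 1), (238, 2), (5, 3), (185, 12), (249, 11), (171, 5), (113, 12), (190, 15), (207, 10), (111, 15), (143, 17), (176, 13), (37, 13), (58, 12), (36, 8), (45, 9), (121, 16), (172, 12), (246, 12), (108, 14), (77, 3), (112, 11), (178, 13), (84, 6), (167, 7), (178, 12), (17, 2), (186, 11), (26, 5), (67, 7), (87,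 7), (75, 5), (27, 2), (71, 3), (154, 10), (249, 15), (43, 13), (66, 2), (165, 13), (158, 14), (209, 2), (169, 13), (220, 1), (177, 13), (38, 12), (61, 11), (39, 10), (90, 7), (200, 10), (220, 2), (198, 10), (40, 9), (166, 6), (54, 4), (37, 10), (39, 9), (131, 3), (161, 15), (246, 14), (88, 2), (127, 3), (126, 7), (216, 7), (221, 3), (90, 2), (87, 3), (48, 8), (156, 14), (26, 1), (191, 12), (191, 16), (89, 4), (37, 9), (86, 5), (74, 2), (42, 9), (216, 1), (33, 6), (85, 3), (84, 1), (128, 7), (217, 2), (76, 4), (235, 3), (76, 8), (129, 3), (171, 7), (79, 9), (201, 16), (157, 11), (54, 10), (125, 8), (86, 1), (89, 2), (93, 2), (89, 3), (56, 10), (109, 13), (211, 2), (43, 12), (119, 16), (92, 3), (79, 5), (241, 17), (179, 13), (169, 5), (49, 9), (196, 15), (107, 12), (142, 20), (217, 8),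 (242, 2), (184, 11), (74, 8), (89, 6), (250, 14), (210, 1), (66, 6), (202, 15), (128, 2), (244, 14), (237, 17), (213, 2), (57, 11), (77, 9), (117, 8), (189, 16), (48, 10), (237, 3), (123, 16), (108, 11), (81, 5), (216, 2), (180, 12), (118, 2), (90, 6), (116, 15), (180, 13), (44, 8), (80, 8), (106, 12), (138, 16), (110, 11), (196, 10), (44, 11), (210, 9), (60, 10), (110, 15), (57, 5), (209, 10), (52, 8), (62, 12), (118, 7), (86, 2), (173, 13), (222, 2), (107, 18), (106, 15), (39, 13), (44, 12), (201, 11), (110, 14), (130, 2), (116, 2), (120, 2), (252, 10), (124, 2), (56, 4), (112, 17), (218, 2), (32, 5), (139, 11), (109, 10), (121, 3), (243, 3), (197, 16), (219, 8), (45, 12), (107, 13), (69, 7), (240, 2), (50, 12), (56, 12), (129, 8), (91, 2), (92, 1), (63, 5), (110, 12), (108, 17), (219,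 3), (45, 10), (129, 12), (234, 2), (70, 2), (80, 4), (72, 2), (40, 8), (111, 12), (238, 12), (92, 2), (133, 3), (208, 1), (157, 15), (44, 9), (106, 14), (53, 11), (112, 15), (117, 16), (223, 3), (242, 12), (125, 4), (28, 1), (245, 13), (84, 5), (117, 3), (247, 13), (160, 10), (160, 14), (112, 14), (122, 2), (122, 15), (138, 19), (111, 16), (84, 3), (126, 3), (81, 3), (212, 1), (109, 12), (128, 3), (248, 10), (35, 6), (200, 15), (113, 13), (34, 1), (108, 15), (202, 10), (186, 15), (80, 2), (242, 16), (181, 13), (93, 7), (251, 11), (245, 11), (109, 15), (92, 7), (118, 15), (203, 16), (223, 2), (52, 10), (159, 11), (91, 8), (52, 12), (182, 13), (140, 20), (247, 15), (112, 12), (222, 1), (91, 3), (85, 8), (214, 1), (166, 5), (87, 6), (120, 7), (113, 18), (109, 16), (162, 14), (188, 15),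 (235, 13), (205, 2), (39, 12), (132, 2), (111, 13), (106, 18), (140, 16), (222, 7), (236, 16), (184, 15), (110, 18), (46, 8), (124, 7), (36, 12), (108, 12), (91, 7), (34, 5), (85, 7), (119, 3), (199, 11), (113, 16), (221, 8), (238, 16), (124, 3), (85, 2), (194, 10), (47, 13), (244, 12), (107, 16), (45, 13), (123, 3), (132, 3), (62, 4), (246, 16), (137, 17), (245, 15), (219, 2), (111, 19), (142, 19), (106, 11), (73, 3), (140, 19), (116, 7), (174, 9), (81, 9), (126, 2), (70, 6), (123, 8), (107, 15), (112, 18), (48, 12), (63, 11), (241, 13), (241, 3), (187, 12), (170, 4), (237, 13), (49, 11), (93, 3), (163, 11), (236, 12), (30, 1), (107, 19), (49, 13), (183, 14), (47, 9), (106, 17), (179, 10), (176, 9), (53, 9), (141, 21), (250, 10), (124, 11), (189, 12), (171, 6), (134, 16), (46, 10),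 (90, 5), (71, 7), (194, 15), (234, 12), (130, 11), (195, 11), (247, 17), (82, 2), (82, 4), (36, 11), (125, 3), (114, 15), (215, 3), (162, 10), (252, 14), (253, 15), (198, 15), (136, 20), (212, 9), (136, 16), (113, 15), (83, 3), (132, 11), (63, 13), (139, 17), (149, 13), (137, 20), (215, 2), (204, 9), (204, 1), (203, 11), (207, 11), (12, 4), (13, 5), (249, 16), (141, 19), (140, 17), (207, 12), (230, 1), (236, 1), (230, 2), (197, 13), (132, 4), (208, 13), (227, 2), (227, 3), (127, 2), (220, 13), (240, 1), (197, 10), (231, 2), (41, 3), (59, 10), (217, 14), (230, 3), (137, 8), (226, 3), (239, 4), (248, 13), (127, 5), (227, 6), (248, 15), (230, 5), (226, 7), (60, 7), (12, 2), (247, 16), (6, 1), (209, 14), (241, 2), (198, 12), (206, 10), (226, 6), (207, 14), (226, 5), (15, 0), (140, 10), (204,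 10), (186, 3), (238, 5), (211, 12), (248, 11), (211, 14), (126, 6), (6, 5), (130, 1), (131, 5), (56, 7), (6, 6), (249, 14), (126, 8), (6, 3), (6, 4), (102, 2), (139, 8), (208, 10), (56, 9), (15, 4), (60, 9), (197, 3), (140, 6), (232, 2), (96, 4), (238, 6), (130, 8), (59, 8), (102, 4), (200, 2), (14, 3), (128, 4), (42, 2), (129, 5), (6, 2), (99, 3), (204, 11), (253, 12), (239, 8), (228, 1), (101, 3), (138, 6), (137, 7), (100, 8), (140, 7), (42, 5), (40, 2), (232, 3), (99, 7), (188, 3), (206, 11), (141, 7), (143, 18), (138, 7), (252, 13), (49, 4), (187, 4), (58, 9), (218, 13), (127, 7), (239, 7), (129, 2), (190, 3), (215, 12), (140, 18), (205, 11), (191, 4), (205, 12), (204, 13), (238, 7), (225, 7), (189, 4), (206, 13), (216, 13), (200, 12), (49, 2), (38, 5), (228, 7), (185, 4), (217,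 12), (48, 3), (198, 2), (216, 11), (39, 6), (130, 6), (50, 3), (240, 3), (50, 1), (48, 5), (43, 3), (209, 11), (126, 4), (100, 4), (184, 7), (205, 14), (238, 3), (195, 3), (196, 2), (196, 9), (100, 2), (194, 12), (231, 4), (234, 5), (209, 12), (125, 7), (214, 11), (225, 8), (228, 5), (210, 13), (131, 9), (214, 13), (196, 12), (224, 1), (37, 3), (246, 15), (229, 7), (124, 4), (236, 5), (194, 2), (38, 2), (45, 3), (184, 3), (234, 6), (136, 6), (246, 11), (238, 1), (202, 12), (229, 4), (201, 3), (36, 5), (229, 3), (49, 6), (218, 10), (227, 4), (231, 3), (128, 6), (237, 6), (249, 10), (96, 6), (219, 12), (41, 6), (136, 7), (243, 2), (100, 6), (47, 4), (143, 8), (98, 4), (142, 6), (221, 12), (127, 9), (228, 6), (195, 13), (217, 11), (228, 3), (141, 8), (236, 3), (242, 7), (201, 13), (198,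 9), (202, 2), (57, 10), (208, 11), (101, 7), (243, 4), (99, 5), (60, 1), (39, 3), (246, 13), (59, 2), (137, 18), (221, 14), (141, 18), (44, 2), (119, 12), (237, 8), (203, 3), (244, 13), (46, 1), (124, 1), (50, 5), (237, 4), (142, 7), (143, 7), (133, 7), (233, 6), (36, 2), (220, 10), (216, 10), (247, 10), (241, 4), (97, 7), (235, 6), (219, 14), (212, 13), (132, 6), (131, 2), (101, 5), (96, 2), (139, 7), (48, 1), (138, 18), (247, 14), (101, 1), (116, 11), (234, 3), (130, 4), (252, 15), (129, 7), (242, 3), (222, 13), (232, 5), (97, 5), (242, 1), (199, 10), (56, 1), (128, 1), (229, 6), (233, 3), (212, 11), (133, 5), (199, 3), (203, 13), (53, 4), (125, 2), (218, 11), (245, 12), (245, 16), (141, 0), (128, 8), (200, 9), (210, 11), (103, 1), (244, 11), (102, 6), (214, 10), (142, 17), (228, 2),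 (253, 16), (44, 5), (233, 8), (52, 3), (98, 6), (233, 4), (117, 12), (245, 14), (235, 7), (222, 10), (40, 5), (136, 17), (223, 14), (199, 13), (193, 4), (233, 2), (55, 10), (240, 5), (222, 11), (252, 11), (110, 9), (236, 7), (226, 2), (249, 12), (53, 2), (126, 1), (235, 4), (237, 2), (239, 2), (62, 9), (224, 5), (124, 6), (53, 6), (137, 19), (129, 9), (52, 5), (229, 2), (46, 3), (224, 3), (54, 9), (235, 8), (134, 6), (190, 7), (236, 6), (215, 14), (246, 9), (142, 18), (132, 8), (211, 11), (213, 12), (213, 14), (232, 6), (131, 7), (237, 7), (57, 8), (223, 12), (114, 11), (138, 17), (210, 10), (213, 11), (133, 2), (97, 1), (219, 11), (239, 6), (52, 1), (192, 3), (221, 11), (135, 8), (244, 9), (225, 4), (224, 2), (235, 2), (135, 18), (125, 9), (150, 11), (220, 11), (189, 8), (226, 1), (225,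 3), (134, 7), (135, 7), (95, 5), (247, 12), (94, 4), (136, 18), (132, 1), (143, 19), (62, 7), (242, 6), (111, 0), (63, 10), (98, 0), (123, 12), (225, 6), (96, 0), (13, 1), (12, 0), (13, 3), (14, 5), (7, 1), (14, 1), (216, 5), (203, 5), (208, 5), (127, 17), (228, 10), (218, 3), (249, 4), (239, 12), (249, 8), (201, 15), (230, 15), (206, 6), (7, 6), (201, 5), (246, 5), (221, 4), (208, 3), (61, 4), (248, 1), (227, 11), (207, 6), (206, 3), (48, 9), (7, 2), (200, 14), (7, 5), (248, 7), (216, 6), (238, 15), (56, 5), (219, 4), (231, 16), (206, 5), (240, 15), (236, 11), (126, 16), (196, 14), (196, 7), (250, 1), (247, 2), (7, 3), (242, 15), (128, 16), (226, 14), (61, 6), (189, 14), (100, 12), (202, 4), (229, 15), (226, 13), (43, 11), (58, 3), (100, 14), (199, 5), (101, 13), (126, 14), (184, 13),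 (7, 4), (101, 9), (213, 4), (197, 15), (242, 11), (232, 15), (50, 7), (63, 4), (129, 17), (205, 7), (137, 15), (15, 2), (221, 6), (236, 13), (61, 12), (139, 14), (96, 10), (188, 13), (140, 2), (238, 11), (227, 12), (239, 11), (141, 14), (143, 14), (207, 4), (249, 2), (231, 12), (100, 10), (143, 15), (39, 8), (131, 17), (59, 4), (248, 5), (98, 10), (37, 11), (212, 3), (185, 10), (141, 4), (252, 7), (198, 4), (40, 10), (217, 7), (209, 4), (132, 16), (205, 6), (239, 14), (97, 11), (216, 3), (42, 10), (214, 5), (214, 6), (43, 8), (195, 5), (215, 6), (237, 10), (205, 4), (204, 3), (207, 7), (227, 10), (211, 4), (237, 11), (220, 3), (57, 4), (187, 14), (247, 6), (128, 19), (226, 10), (50, 9), (245, 6), (240, 13), (186, 13), (217, 4), (241, 12), (210, 3), (218, 6), (124, 16), (217, 6), (194,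 4), (237, 16), (238, 9), (239, 10), (230, 14), (220, 5), (40, 7), (209, 6), (139, 15), (198, 14), (130, 12), (234, 9), (244, 5), (39, 11), (41, 11), (247, 4), (204, 5), (127, 15), (208, 6), (248, 3), (228, 9), (234, 11), (224, 14), (126, 19), (197, 5), (190, 13), (229, 14), (101, 15), (100, 16), (138, 2), (131, 20), (199, 15), (58, 5), (136, 14), (41, 8), (99, 13), (202, 14), (236, 9), (218, 5), (57, 12), (142, 13), (226, 15), (124, 12), (246, 3), (38, 10), (96, 12), (140, 13), (137, 14), (53, 12), (49, 12), (229, 12), (200, 4), (142, 3), (38, 7), (224, 13), (127, 13), (242, 13), (138, 13), (140, 3), (213, 6), (244, 1), (99, 15), (141, 15), (236, 15), (111, 10), (203, 15), (231, 15), (227, 14), (229, 10), (62, 11), (116, 9), (213, 7), (141, 3), (96, 14), (253, 4), (136, 2), (119, 10),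 (243, 10), (130, 16), (56, 3), (246, 7), (242, 10), (228, 14), (202, 7), (117, 10), (124, 14), (234, 10), (196, 4), (37, 8), (228, 13), (209, 7), (62, 5), (52, 11), (98, 12), (136, 13), (219, 6), (140, 14), (228, 11), (133, 17), (224, 9), (102, 14), (194, 7), (221, 7), (252, 5), (238, 13), (230, 13), (57, 6), (222, 3), (138, 14), (252, 1), (233, 15), (44, 10), (142, 2), (98, 16), (97, 13), (143, 4), (233, 14), (211, 6), (197, 8), (52, 9), (36, 7), (204, 6), (126, 12), (140, 21), (231, 14), (198, 7), (131, 15), (210, 5), (235, 12), (45, 8), (45, 11), (62, 3), (191, 14), (102, 10), (194, 14), (244, 3), (129, 15), (233, 10), (252, 3), (132, 19), (232, 14), (223, 4), (128, 14), (228, 15), (98, 14), (58, 11), (131, 13), (48, 7), (189, 10), (56, 11), (130, 19), (237, 14), (141, 11), (114,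 9), (63, 12), (96, 16), (223, 7), (232, 13), (125, 20), (46, 9), (247, 8), (129, 20), (99, 11), (243, 16), (232, 11), (239, 16), (48, 11), (36, 10), (185, 14), (103, 11), (229, 11), (110, 19), (241, 16), (49, 10), (249, 6), (219, 7), (101, 11), (211, 7), (243, 12), (135, 14), (246, 1), (245, 4), (220, 6), (226, 9), (234, 15), (238, 10), (214, 3), (188, 9), (129, 13), (47, 12), (215, 4), (143, 3), (50, 11), (125, 17), (226, 11), (233, 16), (229, 16), (99, 17), (222, 5), (103, 17), (133, 20), (243, 14), (232, 10), (187, 10), (52, 7), (125, 15), (130, 14), (241, 14), (193, 14), (53, 10), (137, 3), (118, 9), (199, 8), (95, 13), (215, 7), (225, 12), (225, 14), (245, 8), (236, 10), (224, 10), (134, 14), (195, 8), (235, 14), (195, 15), (224, 15), (135, 15), (94, 10), (192, 13), (225, 15), (235,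 11), (225, 11), (223, 6), (44, 7), (224, 11), (133, 15), (137, 4), (14, 4), (15, 5), (14, 2), (100, 9), (8, 1), (102, 11), (8, 3), (101, 16), (141, 12), (136, 11), (142, 12), (100, 15), (118, 17), (99, 10), (8, 6), (139, 16), (141, 13), (139, 13), (101, 10), (140, 12), (8, 4), (136, 12), (117, 18), (123, 18), (101, 12), (139, 12), (8, 5), (138, 12), (110, 16), (108, 16), (100, 11), (118, 8), (98, 13), (96, 9), (107, 14), (111, 14), (117, 9), (113, 14), (106, 13), (138, 11), (137, 16), (108, 10), (108, 13), (97, 12), (107, 17), (137, 13), (116, 17), (100, 13), (98, 15), (96, 15), (99, 12), (137, 12), (101, 14), (120, 17), (116, 8), (109, 17), (98, 9), (113, 17), (138, 15), (106, 10), (109, 11), (113, 0), (96, 13), (121, 18), (143, 0), (136, 15), (112, 10), (96, 11), (8, 2), (122, 17),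 (97, 10), (103, 0), (140, 11), (143, 16), (107, 11), (102, 9), (111, 17), (140, 15), (152, 4), (150, 9), (112, 13), (110, 10), (99, 16), (106, 16), (120, 8), (151, 4), (119, 18), (97, 14), (110, 13), (109, 14), (142, 15), (149, 10), (112, 16), (147, 10), (148, 4), (150, 3), (153, 10), (148, 9), (151, 5), (121, 9), (111, 11), (147, 5), (134, 12), (150, 4), (141, 16), (98, 11), (122, 8), (99, 14), (146, 9), (144, 5), (149, 5), (135, 13), (144, 9), (153, 5), (153, 6), (135, 16), (146, 4), (149, 6), (145, 5), (134, 15), (119, 9), (97, 16), (15, 3), (9, 1), (14, 0), (15, 1), (102, 17), (101, 8), (9, 6), (118, 3), (138, 8), (100, 1), (120, 3), (116, 3), (98, 3), (9, 5), (106, 2), (100, 3), (140, 5), (141, 9), (137, 10), (9, 3), (102, 5), (139, 9), (100, 7), (112, 2), (109, 9), (122, 21), (97,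 4), (118, 12), (117, 13), (138, 9), (96, 5), (9, 4), (136, 5), (99, 4), (136, 9), (101, 2), (136, 8), (113, 3), (101, 4), (97, 6), (106, 8), (140, 9), (98, 5), (96, 3), (117, 4), (119, 4), (116, 12), (110, 2), (122, 3), (112, 19), (106, 5), (101, 6), (98, 7), (140, 8), (107, 6), (107, 3), (109, 6), (119, 13), (142, 21), (142, 5), (139, 10), (97, 8), (111, 6), (96, 7), (9, 2), (138, 5), (121, 4), (139, 6), (96, 1), (143, 9), (137, 9), (100, 5), (108, 8), (108, 2), (110, 5), (121, 13), (150, 18), (153, 19), (97, 2), (111, 9), (143, 6), (153, 20), (147, 19), (112, 5), (111, 3), (141, 6), (120, 12), (107, 9), (113, 6), (123, 4), (110, 8), (109, 3), (141, 10), (137, 6), (151, 19), (148, 18), (102, 3), (134, 8), (146, 18), (145, 14), (147, 14), (135, 6), (113, 9), (122, 12), (99, 6), (108,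 5), (145, 19), (146, 19), (151, 20), (147, 20), (105, 6), (150, 19), (94, 3), (123, 13), (153, 14), (98, 1), (149, 14), (152, 18), (148, 19), (146, 17), (64, 7), (86, 17), (28, 13), (123, 6), (103, 16), (26, 13), (231, 0), (246, 17), (216, 8), (226, 8), (231, 6), (185, 15), (61, 0), (67, 8), (30, 12), (95, 8), (196, 8), (190, 17), (88, 5), (229, 8), (240, 17), (85, 9), (78, 15), (161, 10), (40, 6), (80, 6), (226, 17), (88, 17), (92, 5), (126, 10), (63, 6), (120, 21), (248, 8), (128, 21), (199, 0), (102, 13), (77, 0), (7, 0), (252, 9), (30, 2), (169, 0), (201, 9), (240, 6), (242, 5), (86, 8), (136, 0), (30, 9), (109, 19), (232, 12), (89, 0), (142, 9), (121, 0), (111, 18), (173, 5), (89, 7), (147, 21), (104, 13), (174, 17), (93, 5), (187, 9), (108, 3), (104, 9), (163, 12), (237, 0), (97,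 9), (153, 21), (152, 7), (220, 17), (116, 20), (46, 5), (243, 5), (38, 13), (63, 2), (253, 7), (118, 11), (36, 6), (112, 7), (100, 17), (201, 8), (206, 8), (8, 0), (203, 0), (152, 3), (149, 22), (145, 21), (223, 0), (63, 9), (139, 18), (144, 13), (120, 9), (150, 15), (159, 6), (243, 17), (186, 9), (147, 15), (137, 2), (242, 17), (149, 11), (152, 14), (184, 9), (146, 13), (104, 10), (133, 0), (146, 3), (237, 12), (163, 9), (99, 1), (158, 19), (53, 0), (232, 1), (52, 6), (253, 17), (62, 2), (123, 0), (172, 3), (222, 8), (4, 0), (116, 10), (82, 13), (187, 8), (119, 8), (183, 7), (113, 7), (252, 0), (148, 6), (212, 6), (182, 6), (224, 6), (97, 3), (102, 15), (148, 10), (144, 18), (151, 17), (61, 1), (211, 0), (5, 0), (169, 6), (102, 16), (235, 9), (9, 0), (78, 0), (132, 12), (145, 4), (98,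 2), (110, 17), (202, 17), (53, 1), (113, 19), (253, 14), (253, 2), (163, 7), (138, 20), (168, 4), (39, 7), (103, 14), (57, 2), (186, 8), (151, 6), (148, 17), (225, 9), (148, 22), (145, 6), (103, 13), (62, 10), (219, 0), (213, 10), (232, 17), (198, 8), (227, 15), (42, 13), (60, 11), (244, 7), (253, 11), (139, 3), (59, 11), (145, 8), (205, 8), (144, 17), (151, 11), (94, 11), (80, 5), (148, 3), (145, 15), (144, 15), (191, 11), (6, 0), (230, 17), (245, 9), (134, 9), (150, 0), (143, 11), (227, 17), (95, 7), (153, 23), (105, 15), (55, 5), (148, 5), (151, 22), (72, 14), (155, 11), (41, 7), (135, 12), (188, 7), (47, 7), (115, 19), (147, 12), (29, 7), (244, 17), (149, 16), (248, 16), (181, 0), (206, 17), (157, 10), (144, 21), (215, 1), (207, 8), (222, 6), (114, 4), (38, 6), (142, 14), (157, 16),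 (212, 10), (202, 5), (140, 4), (49, 3), (81, 7), (121, 8), (34, 6), (126, 21), (201, 0), (150, 1), (80, 15), (144, 4), (180, 17), (216, 17), (212, 5), (213, 0), (54, 3), (33, 0), (130, 21), (57, 7), (223, 17), (49, 7), (158, 9), (151, 10), (146, 10), (0, 0), (146, 16), (144, 14), (210, 6), (69, 0), (103, 7), (233, 17), (132, 10), (93, 6), (60, 3), (243, 1), (228, 17), (83, 15), (44, 13), (210, 8), (151, 2), (183, 13), (158, 0), (253, 6), (139, 19), (252, 12), (174, 8), (28, 6), (112, 8), (58, 6), (139, 20), (227, 8), (146, 14), (149, 4), (232, 7), (115, 11), (104, 11), (118, 13), (221, 0), (187, 0), (137, 1), (134, 13), (131, 0), (246, 8), (197, 9), (194, 8), (124, 19), (91, 6), (152, 6), (105, 12), (149, 15), (184, 8), (160, 19), (156, 9), (114, 12), (104, 3), (155, 0), (152, 10), (83,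 5), (225, 2), (149, 18), (121, 10), (145, 11), (202, 8), (225, 10), (67, 0), (153, 18), (109, 4), (172, 15), (154, 1), (234, 13), (152, 19), (104, 17), (95, 6), (68, 4), (148, 11), (150, 10), (205, 16), (122, 9), (133, 8), (144, 12), (151, 21), (215, 8), (144, 11), (105, 4), (55, 6), (105, 18), (144, 10), (94, 16), (135, 10), (114, 14), (150, 14), (95, 14), (105, 17), (144, 19), (122, 14), (56, 6), (149, 7), (147, 9), (151, 18), (152, 15), (3, 0), (190, 0), (66, 15), (79, 15), (181, 7), (54, 6), (148, 13), (128, 12), (114, 3), (50, 6), (144, 3), (152, 22), (94, 14), (64, 14), (147, 23), (148, 8), (150, 16), (144, 6), (147, 4), (149, 20), (145, 22), (150, 20), (159, 17), (74, 7), (189, 9), (154, 9), (148, 23), (176, 6), (135, 4), (145, 16), (153, 15), (94, 15), (115, 10), (70, 4), (70,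 15), (114, 18), (145, 10), (55, 11), (182, 12), (73, 15), (151, 12), (150, 7), (149, 3), (64, 15), (204, 8), (215, 15), (170, 15), (194, 16), (94, 5), (2, 0), (172, 14), (162, 15), (243, 13), (163, 19), (212, 8), (117, 11), (181, 11), (146, 5), (183, 17), (151, 15), (173, 15), (145, 18), (153, 2), (147, 22), (92, 17), (68, 6), (70, 5), (66, 7), (111, 2), (92, 6), (146, 12), (214, 7), (187, 16), (193, 16), (68, 15), (190, 8), (224, 7), (27, 7), (222, 16), (115, 5), (75, 8), (145, 20), (131, 8), (117, 20), (185, 8), (180, 7), (185, 9), (245, 10), (149, 8), (181, 14), (82, 3), (152, 8), (150, 22), (146, 11)]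

def subsL : List (List ℕ) := [
  [0],
  [2],
  [4],
  [6]]

end Cfsg.Agent.Lib.Helper12.McLTC.L5
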