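import Cfsg.Agent.Lib.Helper12.McLTC.UT0

set_option autoImplicit false
set_option maxRecDepth 100000
set_option linter.unusedVariables false

namespace Cfsg.Agent.Lib.Helper12.McLTC.U

open Cfsg.Agent.Helper4.TC

noncomputable def ecol0 (b : ℕ) : ℕ := (Bool.rec (motive := fun _ => ℕ) (Bool.rec (motive := fun _ => ℕ) (Bool.rec (motive := fun _ => ℕ) (e0_0) (e0_1) (Nat.ble 1 b)) (Bool.rec (motive := fun _ => ℕ) (e0_2) (e0_3) (Nat.ble 3 b)) (Nat.ble 2 b)) (Bool.rec (motive := fun _ => ℕ) (Bool.rec (motive := fun _ => ℕ) (e0_4) (e0_5) (Nat.ble 5 b)) (0) (Nat.ble 6 b)) (Nat.ble 4 b))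
noncomputable def jcol0 (b : ℕ) : ℕ := (Bool.rec (motive := fun _ => ℕ) (Bool.rec (motive := fun _ => ℕ) (Bool.rec (motive := fun _ => ℕ) (j0_0) (j0_1) (Nat.ble 1 b)) (Bool.rec (motive := fun _ => ℕ) (j0_2) (j0_3) (Nat.ble 3 b)) (Nat.ble 2 b)) (Bool.rec (motive := fun _ => ℕ) (Bool.rec (motive := fun _ => ℕ) (j0_4) (j0_5) (Nat.ble 5 b)) (0) (Nat.ble 6 b)) (Nat.ble 4 b))
noncomputable def ecol1 (b : ℕ) : ℕ := (Bool.rec (motive := fun _ => ℕ) (Bool.rec (motive := fun _ => ℕ) (Bool.rec (motive := fun _ => ℕ) (e1_0) (e1_1) (Nat.ble 1 b)) (Bool.rec (motive := fun _ => ℕ) (e1_2) (e1_3) (Nat.ble 3 b)) (Nat.ble 2 b)) (Bool.rec (motive := fun _ => ℕ) (Bool.rec (motive := fun _ => ℕ) (e1_4) (e1_5) (Nat.ble 5 b)) (0) (Nat.ble 6 b)) (Nat.ble 4 b))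
noncomputable def jcol1 (b : ℕ) : ℕ := (Bool.rec (motive := fun _ => ℕ) (Bool.rec (motive := fun _ => ℕ) (Bool.rec (motive := fun _ => ℕ) (j1_0) (j1_1) (Nat.ble 1 b)) (Bool.rec (motive := fun _ => ℕ) (j1_2) (j1_3) (Nat.ble 3 b)) (Nat.ble 2 b)) (Bool.rec (motive := fun _ => ℕ) (Bool.rec (motive := fun _ => ℕ) (j1_4) (j1_5) (Nat.ble 5 b)) (0) (Nat.ble 6 b)) (Nat.ble 4 b))
noncomputable def ecol2 (b : ℕ) : ℕ := (Bool.rec (motive := fun _ => ℕ) (Bool.rec (motive := fun _ => ℕ) (Bool.rec (motive := fun _ => ℕ) (e2_0) (e2_1) (Nat.ble 1 b)) (Bool.rec (motive := fun _ => ℕ) (e2_2) (e2_3) (Nat.ble 3 b)) (Nat.ble 2 b)) (Bool.rec (motive := fun _ => ℕ) (Bool.rec (motive := fun _ => ℕ) (e2_4) (e2_5) (Nat.ble 5 b)) (0) (Nat.ble 6 b)) (Nat.ble 4 b))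
noncomputable def jcol2 (b : ℕ) : ℕ := (Bool.rec (motive := fun _ => ℕ) (Bool.rec (motive := fun _ => ℕ) (Bool.rec (motive := fun _ => ℕ) (j2_0) (j2_1) (Nat.ble 1 b)) (Bool.rec (motive := fun _ => ℕ) (j2_2) (j2_3) (Nat.ble 3 b)) (Nat.ble 2 b)) (Bool.rec (motive := fun _ => ℕ) (Bool.rec (motive := fun _ => ℕ) (j2_4) (j2_5) (Nat.ble 5 b)) (0) (Nat.ble 6 b)) (Nat.ble 4 b))
noncomputable def ecol3 (b : ℕ) : ℕ := (Bool.rec (motive := fun _ => ℕ) (Bool.rec (motive := fun _ => ℕ) (Bool.rec (motive := fun _ => ℕ) (e3_0) (e3_1) (Nat.ble 1 b)) (Bool.rec (motive := fun _ => ℕ) (e3_2) (e3_3) (Nat.ble 3 b)) (Nat.ble 2 b)) (Bool.rec (motive := fun _ => ℕ) (Bool.rec (motive := fun _ => ℕ) (e3_4) (e3_5) (Nat.ble 5 b)) (0) (Nat.ble 6 b)) (Nat.ble 4 b))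
noncomputable def jcol3 (b : ℕ) : ℕ := (Bool.rec (motive := fun _ => ℕ) (Bool.rec (motive := fun _ => ℕ) (Bool.rec (motive := fun _ => ℕ) (j3_0) (j3_1) (Nat.ble 1 b)) (Bool.rec (motive := fun _ => ℕ) (j3_2) (j3_3) (Nat.ble 3 b)) (Nat.ble 2 b)) (Bool.rec (motive := fun _ => ℕ) (Bool.rec (motive := fun _ => ℕ) (j3_4) (j3_5) (Nat.ble 5 b)) (0) (Nat.ble 6 b)) (Nat.ble 4 b))
noncomputable def eT (c b : ℕ) : ℕ := (Bool.rec (motive := fun _ => ℕ) (Bool.rec (motive := fun _ => ℕ) (ecol0 b) (ecol1 b) (Nat.ble 1 c)) (Bool.rec (motive := fun _ => ℕ) (ecol2 b) (ecol3 b) (Nat.ble 3 c)) (Nat.ble 2 c))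
noncomputable def jT (c b : ℕ) : ℕ := (Bool.rec (motive := fun _ => ℕ) (Bool.rec (motive := fun _ => ℕ) (jcol0 b) (jcol1 b) (Nat.ble 1 c)) (Bool.rec (motive := fun _ => ℕ) (jcol2 b) (jcol3 b) (Nat.ble 3 c)) (Nat.ble 2 c))
noncomputable def mgT (b : ℕ) : ℕ := (Bool.rec (motive := fun _ => ℕ) (Bool.rec (motive := fun _ => ℕ) (Bool.rec (motive := fun _ => ℕ) (m_0) (m_1) (Nat.ble 1 b)) (Bool.rec (motive := fun _ => ℕ) (m_2) (m_3) (Nat.ble 3 b)) (Nat.ble 2 b)) (Bool.rec (motive := fun _ => ℕ) (Bool.rec (motive := fun _ => ℕ) (m_4) (m_5) (Nat.ble 5 b)) (0) (Nat.ble 6 b)) (Nat.ble 4 b))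
noncomputable def jmT (b : ℕ) : ℕ := (Bool.rec (motive := fun _ => ℕ) (Bool.rec (motive := fun _ => ℕ) (Bool.rec (motive := fun _ => ℕ) (jm_0) (jm_1) (Nat.ble 1 b)) (Bool.rec (motive := fun _ => ℕ) (jm_2) (jm_3) (Nat.ble 3 b)) (Nat.ble 2 b)) (Bool.rec (motive := fun _ => ℕ) (Bool.rec (motive := fun _ => ℕ) (jm_4) (jm_5) (Nat.ble 5 b)) (0) (Nat.ble 6 b)) (Nat.ble 4 b))
def rw0 : List ℕ := [0, 2, 1, 3, 1, 3, 1, 3, 0, 2, 0, 2]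
def rw1 : List ℕ := [0, 2, 0, 3, 1, 3, 1, 3, 1, 2, 0, 2]
def rw2 : List ℕ := [0, 2, 0, 2, 1, 3, 1, 3, 1, 3, 0, 2]
def rw3 : List ℕ := [0, 2, 0, 2, 0, 3, 1, 3, 1, 3, 1, 2]
def rw4 : List ℕ := [0, 2, 0, 2, 0, 2, 1, 3, 1, 3, 1, 3]
def rw5 : List ℕ := [0, 0, 2, 0, 0, 0, 3, 1, 1, 1, 2, 1, 2, 0, 3, 0]
def rw6 : List ℕ := [0, 0, 2, 0, 3, 1, 1, 1, 2, 1, 3, 3, 0, 3, 0]
def rw7 : List ℕ := [0, 3, 1, 3, 1, 3, 1, 2, 0, 2, 0, 2]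
def rw8 : List ℕ := [0, 0, 0, 0, 0, 0, 0]
def rw9 : List ℕ := [0, 3, 1, 1, 1, 2, 1, 3, 3, 0, 3, 0, 0, 0, 2]
def rw10 : List ℕ := [0, 3, 0, 0, 0, 2, 1, 3, 1, 1, 1, 2, 1, 2, 2]
def rw11 : List ℕ := [0, 3, 0, 0, 0, 2, 0, 3, 1, 1, 1, 2, 1, 3, 3]
def rw12 : List ℕ := [0, 0, 0, 2, 1, 3, 1, 1, 1, 2, 1, 2, 2, 0, 3]
def rw13 : List ℕ := [0, 0, 0, 2, 0, 3, 1, 1, 1, 2, 1, 3, 3, 0, 3]
def rw14 : List ℕ := [0, 2, 1, 3, 1, 1, 1, 2, 1, 2, 2, 0, 3, 0, 0]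
def rw15 : List ℕ := [0, 0, 2, 1, 3, 1, 1, 1, 2, 1, 2, 2, 0, 3, 0]
def rw16 : List ℕ := [0, 0, 2, 1, 1, 2, 0, 0, 3, 1, 1, 1, 3, 1, 1, 2, 0]
def rw17 : List ℕ := [0, 0, 2, 1, 1, 3, 0, 0, 3, 1, 1, 1, 3, 0, 0, 2, 0]
def rw18 : List ℕ := [0, 0, 2, 0, 0, 0, 2, 1, 1, 3, 0, 0, 3, 1, 1, 1, 3]
def rw19 : List ℕ := [0, 0, 2, 1, 1, 1, 1, 1, 1, 1, 3, 0, 0, 0, 0, 0]
def rw20 : List ℕ := [0, 2, 1, 2, 2, 0, 3, 1, 1, 1, 1, 2, 1, 3, 0, 0, 0]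
def rw21 : List ℕ := [0, 0, 0, 0, 2, 1, 2, 0, 3, 1, 1, 1, 1, 2, 0, 0, 0, 3]
def rw22 : List ℕ := [0, 3, 1, 1, 1, 3, 0, 2, 0, 0, 0, 2, 1, 1, 2, 2, 2, 0]
def rw23 : List ℕ := [0, 0, 0, 2, 0, 0, 0, 3, 1, 1, 1, 2, 1, 2, 0, 3]
def rw24 : List ℕ := [0, 3, 1, 1, 1, 1, 2, 1, 1, 1, 3, 0, 0, 0, 0, 2, 1, 3]
def rw25 : List ℕ := [0, 0, 0, 2, 1, 1, 2, 0, 0, 3, 1, 1, 1, 3, 1, 1, 2]
def rw26 : List ℕ := [0, 3, 1, 1, 1, 1, 2, 1, 3, 0, 0, 0, 0, 2, 1, 2, 2]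
def rw27 : List ℕ := [0, 3, 0, 0, 3, 1, 3, 1, 2, 0, 2, 1, 1, 2, 1, 2, 2]
def rw28 : List ℕ := [0, 2, 0, 2, 0, 2, 2, 0, 3, 3, 1, 3, 1, 3, 1, 2, 1, 3]
def rw29 : List ℕ := [0, 0, 3, 1, 1, 1, 3, 1, 1, 2, 0, 0, 0, 2, 1, 1, 2]
def rw30 : List ℕ := [0, 2, 0, 2, 0, 0, 2, 1, 1, 3, 1, 3, 1, 3, 0, 3, 1, 2]
def rw31 : List ℕ := [0, 2, 0, 3, 0, 2, 1, 3, 1, 3, 1, 3, 3, 1, 2, 2, 0, 2]
def rw32 : List ℕ := [0, 3, 1, 3, 1, 1, 1, 2, 0, 2, 1, 1, 2, 1, 3, 0, 3, 0]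
def rw33 : List ℕ := [0, 0, 3, 1, 3, 1, 2, 0, 2, 1, 1, 2, 1, 2, 2, 0, 3]
def rw34 : List ℕ := [0, 0, 0, 2, 1, 3, 3, 0, 3, 1, 1, 1, 1, 2, 0, 3, 0]
def rw35 : List ℕ := [0, 0, 0, 0, 0, 0, 0]
def rw36 : List ℕ := [0, 3, 0, 0, 3, 1, 3, 0, 2, 0, 2, 1, 1, 2, 1, 3, 3]
def rw37 : List ℕ := [0, 2, 1, 1, 2, 1, 3, 0, 3, 0, 0, 3, 1, 3, 1, 1, 1, 2]
def rw38 : List ℕ := [0, 0, 2, 1, 1, 3, 1, 3, 1, 3, 0, 3, 1, 2, 0, 2, 0, 2]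
def rw39 : List ℕ := [0, 3, 1, 1, 1, 3, 1, 1, 2, 0, 0, 0, 2, 1, 1, 2, 0]
def rw40 : List ℕ := [0, 0, 0, 0, 2, 1, 3, 3, 0, 3, 1, 1, 1, 1, 2, 0, 3]
def rw41 : List ℕ := [0, 0, 0, 2, 1, 1, 1, 3, 1, 1, 1, 2, 1, 3, 0, 3]
def rw42 : List ℕ := [0, 0, 3, 1, 1, 1, 3, 0, 0, 2, 0, 0, 0, 2, 1, 1, 3]
def rw43 : List ℕ := [0, 3, 0, 0, 0, 0, 2, 1, 2, 0, 3, 1, 1, 1, 1, 2, 0, 0]
def rw44 : List ℕ := [0, 2, 1, 1, 3, 3, 3, 0, 0, 3, 1, 1, 1, 3, 1, 2, 0, 0]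
def rw45 : List ℕ := [0, 0, 0, 0, 2, 1, 2, 2, 0, 3, 1, 1, 1, 1, 2, 1, 3]
def rw46 : List ℕ := [0, 0, 3, 1, 1, 1, 2, 1, 2, 0, 3, 0, 0, 0, 2, 0]
def rw47 : List ℕ := [0, 0, 0, 2, 0, 2, 1, 1, 2, 1, 2, 0, 3, 0, 0, 3, 1, 3]
def rw48 : List ℕ := [0, 3, 0, 2, 1, 3, 1, 3, 1, 3, 3, 1, 2, 2, 0, 2, 0, 2]
def rw49 : List ℕ := [0, 2, 1, 3, 0, 3, 1, 3, 1, 3, 1, 1, 2, 0, 0, 2, 0, 2]
def rw50 : List ℕ := [0, 2, 0, 2, 0, 3, 0, 2, 1, 3, 1, 3, 1, 3, 3, 1, 2, 2]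
def rw51 : List ℕ := [0, 0, 2, 0, 2, 0, 2, 1, 2, 0, 3, 1, 3, 1, 3, 1, 1, 3]
def rw52 : List ℕ := [0, 2, 1, 2, 0, 3, 1, 3, 1, 3, 1, 1, 3, 0, 0, 2, 0, 2]
def rw53 : List ℕ := [0, 2, 1, 1, 2, 1, 2, 0, 3, 0, 0, 3, 1, 3, 0, 0, 0, 2]
def rw54 : List ℕ := [0, 2, 0, 0, 2, 1, 1, 3, 1, 3, 1, 3, 0, 3, 1, 2, 0, 2]
def rw55 : List ℕ := [0, 2, 1, 3, 0, 3, 1, 1, 1, 1, 2, 1, 1, 1, 3, 0, 0, 0]
def rw56 : List ℕ := [0, 2, 0, 3, 1, 1, 1, 2, 1, 3, 3, 0, 3, 0, 0]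
def rw57 : List ℕ := [0, 3, 0, 0, 3, 1, 3, 0, 0, 0, 2, 0, 2, 1, 1, 2, 1, 2]
def rw58 : List ℕ := [0, 0, 2, 1, 2, 0, 3, 1, 1, 1, 1, 2, 0, 0, 0, 3, 0, 0]
def rw59 : List ℕ := [0, 3, 1, 1, 1, 3, 0, 0, 2, 0, 0, 0, 2, 1, 1, 3, 0]
def rw60 : List ℕ := [0, 2, 1, 1, 2, 2, 2, 0, 0, 3, 1, 1, 1, 3, 0, 2, 0, 0]
def rw61 : List ℕ := [0, 0, 2, 1, 1, 1, 3, 1, 1, 1, 2, 1, 3, 0, 3, 0]
def rw62 : List ℕ := [0, 3, 1, 1, 1, 1, 2, 0, 3, 0, 0, 0, 0, 2, 1, 3, 3]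
def rw63 : List ℕ := [0, 2, 1, 1, 2, 0, 0, 3, 1, 1, 1, 3, 1, 1, 2, 0, 0]
def rw64 : List ℕ := [0, 2, 0, 2, 2, 0, 3, 3, 1, 3, 1, 3, 1, 2, 1, 3, 0, 2]
def rw65 : List ℕ := [0, 0, 3, 1, 1, 1, 3, 1, 2, 0, 0, 0, 2, 1, 1, 3, 3, 3]
def rw66 : List ℕ := [0, 3, 1, 1, 1, 3, 1, 2, 0, 0, 0, 2, 1, 1, 3, 3, 3, 0]
def rw67 : List ℕ := [0, 3, 1, 3, 0, 0, 0, 2, 0, 2, 1, 1, 2, 1, 2, 0, 3, 0]
def rw68 : List ℕ := [0, 0, 2, 1, 1, 2, 2, 2, 0, 0, 3, 1, 1, 1, 3, 0, 2, 0]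
def rw69 : List ℕ := [0, 3, 1, 1, 1, 1, 2, 0, 0, 0, 3, 0, 0, 0, 0, 2, 1, 2]
def rw70 : List ℕ := [0, 2, 0, 0, 0, 2, 1, 1, 3, 0, 0, 3, 1, 1, 1, 3, 0]
def rw71 : List ℕ := [0, 0, 0, 3, 1, 1, 1, 1, 1, 1, 1, 2, 0, 0, 0, 0]
def rw72 : List ℕ := [0, 3, 1, 3, 1, 2, 0, 2, 1, 1, 2, 1, 2, 2, 0, 3, 0]
def rw73 : List ℕ := [0, 2, 0, 2, 2, 1, 3, 3, 1, 3, 1, 3, 1, 2, 0, 3, 0, 2]
def rw74 : List ℕ := [0, 0, 2, 1, 1, 3, 3, 3, 0, 0, 3, 1, 1, 1, 3, 1, 2, 0]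
def rw75 : List ℕ := [0, 2, 0, 2, 0, 0, 3, 1, 1, 3, 1, 3, 1, 3, 0, 2, 1, 2]
def rw76 : List ℕ := [0, 0, 0, 2, 1, 1, 3, 0, 0, 3, 1, 1, 1, 3, 0, 0, 2]
def rw77 : List ℕ := [0, 3, 0, 0, 0, 2, 1, 1, 1, 3, 1, 1, 1, 2, 1, 3]
def rw78 : List ℕ := [0, 2, 0, 0, 0, 3, 1, 1, 1, 2, 1, 2, 0, 3, 0, 0]
def rw79 : List ℕ := [0, 0, 0, 0, 0, 0, 0]
def rw80 : List ℕ := [0, 2, 0, 0, 0, 2, 1, 1, 2, 2, 2, 0, 0, 3, 1, 1, 1, 3]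
def rw81 : List ℕ := [0, 0, 0, 3, 1, 1, 1, 2, 1, 2, 0, 3, 0, 0, 0, 2]
def rw82 : List ℕ := [0, 0, 0, 0, 0, 0, 0, 3, 1, 1, 1, 1, 1, 1, 1, 2]
def rw83 : List ℕ := [0, 0, 0, 0, 0, 0, 2, 1, 1, 1, 1, 1, 1, 1, 3, 0]
def rw84 : List ℕ := [0, 2, 0, 0, 3, 1, 1, 3, 1, 3, 1, 3, 0, 2, 1, 2, 0, 2]
def rw85 : List ℕ := [0, 2, 0, 2, 1, 3, 0, 3, 1, 3, 1, 3, 1, 1, 2, 0, 0, 2]
def rw86 : List ℕ := [0, 0, 3, 1, 3, 0, 0, 0, 2, 0, 2, 1, 1, 2, 1, 2, 0, 3]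
def rw87 : List ℕ := [0, 2, 2, 1, 3, 3, 1, 3, 1, 3, 1, 2, 0, 3, 0, 2, 0, 2]
def rw88 : List ℕ := [0, 0, 0, 2, 1, 2, 2, 0, 3, 1, 1, 1, 1, 2, 1, 3, 0]
def rw89 : List ℕ := [0, 2, 1, 1, 2, 1, 2, 2, 0, 3, 0, 0, 3, 1, 3, 1, 2]
def rw90 : List ℕ := [0, 3, 1, 1, 1, 2, 1, 2, 0, 3, 0, 0, 0, 2, 0, 0]
def rw91 : List ℕ := [0, 2, 0, 2, 1, 2, 0, 3, 1, 3, 1, 3, 1, 1, 3, 0, 0, 2]
def rw92 : List ℕ := [0, 0, 0, 0, 0, 3, 1, 1, 1, 1, 1, 1, 1, 2, 0, 0]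
def rw93 : List ℕ := [0, 0, 0, 2, 1, 1, 3, 3, 3, 0, 0, 3, 1, 1, 1, 3, 1, 2]
def rw94 : List ℕ := [0, 0, 3, 1, 1, 1, 3, 0, 2, 0, 0, 0, 2, 1, 1, 2, 2, 2]
def rw95 : List ℕ := [0, 2, 0, 2, 1, 1, 2, 1, 2, 0, 3, 0, 0, 3, 1, 3, 0, 0]
def rw96 : List ℕ := [0, 3, 0, 0, 0, 2, 0, 0, 0, 3, 1, 1, 1, 2, 1, 2]
def rw97 : List ℕ := [0, 0, 0, 2, 1, 2, 0, 3, 1, 1, 1, 1, 2, 0, 0, 0, 3, 0]
def rw98 : List ℕ := [0, 2, 0, 2, 0, 2, 2, 1, 3, 3, 1, 3, 1, 3, 1, 2, 0, 3]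
def rw99 : List ℕ := [0, 2, 1, 1, 3, 0, 0, 3, 1, 1, 1, 3, 0, 0, 2, 0, 0]
def rw100 : List ℕ := [0, 3, 1, 1, 1, 1, 1, 1, 1, 2, 0, 0, 0, 0, 0, 0]
def rw101 : List ℕ := [0, 0, 0, 2, 1, 3, 0, 3, 1, 1, 1, 1, 2, 1, 1, 1, 3, 0]
def rw102 : List ℕ := [0, 2, 0, 2, 1, 1, 2, 1, 3, 3, 0, 3, 0, 0, 3, 1, 3]
def rw103 : List ℕ := [0, 0, 0, 0, 0, 0, 3, 1, 1, 1, 1, 1, 1, 1, 2, 0]
def rw104 : List ℕ := [0, 0, 3, 1, 3, 0, 2, 0, 2, 1, 1, 2, 1, 3, 3, 0, 3]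
def rw105 : List ℕ := [0, 0, 0, 0, 2, 1, 3, 0, 3, 1, 1, 1, 1, 2, 1, 1, 1, 3]
def rw106 : List ℕ := [0, 0, 0, 0, 0, 2, 1, 1, 1, 1, 1, 1, 1, 3, 0, 0]
def rw107 : List ℕ := [0, 0, 3, 0, 0, 0, 0, 2, 1, 2, 0, 3, 1, 1, 1, 1, 2, 0]
def rw108 : List ℕ := [0, 2, 1, 1, 2, 1, 3, 3, 0, 3, 0, 0, 3, 1, 3, 0, 2]
def rw109 : List ℕ := [0, 0, 0, 0, 2, 1, 1, 1, 1, 1, 1, 1, 3, 0, 0, 0]
def rw110 : List ℕ := [0, 0, 2, 1, 3, 0, 3, 1, 1, 1, 1, 2, 1, 1, 1, 3, 0, 0]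
def rw111 : List ℕ := [0, 0, 0, 0, 3, 1, 1, 1, 1, 1, 1, 1, 2, 0, 0, 0]
def rw112 : List ℕ := [0, 2, 2, 0, 3, 3, 1, 3, 1, 3, 1, 2, 1, 3, 0, 2, 0, 2]
def rw113 : List ℕ := [0, 3, 1, 3, 0, 2, 0, 2, 1, 1, 2, 1, 3, 3, 0, 3, 0]
def rw114 : List ℕ := [0, 2, 1, 3, 3, 0, 3, 1, 1, 1, 1, 2, 0, 3, 0, 0, 0]
def rw115 : List ℕ := [0, 0, 0, 2, 1, 1, 1, 1, 1, 1, 1, 3, 0, 0, 0, 0]
def rw116 : List ℕ := [0, 2, 0, 2, 0, 2, 1, 3, 0, 3, 1, 3, 1, 3, 1, 1, 2, 0]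
def rw117 : List ℕ := [0, 0, 0, 0, 0, 0, 0]
def rw118 : List ℕ := [0, 0, 2, 1, 2, 2, 0, 3, 1, 1, 1, 1, 2, 1, 3, 0, 0]
def rw119 : List ℕ := [0, 0, 2, 1, 3, 3, 0, 3, 1, 1, 1, 1, 2, 0, 3, 0, 0]
def rw120 : List ℕ := [0, 0, 0, 3, 0, 0, 0, 0, 2, 1, 2, 0, 3, 1, 1, 1, 1, 2]
def rw121 : List ℕ := [0, 3, 0, 0, 0, 0, 2, 1, 3, 3, 0, 3, 1, 1, 1, 1, 2]
def rw122 : List ℕ := [0, 2, 1, 1, 1, 3, 1, 1, 1, 2, 1, 3, 0, 3, 0, 0]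
def rw123 : List ℕ := [1, 1, 1, 1, 1, 1, 1]
def rw124 : List ℕ := [1, 3, 1, 3, 1, 3, 0, 2, 0, 2, 0, 2]
def rw125 : List ℕ := [1, 2, 0, 2, 0, 2, 0, 3, 1, 3, 1, 3]
def rw126 : List ℕ := [1, 1, 1, 3, 1, 1, 2, 0, 0, 0, 2, 1, 1, 2, 0, 0, 3]
def rw127 : List ℕ := [1, 1, 1, 3, 0, 0, 2, 0, 0, 0, 2, 1, 1, 3, 0, 0, 3]
def rw128 : List ℕ := [1, 3, 1, 1, 1, 2, 1, 3, 0, 3, 0, 0, 0, 2, 1, 1]
def rw129 : List ℕ := [1, 1, 1, 2, 1, 2, 2, 0, 3, 0, 0, 0, 2, 1, 3]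
def rw130 : List ℕ := [1, 1, 2, 2, 2, 0, 0, 3, 1, 1, 1, 3, 0, 2, 0, 0, 0, 2]
def rw131 : List ℕ := [1, 3, 1, 3, 0, 2, 0, 2, 0, 2, 1, 3]
def rw132 : List ℕ := [1, 3, 1, 2, 0, 2, 0, 2, 0, 3, 1, 3]
def rw133 : List ℕ := [1, 3, 0, 2, 0, 2, 0, 2, 1, 3, 1, 3]
def rw134 : List ℕ := [1, 1, 1, 3, 1, 1, 1, 2, 1, 3, 0, 3, 0, 0, 0, 2]
def rw135 : List ℕ := [1, 1, 2, 0, 0, 3, 1, 1, 1, 3, 1, 1, 2, 0, 0, 0, 2]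
def rw136 : List ℕ := [1, 1, 2, 1, 2, 0, 3, 0, 0, 0, 2, 0, 0, 0, 3, 1]
def rw137 : List ℕ := [1, 2, 1, 3, 0, 3, 0, 0, 3, 1, 3, 1, 1, 1, 2, 0, 2, 1]
def rw138 : List ℕ := [1, 3, 1, 3, 1, 2, 0, 2, 0, 2, 0, 3]
def rw139 : List ℕ := [1, 3, 1, 1, 1, 2, 0, 2, 1, 1, 2, 1, 3, 0, 3, 0, 0, 3]
def rw140 : List ℕ := [1, 3, 0, 2, 0, 2, 1, 1, 2, 1, 3, 3, 0, 3, 0, 0, 3]
def rw141 : List ℕ := [1, 2, 1, 2, 0, 3, 0, 0, 3, 1, 3, 0, 0, 0, 2, 0, 2, 1]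
def rw142 : List ℕ := [1, 3, 1, 3, 1, 1, 3, 0, 0, 2, 0, 2, 0, 2, 1, 2, 0, 3]
def rw143 : List ℕ := [1, 1, 3, 0, 0, 3, 1, 1, 1, 3, 0, 0, 2, 0, 0, 0, 2]
def rw144 : List ℕ := [1, 3, 3, 0, 3, 0, 0, 0, 2, 0, 3, 1, 1, 1, 2]
def rw145 : List ℕ := [1, 2, 2, 0, 3, 0, 0, 0, 2, 1, 3, 1, 1, 1, 2]
def rw146 : List ℕ := [1, 1, 1, 1, 2, 1, 3, 0, 0, 0, 0, 2, 1, 2, 2, 0, 3]
def rw147 : List ℕ := [1, 3, 0, 2, 0, 0, 0, 2, 1, 1, 2, 2, 2, 0, 0, 3, 1, 1]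
def rw148 : List ℕ := [1, 3, 3, 3, 0, 0, 3, 1, 1, 1, 3, 1, 2, 0, 0, 0, 2, 1]
def rw149 : List ℕ := [1, 1, 1, 2, 1, 3, 3, 0, 3, 0, 0, 0, 2, 0, 3]
def rw150 : List ℕ := [1, 2, 1, 2, 0, 3, 0, 0, 0, 2, 0, 0, 0, 3, 1, 1]
def rw151 : List ℕ := [1, 1, 2, 1, 2, 2, 0, 3, 0, 0, 3, 1, 3, 1, 2, 0, 2]
def rw152 : List ℕ := [1, 3, 3, 0, 3, 1, 1, 1, 1, 2, 0, 3, 0, 0, 0, 0, 2]
def rw153 : List ℕ := [1, 1, 1, 1, 1, 1, 1]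
def rw154 : List ℕ := [1, 3, 0, 0, 2, 0, 0, 0, 2, 1, 1, 3, 0, 0, 3, 1, 1]
def rw155 : List ℕ := [1, 2, 0, 2, 1, 1, 2, 1, 3, 0, 3, 0, 0, 3, 1, 3, 1, 1]
def rw156 : List ℕ := [1, 1, 1, 2, 0, 2, 1, 1, 2, 1, 3, 0, 3, 0, 0, 3, 1, 3]
def rw157 : List ℕ := [1, 2, 1, 3, 3, 0, 3, 0, 0, 0, 2, 0, 3, 1, 1]
def rw158 : List ℕ := [1, 1, 1, 1, 2, 0, 0, 0, 0, 0, 0, 0, 3, 1, 1, 1]
def rw159 : List ℕ := [1, 2, 0, 3, 0, 0, 0, 2, 0, 0, 0, 3, 1, 1, 1, 2]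
def rw160 : List ℕ := [1, 1, 3, 0, 0, 2, 0, 0, 0, 2, 1, 1, 3, 0, 0, 3, 1]
def rw161 : List ℕ := [1, 2, 0, 3, 0, 0, 3, 1, 3, 0, 0, 0, 2, 0, 2, 1, 1, 2]
def rw162 : List ℕ := [1, 3, 0, 0, 0, 2, 0, 2, 1, 1, 2, 1, 2, 0, 3, 0, 0, 3]
def rw163 : List ℕ := [1, 1, 2, 1, 2, 0, 3, 0, 0, 3, 1, 3, 0, 0, 0, 2, 0, 2]
def rw164 : List ℕ := [1, 3, 3, 1, 2, 2, 0, 2, 0, 2, 0, 3, 0, 2, 1, 3, 1, 3]
def rw165 : List ℕ := [1, 1, 3, 3, 3, 0, 0, 3, 1, 1, 1, 3, 1, 2, 0, 0, 0, 2]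
def rw166 : List ℕ := [1, 2, 0, 2, 1, 1, 2, 1, 2, 2, 0, 3, 0, 0, 3, 1, 3]
def rw167 : List ℕ := [1, 1, 1, 2, 1, 2, 0, 3, 0, 0, 0, 2, 0, 0, 0, 3]
def rw168 : List ℕ := [1, 1, 1, 1, 1, 2, 0, 0, 0, 0, 0, 0, 0, 3, 1, 1]
def rw169 : List ℕ := [1, 2, 0, 0, 0, 2, 1, 1, 3, 3, 3, 0, 0, 3, 1, 1, 1, 3]
def rw170 : List ℕ := [1, 1, 2, 1, 3, 3, 0, 3, 0, 0, 0, 2, 0, 3, 1]
def rw171 : List ℕ := [1, 2, 0, 3, 0, 2, 0, 2, 0, 2, 2, 1, 3, 3, 1, 3, 1, 3]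
def rw172 : List ℕ := [1, 2, 2, 0, 3, 1, 1, 1, 1, 2, 1, 3, 0, 0, 0, 0, 2]
def rw173 : List ℕ := [1, 3, 0, 3, 0, 0, 3, 1, 3, 1, 1, 1, 2, 0, 2, 1, 1, 2]
def rw174 : List ℕ := [1, 1, 1, 1, 1, 1, 3, 0, 0, 0, 0, 0, 0, 0, 2, 1]
def rw175 : List ℕ := [1, 3, 1, 2, 0, 3, 0, 2, 0, 2, 0, 2, 2, 1, 3, 3, 1, 3]
def rw176 : List ℕ := [1, 3, 1, 2, 0, 0, 0, 2, 1, 1, 3, 3, 3, 0, 0, 3, 1, 1]
def rw177 : List ℕ := [1, 3, 0, 3, 1, 2, 0, 2, 0, 2, 0, 0, 2, 1, 1, 3, 1, 3]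
def rw178 : List ℕ := [1, 3, 0, 0, 0, 0, 2, 1, 3, 0, 3, 1, 1, 1, 1, 2, 1, 1]
def rw179 : List ℕ := [1, 1, 2, 1, 3, 3, 0, 3, 0, 0, 3, 1, 3, 0, 2, 0, 2]
def rw180 : List ℕ := [1, 1, 1, 2, 1, 3, 0, 0, 0, 0, 2, 1, 2, 2, 0, 3, 1]
def rw181 : List ℕ := [1, 3, 1, 3, 0, 3, 1, 2, 0, 2, 0, 2, 0, 0, 2, 1, 1, 3]
def rw182 : List ℕ := [1, 1, 2, 0, 0, 0, 2, 1, 1, 2, 0, 0, 3, 1, 1, 1, 3]
def rw183 : List ℕ := [1, 1, 3, 1, 1, 1, 2, 1, 3, 0, 3, 0, 0, 0, 2, 1]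
def rw184 : List ℕ := [1, 3, 0, 0, 0, 0, 2, 1, 2, 2, 0, 3, 1, 1, 1, 1, 2]
def rw185 : List ℕ := [1, 1, 2, 1, 3, 0, 3, 0, 0, 0, 2, 1, 1, 1, 3, 1]
def rw186 : List ℕ := [1, 1, 3, 1, 2, 0, 0, 0, 2, 1, 1, 3, 3, 3, 0, 0, 3, 1]
def rw187 : List ℕ := [1, 2, 1, 3, 0, 0, 0, 0, 2, 1, 2, 2, 0, 3, 1, 1, 1]
def rw188 : List ℕ := [1, 3, 1, 3, 1, 2, 0, 3, 0, 2, 0, 2, 0, 2, 2, 1, 3, 3]
def rw189 : List ℕ := [1, 3, 0, 3, 0, 0, 0, 2, 1, 1, 1, 3, 1, 1, 1, 2]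
def rw190 : List ℕ := [1, 3, 1, 3, 3, 0, 2, 2, 0, 2, 0, 2, 0, 3, 1, 2, 1, 3]
def rw191 : List ℕ := [1, 1, 2, 0, 3, 0, 0, 0, 0, 2, 1, 3, 3, 0, 3, 1, 1]
def rw192 : List ℕ := [1, 2, 0, 0, 0, 2, 1, 1, 2, 0, 0, 3, 1, 1, 1, 3, 1]
def rw193 : List ℕ := [1, 3, 3, 0, 2, 2, 0, 2, 0, 2, 0, 3, 1, 2, 1, 3, 1, 3]
def rw194 : List ℕ := [1, 3, 1, 1, 1, 2, 1, 2, 2, 0, 3, 0, 0, 0, 2]
def rw195 : List ℕ := [1, 2, 0, 3, 1, 1, 1, 1, 2, 0, 0, 0, 3, 0, 0, 0, 0, 2]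
def rw196 : List ℕ := [1, 3, 1, 3, 1, 2, 1, 3, 0, 2, 0, 2, 0, 2, 2, 0, 3, 3]
def rw197 : List ℕ := [1, 1, 1, 1, 2, 1, 1, 1, 3, 0, 0, 0, 0, 2, 1, 3, 0, 3]
def rw198 : List ℕ := [1, 1, 2, 1, 2, 2, 0, 3, 0, 0, 0, 2, 1, 3, 1]
def rw199 : List ℕ := [1, 2, 1, 3, 0, 3, 0, 0, 0, 2, 1, 1, 1, 3, 1, 1]
def rw200 : List ℕ := [1, 1, 1, 2, 1, 3, 0, 3, 0, 0, 0, 2, 1, 1, 1, 3]
def rw201 : List ℕ := [1, 3, 1, 3, 3, 1, 2, 2, 0, 2, 0, 2, 0, 3, 0, 2, 1, 3]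
def rw202 : List ℕ := [1, 1, 3, 0, 0, 0, 0, 0, 0, 0, 2, 1, 1, 1, 1, 1]
def rw203 : List ℕ := [1, 1, 1, 2, 0, 0, 0, 3, 0, 0, 0, 0, 2, 1, 2, 0, 3, 1]
def rw204 : List ℕ := [1, 1, 3, 0, 2, 0, 0, 0, 2, 1, 1, 2, 2, 2, 0, 0, 3, 1]
def rw205 : List ℕ := [1, 1, 2, 0, 0, 0, 3, 0, 0, 0, 0, 2, 1, 2, 0, 3, 1, 1]
def rw206 : List ℕ := [1, 1, 2, 0, 0, 0, 0, 0, 0, 0, 3, 1, 1, 1, 1, 1]
def rw207 : List ℕ := [1, 1, 1, 3, 1, 2, 0, 0, 0, 2, 1, 1, 3, 3, 3, 0, 0, 3]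
def rw208 : List ℕ := [1, 3, 0, 0, 3, 1, 1, 1, 3, 0, 0, 2, 0, 0, 0, 2, 1]
def rw209 : List ℕ := [1, 1, 2, 1, 3, 0, 3, 0, 0, 3, 1, 3, 1, 1, 1, 2, 0, 2]
def rw210 : List ℕ := [1, 2, 0, 0, 0, 0, 0, 0, 0, 3, 1, 1, 1, 1, 1, 1]
def rw211 : List ℕ := [1, 1, 2, 0, 0, 2, 0, 2, 0, 2, 1, 3, 0, 3, 1, 3, 1, 3]
def rw212 : List ℕ := [1, 2, 1, 2, 2, 0, 3, 0, 0, 3, 1, 3, 1, 2, 0, 2, 1]
def rw213 : List ℕ := [1, 2, 1, 2, 2, 0, 3, 0, 0, 0, 2, 1, 3, 1, 1]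
def rw214 : List ℕ := [1, 2, 0, 3, 0, 0, 0, 0, 2, 1, 3, 3, 0, 3, 1, 1, 1]
def rw215 : List ℕ := [1, 3, 3, 0, 3, 0, 0, 3, 1, 3, 0, 2, 0, 2, 1, 1, 2]
def rw216 : List ℕ := [1, 1, 3, 1, 1, 2, 0, 0, 0, 2, 1, 1, 2, 0, 0, 3, 1]
def rw217 : List ℕ := [1, 1, 3, 0, 0, 0, 0, 2, 1, 3, 0, 3, 1, 1, 1, 1, 2, 1]
def rw218 : List ℕ := [1, 1, 1, 1, 3, 0, 0, 0, 0, 0, 0, 0, 2, 1, 1, 1]
def rw219 : List ℕ := [1, 1, 1, 2, 0, 3, 0, 0, 0, 0, 2, 1, 3, 3, 0, 3, 1]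
def rw220 : List ℕ := [1, 3, 1, 3, 0, 2, 1, 2, 0, 2, 0, 2, 0, 0, 3, 1, 1, 3]
def rw221 : List ℕ := [1, 2, 2, 2, 0, 0, 3, 1, 1, 1, 3, 0, 2, 0, 0, 0, 2, 1]
def rw222 : List ℕ := [1, 1, 1, 3, 0, 0, 0, 0, 0, 0, 0, 2, 1, 1, 1, 1]
def rw223 : List ℕ := [1, 3, 1, 2, 1, 3, 0, 2, 0, 2, 0, 2, 2, 0, 3, 3, 1, 3]
def rw224 : List ℕ := [1, 3, 0, 2, 1, 2, 0, 2, 0, 2, 0, 0, 3, 1, 1, 3, 1, 3]
def rw225 : List ℕ := [1, 3, 1, 2, 0, 2, 1, 1, 2, 1, 2, 2, 0, 3, 0, 0, 3]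
def rw226 : List ℕ := [1, 1, 1, 1, 1, 1, 1]
def rw227 : List ℕ := [1, 3, 0, 3, 1, 1, 1, 1, 2, 1, 1, 1, 3, 0, 0, 0, 0, 2]
def rw228 : List ℕ := [1, 2, 1, 1, 1, 3, 0, 0, 0, 0, 2, 1, 3, 0, 3, 1, 1, 1]
def rw229 : List ℕ := [1, 3, 1, 1, 3, 0, 0, 2, 0, 2, 0, 2, 1, 2, 0, 3, 1, 3]
def rw230 : List ℕ := [1, 1, 1, 1, 1, 3, 0, 0, 0, 0, 0, 0, 0, 2, 1, 1]
def rw231 : List ℕ := [1, 2, 1, 3, 3, 0, 3, 0, 0, 3, 1, 3, 0, 2, 0, 2, 1]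
def rw232 : List ℕ := [1, 1, 1, 3, 0, 2, 0, 0, 0, 2, 1, 1, 2, 2, 2, 0, 0, 3]
def rw233 : List ℕ := [1, 2, 2, 0, 3, 0, 0, 3, 1, 3, 1, 2, 0, 2, 1, 1, 2]
def rw234 : List ℕ := [1, 3, 0, 0, 0, 0, 0, 0, 0, 2, 1, 1, 1, 1, 1, 1]
def rw235 : List ℕ := [1, 3, 1, 1, 2, 0, 0, 0, 2, 1, 1, 2, 0, 0, 3, 1, 1]
def rw236 : List ℕ := [1, 2, 0, 0, 0, 3, 0, 0, 0, 0, 2, 1, 2, 0, 3, 1, 1, 1]
def rw237 : List ℕ := [1, 2, 0, 0, 3, 1, 1, 1, 3, 1, 1, 2, 0, 0, 0, 2, 1]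
def rw238 : List ℕ := [1, 3, 1, 3, 1, 1, 2, 0, 0, 2, 0, 2, 0, 2, 1, 3, 0, 3]
def rw239 : List ℕ := [1, 1, 1, 2, 1, 1, 1, 3, 0, 0, 0, 0, 2, 1, 3, 0, 3, 1]
def rw240 : List ℕ := [1, 1, 1, 1, 1, 1, 1]
def rw241 : List ℕ := [1, 2, 0, 2, 0, 2, 0, 0, 3, 1, 1, 3, 1, 3, 1, 3, 0, 2]
def rw242 : List ℕ := [1, 1, 1, 1, 2, 0, 3, 0, 0, 0, 0, 2, 1, 3, 3, 0, 3]
def rw243 : List ℕ := [1, 3, 1, 3, 1, 3, 3, 1, 2, 2, 0, 2, 0, 2, 0, 3, 0, 2]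
def rw244 : List ℕ := [1, 1, 1, 3, 0, 0, 0, 0, 2, 1, 3, 0, 3, 1, 1, 1, 1, 2]
def rw245 : List ℕ := [1, 1, 1, 1, 1, 1, 1, 2, 0, 0, 0, 0, 0, 0, 0, 3]
def rw246 : List ℕ := [1, 3, 1, 3, 1, 3, 0, 3, 1, 2, 0, 2, 0, 2, 0, 0, 2, 1]
def rw247 : List ℕ := [2, 1, 3, 3, 0, 3, 0, 0, 0, 2, 0, 3, 1, 1, 1]
def rw248 : List ℕ := [2, 1, 2, 2, 0, 3, 0, 0, 0, 2, 1, 3, 1, 1, 1]
def rw249 : List ℕ := [2, 0, 3, 0, 0, 0, 2, 0, 0, 0, 3, 1, 1, 1, 2, 1]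
def rw250 : List ℕ := [2, 0, 0, 3, 1, 1, 1, 3, 1, 1, 2, 0, 0, 0, 2, 1, 1]
def rw251 : List ℕ := [2, 1, 3, 1, 1, 1, 2, 1, 2, 2, 0, 3, 0, 0, 0]
def rw252 : List ℕ := [2, 0, 3, 1, 3, 1, 3, 1, 2, 0, 2, 0]
def rw253 : List ℕ := [2, 0, 0, 0, 2, 1, 1, 3, 0, 0, 3, 1, 1, 1, 3, 0, 0]
def rw254 : List ℕ := [2, 0, 0, 0, 2, 1, 1, 2, 0, 0, 3, 1, 1, 1, 3, 1, 1]
def rw255 : List ℕ := [2, 0, 2, 1, 3, 1, 3, 1, 3, 0, 2, 0]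
def rw256 : List ℕ := [2, 0, 2, 0, 3, 1, 3, 1, 3, 1, 2, 0]
def rw257 : List ℕ := [2, 0, 2, 0, 2, 1, 3, 1, 3, 1, 3, 0]
def rw258 : List ℕ := [2, 0, 2, 0, 2, 0, 3, 1, 3, 1, 3, 1]
def rw259 : List ℕ := [2, 1, 2, 0, 3, 1, 3, 1, 3, 1, 1, 3, 0, 0, 2, 0, 2, 0]
def rw260 : List ℕ := [2, 0, 2, 0, 2, 0, 3, 1, 2, 1, 3, 1, 3, 1, 3, 3, 0, 2]
def rw261 : List ℕ := [2, 0, 2, 1, 3, 0, 3, 1, 3, 1, 3, 1, 1, 2, 0, 0, 2, 0]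
def rw262 : List ℕ := [2, 2, 2, 2, 2, 2, 2]
def rw263 : List ℕ := [2, 1, 1, 3, 3, 3, 0, 0, 3, 1, 1, 1, 3, 1, 2, 0, 0, 0]
def rw264 : List ℕ := [2, 1, 3, 1, 3, 1, 3, 0, 2, 0, 2, 0]
def rw265 : List ℕ := [2, 0, 3, 1, 1, 1, 2, 1, 3, 3, 0, 3, 0, 0, 0]
def rw266 : List ℕ := [2, 1, 2, 0, 3, 0, 0, 3, 1, 3, 0, 0, 0, 2, 0, 2, 1, 1]
def rw267 : List ℕ := [2, 0, 0, 0, 3, 1, 1, 1, 2, 1, 2, 0, 3, 0, 0, 0]
def rw268 : List ℕ := [2, 1, 3, 0, 3, 0, 0, 0, 2, 1, 1, 1, 3, 1, 1, 1]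
def rw269 : List ℕ := [2, 1, 1, 2, 1, 3, 0, 3, 0, 0, 3, 1, 3, 1, 1, 1, 2, 0]
def rw270 : List ℕ := [2, 0, 3, 1, 1, 1, 1, 2, 0, 0, 0, 3, 0, 0, 0, 0, 2, 1]
def rw271 : List ℕ := [2, 2, 2, 2, 2, 0, 3, 3, 3, 3, 3, 3, 3, 1, 2, 2]
def rw272 : List ℕ := [2, 0, 2, 2, 0, 3, 3, 1, 3, 1, 3, 1, 2, 1, 3, 0, 2, 0]
def rw273 : List ℕ := [2, 1, 1, 1, 3, 0, 0, 0, 0, 2, 1, 3, 0, 3, 1, 1, 1, 1]
def rw274 : List ℕ := [2, 2, 2, 2, 1, 3, 3, 3, 3, 3, 3, 3, 0, 2, 2, 2]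
def rw275 : List ℕ := [2, 1, 1, 2, 1, 2, 2, 0, 3, 0, 0, 3, 1, 3, 1, 2, 0]
def rw276 : List ℕ := [2, 1, 2, 0, 3, 1, 1, 1, 1, 2, 0, 0, 0, 3, 0, 0, 0, 0]
def rw277 : List ℕ := [2, 0, 3, 0, 0, 0, 2, 1, 3, 1, 1, 1, 2, 1, 2]
def rw278 : List ℕ := [2, 1, 1, 2, 2, 2, 0, 0, 3, 1, 1, 1, 3, 0, 2, 0, 0, 0]
def rw279 : List ℕ := [2, 1, 2, 2, 0, 3, 1, 1, 1, 1, 2, 1, 3, 0, 0, 0, 0]
def rw280 : List ℕ := [2, 1, 3, 0, 3, 1, 3, 1, 3, 1, 1, 2, 0, 0, 2, 0, 2, 0]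
def rw281 : List ℕ := [2, 2, 2, 2, 2, 2, 2]
def rw282 : List ℕ := [2, 2, 2, 2, 2, 2, 1, 3, 3, 3, 3, 3, 3, 3, 0, 2]
def rw283 : List ℕ := [2, 0, 2, 1, 2, 0, 3, 1, 3, 1, 3, 1, 1, 3, 0, 0, 2, 0]
def rw284 : List ℕ := [2, 1, 3, 0, 0, 0, 0, 2, 1, 2, 2, 0, 3, 1, 1, 1, 1]
def rw285 : List ℕ := [2, 1, 2, 2, 0, 3, 0, 0, 3, 1, 3, 1, 2, 0, 2, 1, 1]
def rw286 : List ℕ := [2, 1, 1, 1, 3, 1, 1, 1, 2, 1, 3, 0, 3, 0, 0, 0]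
def rw287 : List ℕ := [2, 1, 3, 3, 3, 3, 3, 3, 3, 0, 2, 2, 2, 2, 2, 2]
def rw288 : List ℕ := [2, 2, 0, 3, 0, 0, 0, 2, 1, 3, 1, 1, 1, 2, 1]
def rw289 : List ℕ := [2, 0, 3, 0, 0, 3, 1, 3, 1, 2, 0, 2, 1, 1, 2, 1, 2]
def rw290 : List ℕ := [2, 0, 0, 2, 1, 1, 3, 1, 3, 1, 3, 0, 3, 1, 2, 0, 2, 0]
def rw291 : List ℕ := [2, 2, 0, 3, 0, 0, 3, 1, 3, 1, 2, 0, 2, 1, 1, 2, 1]
def rw292 : List ℕ := [2, 2, 2, 2, 2, 2, 2]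
def rw293 : List ℕ := [2, 0, 3, 0, 2, 1, 3, 1, 3, 1, 3, 3, 1, 2, 2, 0, 2, 0]
def rw294 : List ℕ := [2, 1, 3, 3, 0, 3, 1, 1, 1, 1, 2, 0, 3, 0, 0, 0, 0]
def rw295 : List ℕ := [2, 0, 2, 0, 2, 1, 3, 0, 3, 1, 3, 1, 3, 1, 1, 2, 0, 0]
def rw296 : List ℕ := [2, 0, 2, 1, 1, 2, 1, 3, 0, 3, 0, 0, 3, 1, 3, 1, 1, 1]
def rw297 : List ℕ := [2, 0, 0, 3, 1, 1, 1, 3, 0, 2, 0, 0, 0, 2, 1, 1, 2, 2]
def rw298 : List ℕ := [2, 1, 1, 2, 0, 0, 3, 1, 1, 1, 3, 1, 1, 2, 0, 0, 0]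
def rw299 : List ℕ := [2, 0, 3, 3, 1, 3, 1, 3, 1, 2, 1, 3, 0, 2, 0, 2, 0, 2]
def rw300 : List ℕ := [2, 0, 2, 1, 1, 2, 1, 2, 2, 0, 3, 0, 0, 3, 1, 3, 1]
def rw301 : List ℕ := [2, 1, 3, 0, 3, 0, 0, 3, 1, 3, 1, 1, 1, 2, 0, 2, 1, 1]
def rw302 : List ℕ := [2, 0, 2, 0, 0, 2, 1, 1, 3, 1, 3, 1, 3, 0, 3, 1, 2, 0]
def rw303 : List ℕ := [2, 1, 3, 3, 0, 3, 0, 0, 3, 1, 3, 0, 2, 0, 2, 1, 1]
def rw304 : List ℕ := [2, 1, 1, 2, 1, 3, 3, 0, 3, 0, 0, 3, 1, 3, 0, 2, 0]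
def rw305 : List ℕ := [2, 2, 2, 2, 2, 2, 0, 3, 3, 3, 3, 3, 3, 3, 1, 2]
def rw306 : List ℕ := [2, 2, 2, 2, 2, 2, 2]
def rw307 : List ℕ := [2, 0, 3, 1, 1, 1, 1, 2, 1, 3, 0, 0, 0, 0, 2, 1, 2]
def rw308 : List ℕ := [2, 2, 2, 0, 0, 3, 1, 1, 1, 3, 0, 2, 0, 0, 0, 2, 1, 1]
def rw309 : List ℕ := [2, 0, 2, 0, 3, 1, 2, 1, 3, 1, 3, 1, 3, 3, 0, 2, 2, 0]
def rw310 : List ℕ := [2, 1, 1, 3, 0, 0, 3, 1, 1, 1, 3, 0, 0, 2, 0, 0, 0]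
def rw311 : List ℕ := [2, 0, 0, 3, 1, 1, 3, 1, 3, 1, 3, 0, 2, 1, 2, 0, 2, 0]
def rw312 : List ℕ := [2, 0, 2, 2, 1, 3, 3, 1, 3, 1, 3, 1, 2, 0, 3, 0, 2, 0]
def rw313 : List ℕ := [2, 0, 3, 0, 0, 0, 0, 2, 1, 3, 3, 0, 3, 1, 1, 1, 1]
def rw314 : List ℕ := [2, 0, 3, 0, 0, 3, 1, 3, 0, 0, 0, 2, 0, 2, 1, 1, 2, 1]
def rw315 : List ℕ := [2, 1, 1, 3, 1, 3, 1, 3, 0, 3, 1, 2, 0, 2, 0, 2, 0, 0]
def rw316 : List ℕ := [2, 2, 1, 3, 3, 1, 3, 1, 3, 1, 2, 0, 3, 0, 2, 0, 2, 0]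
def rw317 : List ℕ := [2, 2, 0, 3, 3, 3, 3, 3, 3, 3, 1, 2, 2, 2, 2, 2]
def rw318 : List ℕ := [2, 0, 2, 0, 3, 0, 2, 1, 3, 1, 3, 1, 3, 3, 1, 2, 2, 0]
def rw319 : List ℕ := [2, 0, 2, 1, 1, 2, 1, 2, 0, 3, 0, 0, 3, 1, 3, 0, 0, 0]
def rw320 : List ℕ := [2, 0, 2, 0, 2, 0, 0, 2, 1, 1, 3, 1, 3, 1, 3, 0, 3, 1]
def rw321 : List ℕ := [2, 1, 3, 0, 3, 1, 1, 1, 1, 2, 1, 1, 1, 3, 0, 0, 0, 0]
def rw322 : List ℕ := [2, 2, 2, 2, 2, 1, 3, 3, 3, 3, 3, 3, 3, 0, 2, 2]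
def rw323 : List ℕ := [2, 2, 2, 2, 2, 2, 2]
def rw324 : List ℕ := [2, 0, 0, 0, 2, 1, 1, 2, 2, 2, 0, 0, 3, 1, 1, 1, 3, 0]
def rw325 : List ℕ := [2, 0, 2, 1, 1, 2, 1, 3, 3, 0, 3, 0, 0, 3, 1, 3, 0]
def rw326 : List ℕ := [2, 2, 2, 2, 0, 3, 3, 3, 3, 3, 3, 3, 1, 2, 2, 2]
def rw327 : List ℕ := [2, 2, 0, 3, 1, 1, 1, 1, 2, 1, 3, 0, 0, 0, 0, 2, 1]
def rw328 : List ℕ := [2, 2, 2, 1, 3, 3, 3, 3, 3, 3, 3, 0, 2, 2, 2, 2]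
def rw329 : List ℕ := [2, 0, 0, 2, 0, 2, 0, 2, 1, 3, 0, 3, 1, 3, 1, 3, 1, 1]
def rw330 : List ℕ := [2, 0, 2, 0, 2, 0, 3, 0, 2, 1, 3, 1, 3, 1, 3, 3, 1, 2]
def rw331 : List ℕ := [2, 0, 0, 0, 2, 1, 1, 3, 3, 3, 0, 0, 3, 1, 1, 1, 3, 1]
def rw332 : List ℕ := [2, 0, 2, 0, 0, 3, 1, 1, 3, 1, 3, 1, 3, 0, 2, 1, 2, 0]
def rw333 : List ℕ := [2, 0, 2, 0, 2, 2, 0, 3, 3, 1, 3, 1, 3, 1, 2, 1, 3, 0]
def rw334 : List ℕ := [2, 2, 2, 2, 2, 2, 2, 0, 3, 3, 3, 3, 3, 3, 3, 1]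
def rw335 : List ℕ := [2, 2, 0, 0, 3, 1, 1, 1, 3, 0, 2, 0, 0, 0, 2, 1, 1, 2]
def rw336 : List ℕ := [2, 0, 2, 0, 2, 2, 1, 3, 3, 1, 3, 1, 3, 1, 2, 0, 3, 0]
def rw337 : List ℕ := [2, 0, 2, 0, 2, 1, 2, 0, 3, 1, 3, 1, 3, 1, 1, 3, 0, 0]
def rw338 : List ℕ := [2, 1, 2, 0, 3, 0, 0, 0, 2, 0, 0, 0, 3, 1, 1, 1]
def rw339 : List ℕ := [2, 0, 0, 0, 3, 0, 0, 0, 0, 2, 1, 2, 0, 3, 1, 1, 1, 1]
def rw340 : List ℕ := [2, 2, 2, 2, 2, 2, 2, 1, 3, 3, 3, 3, 3, 3, 3, 0]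
def rw341 : List ℕ := [2, 1, 1, 2, 1, 2, 0, 3, 0, 0, 3, 1, 3, 0, 0, 0, 2, 0]
def rw342 : List ℕ := [2, 2, 1, 3, 3, 3, 3, 3, 3, 3, 0, 2, 2, 2, 2, 2]
def rw343 : List ℕ := [3, 3, 3, 3, 3, 3, 3]
def rw344 : List ℕ := [3, 1, 3, 1, 3, 1, 2, 0, 2, 0, 2, 0]
def rw345 : List ℕ := [3, 1, 1, 1, 3, 1, 1, 2, 0, 0, 0, 2, 1, 1, 2, 0, 0]
def rw346 : List ℕ := [3, 0, 0, 0, 2, 0, 3, 1, 1, 1, 2, 1, 3, 3, 0]
def rw347 : List ℕ := [3, 1, 3, 0, 2, 0, 2, 0, 2, 1, 3, 1]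
def rw348 : List ℕ := [3, 0, 0, 0, 2, 1, 3, 1, 1, 1, 2, 1, 2, 2, 0]
def rw349 : List ℕ := [3, 0, 0, 2, 0, 0, 0, 2, 1, 1, 3, 0, 0, 3, 1, 1, 1]
def rw350 : List ℕ := [3, 1, 1, 1, 3, 0, 0, 2, 0, 0, 0, 2, 1, 1, 3, 0, 0]
def rw351 : List ℕ := [3, 0, 0, 0, 2, 0, 0, 0, 3, 1, 1, 1, 2, 1, 2, 0]
def rw352 : List ℕ := [3, 1, 2, 0, 2, 0, 2, 0, 3, 1, 3, 1]
def rw353 : List ℕ := [3, 1, 3, 0, 0, 0, 2, 0, 2, 1, 1, 2, 1, 2, 0, 3, 0, 0]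
def rw354 : List ℕ := [3, 1, 1, 2, 0, 0, 0, 2, 1, 1, 2, 0, 0, 3, 1, 1, 1]
def rw355 : List ℕ := [3, 1, 3, 1, 2, 0, 2, 0, 2, 0, 3, 1]
def rw356 : List ℕ := [3, 0, 2, 2, 0, 2, 0, 2, 0, 3, 1, 2, 1, 3, 1, 3, 1, 3]
def rw357 : List ℕ := [3, 0, 2, 1, 2, 0, 2, 0, 2, 0, 0, 3, 1, 1, 3, 1, 3, 1]
def rw358 : List ℕ := [3, 0, 3, 0, 0, 0, 2, 1, 1, 1, 3, 1, 1, 1, 2, 1]
def rw359 : List ℕ := [3, 1, 3, 0, 3, 1, 2, 0, 2, 0, 2, 0, 0, 2, 1, 1, 3, 1]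
def rw360 : List ℕ := [3, 3, 3, 3, 3, 3, 3]
def rw361 : List ℕ := [3, 1, 1, 1, 1, 2, 0, 0, 0, 3, 0, 0, 0, 0, 2, 1, 2, 0]
def rw362 : List ℕ := [3, 1, 3, 1, 1, 1, 2, 0, 2, 1, 1, 2, 1, 3, 0, 3, 0, 0]
def rw363 : List ℕ := [3, 1, 3, 0, 2, 1, 2, 0, 2, 0, 2, 0, 0, 3, 1, 1, 3, 1]
def rw364 : List ℕ := [3, 3, 3, 3, 1, 2, 2, 2, 2, 2, 2, 2, 0, 3, 3, 3]
def rw365 : List ℕ := [3, 3, 0, 2, 2, 2, 2, 2, 2, 2, 1, 3, 3, 3, 3, 3]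
def rw366 : List ℕ := [3, 0, 3, 0, 0, 0, 2, 0, 3, 1, 1, 1, 2, 1, 3]
def rw367 : List ℕ := [3, 0, 2, 0, 2, 0, 2, 1, 3, 1, 3, 1]
def rw368 : List ℕ := [3, 3, 3, 3, 3, 3, 3]
def rw369 : List ℕ := [3, 1, 1, 1, 3, 0, 2, 0, 0, 0, 2, 1, 1, 2, 2, 2, 0, 0]
def rw370 : List ℕ := [3, 1, 3, 1, 3, 0, 2, 0, 2, 0, 2, 1]
def rw371 : List ℕ := [3, 1, 3, 1, 3, 0, 3, 1, 2, 0, 2, 0, 2, 0, 0, 2, 1, 1]
def rw372 : List ℕ := [3, 0, 0, 0, 2, 1, 1, 1, 3, 1, 1, 1, 2, 1, 3, 0]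
def rw373 : List ℕ := [3, 0, 3, 0, 0, 3, 1, 3, 1, 1, 1, 2, 0, 2, 1, 1, 2, 1]
def rw374 : List ℕ := [3, 0, 2, 0, 0, 0, 2, 1, 1, 2, 2, 2, 0, 0, 3, 1, 1, 1]
def rw375 : List ℕ := [3, 1, 3, 1, 3, 1, 2, 0, 3, 0, 2, 0, 2, 0, 2, 2, 1, 3]
def rw376 : List ℕ := [3, 3, 3, 0, 0, 3, 1, 1, 1, 3, 1, 2, 0, 0, 0, 2, 1, 1]
def rw377 : List ℕ := [3, 1, 3, 1, 2, 1, 3, 0, 2, 0, 2, 0, 2, 2, 0, 3, 3, 1]
def rw378 : List ℕ := [3, 1, 3, 3, 1, 2, 2, 0, 2, 0, 2, 0, 3, 0, 2, 1, 3, 1]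
def rw379 : List ℕ := [3, 0, 0, 3, 1, 3, 1, 1, 1, 2, 0, 2, 1, 1, 2, 1, 3, 0]
def rw380 : List ℕ := [3, 1, 1, 1, 2, 1, 2, 2, 0, 3, 0, 0, 0, 2, 1]
def rw381 : List ℕ := [3, 1, 2, 0, 3, 0, 2, 0, 2, 0, 2, 2, 1, 3, 3, 1, 3, 1]
def rw382 : List ℕ := [3, 1, 1, 1, 3, 1, 2, 0, 0, 0, 2, 1, 1, 3, 3, 3, 0, 0]
def rw383 : List ℕ := [3, 0, 3, 1, 1, 1, 1, 2, 1, 1, 1, 3, 0, 0, 0, 0, 2, 1]
def rw384 : List ℕ := [3, 0, 0, 3, 1, 3, 0, 0, 0, 2, 0, 2, 1, 1, 2, 1, 2, 0]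
def rw385 : List ℕ := [3, 1, 3, 1, 3, 3, 1, 2, 2, 0, 2, 0, 2, 0, 3, 0, 2, 1]
def rw386 : List ℕ := [3, 3, 3, 3, 3, 3, 3]
def rw387 : List ℕ := [3, 1, 1, 1, 2, 1, 2, 0, 3, 0, 0, 0, 2, 0, 0, 0]
def rw388 : List ℕ := [3, 1, 3, 1, 2, 0, 2, 1, 1, 2, 1, 2, 2, 0, 3, 0, 0]
def rw389 : List ℕ := [3, 0, 0, 3, 1, 1, 1, 3, 0, 0, 2, 0, 0, 0, 2, 1, 1]
def rw390 : List ℕ := [3, 1, 1, 1, 2, 1, 3, 3, 0, 3, 0, 0, 0, 2, 0]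
def rw391 : List ℕ := [3, 0, 2, 0, 2, 1, 1, 2, 1, 3, 3, 0, 3, 0, 0, 3, 1]
def rw392 : List ℕ := [3, 0, 0, 0, 0, 2, 1, 2, 0, 3, 1, 1, 1, 1, 2, 0, 0, 0]
def rw393 : List ℕ := [3, 1, 3, 1, 1, 3, 0, 0, 2, 0, 2, 0, 2, 1, 2, 0, 3, 1]
def rw394 : List ℕ := [3, 1, 3, 1, 1, 2, 0, 0, 2, 0, 2, 0, 2, 1, 3, 0, 3, 1]
def rw395 : List ℕ := [3, 0, 3, 0, 0, 3, 1, 3, 0, 2, 0, 2, 1, 1, 2, 1, 3]
def rw396 : List ℕ := [3, 0, 2, 2, 2, 2, 2, 2, 2, 1, 3, 3, 3, 3, 3, 3]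
def rw397 : List ℕ := [3, 1, 1, 2, 0, 0, 2, 0, 2, 0, 2, 1, 3, 0, 3, 1, 3, 1]
def rw398 : List ℕ := [3, 0, 0, 3, 1, 3, 1, 2, 0, 2, 1, 1, 2, 1, 2, 2, 0]
def rw399 : List ℕ := [3, 1, 3, 1, 3, 1, 1, 3, 0, 0, 2, 0, 2, 0, 2, 1, 2, 0]
def rw400 : List ℕ := [3, 1, 1, 1, 1, 2, 0, 3, 0, 0, 0, 0, 2, 1, 3, 3, 0]
def rw401 : List ℕ := [3, 1, 2, 0, 2, 1, 1, 2, 1, 2, 2, 0, 3, 0, 0, 3, 1]
def rw402 : List ℕ := [3, 0, 3, 1, 2, 0, 2, 0, 2, 0, 0, 2, 1, 1, 3, 1, 3, 1]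
def rw403 : List ℕ := [3, 3, 0, 3, 1, 1, 1, 1, 2, 0, 3, 0, 0, 0, 0, 2, 1]
def rw404 : List ℕ := [3, 1, 3, 1, 3, 1, 2, 1, 3, 0, 2, 0, 2, 0, 2, 2, 0, 3]
def rw405 : List ℕ := [3, 3, 0, 3, 0, 0, 0, 2, 0, 3, 1, 1, 1, 2, 1]
def rw406 : List ℕ := [3, 0, 3, 1, 1, 1, 1, 2, 0, 3, 0, 0, 0, 0, 2, 1, 3]
def rw407 : List ℕ := [3, 1, 3, 0, 2, 0, 2, 1, 1, 2, 1, 3, 3, 0, 3, 0, 0]
def rw408 : List ℕ := [3, 0, 0, 0, 2, 0, 2, 1, 1, 2, 1, 2, 0, 3, 0, 0, 3, 1]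
def rw409 : List ℕ := [3, 1, 1, 1, 2, 0, 2, 1, 1, 2, 1, 3, 0, 3, 0, 0, 3, 1]
def rw410 : List ℕ := [3, 0, 0, 0, 0, 2, 1, 3, 0, 3, 1, 1, 1, 1, 2, 1, 1, 1]
def rw411 : List ℕ := [3, 3, 3, 3, 3, 0, 2, 2, 2, 2, 2, 2, 2, 1, 3, 3]
def rw412 : List ℕ := [3, 1, 1, 1, 1, 2, 1, 3, 0, 0, 0, 0, 2, 1, 2, 2, 0]
def rw413 : List ℕ := [3, 3, 3, 3, 0, 2, 2, 2, 2, 2, 2, 2, 1, 3, 3, 3]
def rw414 : List ℕ := [3, 3, 1, 2, 2, 2, 2, 2, 2, 2, 0, 3, 3, 3, 3, 3]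
def rw415 : List ℕ := [3, 1, 3, 3, 0, 2, 2, 0, 2, 0, 2, 0, 3, 1, 2, 1, 3, 1]
def rw416 : List ℕ := [3, 1, 2, 0, 0, 0, 2, 1, 1, 3, 3, 3, 0, 0, 3, 1, 1, 1]
def rw417 : List ℕ := [3, 3, 3, 3, 3, 3, 0, 2, 2, 2, 2, 2, 2, 2, 1, 3]
def rw418 : List ℕ := [3, 0, 0, 3, 1, 3, 0, 2, 0, 2, 1, 1, 2, 1, 3, 3, 0]
def rw419 : List ℕ := [3, 3, 0, 3, 0, 0, 3, 1, 3, 0, 2, 0, 2, 1, 1, 2, 1]
def rw420 : List ℕ := [3, 3, 0, 0, 3, 1, 1, 1, 3, 1, 2, 0, 0, 0, 2, 1, 1, 3]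
def rw421 : List ℕ := [3, 0, 0, 3, 1, 1, 1, 3, 1, 2, 0, 0, 0, 2, 1, 1, 3, 3]
def rw422 : List ℕ := [3, 3, 3, 3, 3, 3, 3]
def rw423 : List ℕ := [3, 3, 3, 1, 2, 2, 2, 2, 2, 2, 2, 0, 3, 3, 3, 3]
def rw424 : List ℕ := [3, 0, 0, 0, 0, 2, 1, 2, 2, 0, 3, 1, 1, 1, 1, 2, 1]
def rw425 : List ℕ := [3, 0, 0, 0, 0, 2, 1, 3, 3, 0, 3, 1, 1, 1, 1, 2, 0]
def rw426 : List ℕ := [3, 1, 1, 1, 1, 2, 1, 1, 1, 3, 0, 0, 0, 0, 2, 1, 3, 0]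
def rw427 : List ℕ := [3, 3, 3, 3, 3, 3, 1, 2, 2, 2, 2, 2, 2, 2, 0, 3]
def rw428 : List ℕ := [3, 3, 3, 3, 3, 1, 2, 2, 2, 2, 2, 2, 2, 0, 3, 3]
def rw429 : List ℕ := [3, 1, 1, 1, 2, 1, 3, 0, 3, 0, 0, 0, 2, 1, 1, 1]
def rw430 : List ℕ := [3, 1, 3, 1, 3, 3, 0, 2, 2, 0, 2, 0, 2, 0, 3, 1, 2, 1]
def rw431 : List ℕ := [3, 1, 3, 1, 3, 1, 1, 2, 0, 0, 2, 0, 2, 0, 2, 1, 3, 0]
def rw432 : List ℕ := [3, 1, 3, 1, 2, 0, 3, 0, 2, 0, 2, 0, 2, 2, 1, 3, 3, 1]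
def rw433 : List ℕ := [3, 3, 1, 2, 2, 0, 2, 0, 2, 0, 3, 0, 2, 1, 3, 1, 3, 1]
def rw434 : List ℕ := [3, 3, 3, 3, 3, 3, 3, 0, 2, 2, 2, 2, 2, 2, 2, 1]
def rw435 : List ℕ := [0, 0, 2, 0, 2, 0, 2, 1, 3, 0, 3, 1, 3, 1, 3, 1, 1, 2]
def rw436 : List ℕ := [3, 1, 2, 1, 3, 0, 2, 0, 2, 0, 2, 2, 0, 3, 3, 1, 3, 1]
def rw437 : List ℕ := [2, 1, 2, 0, 2, 0, 2, 0, 0, 3, 1, 1, 3, 1, 3, 1, 3, 0]
def rw438 : List ℕ := [0, 0, 3, 1, 1, 1, 1, 1, 1, 1, 2, 0, 0, 0, 0, 0]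
def rw439 : List ℕ := [2, 0, 3, 0, 2, 0, 2, 0, 2, 2, 1, 3, 3, 1, 3, 1, 3, 1]
def rw440 : List ℕ := [1, 3, 0, 3, 1, 3, 1, 3, 1, 1, 2, 0, 0, 2, 0, 2, 0, 2]
def rw441 : List ℕ := [1, 1, 1, 1, 2, 0, 0, 0, 3, 0, 0, 0, 0, 2, 1, 2, 0, 3]
def rw442 : List ℕ := [3, 3, 3, 0, 2, 2, 2, 2, 2, 2, 2, 1, 3, 3, 3, 3]
def rw443 : List ℕ := [1, 2, 0, 3, 1, 3, 1, 3, 1, 1, 3, 0, 0, 2, 0, 2, 0, 2]
def rw444 : List ℕ := [1, 2, 0, 0, 2, 0, 2, 0, 2, 1, 3, 0, 3, 1, 3, 1, 3, 1]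
def rw445 : List ℕ := [1, 1, 3, 0, 0, 2, 0, 2, 0, 2, 1, 2, 0, 3, 1, 3, 1, 3]
def rw446 : List ℕ := [0, 0, 0, 2, 1, 1, 2, 2, 2, 0, 0, 3, 1, 1, 1, 3, 0, 2]
def rw447 : List ℕ := [0, 2, 0, 3, 1, 2, 1, 3, 1, 3, 1, 3, 3, 0, 2, 2, 0, 2]
def rw448 : List ℕ := [0, 3, 0, 0, 3, 1, 3, 1, 1, 1, 2, 0, 2, 1, 1, 2, 1, 3]
def rw449 : List ℕ := [0, 0, 3, 1, 3, 1, 1, 1, 2, 0, 2, 1, 1, 2, 1, 3, 0, 3]
def rw450 : List ℕ := [1, 1, 1, 1, 1, 1, 1]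
def rw451 : List ℕ := [1, 1, 2, 0, 2, 1, 1, 2, 1, 3, 0, 3, 0, 0, 3, 1, 3, 1]
def rw452 : List ℕ := [1, 3, 0, 0, 2, 0, 2, 0, 2, 1, 2, 0, 3, 1, 3, 1, 3, 1]
def rw453 : List ℕ := [1, 1, 1, 2, 0, 0, 0, 0, 0, 0, 0, 3, 1, 1, 1, 1]
def rw454 : List ℕ := [0, 0, 0, 0, 0, 0, 0]
def rw455 : List ℕ := [3, 1, 1, 3, 0, 0, 2, 0, 2, 0, 2, 1, 2, 0, 3, 1, 3, 1]
def rw456 : List ℕ := [0, 2, 1, 2, 0, 2, 0, 2, 0, 0, 3, 1, 1, 3, 1, 3, 1, 3]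
def rw457 : List ℕ := [3, 1, 2, 2, 2, 2, 2, 2, 2, 0, 3, 3, 3, 3, 3, 3]
def rw458 : List ℕ := [2, 2, 2, 2, 2, 2, 2]
def rw459 : List ℕ := [3, 1, 2, 2, 0, 2, 0, 2, 0, 3, 0, 2, 1, 3, 1, 3, 1, 3]
def rw460 : List ℕ := [2, 1, 3, 3, 1, 3, 1, 3, 1, 2, 0, 3, 0, 2, 0, 2, 0, 2]
def rw461 : List ℕ := [1, 3, 1, 1, 2, 0, 0, 2, 0, 2, 0, 2, 1, 3, 0, 3, 1, 3]
def rw462 : List ℕ := [3, 3, 3, 3, 3, 3, 3]
def rw463 : List ℕ := [2, 2, 0, 3, 3, 1, 3, 1, 3, 1, 2, 1, 3, 0, 2, 0, 2, 0]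
def rw464 : List ℕ := [0, 0, 0, 0, 0, 0, 0]
def rw465 : List ℕ := [2, 0, 2, 0, 2, 0, 0, 3, 1, 1, 3, 1, 3, 1, 3, 0, 2, 1]
def rw466 : List ℕ := [2, 2, 2, 0, 3, 3, 3, 3, 3, 3, 3, 1, 2, 2, 2, 2]
noncomputable def relW (i : ℕ) : List ℕ := (Bool.rec (motive := fun _ => List ℕ) (Bool.rec (motive := fun _ => List ℕ) (Bool.rec (motive := fun _ => List ℕ) (Bool.rec (motive := fun _ => List ℕ) (Bool.rec (motive := fun _ => List ℕ) (Bool.rec (motive := fun _ => List ℕ) (Bool.rec (motive := fun _ => List ℕ) (Bool.rec (motive := fun _ => List ℕ) (Bool.rec (motive := fun _ => List ℕ) (rw0) (rw1) (Nat.ble 1 i)) (Bool.rec (motive := fun _ => List ℕ) (rw2) (rw3) (Nat.ble 3 i)) (Nat.ble 2 i)) (Bool.rec (motive := fun _ => List ℕ) (Bool.rec (motive := fun _ => List ℕ) (rw4) (rw5) (Nat.ble 5 i)) (Bool.rec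 (motive := fun _ => List ℕ) (rw6) (rw7) (Nat.ble 7 i)) (Nat.ble 6 i)) (Nat.ble 4 i)) (Bool.rec (motive := fun _ => List ℕ) (Bool.rec (motive := fun _ => List ℕ) (Bool.rec (motive := fun _ => List ℕ) (rw8) (rw9) (Nat.ble 9 i)) (Bool.rec (motive := fun _ => List ℕ) (rw10) (rw11) (Nat.ble 11 i)) (Nat.ble 10 i)) (Bool.rec (motive := fun _ => List ℕ) (Bool.rec (motive := fun _ => List ℕ) (rw12) (rw13) (Nat.ble 13 i)) (Bool.rec (motive := fun _ => List ℕ) (rw14) (rw15) (Nat.ble 15 i)) (Nat.ble 14 i)) (Nat.ble 12 i)) (Nat.ble 8 i)) (Bool.rec (motive := fun _ => List ℕ) (Bool.rec (motive := fun _ => List ℕ) (Bool.rec (motive := fun _ => List ℕ) (Bool.rec (motive := fun _ => List ℕ) (rw16) (rw17) (Nat.ble 17 i)) (Bool.rec (motive := fun _ => List ℕ) (rw18) (rw19) (Nat.ble 19 i)) (Nat.ble 18 i))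 (Bool.rec (motive := fun _ => List ℕ) (Bool.rec (motive := fun _ => List ℕ) (rw20) (rw21) (Nat.ble 21 i)) (Bool.rec (motive := fun _ => List ℕ) (rw22) (rw23) (Nat.ble 23 i)) (Nat.ble 22 i)) (Nat.ble 20 i)) (Bool.rec (motive := fun _ => List ℕ) (Bool.rec (motive := fun _ => List ℕ) (Bool.rec (motive := fun _ => List ℕ) (rw24) (rw25) (Nat.ble 25 i)) (Bool.rec (motive := fun _ => List ℕ) (rw26) (rw27) (Nat.ble 27 i)) (Nat.ble 26 i)) (Bool.rec (motive := fun _ => List ℕ) (Bool.rec (motive := fun _ => List ℕ) (rw28) (rw29) (Nat.ble 29 i)) (Bool.rec (motive := fun _ => List ℕ) (rw30) (rw31) (Nat.ble 31 i)) (Nat.ble 30 i)) (Nat.ble 28 i)) (Nat.ble 24 i)) (Nat.ble 16 i)) (Bool.rec (motive := fun _ => List ℕ) (Bool.rec (motive := fun _ => List ℕ) (Bool.rec (motive := fun _ => List ℕ) (Bool.rec (motive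 := fun _ => List ℕ) (Bool.rec (motive := fun _ => List ℕ) (rw32) (rw33) (Nat.ble 33 i)) (Bool.rec (motive := fun _ => List ℕ) (rw34) (rw35) (Nat.ble 35 i)) (Nat.ble 34 i)) (Bool.rec (motive := fun _ => List ℕ) (Bool.rec (motive := fun _ => List ℕ) (rw36) (rw37) (Nat.ble 37 i)) (Bool.rec (motive := fun _ => List ℕ) (rw38) (rw39) (Nat.ble 39 i)) (Nat.ble 38 i)) (Nat.ble 36 i)) (Bool.rec (motive := fun _ => List ℕ) (Bool.rec (motive := fun _ => List ℕ) (Bool.rec (motive := fun _ => List ℕ) (rw40) (rw41) (Nat.ble 41 i)) (Bool.rec (motive := fun _ => List ℕ) (rw42) (rw43) (Nat.ble 43 i)) (Nat.ble 42 i)) (Bool.rec (motive := fun _ => List ℕ) (Bool.rec (motive := fun _ => List ℕ) (rw44) (rw45) (Nat.ble 45 i)) (Bool.rec (motive := fun _ => List ℕ) (rw46) (rw47) (Nat.ble 47 i)) (Nat.ble 46 i)) (Nat.ble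 44 i)) (Nat.ble 40 i)) (Bool.rec (motive := fun _ => List ℕ) (Bool.rec (motive := fun _ => List ℕ) (Bool.rec (motive := fun _ => List ℕ) (Bool.rec (motive := fun _ => List ℕ) (rw48) (rw49) (Nat.ble 49 i)) (Bool.rec (motive := fun _ => List ℕ) (rw50) (rw51) (Nat.ble 51 i)) (Nat.ble 50 i)) (Bool.rec (motive := fun _ => List ℕ) (Bool.rec (motive := fun _ => List ℕ) (rw52) (rw53) (Nat.ble 53 i)) (Bool.rec (motive := fun _ => List ℕ) (rw54) (rw55) (Nat.ble 55 i)) (Nat.ble 54 i)) (Nat.ble 52 i)) (Bool.rec (motive := fun _ => List ℕ) (Bool.rec (motive := fun _ => List ℕ) (Bool.rec (motive := fun _ => List ℕ) (rw56) (rw57) (Nat.ble 57 i)) (Bool.rec (motive := fun _ => List ℕ) (rw58) (rw59) (Nat.ble 59 i)) (Nat.ble 58 i)) (Bool.rec (motive := fun _ => List ℕ) (Bool.rec (motive := fun _ => List ℕ)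 (rw60) (rw61) (Nat.ble 61 i)) (Bool.rec (motive := fun _ => List ℕ) (rw62) (rw63) (Nat.ble 63 i)) (Nat.ble 62 i)) (Nat.ble 60 i)) (Nat.ble 56 i)) (Nat.ble 48 i)) (Nat.ble 32 i)) (Bool.rec (motive := fun _ => List ℕ) (Bool.rec (motive := fun _ => List ℕ) (Bool.rec (motive := fun _ => List ℕ) (Bool.rec (motive := fun _ => List ℕ) (Bool.rec (motive := fun _ => List ℕ) (Bool.rec (motive := fun _ => List ℕ) (rw64) (rw65) (Nat.ble 65 i)) (Bool.rec (motive := fun _ => List ℕ) (rw66) (rw67) (Nat.ble 67 i)) (Nat.ble 66 i)) (Bool.rec (motive := fun _ => List ℕ) (Bool.rec (motive := fun _ => List ℕ) (rw68) (rw69) (Nat.ble 69 i)) (Bool.rec (motive := fun _ => List ℕ) (rw70) (rw71) (Nat.ble 71 i)) (Nat.ble 70 i)) (Nat.ble 68 i)) (Bool.rec (motive := fun _ => List ℕ) (Bool.rec (motive := fun _ => List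 ℕ) (Bool.rec (motive := fun _ => List ℕ) (rw72) (rw73) (Nat.ble 73 i)) (Bool.rec (motive := fun _ => List ℕ) (rw74) (rw75) (Nat.ble 75 i)) (Nat.ble 74 i)) (Bool.rec (motive := fun _ => List ℕ) (Bool.rec (motive := fun _ => List ℕ) (rw76) (rw77) (Nat.ble 77 i)) (Bool.rec (motive := fun _ => List ℕ) (rw78) (rw79) (Nat.ble 79 i)) (Nat.ble 78 i)) (Nat.ble 76 i)) (Nat.ble 72 i)) (Bool.rec (motive := fun _ => List ℕ) (Bool.rec (motive := fun _ => List ℕ) (Bool.rec (motive := fun _ => List ℕ) (Bool.rec (motive := fun _ => List ℕ) (rw80) (rw81) (Nat.ble 81 i)) (Bool.rec (motive := fun _ => List ℕ) (rw82) (rw83) (Nat.ble 83 i)) (Nat.ble 82 i)) (Bool.rec (motive := fun _ => List ℕ) (Bool.rec (motive := fun _ => List ℕ) (rw84) (rw85) (Nat.ble 85 i)) (Bool.rec (motive := fun _ => List ℕ) (rw86) (rw87)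 (Nat.ble 87 i)) (Nat.ble 86 i)) (Nat.ble 84 i)) (Bool.rec (motive := fun _ => List ℕ) (Bool.rec (motive := fun _ => List ℕ) (Bool.rec (motive := fun _ => List ℕ) (rw88) (rw89) (Nat.ble 89 i)) (Bool.rec (motive := fun _ => List ℕ) (rw90) (rw91) (Nat.ble 91 i)) (Nat.ble 90 i)) (Bool.rec (motive := fun _ => List ℕ) (Bool.rec (motive := fun _ => List ℕ) (rw92) (rw93) (Nat.ble 93 i)) (Bool.rec (motive := fun _ => List ℕ) (rw94) (rw95) (Nat.ble 95 i)) (Nat.ble 94 i)) (Nat.ble 92 i)) (Nat.ble 88 i)) (Nat.ble 80 i)) (Bool.rec (motive := fun _ => List ℕ) (Bool.rec (motive := fun _ => List ℕ) (Bool.rec (motive := fun _ => List ℕ) (Bool.rec (motive := fun _ => List ℕ) (Bool.rec (motive := fun _ => List ℕ) (rw96) (rw97) (Nat.ble 97 i)) (Bool.rec (motive := fun _ => List ℕ) (rw98) (rw99) (Nat.ble 99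 i)) (Nat.ble 98 i)) (Bool.rec (motive := fun _ => List ℕ) (Bool.rec (motive := fun _ => List ℕ) (rw100) (rw101) (Nat.ble 101 i)) (Bool.rec (motive := fun _ => List ℕ) (rw102) (rw103) (Nat.ble 103 i)) (Nat.ble 102 i)) (Nat.ble 100 i)) (Bool.rec (motive := fun _ => List ℕ) (Bool.rec (motive := fun _ => List ℕ) (Bool.rec (motive := fun _ => List ℕ) (rw104) (rw105) (Nat.ble 105 i)) (Bool.rec (motive := fun _ => List ℕ) (rw106) (rw107) (Nat.ble 107 i)) (Nat.ble 106 i)) (Bool.rec (motive := fun _ => List ℕ) (Bool.rec (motive := fun _ => List ℕ) (rw108) (rw109) (Nat.ble 109 i)) (Bool.rec (motive := fun _ => List ℕ) (rw110) (rw111) (Nat.ble 111 i)) (Nat.ble 110 i)) (Nat.ble 108 i)) (Nat.ble 104 i)) (Bool.rec (motive := fun _ => List ℕ) (Bool.rec (motive := fun _ => List ℕ) (Bool.rec (motive :=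 fun _ => List ℕ) (Bool.rec (motive := fun _ => List ℕ) (rw112) (rw113) (Nat.ble 113 i)) (Bool.rec (motive := fun _ => List ℕ) (rw114) (rw115) (Nat.ble 115 i)) (Nat.ble 114 i)) (Bool.rec (motive := fun _ => List ℕ) (Bool.rec (motive := fun _ => List ℕ) (rw116) (rw117) (Nat.ble 117 i)) (Bool.rec (motive := fun _ => List ℕ) (rw118) (rw119) (Nat.ble 119 i)) (Nat.ble 118 i)) (Nat.ble 116 i)) (Bool.rec (motive := fun _ => List ℕ) (Bool.rec (motive := fun _ => List ℕ) (Bool.rec (motive := fun _ => List ℕ) (rw120) (rw121) (Nat.ble 121 i)) (Bool.rec (motive := fun _ => List ℕ) (rw122) (rw123) (Nat.ble 123 i)) (Nat.ble 122 i)) (Bool.rec (motive := fun _ => List ℕ) (Bool.rec (motive := fun _ => List ℕ) (rw124) (rw125) (Nat.ble 125 i)) (Bool.rec (motive := fun _ => List ℕ) (rw126) (rw127) (Nat.ble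 127 i)) (Nat.ble 126 i)) (Nat.ble 124 i)) (Nat.ble 120 i)) (Nat.ble 112 i)) (Nat.ble 96 i)) (Nat.ble 64 i)) (Bool.rec (motive := fun _ => List ℕ) (Bool.rec (motive := fun _ => List ℕ) (Bool.rec (motive := fun _ => List ℕ) (Bool.rec (motive := fun _ => List ℕ) (Bool.rec (motive := fun _ => List ℕ) (Bool.rec (motive := fun _ => List ℕ) (Bool.rec (motive := fun _ => List ℕ) (rw128) (rw129) (Nat.ble 129 i)) (Bool.rec (motive := fun _ => List ℕ) (rw130) (rw131) (Nat.ble 131 i)) (Nat.ble 130 i)) (Bool.rec (motive := fun _ => List ℕ) (Bool.rec (motive := fun _ => List ℕ) (rw132) (rw133) (Nat.ble 133 i)) (Bool.rec (motive := fun _ => List ℕ) (rw134) (rw135) (Nat.ble 135 i)) (Nat.ble 134 i)) (Nat.ble 132 i)) (Bool.rec (motive := fun _ => List ℕ) (Bool.rec (motive := fun _ => List ℕ) (Bool.rec (motive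 := fun _ => List ℕ) (rw136) (rw137) (Nat.ble 137 i)) (Bool.rec (motive := fun _ => List ℕ) (rw138) (rw139) (Nat.ble 139 i)) (Nat.ble 138 i)) (Bool.rec (motive := fun _ => List ℕ) (Bool.rec (motive := fun _ => List ℕ) (rw140) (rw141) (Nat.ble 141 i)) (Bool.rec (motive := fun _ => List ℕ) (rw142) (rw143) (Nat.ble 143 i)) (Nat.ble 142 i)) (Nat.ble 140 i)) (Nat.ble 136 i)) (Bool.rec (motive := fun _ => List ℕ) (Bool.rec (motive := fun _ => List ℕ) (Bool.rec (motive := fun _ => List ℕ) (Bool.rec (motive := fun _ => List ℕ) (rw144) (rw145) (Nat.ble 145 i)) (Bool.rec (motive := fun _ => List ℕ) (rw146) (rw147) (Nat.ble 147 i)) (Nat.ble 146 i)) (Bool.rec (motive := fun _ => List ℕ) (Bool.rec (motive := fun _ => List ℕ) (rw148) (rw149) (Nat.ble 149 i)) (Bool.rec (motive := fun _ => List ℕ) (rw150)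 (rw151) (Nat.ble 151 i)) (Nat.ble 150 i)) (Nat.ble 148 i)) (Bool.rec (motive := fun _ => List ℕ) (Bool.rec (motive := fun _ => List ℕ) (Bool.rec (motive := fun _ => List ℕ) (rw152) (rw153) (Nat.ble 153 i)) (Bool.rec (motive := fun _ => List ℕ) (rw154) (rw155) (Nat.ble 155 i)) (Nat.ble 154 i)) (Bool.rec (motive := fun _ => List ℕ) (Bool.rec (motive := fun _ => List ℕ) (rw156) (rw157) (Nat.ble 157 i)) (Bool.rec (motive := fun _ => List ℕ) (rw158) (rw159) (Nat.ble 159 i)) (Nat.ble 158 i)) (Nat.ble 156 i)) (Nat.ble 152 i)) (Nat.ble 144 i)) (Bool.rec (motive := fun _ => List ℕ) (Bool.rec (motive := fun _ => List ℕ) (Bool.rec (motive := fun _ => List ℕ) (Bool.rec (motive := fun _ => List ℕ) (Bool.rec (motive := fun _ => List ℕ) (rw160) (rw161) (Nat.ble 161 i)) (Bool.rec (motive := fun _ => List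 ℕ) (rw162) (rw163) (Nat.ble 163 i)) (Nat.ble 162 i)) (Bool.rec (motive := fun _ => List ℕ) (Bool.rec (motive := fun _ => List ℕ) (rw164) (rw165) (Nat.ble 165 i)) (Bool.rec (motive := fun _ => List ℕ) (rw166) (rw167) (Nat.ble 167 i)) (Nat.ble 166 i)) (Nat.ble 164 i)) (Bool.rec (motive := fun _ => List ℕ) (Bool.rec (motive := fun _ => List ℕ) (Bool.rec (motive := fun _ => List ℕ) (rw168) (rw169) (Nat.ble 169 i)) (Bool.rec (motive := fun _ => List ℕ) (rw170) (rw171) (Nat.ble 171 i)) (Nat.ble 170 i)) (Bool.rec (motive := fun _ => List ℕ) (Bool.rec (motive := fun _ => List ℕ) (rw172) (rw173) (Nat.ble 173 i)) (Bool.rec (motive := fun _ => List ℕ) (rw174) (rw175) (Nat.ble 175 i)) (Nat.ble 174 i)) (Nat.ble 172 i)) (Nat.ble 168 i)) (Bool.rec (motive := fun _ => List ℕ) (Bool.rec (motive := fun _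 => List ℕ) (Bool.rec (motive := fun _ => List ℕ) (Bool.rec (motive := fun _ => List ℕ) (rw176) (rw177) (Nat.ble 177 i)) (Bool.rec (motive := fun _ => List ℕ) (rw178) (rw179) (Nat.ble 179 i)) (Nat.ble 178 i)) (Bool.rec (motive := fun _ => List ℕ) (Bool.rec (motive := fun _ => List ℕ) (rw180) (rw181) (Nat.ble 181 i)) (Bool.rec (motive := fun _ => List ℕ) (rw182) (rw183) (Nat.ble 183 i)) (Nat.ble 182 i)) (Nat.ble 180 i)) (Bool.rec (motive := fun _ => List ℕ) (Bool.rec (motive := fun _ => List ℕ) (Bool.rec (motive := fun _ => List ℕ) (rw184) (rw185) (Nat.ble 185 i)) (Bool.rec (motive := fun _ => List ℕ) (rw186) (rw187) (Nat.ble 187 i)) (Nat.ble 186 i)) (Bool.rec (motive := fun _ => List ℕ) (Bool.rec (motive := fun _ => List ℕ) (rw188) (rw189) (Nat.ble 189 i)) (Bool.rec (motive := fun _ => List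 ℕ) (rw190) (rw191) (Nat.ble 191 i)) (Nat.ble 190 i)) (Nat.ble 188 i)) (Nat.ble 184 i)) (Nat.ble 176 i)) (Nat.ble 160 i)) (Bool.rec (motive := fun _ => List ℕ) (Bool.rec (motive := fun _ => List ℕ) (Bool.rec (motive := fun _ => List ℕ) (Bool.rec (motive := fun _ => List ℕ) (Bool.rec (motive := fun _ => List ℕ) (Bool.rec (motive := fun _ => List ℕ) (rw192) (rw193) (Nat.ble 193 i)) (Bool.rec (motive := fun _ => List ℕ) (rw194) (rw195) (Nat.ble 195 i)) (Nat.ble 194 i)) (Bool.rec (motive := fun _ => List ℕ) (Bool.rec (motive := fun _ => List ℕ) (rw196) (rw197) (Nat.ble 197 i)) (Bool.rec (motive := fun _ => List ℕ) (rw198) (rw199) (Nat.ble 199 i)) (Nat.ble 198 i)) (Nat.ble 196 i)) (Bool.rec (motive := fun _ => List ℕ) (Bool.rec (motive := fun _ => List ℕ) (Bool.rec (motive := fun _ => List ℕ)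 (rw200) (rw201) (Nat.ble 201 i)) (Bool.rec (motive := fun _ => List ℕ) (rw202) (rw203) (Nat.ble 203 i)) (Nat.ble 202 i)) (Bool.rec (motive := fun _ => List ℕ) (Bool.rec (motive := fun _ => List ℕ) (rw204) (rw205) (Nat.ble 205 i)) (Bool.rec (motive := fun _ => List ℕ) (rw206) (rw207) (Nat.ble 207 i)) (Nat.ble 206 i)) (Nat.ble 204 i)) (Nat.ble 200 i)) (Bool.rec (motive := fun _ => List ℕ) (Bool.rec (motive := fun _ => List ℕ) (Bool.rec (motive := fun _ => List ℕ) (Bool.rec (motive := fun _ => List ℕ) (rw208) (rw209) (Nat.ble 209 i)) (Bool.rec (motive := fun _ => List ℕ) (rw210) (rw211) (Nat.ble 211 i)) (Nat.ble 210 i)) (Bool.rec (motive := fun _ => List ℕ) (Bool.rec (motive := fun _ => List ℕ) (rw212) (rw213) (Nat.ble 213 i)) (Bool.rec (motive := fun _ => List ℕ) (rw214) (rw215) (Nat.ble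 215 i)) (Nat.ble 214 i)) (Nat.ble 212 i)) (Bool.rec (motive := fun _ => List ℕ) (Bool.rec (motive := fun _ => List ℕ) (Bool.rec (motive := fun _ => List ℕ) (rw216) (rw217) (Nat.ble 217 i)) (Bool.rec (motive := fun _ => List ℕ) (rw218) (rw219) (Nat.ble 219 i)) (Nat.ble 218 i)) (Bool.rec (motive := fun _ => List ℕ) (Bool.rec (motive := fun _ => List ℕ) (rw220) (rw221) (Nat.ble 221 i)) (Bool.rec (motive := fun _ => List ℕ) (rw222) (rw223) (Nat.ble 223 i)) (Nat.ble 222 i)) (Nat.ble 220 i)) (Nat.ble 216 i)) (Nat.ble 208 i)) (Bool.rec (motive := fun _ => List ℕ) (Bool.rec (motive := fun _ => List ℕ) (Bool.rec (motive := fun _ => List ℕ) (Bool.rec (motive := fun _ => List ℕ) (Bool.rec (motive := fun _ => List ℕ) (rw224) (rw225) (Nat.ble 225 i)) (Bool.rec (motive := fun _ => List ℕ) (rw226) (rw227)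 (Nat.ble 227 i)) (Nat.ble 226 i)) (Bool.rec (motive := fun _ => List ℕ) (Bool.rec (motive := fun _ => List ℕ) (rw228) (rw229) (Nat.ble 229 i)) (Bool.rec (motive := fun _ => List ℕ) (rw230) (rw231) (Nat.ble 231 i)) (Nat.ble 230 i)) (Nat.ble 228 i)) (Bool.rec (motive := fun _ => List ℕ) (Bool.rec (motive := fun _ => List ℕ) (Bool.rec (motive := fun _ => List ℕ) (rw232) (rw233) (Nat.ble 233 i)) (Bool.rec (motive := fun _ => List ℕ) (rw234) (rw235) (Nat.ble 235 i)) (Nat.ble 234 i)) (Bool.rec (motive := fun _ => List ℕ) (Bool.rec (motive := fun _ => List ℕ) (rw236) (rw237) (Nat.ble 237 i)) (Bool.rec (motive := fun _ => List ℕ) (rw238) (rw239) (Nat.ble 239 i)) (Nat.ble 238 i)) (Nat.ble 236 i)) (Nat.ble 232 i)) (Bool.rec (motive := fun _ => List ℕ) (Bool.rec (motive := fun _ => List ℕ) (Bool.rec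 (motive := fun _ => List ℕ) (Bool.rec (motive := fun _ => List ℕ) (rw240) (rw241) (Nat.ble 241 i)) (Bool.rec (motive := fun _ => List ℕ) (rw242) (rw243) (Nat.ble 243 i)) (Nat.ble 242 i)) (Bool.rec (motive := fun _ => List ℕ) (Bool.rec (motive := fun _ => List ℕ) (rw244) (rw245) (Nat.ble 245 i)) (Bool.rec (motive := fun _ => List ℕ) (rw246) (rw247) (Nat.ble 247 i)) (Nat.ble 246 i)) (Nat.ble 244 i)) (Bool.rec (motive := fun _ => List ℕ) (Bool.rec (motive := fun _ => List ℕ) (Bool.rec (motive := fun _ => List ℕ) (rw248) (rw249) (Nat.ble 249 i)) (Bool.rec (motive := fun _ => List ℕ) (rw250) (rw251) (Nat.ble 251 i)) (Nat.ble 250 i)) (Bool.rec (motive := fun _ => List ℕ) (Bool.rec (motive := fun _ => List ℕ) (rw252) (rw253) (Nat.ble 253 i)) (Bool.rec (motive := fun _ => List ℕ) (rw254) (rw255)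 (Nat.ble 255 i)) (Nat.ble 254 i)) (Nat.ble 252 i)) (Nat.ble 248 i)) (Nat.ble 240 i)) (Nat.ble 224 i)) (Nat.ble 192 i)) (Nat.ble 128 i)) (Bool.rec (motive := fun _ => List ℕ) (Bool.rec (motive := fun _ => List ℕ) (Bool.rec (motive := fun _ => List ℕ) (Bool.rec (motive := fun _ => List ℕ) (Bool.rec (motive := fun _ => List ℕ) (Bool.rec (motive := fun _ => List ℕ) (Bool.rec (motive := fun _ => List ℕ) (Bool.rec (motive := fun _ => List ℕ) (rw256) (rw257) (Nat.ble 257 i)) (Bool.rec (motive := fun _ => List ℕ) (rw258) (rw259) (Nat.ble 259 i)) (Nat.ble 258 i)) (Bool.rec (motive := fun _ => List ℕ) (Bool.rec (motive := fun _ => List ℕ) (rw260) (rw261) (Nat.ble 261 i)) (Bool.rec (motive := fun _ => List ℕ) (rw262) (rw263) (Nat.ble 263 i)) (Nat.ble 262 i)) (Nat.ble 260 i)) (Bool.rec (motive := fun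 _ => List ℕ) (Bool.rec (motive := fun _ => List ℕ) (Bool.rec (motive := fun _ => List ℕ) (rw264) (rw265) (Nat.ble 265 i)) (Bool.rec (motive := fun _ => List ℕ) (rw266) (rw267) (Nat.ble 267 i)) (Nat.ble 266 i)) (Bool.rec (motive := fun _ => List ℕ) (Bool.rec (motive := fun _ => List ℕ) (rw268) (rw269) (Nat.ble 269 i)) (Bool.rec (motive := fun _ => List ℕ) (rw270) (rw271) (Nat.ble 271 i)) (Nat.ble 270 i)) (Nat.ble 268 i)) (Nat.ble 264 i)) (Bool.rec (motive := fun _ => List ℕ) (Bool.rec (motive := fun _ => List ℕ) (Bool.rec (motive := fun _ => List ℕ) (Bool.rec (motive := fun _ => List ℕ) (rw272) (rw273) (Nat.ble 273 i)) (Bool.rec (motive := fun _ => List ℕ) (rw274) (rw275) (Nat.ble 275 i)) (Nat.ble 274 i)) (Bool.rec (motive := fun _ => List ℕ) (Bool.rec (motive := fun _ => List ℕ) (rw276)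 (rw277) (Nat.ble 277 i)) (Bool.rec (motive := fun _ => List ℕ) (rw278) (rw279) (Nat.ble 279 i)) (Nat.ble 278 i)) (Nat.ble 276 i)) (Bool.rec (motive := fun _ => List ℕ) (Bool.rec (motive := fun _ => List ℕ) (Bool.rec (motive := fun _ => List ℕ) (rw280) (rw281) (Nat.ble 281 i)) (Bool.rec (motive := fun _ => List ℕ) (rw282) (rw283) (Nat.ble 283 i)) (Nat.ble 282 i)) (Bool.rec (motive := fun _ => List ℕ) (Bool.rec (motive := fun _ => List ℕ) (rw284) (rw285) (Nat.ble 285 i)) (Bool.rec (motive := fun _ => List ℕ) (rw286) (rw287) (Nat.ble 287 i)) (Nat.ble 286 i)) (Nat.ble 284 i)) (Nat.ble 280 i)) (Nat.ble 272 i)) (Bool.rec (motive := fun _ => List ℕ) (Bool.rec (motive := fun _ => List ℕ) (Bool.rec (motive := fun _ => List ℕ) (Bool.rec (motive := fun _ => List ℕ) (Bool.rec (motive := fun _ => List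 ℕ) (rw288) (rw289) (Nat.ble 289 i)) (Bool.rec (motive := fun _ => List ℕ) (rw290) (rw291) (Nat.ble 291 i)) (Nat.ble 290 i)) (Bool.rec (motive := fun _ => List ℕ) (Bool.rec (motive := fun _ => List ℕ) (rw292) (rw293) (Nat.ble 293 i)) (Bool.rec (motive := fun _ => List ℕ) (rw294) (rw295) (Nat.ble 295 i)) (Nat.ble 294 i)) (Nat.ble 292 i)) (Bool.rec (motive := fun _ => List ℕ) (Bool.rec (motive := fun _ => List ℕ) (Bool.rec (motive := fun _ => List ℕ) (rw296) (rw297) (Nat.ble 297 i)) (Bool.rec (motive := fun _ => List ℕ) (rw298) (rw299) (Nat.ble 299 i)) (Nat.ble 298 i)) (Bool.rec (motive := fun _ => List ℕ) (Bool.rec (motive := fun _ => List ℕ) (rw300) (rw301) (Nat.ble 301 i)) (Bool.rec (motive := fun _ => List ℕ) (rw302) (rw303) (Nat.ble 303 i)) (Nat.ble 302 i)) (Nat.ble 300 i)) (Nat.ble 296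 i)) (Bool.rec (motive := fun _ => List ℕ) (Bool.rec (motive := fun _ => List ℕ) (Bool.rec (motive := fun _ => List ℕ) (Bool.rec (motive := fun _ => List ℕ) (rw304) (rw305) (Nat.ble 305 i)) (Bool.rec (motive := fun _ => List ℕ) (rw306) (rw307) (Nat.ble 307 i)) (Nat.ble 306 i)) (Bool.rec (motive := fun _ => List ℕ) (Bool.rec (motive := fun _ => List ℕ) (rw308) (rw309) (Nat.ble 309 i)) (Bool.rec (motive := fun _ => List ℕ) (rw310) (rw311) (Nat.ble 311 i)) (Nat.ble 310 i)) (Nat.ble 308 i)) (Bool.rec (motive := fun _ => List ℕ) (Bool.rec (motive := fun _ => List ℕ) (Bool.rec (motive := fun _ => List ℕ) (rw312) (rw313) (Nat.ble 313 i)) (Bool.rec (motive := fun _ => List ℕ) (rw314) (rw315) (Nat.ble 315 i)) (Nat.ble 314 i)) (Bool.rec (motive := fun _ => List ℕ) (Bool.rec (motive := fun _ => List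 ℕ) (rw316) (rw317) (Nat.ble 317 i)) (Bool.rec (motive := fun _ => List ℕ) (rw318) (rw319) (Nat.ble 319 i)) (Nat.ble 318 i)) (Nat.ble 316 i)) (Nat.ble 312 i)) (Nat.ble 304 i)) (Nat.ble 288 i)) (Bool.rec (motive := fun _ => List ℕ) (Bool.rec (motive := fun _ => List ℕ) (Bool.rec (motive := fun _ => List ℕ) (Bool.rec (motive := fun _ => List ℕ) (Bool.rec (motive := fun _ => List ℕ) (Bool.rec (motive := fun _ => List ℕ) (rw320) (rw321) (Nat.ble 321 i)) (Bool.rec (motive := fun _ => List ℕ) (rw322) (rw323) (Nat.ble 323 i)) (Nat.ble 322 i)) (Bool.rec (motive := fun _ => List ℕ) (Bool.rec (motive := fun _ => List ℕ) (rw324) (rw325) (Nat.ble 325 i)) (Bool.rec (motive := fun _ => List ℕ) (rw326) (rw327) (Nat.ble 327 i)) (Nat.ble 326 i)) (Nat.ble 324 i)) (Bool.rec (motive := fun _ => List ℕ) (Bool.rec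 (motive := fun _ => List ℕ) (Bool.rec (motive := fun _ => List ℕ) (rw328) (rw329) (Nat.ble 329 i)) (Bool.rec (motive := fun _ => List ℕ) (rw330) (rw331) (Nat.ble 331 i)) (Nat.ble 330 i)) (Bool.rec (motive := fun _ => List ℕ) (Bool.rec (motive := fun _ => List ℕ) (rw332) (rw333) (Nat.ble 333 i)) (Bool.rec (motive := fun _ => List ℕ) (rw334) (rw335) (Nat.ble 335 i)) (Nat.ble 334 i)) (Nat.ble 332 i)) (Nat.ble 328 i)) (Bool.rec (motive := fun _ => List ℕ) (Bool.rec (motive := fun _ => List ℕ) (Bool.rec (motive := fun _ => List ℕ) (Bool.rec (motive := fun _ => List ℕ) (rw336) (rw337) (Nat.ble 337 i)) (Bool.rec (motive := fun _ => List ℕ) (rw338) (rw339) (Nat.ble 339 i)) (Nat.ble 338 i)) (Bool.rec (motive := fun _ => List ℕ) (Bool.rec (motive := fun _ => List ℕ) (rw340) (rw341) (Nat.ble 341 i))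 (Bool.rec (motive := fun _ => List ℕ) (rw342) (rw343) (Nat.ble 343 i)) (Nat.ble 342 i)) (Nat.ble 340 i)) (Bool.rec (motive := fun _ => List ℕ) (Bool.rec (motive := fun _ => List ℕ) (Bool.rec (motive := fun _ => List ℕ) (rw344) (rw345) (Nat.ble 345 i)) (Bool.rec (motive := fun _ => List ℕ) (rw346) (rw347) (Nat.ble 347 i)) (Nat.ble 346 i)) (Bool.rec (motive := fun _ => List ℕ) (Bool.rec (motive := fun _ => List ℕ) (rw348) (rw349) (Nat.ble 349 i)) (Bool.rec (motive := fun _ => List ℕ) (rw350) (rw351) (Nat.ble 351 i)) (Nat.ble 350 i)) (Nat.ble 348 i)) (Nat.ble 344 i)) (Nat.ble 336 i)) (Bool.rec (motive := fun _ => List ℕ) (Bool.rec (motive := fun _ => List ℕ) (Bool.rec (motive := fun _ => List ℕ) (Bool.rec (motive := fun _ => List ℕ) (Bool.rec (motive := fun _ => List ℕ) (rw352) (rw353) (Nat.ble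 353 i)) (Bool.rec (motive := fun _ => List ℕ) (rw354) (rw355) (Nat.ble 355 i)) (Nat.ble 354 i)) (Bool.rec (motive := fun _ => List ℕ) (Bool.rec (motive := fun _ => List ℕ) (rw356) (rw357) (Nat.ble 357 i)) (Bool.rec (motive := fun _ => List ℕ) (rw358) (rw359) (Nat.ble 359 i)) (Nat.ble 358 i)) (Nat.ble 356 i)) (Bool.rec (motive := fun _ => List ℕ) (Bool.rec (motive := fun _ => List ℕ) (Bool.rec (motive := fun _ => List ℕ) (rw360) (rw361) (Nat.ble 361 i)) (Bool.rec (motive := fun _ => List ℕ) (rw362) (rw363) (Nat.ble 363 i)) (Nat.ble 362 i)) (Bool.rec (motive := fun _ => List ℕ) (Bool.rec (motive := fun _ => List ℕ) (rw364) (rw365) (Nat.ble 365 i)) (Bool.rec (motive := fun _ => List ℕ) (rw366) (rw367) (Nat.ble 367 i)) (Nat.ble 366 i)) (Nat.ble 364 i)) (Nat.ble 360 i)) (Bool.rec (motive :=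 fun _ => List ℕ) (Bool.rec (motive := fun _ => List ℕ) (Bool.rec (motive := fun _ => List ℕ) (Bool.rec (motive := fun _ => List ℕ) (rw368) (rw369) (Nat.ble 369 i)) (Bool.rec (motive := fun _ => List ℕ) (rw370) (rw371) (Nat.ble 371 i)) (Nat.ble 370 i)) (Bool.rec (motive := fun _ => List ℕ) (Bool.rec (motive := fun _ => List ℕ) (rw372) (rw373) (Nat.ble 373 i)) (Bool.rec (motive := fun _ => List ℕ) (rw374) (rw375) (Nat.ble 375 i)) (Nat.ble 374 i)) (Nat.ble 372 i)) (Bool.rec (motive := fun _ => List ℕ) (Bool.rec (motive := fun _ => List ℕ) (Bool.rec (motive := fun _ => List ℕ) (rw376) (rw377) (Nat.ble 377 i)) (Bool.rec (motive := fun _ => List ℕ) (rw378) (rw379) (Nat.ble 379 i)) (Nat.ble 378 i)) (Bool.rec (motive := fun _ => List ℕ) (Bool.rec (motive := fun _ => List ℕ) (rw380) (rw381) (Nat.ble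 381 i)) (Bool.rec (motive := fun _ => List ℕ) (rw382) (rw383) (Nat.ble 383 i)) (Nat.ble 382 i)) (Nat.ble 380 i)) (Nat.ble 376 i)) (Nat.ble 368 i)) (Nat.ble 352 i)) (Nat.ble 320 i)) (Bool.rec (motive := fun _ => List ℕ) (Bool.rec (motive := fun _ => List ℕ) (Bool.rec (motive := fun _ => List ℕ) (Bool.rec (motive := fun _ => List ℕ) (Bool.rec (motive := fun _ => List ℕ) (Bool.rec (motive := fun _ => List ℕ) (Bool.rec (motive := fun _ => List ℕ) (rw384) (rw385) (Nat.ble 385 i)) (Bool.rec (motive := fun _ => List ℕ) (rw386) (rw387) (Nat.ble 387 i)) (Nat.ble 386 i)) (Bool.rec (motive := fun _ => List ℕ) (Bool.rec (motive := fun _ => List ℕ) (rw388) (rw389) (Nat.ble 389 i)) (Bool.rec (motive := fun _ => List ℕ) (rw390) (rw391) (Nat.ble 391 i)) (Nat.ble 390 i)) (Nat.ble 388 i)) (Bool.rec (motive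 := fun _ => List ℕ) (Bool.rec (motive := fun _ => List ℕ) (Bool.rec (motive := fun _ => List ℕ) (rw392) (rw393) (Nat.ble 393 i)) (Bool.rec (motive := fun _ => List ℕ) (rw394) (rw395) (Nat.ble 395 i)) (Nat.ble 394 i)) (Bool.rec (motive := fun _ => List ℕ) (Bool.rec (motive := fun _ => List ℕ) (rw396) (rw397) (Nat.ble 397 i)) (Bool.rec (motive := fun _ => List ℕ) (rw398) (rw399) (Nat.ble 399 i)) (Nat.ble 398 i)) (Nat.ble 396 i)) (Nat.ble 392 i)) (Bool.rec (motive := fun _ => List ℕ) (Bool.rec (motive := fun _ => List ℕ) (Bool.rec (motive := fun _ => List ℕ) (Bool.rec (motive := fun _ => List ℕ) (rw400) (rw401) (Nat.ble 401 i)) (Bool.rec (motive := fun _ => List ℕ) (rw402) (rw403) (Nat.ble 403 i)) (Nat.ble 402 i)) (Bool.rec (motive := fun _ => List ℕ) (Bool.rec (motive := fun _ => List ℕ)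 (rw404) (rw405) (Nat.ble 405 i)) (Bool.rec (motive := fun _ => List ℕ) (rw406) (rw407) (Nat.ble 407 i)) (Nat.ble 406 i)) (Nat.ble 404 i)) (Bool.rec (motive := fun _ => List ℕ) (Bool.rec (motive := fun _ => List ℕ) (Bool.rec (motive := fun _ => List ℕ) (rw408) (rw409) (Nat.ble 409 i)) (Bool.rec (motive := fun _ => List ℕ) (rw410) (rw411) (Nat.ble 411 i)) (Nat.ble 410 i)) (Bool.rec (motive := fun _ => List ℕ) (Bool.rec (motive := fun _ => List ℕ) (rw412) (rw413) (Nat.ble 413 i)) (Bool.rec (motive := fun _ => List ℕ) (rw414) (rw415) (Nat.ble 415 i)) (Nat.ble 414 i)) (Nat.ble 412 i)) (Nat.ble 408 i)) (Nat.ble 400 i)) (Bool.rec (motive := fun _ => List ℕ) (Bool.rec (motive := fun _ => List ℕ) (Bool.rec (motive := fun _ => List ℕ) (Bool.rec (motive := fun _ => List ℕ) (Bool.rec (motive := fun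 _ => List ℕ) (rw416) (rw417) (Nat.ble 417 i)) (Bool.rec (motive := fun _ => List ℕ) (rw418) (rw419) (Nat.ble 419 i)) (Nat.ble 418 i)) (Bool.rec (motive := fun _ => List ℕ) (Bool.rec (motive := fun _ => List ℕ) (rw420) (rw421) (Nat.ble 421 i)) (Bool.rec (motive := fun _ => List ℕ) (rw422) (rw423) (Nat.ble 423 i)) (Nat.ble 422 i)) (Nat.ble 420 i)) (Bool.rec (motive := fun _ => List ℕ) (Bool.rec (motive := fun _ => List ℕ) (Bool.rec (motive := fun _ => List ℕ) (rw424) (rw425) (Nat.ble 425 i)) (Bool.rec (motive := fun _ => List ℕ) (rw426) (rw427) (Nat.ble 427 i)) (Nat.ble 426 i)) (Bool.rec (motive := fun _ => List ℕ) (Bool.rec (motive := fun _ => List ℕ) (rw428) (rw429) (Nat.ble 429 i)) (Bool.rec (motive := fun _ => List ℕ) (rw430) (rw431) (Nat.ble 431 i)) (Nat.ble 430 i)) (Nat.ble 428 i))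 (Nat.ble 424 i)) (Bool.rec (motive := fun _ => List ℕ) (Bool.rec (motive := fun _ => List ℕ) (Bool.rec (motive := fun _ => List ℕ) (Bool.rec (motive := fun _ => List ℕ) (rw432) (rw433) (Nat.ble 433 i)) (Bool.rec (motive := fun _ => List ℕ) (rw434) (rw435) (Nat.ble 435 i)) (Nat.ble 434 i)) (Bool.rec (motive := fun _ => List ℕ) (Bool.rec (motive := fun _ => List ℕ) (rw436) (rw437) (Nat.ble 437 i)) (Bool.rec (motive := fun _ => List ℕ) (rw438) (rw439) (Nat.ble 439 i)) (Nat.ble 438 i)) (Nat.ble 436 i)) (Bool.rec (motive := fun _ => List ℕ) (Bool.rec (motive := fun _ => List ℕ) (Bool.rec (motive := fun _ => List ℕ) (rw440) (rw441) (Nat.ble 441 i)) (Bool.rec (motive := fun _ => List ℕ) (rw442) (rw443) (Nat.ble 443 i)) (Nat.ble 442 i)) (Bool.rec (motive := fun _ => List ℕ) (Bool.rec (motive :=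 fun _ => List ℕ) (rw444) (rw445) (Nat.ble 445 i)) (Bool.rec (motive := fun _ => List ℕ) (rw446) (rw447) (Nat.ble 447 i)) (Nat.ble 446 i)) (Nat.ble 444 i)) (Nat.ble 440 i)) (Nat.ble 432 i)) (Nat.ble 416 i)) (Bool.rec (motive := fun _ => List ℕ) (Bool.rec (motive := fun _ => List ℕ) (Bool.rec (motive := fun _ => List ℕ) (Bool.rec (motive := fun _ => List ℕ) (Bool.rec (motive := fun _ => List ℕ) (Bool.rec (motive := fun _ => List ℕ) (rw448) (rw449) (Nat.ble 449 i)) (Bool.rec (motive := fun _ => List ℕ) (rw450) (rw451) (Nat.ble 451 i)) (Nat.ble 450 i)) (Bool.rec (motive := fun _ => List ℕ) (Bool.rec (motive := fun _ => List ℕ) (rw452) (rw453) (Nat.ble 453 i)) (Bool.rec (motive := fun _ => List ℕ) (rw454) (rw455) (Nat.ble 455 i)) (Nat.ble 454 i)) (Nat.ble 452 i)) (Bool.rec (motive := fun _ =>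 List ℕ) (Bool.rec (motive := fun _ => List ℕ) (Bool.rec (motive := fun _ => List ℕ) (rw456) (rw457) (Nat.ble 457 i)) (Bool.rec (motive := fun _ => List ℕ) (rw458) (rw459) (Nat.ble 459 i)) (Nat.ble 458 i)) (Bool.rec (motive := fun _ => List ℕ) (Bool.rec (motive := fun _ => List ℕ) (rw460) (rw461) (Nat.ble 461 i)) (Bool.rec (motive := fun _ => List ℕ) (rw462) (rw463) (Nat.ble 463 i)) (Nat.ble 462 i)) (Nat.ble 460 i)) (Nat.ble 456 i)) (Bool.rec (motive := fun _ => List ℕ) (Bool.rec (motive := fun _ => List ℕ) (Bool.rec (motive := fun _ => List ℕ) (Bool.rec (motive := fun _ => List ℕ) (rw464) (rw465) (Nat.ble 465 i)) (Bool.rec (motive := fun _ => List ℕ) (rw466) ([]) (Nat.ble 467 i)) (Nat.ble 466 i)) ([]) (Nat.ble 468 i)) ([]) (Nat.ble 472 i)) (Nat.ble 464 i)) ([]) (Nat.ble 480 i)) (Nat.ble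 448 i)) (Nat.ble 384 i)) (Nat.ble 256 i))
def sw0 : List ℕ := [0]
noncomputable def subW (i : ℕ) : List ℕ := (sw0)

noncomputable def data : Data where
  w := 14
  mask := 16383
  tw := 16
  tmask := 65535
  hsh := 30
  lsh := 44
  ew := 46
  emask := 70368744177663
  mw := 49
  mmask := 562949953421311
  jw := 22
  jmask := 4194303
  bsh := 11
  bmask := 2047
  nc := 4
  fuel := 5
  E := eT
  J := jT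
  Mg := mgT
  JM := jmT
  relW := relW
  nrot := 467
  subW := subW
  nsub := 1

def M : ℕ := 10566
def n : ℕ := 5760

def bases : List (List ℕ) := [
  [0, 0, 0, 0, 0, 0, 0],
  [1, 1, 1, 1, 1, 1, 1],
  [2, 2, 2, 2, 2, 2, 2],
  [3, 3, 3, 3, 3, 3, 3],
  [3, 1, 3, 1, 3, 0, 2, 0, 2, 0, 2, 1],
  [0, 3, 1, 3, 1, 3, 1, 2, 0, 2, 0, 2],
  [0, 3, 0, 0, 0, 2, 0, 3, 1, 1, 1, 2, 1, 3, 3],
  [2, 2, 0, 3, 0, 0, 0, 2, 1, 3, 1, 1, 1, 2, 1],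
  [3, 3, 3, 3, 3, 3, 3, 0, 2, 2, 2, 2, 2, 2, 2, 1],
  [0, 3, 3, 3, 3, 3, 3, 3, 1, 2, 2, 2, 2, 2, 2, 2],
  [3, 1, 1, 1, 2, 1, 2, 0, 3, 0, 0, 0, 2, 0, 0, 0],
  [1, 1, 1, 3, 1, 1, 1, 2, 1, 3, 0, 3, 0, 0, 0, 2],
  [1, 1, 1, 1, 1, 1, 1, 2, 0, 0, 0, 0, 0, 0, 0, 3],
  [2, 1, 1, 1, 1, 1, 1, 1, 3, 0, 0, 0, 0, 0, 0, 0],
  [0, 3, 0, 0, 3, 1, 3, 0, 2, 0, 2, 1, 1, 2, 1, 3, 3],
  [2, 2, 0, 3, 0, 0, 3, 1, 3, 1, 2, 0, 2, 1, 1, 2, 1],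
  [0, 3, 1, 1, 1, 1, 2, 0, 3, 0, 0, 0, 0, 2, 1, 3, 3],
  [2, 2, 0, 3, 1, 1, 1, 1, 2, 1, 3, 0, 0, 0, 0, 2, 1],
  [2, 0, 0, 0, 2, 1, 1, 2, 0, 0, 3, 1, 1, 1, 3, 1, 1],
  [0, 0, 2, 0, 0, 0, 2, 1, 1, 3, 0, 0, 3, 1, 1, 1, 3],
  [2, 2, 0, 2, 0, 2, 0, 3, 0, 2, 1, 3, 1, 3, 1, 3, 3, 1],
  [0, 2, 2, 0, 2, 0, 2, 0, 3, 1, 2, 1, 3, 1, 3, 1, 3, 3],
  [3, 3, 1, 3, 1, 3, 1, 2, 0, 3, 0, 2, 0, 2, 0, 2, 2, 1],
  [0, 3, 3, 1, 3, 1, 3, 1, 2, 1, 3, 0, 2, 0, 2, 0, 2, 2],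
  [0, 0, 3, 1, 1, 1, 3, 0, 2, 0, 0, 0, 2, 1, 1, 2, 2, 2],
  [3, 3, 3, 0, 0, 3, 1, 1, 1, 3, 1, 2, 0, 0, 0, 2, 1, 1],
  [2, 0, 2, 1, 1, 2, 1, 2, 0, 3, 0, 0, 3, 1, 3, 0, 0, 0],
  [1, 1, 1, 2, 0, 2, 1, 1, 2, 1, 3, 0, 3, 0, 0, 3, 1, 3],
  [3, 0, 0, 0, 0, 2, 1, 2, 0, 3, 1, 1, 1, 1, 2, 0, 0, 0],
  [1, 1, 1, 3, 0, 0, 0, 0, 2, 1, 3, 0, 3, 1, 1, 1, 1, 2],
  [0, 3, 1, 3, 1, 3, 1, 1, 2, 0, 0, 2, 0, 2, 0, 2, 1, 3],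
  [2, 0, 3, 1, 3, 1, 3, 1, 1, 3, 0, 0, 2, 0, 2, 0, 2, 1],
  [1, 2, 0, 2, 0, 2, 0, 0, 2, 1, 1, 3, 1, 3, 1, 3, 0, 3],
  [2, 1, 2, 0, 2, 0, 2, 0, 0, 3, 1, 1, 3, 1, 3, 1, 3, 0]]

def rots : List (ℕ × ℕ) := [(4, 9), (5, 10), (4, 7), (5, 8), (4, 5), (10, 10), (6, 3), (5, 0), (0, 1), (6, 6), (7, 2), (6, 0), (7, 4), (6, 2), (7, 6), (7, 5), (18, 2), (19, 4), (19, 0), (13, 14), (17, 14), (28, 1), (24, 1), (10, 9), (29, 11), (18, 1), (17, 2), (15, 2), (23, 11), (18, 8), (32, 2), (20, 4), (27, 14), (15, 4), (16, 10), (0, 2), (14, 0), (27, 4), (32, 6), (18, 9), (16, 9), (11, 12), (19, 10), (28, 17), (25, 14), (17, 11), (10, 14), (26, 15), (20, 6), (30, 14), (20, 2), (31, 10), (31, 15), (26, 1), (32, 4), (29, 7), (6, 4), (26, 8), (28, 3), (19, 11), (24, 11), (11, 13), (16, 0), (18, 3), (23, 13), (25,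 3), (25, 4), (26, 11), (24, 10), (28, 8), (19, 1), (12, 12), (15, 5), (22, 12), (25, 13), (33, 3), (19, 3), (11, 10), (10, 11), (0, 4), (24, 7), (10, 13), (12, 8), (13, 10), (33, 5), (30, 12), (26, 10), (22, 14), (17, 12), (15, 11), (10, 15), (31, 13), (12, 10), (25, 12), (24, 0), (26, 17), (10, 7), (28, 2), (22, 10), (19, 5), (12, 14), (29, 5), (14, 7), (12, 9), (14, 2), (29, 4), (13, 11), (28, 16), (14, 9), (13, 12), (29, 6), (12, 11), (23, 15), (14, 3), (16, 12), (13, 13), (30, 10), (0, 6), (17, 13), (16, 11), (28, 15), (16, 7), (11, 14), (1, 1), (4, 11), (5, 6), (18, 11), (19, 13), (11, 2), (7, 10), (24, 13), (4, 1), (5, 4), (4, 3), (11, 0), (18, 5), (10, 2), (27, 7), (5, 2), (27, 16), (14, 5), (26, 4), (31, 3), (19, 7), (6, 12), (7, 14), (17, 4), (24, 5), (25, 17), (6, 8), (10, 3),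 (15, 13), (16, 14), (1, 6), (19, 15), (27, 2), (27, 0), (6, 10), (12, 3), (10, 5), (19, 14), (26, 6), (26, 13), (26, 3), (20, 14), (25, 16), (15, 9), (10, 1), (12, 2), (25, 10), (6, 9), (22, 6), (17, 16), (27, 9), (13, 2), (22, 4), (25, 8), (32, 14), (29, 2), (14, 11), (17, 5), (32, 12), (18, 15), (11, 1), (17, 9), (11, 5), (25, 7), (17, 7), (22, 2), (11, 8), (21, 13), (16, 4), (18, 16), (21, 15), (7, 8), (28, 6), (23, 3), (29, 13), (7, 11), (11, 6), (11, 4), (20, 12), (13, 6), (28, 11), (24, 4), (28, 12), (12, 5), (25, 6), (19, 8), (27, 6), (12, 6), (30, 6), (15, 14), (7, 12), (16, 5), (14, 14), (18, 12), (29, 1), (13, 4), (16, 3), (33, 13), (24, 14), (13, 5), (23, 5), (33, 15), (15, 7), (1, 2), (29, 9), (29, 16), (31, 5), (13, 3), (14, 12), (24, 3), (15, 16), (13, 7), (18, 13), (28, 13),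 (18, 6), (30, 2), (29, 14), (1, 4), (33, 1), (16, 2), (20, 10), (29, 0), (12, 0), (32, 10), (6, 11), (7, 13), (10, 6), (18, 7), (7, 7), (5, 11), (19, 2), (18, 0), (4, 8), (5, 9), (4, 6), (5, 7), (31, 16), (21, 2), (30, 13), (2, 1), (25, 15), (4, 10), (6, 5), (26, 5), (10, 12), (11, 7), (27, 5), (28, 7), (9, 11), (23, 14), (29, 17), (8, 11), (15, 12), (28, 5), (7, 1), (24, 12), (17, 15), (30, 15), (2, 6), (8, 9), (31, 14), (17, 8), (15, 15), (11, 15), (8, 14), (7, 0), (15, 1), (32, 5), (15, 0), (2, 5), (20, 5), (16, 13), (30, 11), (27, 3), (24, 17), (18, 4), (23, 17), (15, 10), (27, 8), (32, 3), (14, 13), (14, 10), (9, 10), (2, 3), (17, 1), (24, 15), (21, 4), (19, 6), (33, 6), (22, 13), (16, 6), (26, 7), (32, 8), (22, 15), (9, 14), (20, 3), (26, 0), (32, 1), (29, 8), (8, 10), (2, 2), (24,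 8), (14, 8), (9, 12), (17, 0), (8, 12), (30, 8), (20, 1), (25, 11), (33, 4), (23, 12), (9, 9), (24, 16), (22, 11), (31, 12), (10, 4), (28, 14), (8, 8), (26, 2), (8, 13), (3, 1), (5, 1), (18, 10), (6, 1), (4, 2), (7, 3), (19, 16), (19, 12), (10, 8), (5, 5), (26, 12), (18, 14), (5, 3), (21, 17), (33, 16), (11, 9), (32, 13), (3, 6), (28, 9), (27, 15), (33, 14), (9, 4), (8, 5), (6, 14), (4, 4), (3, 5), (24, 2), (4, 0), (32, 11), (11, 11), (27, 10), (24, 6), (22, 1), (25, 0), (23, 4), (20, 13), (27, 12), (7, 9), (22, 5), (25, 5), (29, 10), (26, 9), (20, 11), (3, 2), (10, 0), (15, 6), (19, 9), (6, 7), (14, 6), (28, 0), (31, 4), (30, 3), (14, 16), (8, 6), (30, 5), (15, 3), (31, 2), (16, 1), (15, 8), (32, 15), (16, 15), (23, 2), (6, 13), (16, 16), (14, 4), (26, 14), (27, 17), (29, 3), (8, 2), (17,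 3), (8, 3), (9, 6), (21, 14), (25, 9), (8, 1), (14, 1), (14, 15), (25, 1), (25, 2), (3, 4), (9, 5), (17, 10), (16, 8), (29, 12), (9, 2), (9, 3), (11, 3), (21, 12), (30, 1), (22, 3), (20, 15), (8, 0), (30, 9), (23, 6), (33, 0), (12, 13), (22, 7), (30, 16), (28, 10), (8, 4), (31, 17), (30, 7), (31, 7), (24, 9), (21, 5), (27, 11), (27, 13), (1, 3), (27, 1), (31, 8), (12, 4), (0, 3), (31, 6), (33, 17), (9, 7), (2, 4), (20, 16), (22, 16), (30, 4), (3, 3), (23, 16), (0, 0), (33, 2), (9, 13)]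

def subsL : List (List ℕ) := [
  [0]]

end Cfsg.Agent.Lib.Helper12.McLTC.U
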